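import Cfsg.Agent.Lib.H16.AG.Step

set_option autoImplicit false

/-! Degree 13, images `0, 1, 3, 2, 5` of `0, 1, 2, 3, 4` fixed: every completion that is an
`11`-cycle has a word `(x ^ b * y ^ a) ^ k` which is a `3`-, `5`- or `7`-cycle
(small kernel computations, one per pair of images of `5, 6`). -/

namespace Cfsg.Agent.Lib.H16.AG

set_option maxRecDepth 100000 in
theorem part_2_5_4_6 : dfsN 6 268435456 105194256 [7, 8, 9, 10, 11, 12] = true := by
  decide +kernel

set_option maxRecDepth 100000 in
theorem part_2_5_4_7 : dfsN 6 268435456 121971472 [6, 8, 9, 10, 11, 12] = true := by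
  decide +kernel

set_option maxRecDepth 100000 in
theorem part_2_5_4_8 : dfsN 6 268435456 138748688 [6, 7, 9, 10, 11, 12] = true := by
  decide +kernel

set_option maxRecDepth 100000 in
theorem part_2_5_4_9 : dfsN 6 268435456 155525904 [6, 7, 8, 10, 11, 12] = true := by
  decide +kernel

set_option maxRecDepth 100000 in
theorem part_2_5_4_10 : dfsN 6 268435456 172303120 [6, 7, 8, 9, 11, 12] = true := by
  decide +kernel

set_option maxRecDepth 100000 in
theorem part_2_5_4_11 : dfsN 6 268435456 189080336 [6, 7, 8, 9, 10, 12] = true := by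
  decide +kernel

set_option maxRecDepth 100000 in
theorem part_2_5_4_12 : dfsN 6 268435456 205857552 [6, 7, 8, 9, 10, 11] = true := by
  decide +kernel

theorem part_2_5_4 : dfsN 7 16777216 4530960 [6, 7, 8, 9, 10, 11, 12] = true := by
  apply dfsN_step 6 16777216 4530960 [6, 7, 8, 9, 10, 11, 12]
  intro v hv
  simp only [List.mem_cons, List.not_mem_nil, or_false] at hv
  rcases hv with rfl | rfl | rfl | rfl | rfl | rfl | rfl
  exacts [part_2_5_4_6, part_2_5_4_7, part_2_5_4_8, part_2_5_4_9, part_2_5_4_10, part_2_5_4_11, part_2_5_4_12]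

set_option maxRecDepth 100000 in
theorem part_2_5_6_4 : dfsN 6 268435456 73736976 [7, 8, 9, 10, 11, 12] = true := by
  decide +kernel

set_option maxRecDepth 100000 in
theorem part_2_5_6_7 : dfsN 6 268435456 124068624 [4, 8, 9, 10, 11, 12] = true := by
  decide +kernel

set_option maxRecDepth 100000 in
theorem part_2_5_6_8 : dfsN 6 268435456 140845840 [4, 7, 9, 10, 11, 12] = true := by
  decide +kernel

set_option maxRecDepth 100000 in
theorem part_2_5_6_9 : dfsN 6 268435456 157623056 [4, 7, 8, 10, 11, 12] = true := by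
  decide +kernel

set_option maxRecDepth 100000 in
theorem part_2_5_6_10 : dfsN 6 268435456 174400272 [4, 7, 8, 9, 11, 12] = true := by
  decide +kernel

set_option maxRecDepth 100000 in
theorem part_2_5_6_11 : dfsN 6 268435456 191177488 [4, 7, 8, 9, 10, 12] = true := by
  decide +kernel

set_option maxRecDepth 100000 in
theorem part_2_5_6_12 : dfsN 6 268435456 207954704 [4, 7, 8, 9, 10, 11] = true := by
  decide +kernel

theorem part_2_5_6 : dfsN 7 16777216 6628112 [4, 7, 8, 9, 10, 11, 12] = true := by
  apply dfsN_step 6 16777216 6628112 [4, 7, 8, 9, 10, 11, 12]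
  intro v hv
  simp only [List.mem_cons, List.not_mem_nil, or_false] at hv
  rcases hv with rfl | rfl | rfl | rfl | rfl | rfl | rfl
  exacts [part_2_5_6_4, part_2_5_6_7, part_2_5_6_8, part_2_5_6_9, part_2_5_6_10, part_2_5_6_11, part_2_5_6_12]

set_option maxRecDepth 100000 in
theorem part_2_5_7_4 : dfsN 6 268435456 74785552 [6, 8, 9, 10, 11, 12] = true := by
  decide +kernel

set_option maxRecDepth 100000 in
theorem part_2_5_7_6 : dfsN 6 268435456 108339984 [4, 8, 9, 10, 11, 12] = true := by
  decide +kernel

set_option maxRecDepth 100000 in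
theorem part_2_5_7_8 : dfsN 6 268435456 141894416 [4, 6, 9, 10, 11, 12] = true := by
  decide +kernel

set_option maxRecDepth 100000 in
theorem part_2_5_7_9 : dfsN 6 268435456 158671632 [4, 6, 8, 10, 11, 12] = true := by
  decide +kernel

set_option maxRecDepth 100000 in
theorem part_2_5_7_10 : dfsN 6 268435456 175448848 [4, 6, 8, 9, 11, 12] = true := by
  decide +kernel

set_option maxRecDepth 100000 in
theorem part_2_5_7_11 : dfsN 6 268435456 192226064 [4, 6, 8, 9, 10, 12] = true := by
  decide +kernel

set_option maxRecDepth 100000 in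
theorem part_2_5_7_12 : dfsN 6 268435456 209003280 [4, 6, 8, 9, 10, 11] = true := by
  decide +kernel

theorem part_2_5_7 : dfsN 7 16777216 7676688 [4, 6, 8, 9, 10, 11, 12] = true := by
  apply dfsN_step 6 16777216 7676688 [4, 6, 8, 9, 10, 11, 12]
  intro v hv
  simp only [List.mem_cons, List.not_mem_nil, or_false] at hv
  rcases hv with rfl | rfl | rfl | rfl | rfl | rfl | rfl
  exacts [part_2_5_7_4, part_2_5_7_6, part_2_5_7_8, part_2_5_7_9, part_2_5_7_10, part_2_5_7_11, part_2_5_7_12]

set_option maxRecDepth 100000 in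
theorem part_2_5_8_4 : dfsN 6 268435456 75834128 [6, 7, 9, 10, 11, 12] = true := by
  decide +kernel

set_option maxRecDepth 100000 in
theorem part_2_5_8_6 : dfsN 6 268435456 109388560 [4, 7, 9, 10, 11, 12] = true := by
  decide +kernel

set_option maxRecDepth 100000 in
theorem part_2_5_8_7 : dfsN 6 268435456 126165776 [4, 6, 9, 10, 11, 12] = true := by
  decide +kernel

set_option maxRecDepth 100000 in
theorem part_2_5_8_9 : dfsN 6 268435456 159720208 [4, 6, 7, 10, 11, 12] = true := by
  decide +kernel

set_option maxRecDepth 100000 in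
theorem part_2_5_8_10 : dfsN 6 268435456 176497424 [4, 6, 7, 9, 11, 12] = true := by
  decide +kernel

set_option maxRecDepth 100000 in
theorem part_2_5_8_11 : dfsN 6 268435456 193274640 [4, 6, 7, 9, 10, 12] = true := by
  decide +kernel

set_option maxRecDepth 100000 in
theorem part_2_5_8_12 : dfsN 6 268435456 210051856 [4, 6, 7, 9, 10, 11] = true := by
  decide +kernel

theorem part_2_5_8 : dfsN 7 16777216 8725264 [4, 6, 7, 9, 10, 11, 12] = true := by
  apply dfsN_step 6 16777216 8725264 [4, 6, 7, 9, 10, 11, 12]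
  intro v hv
  simp only [List.mem_cons, List.not_mem_nil, or_false] at hv
  rcases hv with rfl | rfl | rfl | rfl | rfl | rfl | rfl
  exacts [part_2_5_8_4, part_2_5_8_6, part_2_5_8_7, part_2_5_8_9, part_2_5_8_10, part_2_5_8_11, part_2_5_8_12]

set_option maxRecDepth 100000 in
theorem part_2_5_9_4 : dfsN 6 268435456 76882704 [6, 7, 8, 10, 11, 12] = true := by
  decide +kernel

set_option maxRecDepth 100000 in
theorem part_2_5_9_6 : dfsN 6 268435456 110437136 [4, 7, 8, 10, 11, 12] = true := by
  decide +kernel

set_option maxRecDepth 100000 in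
theorem part_2_5_9_7 : dfsN 6 268435456 127214352 [4, 6, 8, 10, 11, 12] = true := by
  decide +kernel

set_option maxRecDepth 100000 in
theorem part_2_5_9_8 : dfsN 6 268435456 143991568 [4, 6, 7, 10, 11, 12] = true := by
  decide +kernel

set_option maxRecDepth 100000 in
theorem part_2_5_9_10 : dfsN 6 268435456 177546000 [4, 6, 7, 8, 11, 12] = true := by
  decide +kernel

set_option maxRecDepth 100000 in
theorem part_2_5_9_11 : dfsN 6 268435456 194323216 [4, 6, 7, 8, 10, 12] = true := by
  decide +kernel

set_option maxRecDepth 100000 in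
theorem part_2_5_9_12 : dfsN 6 268435456 211100432 [4, 6, 7, 8, 10, 11] = true := by
  decide +kernel

theorem part_2_5_9 : dfsN 7 16777216 9773840 [4, 6, 7, 8, 10, 11, 12] = true := by
  apply dfsN_step 6 16777216 9773840 [4, 6, 7, 8, 10, 11, 12]
  intro v hv
  simp only [List.mem_cons, List.not_mem_nil, or_false] at hv
  rcases hv with rfl | rfl | rfl | rfl | rfl | rfl | rfl
  exacts [part_2_5_9_4, part_2_5_9_6, part_2_5_9_7, part_2_5_9_8, part_2_5_9_10, part_2_5_9_11, part_2_5_9_12]

set_option maxRecDepth 100000 in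
theorem part_2_5_10_4 : dfsN 6 268435456 77931280 [6, 7, 8, 9, 11, 12] = true := by
  decide +kernel

set_option maxRecDepth 100000 in
theorem part_2_5_10_6 : dfsN 6 268435456 111485712 [4, 7, 8, 9, 11, 12] = true := by
  decide +kernel

set_option maxRecDepth 100000 in
theorem part_2_5_10_7 : dfsN 6 268435456 128262928 [4, 6, 8, 9, 11, 12] = true := by
  decide +kernel

set_option maxRecDepth 100000 in
theorem part_2_5_10_8 : dfsN 6 268435456 145040144 [4, 6, 7, 9, 11, 12] = true := by
  decide +kernel

set_option maxRecDepth 100000 in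
theorem part_2_5_10_9 : dfsN 6 268435456 161817360 [4, 6, 7, 8, 11, 12] = true := by
  decide +kernel

set_option maxRecDepth 100000 in
theorem part_2_5_10_11 : dfsN 6 268435456 195371792 [4, 6, 7, 8, 9, 12] = true := by
  decide +kernel

set_option maxRecDepth 100000 in
theorem part_2_5_10_12 : dfsN 6 268435456 212149008 [4, 6, 7, 8, 9, 11] = true := by
  decide +kernel

theorem part_2_5_10 : dfsN 7 16777216 10822416 [4, 6, 7, 8, 9, 11, 12] = true := by
  apply dfsN_step 6 16777216 10822416 [4, 6, 7, 8, 9, 11, 12]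
  intro v hv
  simp only [List.mem_cons, List.not_mem_nil, or_false] at hv
  rcases hv with rfl | rfl | rfl | rfl | rfl | rfl | rfl
  exacts [part_2_5_10_4, part_2_5_10_6, part_2_5_10_7, part_2_5_10_8, part_2_5_10_9, part_2_5_10_11, part_2_5_10_12]

set_option maxRecDepth 100000 in
theorem part_2_5_11_4 : dfsN 6 268435456 78979856 [6, 7, 8, 9, 10, 12] = true := by
  decide +kernel

set_option maxRecDepth 100000 in
theorem part_2_5_11_6 : dfsN 6 268435456 112534288 [4, 7, 8, 9, 10, 12] = true := by
  decide +kernel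

set_option maxRecDepth 100000 in
theorem part_2_5_11_7 : dfsN 6 268435456 129311504 [4, 6, 8, 9, 10, 12] = true := by
  decide +kernel

set_option maxRecDepth 100000 in
theorem part_2_5_11_8 : dfsN 6 268435456 146088720 [4, 6, 7, 9, 10, 12] = true := by
  decide +kernel

set_option maxRecDepth 100000 in
theorem part_2_5_11_9 : dfsN 6 268435456 162865936 [4, 6, 7, 8, 10, 12] = true := by
  decide +kernel

set_option maxRecDepth 100000 in
theorem part_2_5_11_10 : dfsN 6 268435456 179643152 [4, 6, 7, 8, 9, 12] = true := by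
  decide +kernel

set_option maxRecDepth 100000 in
theorem part_2_5_11_12 : dfsN 6 268435456 213197584 [4, 6, 7, 8, 9, 10] = true := by
  decide +kernel

theorem part_2_5_11 : dfsN 7 16777216 11870992 [4, 6, 7, 8, 9, 10, 12] = true := by
  apply dfsN_step 6 16777216 11870992 [4, 6, 7, 8, 9, 10, 12]
  intro v hv
  simp only [List.mem_cons, List.not_mem_nil, or_false] at hv
  rcases hv with rfl | rfl | rfl | rfl | rfl | rfl | rfl
  exacts [part_2_5_11_4, part_2_5_11_6, part_2_5_11_7, part_2_5_11_8, part_2_5_11_9, part_2_5_11_10, part_2_5_11_12]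

set_option maxRecDepth 100000 in
theorem part_2_5_12_4 : dfsN 6 268435456 80028432 [6, 7, 8, 9, 10, 11] = true := by
  decide +kernel

set_option maxRecDepth 100000 in
theorem part_2_5_12_6 : dfsN 6 268435456 113582864 [4, 7, 8, 9, 10, 11] = true := by
  decide +kernel

set_option maxRecDepth 100000 in
theorem part_2_5_12_7 : dfsN 6 268435456 130360080 [4, 6, 8, 9, 10, 11] = true := by
  decide +kernel

set_option maxRecDepth 100000 in
theorem part_2_5_12_8 : dfsN 6 268435456 147137296 [4, 6, 7, 9, 10, 11] = true := by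
  decide +kernel

set_option maxRecDepth 100000 in
theorem part_2_5_12_9 : dfsN 6 268435456 163914512 [4, 6, 7, 8, 10, 11] = true := by
  decide +kernel

set_option maxRecDepth 100000 in
theorem part_2_5_12_10 : dfsN 6 268435456 180691728 [4, 6, 7, 8, 9, 11] = true := by
  decide +kernel

set_option maxRecDepth 100000 in
theorem part_2_5_12_11 : dfsN 6 268435456 197468944 [4, 6, 7, 8, 9, 10] = true := by
  decide +kernel

theorem part_2_5_12 : dfsN 7 16777216 12919568 [4, 6, 7, 8, 9, 10, 11] = true := by
  apply dfsN_step 6 16777216 12919568 [4, 6, 7, 8, 9, 10, 11]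
  intro v hv
  simp only [List.mem_cons, List.not_mem_nil, or_false] at hv
  rcases hv with rfl | rfl | rfl | rfl | rfl | rfl | rfl
  exacts [part_2_5_12_4, part_2_5_12_6, part_2_5_12_7, part_2_5_12_8, part_2_5_12_9, part_2_5_12_10, part_2_5_12_11]

theorem part_2_5 : dfsN 8 1048576 336656 [4, 6, 7, 8, 9, 10, 11, 12] = true := by
  apply dfsN_step 7 1048576 336656 [4, 6, 7, 8, 9, 10, 11, 12]
  intro v hv
  simp only [List.mem_cons, List.not_mem_nil, or_false] at hv
  rcases hv with rfl | rfl | rfl | rfl | rfl | rfl | rfl | rfl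
  exacts [part_2_5_4, part_2_5_6, part_2_5_7, part_2_5_8, part_2_5_9, part_2_5_10, part_2_5_11, part_2_5_12]

end Cfsg.Agent.Lib.H16.AG
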