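import Cfsg.Agent.Lib.H16.AG.Step

set_option autoImplicit false

/-! Degree 13, images `0, 1, 3, 2, 6` of `0, 1, 2, 3, 4` fixed: every completion that is an
`11`-cycle has a word `(x ^ b * y ^ a) ^ k` which is a `3`-, `5`- or `7`-cycle
(small kernel computations, one per pair of images of `5, 6`). -/

namespace Cfsg.Agent.Lib.H16.AG

set_option maxRecDepth 100000 in
theorem part_2_6_4_5 : dfsN 6 268435456 88482576 [7, 8, 9, 10, 11, 12] = true := by
  decide +kernel

set_option maxRecDepth 100000 in
theorem part_2_6_4_7 : dfsN 6 268435456 122037008 [5, 8, 9, 10, 11, 12] = true := by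
  decide +kernel

set_option maxRecDepth 100000 in
theorem part_2_6_4_8 : dfsN 6 268435456 138814224 [5, 7, 9, 10, 11, 12] = true := by
  decide +kernel

set_option maxRecDepth 100000 in
theorem part_2_6_4_9 : dfsN 6 268435456 155591440 [5, 7, 8, 10, 11, 12] = true := by
  decide +kernel

set_option maxRecDepth 100000 in
theorem part_2_6_4_10 : dfsN 6 268435456 172368656 [5, 7, 8, 9, 11, 12] = true := by
  decide +kernel

set_option maxRecDepth 100000 in
theorem part_2_6_4_11 : dfsN 6 268435456 189145872 [5, 7, 8, 9, 10, 12] = true := by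
  decide +kernel

set_option maxRecDepth 100000 in
theorem part_2_6_4_12 : dfsN 6 268435456 205923088 [5, 7, 8, 9, 10, 11] = true := by
  decide +kernel

theorem part_2_6_4 : dfsN 7 16777216 4596496 [5, 7, 8, 9, 10, 11, 12] = true := by
  apply dfsN_step 6 16777216 4596496 [5, 7, 8, 9, 10, 11, 12]
  intro v hv
  simp only [List.mem_cons, List.not_mem_nil, or_false] at hv
  rcases hv with rfl | rfl | rfl | rfl | rfl | rfl | rfl
  exacts [part_2_6_4_5, part_2_6_4_7, part_2_6_4_8, part_2_6_4_9, part_2_6_4_10, part_2_6_4_11, part_2_6_4_12]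

set_option maxRecDepth 100000 in
theorem part_2_6_5_4 : dfsN 6 268435456 72753936 [7, 8, 9, 10, 11, 12] = true := by
  decide +kernel

set_option maxRecDepth 100000 in
theorem part_2_6_5_7 : dfsN 6 268435456 123085584 [4, 8, 9, 10, 11, 12] = true := by
  decide +kernel

set_option maxRecDepth 100000 in
theorem part_2_6_5_8 : dfsN 6 268435456 139862800 [4, 7, 9, 10, 11, 12] = true := by
  decide +kernel

set_option maxRecDepth 100000 in
theorem part_2_6_5_9 : dfsN 6 268435456 156640016 [4, 7, 8, 10, 11, 12] = true := by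
  decide +kernel

set_option maxRecDepth 100000 in
theorem part_2_6_5_10 : dfsN 6 268435456 173417232 [4, 7, 8, 9, 11, 12] = true := by
  decide +kernel

set_option maxRecDepth 100000 in
theorem part_2_6_5_11 : dfsN 6 268435456 190194448 [4, 7, 8, 9, 10, 12] = true := by
  decide +kernel

set_option maxRecDepth 100000 in
theorem part_2_6_5_12 : dfsN 6 268435456 206971664 [4, 7, 8, 9, 10, 11] = true := by
  decide +kernel

theorem part_2_6_5 : dfsN 7 16777216 5645072 [4, 7, 8, 9, 10, 11, 12] = true := by
  apply dfsN_step 6 16777216 5645072 [4, 7, 8, 9, 10, 11, 12]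
  intro v hv
  simp only [List.mem_cons, List.not_mem_nil, or_false] at hv
  rcases hv with rfl | rfl | rfl | rfl | rfl | rfl | rfl
  exacts [part_2_6_5_4, part_2_6_5_7, part_2_6_5_8, part_2_6_5_9, part_2_6_5_10, part_2_6_5_11, part_2_6_5_12]

set_option maxRecDepth 100000 in
theorem part_2_6_7_4 : dfsN 6 268435456 74851088 [5, 8, 9, 10, 11, 12] = true := by
  decide +kernel

set_option maxRecDepth 100000 in
theorem part_2_6_7_5 : dfsN 6 268435456 91628304 [4, 8, 9, 10, 11, 12] = true := by
  decide +kernel

set_option maxRecDepth 100000 in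
theorem part_2_6_7_8 : dfsN 6 268435456 141959952 [4, 5, 9, 10, 11, 12] = true := by
  decide +kernel

set_option maxRecDepth 100000 in
theorem part_2_6_7_9 : dfsN 6 268435456 158737168 [4, 5, 8, 10, 11, 12] = true := by
  decide +kernel

set_option maxRecDepth 100000 in
theorem part_2_6_7_10 : dfsN 6 268435456 175514384 [4, 5, 8, 9, 11, 12] = true := by
  decide +kernel

set_option maxRecDepth 100000 in
theorem part_2_6_7_11 : dfsN 6 268435456 192291600 [4, 5, 8, 9, 10, 12] = true := by
  decide +kernel

set_option maxRecDepth 100000 in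
theorem part_2_6_7_12 : dfsN 6 268435456 209068816 [4, 5, 8, 9, 10, 11] = true := by
  decide +kernel

theorem part_2_6_7 : dfsN 7 16777216 7742224 [4, 5, 8, 9, 10, 11, 12] = true := by
  apply dfsN_step 6 16777216 7742224 [4, 5, 8, 9, 10, 11, 12]
  intro v hv
  simp only [List.mem_cons, List.not_mem_nil, or_false] at hv
  rcases hv with rfl | rfl | rfl | rfl | rfl | rfl | rfl
  exacts [part_2_6_7_4, part_2_6_7_5, part_2_6_7_8, part_2_6_7_9, part_2_6_7_10, part_2_6_7_11, part_2_6_7_12]

set_option maxRecDepth 100000 in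
theorem part_2_6_8_4 : dfsN 6 268435456 75899664 [5, 7, 9, 10, 11, 12] = true := by
  decide +kernel

set_option maxRecDepth 100000 in
theorem part_2_6_8_5 : dfsN 6 268435456 92676880 [4, 7, 9, 10, 11, 12] = true := by
  decide +kernel

set_option maxRecDepth 100000 in
theorem part_2_6_8_7 : dfsN 6 268435456 126231312 [4, 5, 9, 10, 11, 12] = true := by
  decide +kernel

set_option maxRecDepth 100000 in
theorem part_2_6_8_9 : dfsN 6 268435456 159785744 [4, 5, 7, 10, 11, 12] = true := by
  decide +kernel

set_option maxRecDepth 100000 in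
theorem part_2_6_8_10 : dfsN 6 268435456 176562960 [4, 5, 7, 9, 11, 12] = true := by
  decide +kernel

set_option maxRecDepth 100000 in
theorem part_2_6_8_11 : dfsN 6 268435456 193340176 [4, 5, 7, 9, 10, 12] = true := by
  decide +kernel

set_option maxRecDepth 100000 in
theorem part_2_6_8_12 : dfsN 6 268435456 210117392 [4, 5, 7, 9, 10, 11] = true := by
  decide +kernel

theorem part_2_6_8 : dfsN 7 16777216 8790800 [4, 5, 7, 9, 10, 11, 12] = true := by
  apply dfsN_step 6 16777216 8790800 [4, 5, 7, 9, 10, 11, 12]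
  intro v hv
  simp only [List.mem_cons, List.not_mem_nil, or_false] at hv
  rcases hv with rfl | rfl | rfl | rfl | rfl | rfl | rfl
  exacts [part_2_6_8_4, part_2_6_8_5, part_2_6_8_7, part_2_6_8_9, part_2_6_8_10, part_2_6_8_11, part_2_6_8_12]

set_option maxRecDepth 100000 in
theorem part_2_6_9_4 : dfsN 6 268435456 76948240 [5, 7, 8, 10, 11, 12] = true := by
  decide +kernel

set_option maxRecDepth 100000 in
theorem part_2_6_9_5 : dfsN 6 268435456 93725456 [4, 7, 8, 10, 11, 12] = true := by
  decide +kernel

set_option maxRecDepth 100000 in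
theorem part_2_6_9_7 : dfsN 6 268435456 127279888 [4, 5, 8, 10, 11, 12] = true := by
  decide +kernel

set_option maxRecDepth 100000 in
theorem part_2_6_9_8 : dfsN 6 268435456 144057104 [4, 5, 7, 10, 11, 12] = true := by
  decide +kernel

set_option maxRecDepth 100000 in
theorem part_2_6_9_10 : dfsN 6 268435456 177611536 [4, 5, 7, 8, 11, 12] = true := by
  decide +kernel

set_option maxRecDepth 100000 in
theorem part_2_6_9_11 : dfsN 6 268435456 194388752 [4, 5, 7, 8, 10, 12] = true := by
  decide +kernel

set_option maxRecDepth 100000 in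
theorem part_2_6_9_12 : dfsN 6 268435456 211165968 [4, 5, 7, 8, 10, 11] = true := by
  decide +kernel

theorem part_2_6_9 : dfsN 7 16777216 9839376 [4, 5, 7, 8, 10, 11, 12] = true := by
  apply dfsN_step 6 16777216 9839376 [4, 5, 7, 8, 10, 11, 12]
  intro v hv
  simp only [List.mem_cons, List.not_mem_nil, or_false] at hv
  rcases hv with rfl | rfl | rfl | rfl | rfl | rfl | rfl
  exacts [part_2_6_9_4, part_2_6_9_5, part_2_6_9_7, part_2_6_9_8, part_2_6_9_10, part_2_6_9_11, part_2_6_9_12]

set_option maxRecDepth 100000 in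
theorem part_2_6_10_4 : dfsN 6 268435456 77996816 [5, 7, 8, 9, 11, 12] = true := by
  decide +kernel

set_option maxRecDepth 100000 in
theorem part_2_6_10_5 : dfsN 6 268435456 94774032 [4, 7, 8, 9, 11, 12] = true := by
  decide +kernel

set_option maxRecDepth 100000 in
theorem part_2_6_10_7 : dfsN 6 268435456 128328464 [4, 5, 8, 9, 11, 12] = true := by
  decide +kernel

set_option maxRecDepth 100000 in
theorem part_2_6_10_8 : dfsN 6 268435456 145105680 [4, 5, 7, 9, 11, 12] = true := by
  decide +kernel

set_option maxRecDepth 100000 in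
theorem part_2_6_10_9 : dfsN 6 268435456 161882896 [4, 5, 7, 8, 11, 12] = true := by
  decide +kernel

set_option maxRecDepth 100000 in
theorem part_2_6_10_11 : dfsN 6 268435456 195437328 [4, 5, 7, 8, 9, 12] = true := by
  decide +kernel

set_option maxRecDepth 100000 in
theorem part_2_6_10_12 : dfsN 6 268435456 212214544 [4, 5, 7, 8, 9, 11] = true := by
  decide +kernel

theorem part_2_6_10 : dfsN 7 16777216 10887952 [4, 5, 7, 8, 9, 11, 12] = true := by
  apply dfsN_step 6 16777216 10887952 [4, 5, 7, 8, 9, 11, 12]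
  intro v hv
  simp only [List.mem_cons, List.not_mem_nil, or_false] at hv
  rcases hv with rfl | rfl | rfl | rfl | rfl | rfl | rfl
  exacts [part_2_6_10_4, part_2_6_10_5, part_2_6_10_7, part_2_6_10_8, part_2_6_10_9, part_2_6_10_11, part_2_6_10_12]

set_option maxRecDepth 100000 in
theorem part_2_6_11_4 : dfsN 6 268435456 79045392 [5, 7, 8, 9, 10, 12] = true := by
  decide +kernel

set_option maxRecDepth 100000 in
theorem part_2_6_11_5 : dfsN 6 268435456 95822608 [4, 7, 8, 9, 10, 12] = true := by
  decide +kernel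

set_option maxRecDepth 100000 in
theorem part_2_6_11_7 : dfsN 6 268435456 129377040 [4, 5, 8, 9, 10, 12] = true := by
  decide +kernel

set_option maxRecDepth 100000 in
theorem part_2_6_11_8 : dfsN 6 268435456 146154256 [4, 5, 7, 9, 10, 12] = true := by
  decide +kernel

set_option maxRecDepth 100000 in
theorem part_2_6_11_9 : dfsN 6 268435456 162931472 [4, 5, 7, 8, 10, 12] = true := by
  decide +kernel

set_option maxRecDepth 100000 in
theorem part_2_6_11_10 : dfsN 6 268435456 179708688 [4, 5, 7, 8, 9, 12] = true := by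
  decide +kernel

set_option maxRecDepth 100000 in
theorem part_2_6_11_12 : dfsN 6 268435456 213263120 [4, 5, 7, 8, 9, 10] = true := by
  decide +kernel

theorem part_2_6_11 : dfsN 7 16777216 11936528 [4, 5, 7, 8, 9, 10, 12] = true := by
  apply dfsN_step 6 16777216 11936528 [4, 5, 7, 8, 9, 10, 12]
  intro v hv
  simp only [List.mem_cons, List.not_mem_nil, or_false] at hv
  rcases hv with rfl | rfl | rfl | rfl | rfl | rfl | rfl
  exacts [part_2_6_11_4, part_2_6_11_5, part_2_6_11_7, part_2_6_11_8, part_2_6_11_9, part_2_6_11_10, part_2_6_11_12]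

set_option maxRecDepth 100000 in
theorem part_2_6_12_4 : dfsN 6 268435456 80093968 [5, 7, 8, 9, 10, 11] = true := by
  decide +kernel

set_option maxRecDepth 100000 in
theorem part_2_6_12_5 : dfsN 6 268435456 96871184 [4, 7, 8, 9, 10, 11] = true := by
  decide +kernel

set_option maxRecDepth 100000 in
theorem part_2_6_12_7 : dfsN 6 268435456 130425616 [4, 5, 8, 9, 10, 11] = true := by
  decide +kernel

set_option maxRecDepth 100000 in
theorem part_2_6_12_8 : dfsN 6 268435456 147202832 [4, 5, 7, 9, 10, 11] = true := by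
  decide +kernel

set_option maxRecDepth 100000 in
theorem part_2_6_12_9 : dfsN 6 268435456 163980048 [4, 5, 7, 8, 10, 11] = true := by
  decide +kernel

set_option maxRecDepth 100000 in
theorem part_2_6_12_10 : dfsN 6 268435456 180757264 [4, 5, 7, 8, 9, 11] = true := by
  decide +kernel

set_option maxRecDepth 100000 in
theorem part_2_6_12_11 : dfsN 6 268435456 197534480 [4, 5, 7, 8, 9, 10] = true := by
  decide +kernel

theorem part_2_6_12 : dfsN 7 16777216 12985104 [4, 5, 7, 8, 9, 10, 11] = true := by
  apply dfsN_step 6 16777216 12985104 [4, 5, 7, 8, 9, 10, 11]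
  intro v hv
  simp only [List.mem_cons, List.not_mem_nil, or_false] at hv
  rcases hv with rfl | rfl | rfl | rfl | rfl | rfl | rfl
  exacts [part_2_6_12_4, part_2_6_12_5, part_2_6_12_7, part_2_6_12_8, part_2_6_12_9, part_2_6_12_10, part_2_6_12_11]

theorem part_2_6 : dfsN 8 1048576 402192 [4, 5, 7, 8, 9, 10, 11, 12] = true := by
  apply dfsN_step 7 1048576 402192 [4, 5, 7, 8, 9, 10, 11, 12]
  intro v hv
  simp only [List.mem_cons, List.not_mem_nil, or_false] at hv
  rcases hv with rfl | rfl | rfl | rfl | rfl | rfl | rfl | rfl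
  exacts [part_2_6_4, part_2_6_5, part_2_6_7, part_2_6_8, part_2_6_9, part_2_6_10, part_2_6_11, part_2_6_12]

end Cfsg.Agent.Lib.H16.AG
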