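import Cfsg.Agent.Lib.H16.AG.Step

set_option autoImplicit false

/-! Degree 13, images `0, 1, 3, 2, 7` of `0, 1, 2, 3, 4` fixed: every completion that is an
`11`-cycle has a word `(x ^ b * y ^ a) ^ k` which is a `3`-, `5`- or `7`-cycle
(small kernel computations, one per pair of images of `5, 6`). -/

namespace Cfsg.Agent.Lib.H16.AG

set_option maxRecDepth 100000 in
theorem part_2_7_4_5 : dfsN 6 268435456 88548112 [6, 8, 9, 10, 11, 12] = true := by
  decide +kernel

set_option maxRecDepth 100000 in
theorem part_2_7_4_6 : dfsN 6 268435456 105325328 [5, 8, 9, 10, 11, 12] = true := by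
  decide +kernel

set_option maxRecDepth 100000 in
theorem part_2_7_4_8 : dfsN 6 268435456 138879760 [5, 6, 9, 10, 11, 12] = true := by
  decide +kernel

set_option maxRecDepth 100000 in
theorem part_2_7_4_9 : dfsN 6 268435456 155656976 [5, 6, 8, 10, 11, 12] = true := by
  decide +kernel

set_option maxRecDepth 100000 in
theorem part_2_7_4_10 : dfsN 6 268435456 172434192 [5, 6, 8, 9, 11, 12] = true := by
  decide +kernel

set_option maxRecDepth 100000 in
theorem part_2_7_4_11 : dfsN 6 268435456 189211408 [5, 6, 8, 9, 10, 12] = true := by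
  decide +kernel

set_option maxRecDepth 100000 in
theorem part_2_7_4_12 : dfsN 6 268435456 205988624 [5, 6, 8, 9, 10, 11] = true := by
  decide +kernel

theorem part_2_7_4 : dfsN 7 16777216 4662032 [5, 6, 8, 9, 10, 11, 12] = true := by
  apply dfsN_step 6 16777216 4662032 [5, 6, 8, 9, 10, 11, 12]
  intro v hv
  simp only [List.mem_cons, List.not_mem_nil, or_false] at hv
  rcases hv with rfl | rfl | rfl | rfl | rfl | rfl | rfl
  exacts [part_2_7_4_5, part_2_7_4_6, part_2_7_4_8, part_2_7_4_9, part_2_7_4_10, part_2_7_4_11, part_2_7_4_12]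

set_option maxRecDepth 100000 in
theorem part_2_7_5_4 : dfsN 6 268435456 72819472 [6, 8, 9, 10, 11, 12] = true := by
  decide +kernel

set_option maxRecDepth 100000 in
theorem part_2_7_5_6 : dfsN 6 268435456 106373904 [4, 8, 9, 10, 11, 12] = true := by
  decide +kernel

set_option maxRecDepth 100000 in
theorem part_2_7_5_8 : dfsN 6 268435456 139928336 [4, 6, 9, 10, 11, 12] = true := by
  decide +kernel

set_option maxRecDepth 100000 in
theorem part_2_7_5_9 : dfsN 6 268435456 156705552 [4, 6, 8, 10, 11, 12] = true := by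
  decide +kernel

set_option maxRecDepth 100000 in
theorem part_2_7_5_10 : dfsN 6 268435456 173482768 [4, 6, 8, 9, 11, 12] = true := by
  decide +kernel

set_option maxRecDepth 100000 in
theorem part_2_7_5_11 : dfsN 6 268435456 190259984 [4, 6, 8, 9, 10, 12] = true := by
  decide +kernel

set_option maxRecDepth 100000 in
theorem part_2_7_5_12 : dfsN 6 268435456 207037200 [4, 6, 8, 9, 10, 11] = true := by
  decide +kernel

theorem part_2_7_5 : dfsN 7 16777216 5710608 [4, 6, 8, 9, 10, 11, 12] = true := by
  apply dfsN_step 6 16777216 5710608 [4, 6, 8, 9, 10, 11, 12]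
  intro v hv
  simp only [List.mem_cons, List.not_mem_nil, or_false] at hv
  rcases hv with rfl | rfl | rfl | rfl | rfl | rfl | rfl
  exacts [part_2_7_5_4, part_2_7_5_6, part_2_7_5_8, part_2_7_5_9, part_2_7_5_10, part_2_7_5_11, part_2_7_5_12]

set_option maxRecDepth 100000 in
theorem part_2_7_6_4 : dfsN 6 268435456 73868048 [5, 8, 9, 10, 11, 12] = true := by
  decide +kernel

set_option maxRecDepth 100000 in
theorem part_2_7_6_5 : dfsN 6 268435456 90645264 [4, 8, 9, 10, 11, 12] = true := by
  decide +kernel

set_option maxRecDepth 100000 in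
theorem part_2_7_6_8 : dfsN 6 268435456 140976912 [4, 5, 9, 10, 11, 12] = true := by
  decide +kernel

set_option maxRecDepth 100000 in
theorem part_2_7_6_9 : dfsN 6 268435456 157754128 [4, 5, 8, 10, 11, 12] = true := by
  decide +kernel

set_option maxRecDepth 100000 in
theorem part_2_7_6_10 : dfsN 6 268435456 174531344 [4, 5, 8, 9, 11, 12] = true := by
  decide +kernel

set_option maxRecDepth 100000 in
theorem part_2_7_6_11 : dfsN 6 268435456 191308560 [4, 5, 8, 9, 10, 12] = true := by
  decide +kernel

set_option maxRecDepth 100000 in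
theorem part_2_7_6_12 : dfsN 6 268435456 208085776 [4, 5, 8, 9, 10, 11] = true := by
  decide +kernel

theorem part_2_7_6 : dfsN 7 16777216 6759184 [4, 5, 8, 9, 10, 11, 12] = true := by
  apply dfsN_step 6 16777216 6759184 [4, 5, 8, 9, 10, 11, 12]
  intro v hv
  simp only [List.mem_cons, List.not_mem_nil, or_false] at hv
  rcases hv with rfl | rfl | rfl | rfl | rfl | rfl | rfl
  exacts [part_2_7_6_4, part_2_7_6_5, part_2_7_6_8, part_2_7_6_9, part_2_7_6_10, part_2_7_6_11, part_2_7_6_12]

set_option maxRecDepth 100000 in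
theorem part_2_7_8_4 : dfsN 6 268435456 75965200 [5, 6, 9, 10, 11, 12] = true := by
  decide +kernel

set_option maxRecDepth 100000 in
theorem part_2_7_8_5 : dfsN 6 268435456 92742416 [4, 6, 9, 10, 11, 12] = true := by
  decide +kernel

set_option maxRecDepth 100000 in
theorem part_2_7_8_6 : dfsN 6 268435456 109519632 [4, 5, 9, 10, 11, 12] = true := by
  decide +kernel

set_option maxRecDepth 100000 in
theorem part_2_7_8_9 : dfsN 6 268435456 159851280 [4, 5, 6, 10, 11, 12] = true := by
  decide +kernel

set_option maxRecDepth 100000 in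
theorem part_2_7_8_10 : dfsN 6 268435456 176628496 [4, 5, 6, 9, 11, 12] = true := by
  decide +kernel

set_option maxRecDepth 100000 in
theorem part_2_7_8_11 : dfsN 6 268435456 193405712 [4, 5, 6, 9, 10, 12] = true := by
  decide +kernel

set_option maxRecDepth 100000 in
theorem part_2_7_8_12 : dfsN 6 268435456 210182928 [4, 5, 6, 9, 10, 11] = true := by
  decide +kernel

theorem part_2_7_8 : dfsN 7 16777216 8856336 [4, 5, 6, 9, 10, 11, 12] = true := by
  apply dfsN_step 6 16777216 8856336 [4, 5, 6, 9, 10, 11, 12]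
  intro v hv
  simp only [List.mem_cons, List.not_mem_nil, or_false] at hv
  rcases hv with rfl | rfl | rfl | rfl | rfl | rfl | rfl
  exacts [part_2_7_8_4, part_2_7_8_5, part_2_7_8_6, part_2_7_8_9, part_2_7_8_10, part_2_7_8_11, part_2_7_8_12]

set_option maxRecDepth 100000 in
theorem part_2_7_9_4 : dfsN 6 268435456 77013776 [5, 6, 8, 10, 11, 12] = true := by
  decide +kernel

set_option maxRecDepth 100000 in
theorem part_2_7_9_5 : dfsN 6 268435456 93790992 [4, 6, 8, 10, 11, 12] = true := by
  decide +kernel

set_option maxRecDepth 100000 in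
theorem part_2_7_9_6 : dfsN 6 268435456 110568208 [4, 5, 8, 10, 11, 12] = true := by
  decide +kernel

set_option maxRecDepth 100000 in
theorem part_2_7_9_8 : dfsN 6 268435456 144122640 [4, 5, 6, 10, 11, 12] = true := by
  decide +kernel

set_option maxRecDepth 100000 in
theorem part_2_7_9_10 : dfsN 6 268435456 177677072 [4, 5, 6, 8, 11, 12] = true := by
  decide +kernel

set_option maxRecDepth 100000 in
theorem part_2_7_9_11 : dfsN 6 268435456 194454288 [4, 5, 6, 8, 10, 12] = true := by
  decide +kernel

set_option maxRecDepth 100000 in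
theorem part_2_7_9_12 : dfsN 6 268435456 211231504 [4, 5, 6, 8, 10, 11] = true := by
  decide +kernel

theorem part_2_7_9 : dfsN 7 16777216 9904912 [4, 5, 6, 8, 10, 11, 12] = true := by
  apply dfsN_step 6 16777216 9904912 [4, 5, 6, 8, 10, 11, 12]
  intro v hv
  simp only [List.mem_cons, List.not_mem_nil, or_false] at hv
  rcases hv with rfl | rfl | rfl | rfl | rfl | rfl | rfl
  exacts [part_2_7_9_4, part_2_7_9_5, part_2_7_9_6, part_2_7_9_8, part_2_7_9_10, part_2_7_9_11, part_2_7_9_12]

set_option maxRecDepth 100000 in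
theorem part_2_7_10_4 : dfsN 6 268435456 78062352 [5, 6, 8, 9, 11, 12] = true := by
  decide +kernel

set_option maxRecDepth 100000 in
theorem part_2_7_10_5 : dfsN 6 268435456 94839568 [4, 6, 8, 9, 11, 12] = true := by
  decide +kernel

set_option maxRecDepth 100000 in
theorem part_2_7_10_6 : dfsN 6 268435456 111616784 [4, 5, 8, 9, 11, 12] = true := by
  decide +kernel

set_option maxRecDepth 100000 in
theorem part_2_7_10_8 : dfsN 6 268435456 145171216 [4, 5, 6, 9, 11, 12] = true := by
  decide +kernel

set_option maxRecDepth 100000 in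
theorem part_2_7_10_9 : dfsN 6 268435456 161948432 [4, 5, 6, 8, 11, 12] = true := by
  decide +kernel

set_option maxRecDepth 100000 in
theorem part_2_7_10_11 : dfsN 6 268435456 195502864 [4, 5, 6, 8, 9, 12] = true := by
  decide +kernel

set_option maxRecDepth 100000 in
theorem part_2_7_10_12 : dfsN 6 268435456 212280080 [4, 5, 6, 8, 9, 11] = true := by
  decide +kernel

theorem part_2_7_10 : dfsN 7 16777216 10953488 [4, 5, 6, 8, 9, 11, 12] = true := by
  apply dfsN_step 6 16777216 10953488 [4, 5, 6, 8, 9, 11, 12]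
  intro v hv
  simp only [List.mem_cons, List.not_mem_nil, or_false] at hv
  rcases hv with rfl | rfl | rfl | rfl | rfl | rfl | rfl
  exacts [part_2_7_10_4, part_2_7_10_5, part_2_7_10_6, part_2_7_10_8, part_2_7_10_9, part_2_7_10_11, part_2_7_10_12]

set_option maxRecDepth 100000 in
theorem part_2_7_11_4 : dfsN 6 268435456 79110928 [5, 6, 8, 9, 10, 12] = true := by
  decide +kernel

set_option maxRecDepth 100000 in
theorem part_2_7_11_5 : dfsN 6 268435456 95888144 [4, 6, 8, 9, 10, 12] = true := by
  decide +kernel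

set_option maxRecDepth 100000 in
theorem part_2_7_11_6 : dfsN 6 268435456 112665360 [4, 5, 8, 9, 10, 12] = true := by
  decide +kernel

set_option maxRecDepth 100000 in
theorem part_2_7_11_8 : dfsN 6 268435456 146219792 [4, 5, 6, 9, 10, 12] = true := by
  decide +kernel

set_option maxRecDepth 100000 in
theorem part_2_7_11_9 : dfsN 6 268435456 162997008 [4, 5, 6, 8, 10, 12] = true := by
  decide +kernel

set_option maxRecDepth 100000 in
theorem part_2_7_11_10 : dfsN 6 268435456 179774224 [4, 5, 6, 8, 9, 12] = true := by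
  decide +kernel

set_option maxRecDepth 100000 in
theorem part_2_7_11_12 : dfsN 6 268435456 213328656 [4, 5, 6, 8, 9, 10] = true := by
  decide +kernel

theorem part_2_7_11 : dfsN 7 16777216 12002064 [4, 5, 6, 8, 9, 10, 12] = true := by
  apply dfsN_step 6 16777216 12002064 [4, 5, 6, 8, 9, 10, 12]
  intro v hv
  simp only [List.mem_cons, List.not_mem_nil, or_false] at hv
  rcases hv with rfl | rfl | rfl | rfl | rfl | rfl | rfl
  exacts [part_2_7_11_4, part_2_7_11_5, part_2_7_11_6, part_2_7_11_8, part_2_7_11_9, part_2_7_11_10, part_2_7_11_12]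

set_option maxRecDepth 100000 in
theorem part_2_7_12_4 : dfsN 6 268435456 80159504 [5, 6, 8, 9, 10, 11] = true := by
  decide +kernel

set_option maxRecDepth 100000 in
theorem part_2_7_12_5 : dfsN 6 268435456 96936720 [4, 6, 8, 9, 10, 11] = true := by
  decide +kernel

set_option maxRecDepth 100000 in
theorem part_2_7_12_6 : dfsN 6 268435456 113713936 [4, 5, 8, 9, 10, 11] = true := by
  decide +kernel

set_option maxRecDepth 100000 in
theorem part_2_7_12_8 : dfsN 6 268435456 147268368 [4, 5, 6, 9, 10, 11] = true := by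
  decide +kernel

set_option maxRecDepth 100000 in
theorem part_2_7_12_9 : dfsN 6 268435456 164045584 [4, 5, 6, 8, 10, 11] = true := by
  decide +kernel

set_option maxRecDepth 100000 in
theorem part_2_7_12_10 : dfsN 6 268435456 180822800 [4, 5, 6, 8, 9, 11] = true := by
  decide +kernel

set_option maxRecDepth 100000 in
theorem part_2_7_12_11 : dfsN 6 268435456 197600016 [4, 5, 6, 8, 9, 10] = true := by
  decide +kernel

theorem part_2_7_12 : dfsN 7 16777216 13050640 [4, 5, 6, 8, 9, 10, 11] = true := by
  apply dfsN_step 6 16777216 13050640 [4, 5, 6, 8, 9, 10, 11]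
  intro v hv
  simp only [List.mem_cons, List.not_mem_nil, or_false] at hv
  rcases hv with rfl | rfl | rfl | rfl | rfl | rfl | rfl
  exacts [part_2_7_12_4, part_2_7_12_5, part_2_7_12_6, part_2_7_12_8, part_2_7_12_9, part_2_7_12_10, part_2_7_12_11]

theorem part_2_7 : dfsN 8 1048576 467728 [4, 5, 6, 8, 9, 10, 11, 12] = true := by
  apply dfsN_step 7 1048576 467728 [4, 5, 6, 8, 9, 10, 11, 12]
  intro v hv
  simp only [List.mem_cons, List.not_mem_nil, or_false] at hv
  rcases hv with rfl | rfl | rfl | rfl | rfl | rfl | rfl | rfl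
  exacts [part_2_7_4, part_2_7_5, part_2_7_6, part_2_7_8, part_2_7_9, part_2_7_10, part_2_7_11, part_2_7_12]

end Cfsg.Agent.Lib.H16.AG
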