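import Cfsg.Agent.Lib.H16.AG.Step

set_option autoImplicit false

/-! Degree 13, images `0, 1, 3, 2, 8` of `0, 1, 2, 3, 4` fixed: every completion that is an
`11`-cycle has a word `(x ^ b * y ^ a) ^ k` which is a `3`-, `5`- or `7`-cycle
(small kernel computations, one per pair of images of `5, 6`). -/

namespace Cfsg.Agent.Lib.H16.AG

set_option maxRecDepth 100000 in
theorem part_2_8_4_5 : dfsN 6 268435456 88613648 [6, 7, 9, 10, 11, 12] = true := by
  decide +kernel

set_option maxRecDepth 100000 in
theorem part_2_8_4_6 : dfsN 6 268435456 105390864 [5, 7, 9, 10, 11, 12] = true := by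
  decide +kernel

set_option maxRecDepth 100000 in
theorem part_2_8_4_7 : dfsN 6 268435456 122168080 [5, 6, 9, 10, 11, 12] = true := by
  decide +kernel

set_option maxRecDepth 100000 in
theorem part_2_8_4_9 : dfsN 6 268435456 155722512 [5, 6, 7, 10, 11, 12] = true := by
  decide +kernel

set_option maxRecDepth 100000 in
theorem part_2_8_4_10 : dfsN 6 268435456 172499728 [5, 6, 7, 9, 11, 12] = true := by
  decide +kernel

set_option maxRecDepth 100000 in
theorem part_2_8_4_11 : dfsN 6 268435456 189276944 [5, 6, 7, 9, 10, 12] = true := by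
  decide +kernel

set_option maxRecDepth 100000 in
theorem part_2_8_4_12 : dfsN 6 268435456 206054160 [5, 6, 7, 9, 10, 11] = true := by
  decide +kernel

theorem part_2_8_4 : dfsN 7 16777216 4727568 [5, 6, 7, 9, 10, 11, 12] = true := by
  apply dfsN_step 6 16777216 4727568 [5, 6, 7, 9, 10, 11, 12]
  intro v hv
  simp only [List.mem_cons, List.not_mem_nil, or_false] at hv
  rcases hv with rfl | rfl | rfl | rfl | rfl | rfl | rfl
  exacts [part_2_8_4_5, part_2_8_4_6, part_2_8_4_7, part_2_8_4_9, part_2_8_4_10, part_2_8_4_11, part_2_8_4_12]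

set_option maxRecDepth 100000 in
theorem part_2_8_5_4 : dfsN 6 268435456 72885008 [6, 7, 9, 10, 11, 12] = true := by
  decide +kernel

set_option maxRecDepth 100000 in
theorem part_2_8_5_6 : dfsN 6 268435456 106439440 [4, 7, 9, 10, 11, 12] = true := by
  decide +kernel

set_option maxRecDepth 100000 in
theorem part_2_8_5_7 : dfsN 6 268435456 123216656 [4, 6, 9, 10, 11, 12] = true := by
  decide +kernel

set_option maxRecDepth 100000 in
theorem part_2_8_5_9 : dfsN 6 268435456 156771088 [4, 6, 7, 10, 11, 12] = true := by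
  decide +kernel

set_option maxRecDepth 100000 in
theorem part_2_8_5_10 : dfsN 6 268435456 173548304 [4, 6, 7, 9, 11, 12] = true := by
  decide +kernel

set_option maxRecDepth 100000 in
theorem part_2_8_5_11 : dfsN 6 268435456 190325520 [4, 6, 7, 9, 10, 12] = true := by
  decide +kernel

set_option maxRecDepth 100000 in
theorem part_2_8_5_12 : dfsN 6 268435456 207102736 [4, 6, 7, 9, 10, 11] = true := by
  decide +kernel

theorem part_2_8_5 : dfsN 7 16777216 5776144 [4, 6, 7, 9, 10, 11, 12] = true := by
  apply dfsN_step 6 16777216 5776144 [4, 6, 7, 9, 10, 11, 12]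
  intro v hv
  simp only [List.mem_cons, List.not_mem_nil, or_false] at hv
  rcases hv with rfl | rfl | rfl | rfl | rfl | rfl | rfl
  exacts [part_2_8_5_4, part_2_8_5_6, part_2_8_5_7, part_2_8_5_9, part_2_8_5_10, part_2_8_5_11, part_2_8_5_12]

set_option maxRecDepth 100000 in
theorem part_2_8_6_4 : dfsN 6 268435456 73933584 [5, 7, 9, 10, 11, 12] = true := by
  decide +kernel

set_option maxRecDepth 100000 in
theorem part_2_8_6_5 : dfsN 6 268435456 90710800 [4, 7, 9, 10, 11, 12] = true := by
  decide +kernel

set_option maxRecDepth 100000 in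
theorem part_2_8_6_7 : dfsN 6 268435456 124265232 [4, 5, 9, 10, 11, 12] = true := by
  decide +kernel

set_option maxRecDepth 100000 in
theorem part_2_8_6_9 : dfsN 6 268435456 157819664 [4, 5, 7, 10, 11, 12] = true := by
  decide +kernel

set_option maxRecDepth 100000 in
theorem part_2_8_6_10 : dfsN 6 268435456 174596880 [4, 5, 7, 9, 11, 12] = true := by
  decide +kernel

set_option maxRecDepth 100000 in
theorem part_2_8_6_11 : dfsN 6 268435456 191374096 [4, 5, 7, 9, 10, 12] = true := by
  decide +kernel

set_option maxRecDepth 100000 in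
theorem part_2_8_6_12 : dfsN 6 268435456 208151312 [4, 5, 7, 9, 10, 11] = true := by
  decide +kernel

theorem part_2_8_6 : dfsN 7 16777216 6824720 [4, 5, 7, 9, 10, 11, 12] = true := by
  apply dfsN_step 6 16777216 6824720 [4, 5, 7, 9, 10, 11, 12]
  intro v hv
  simp only [List.mem_cons, List.not_mem_nil, or_false] at hv
  rcases hv with rfl | rfl | rfl | rfl | rfl | rfl | rfl
  exacts [part_2_8_6_4, part_2_8_6_5, part_2_8_6_7, part_2_8_6_9, part_2_8_6_10, part_2_8_6_11, part_2_8_6_12]

set_option maxRecDepth 100000 in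
theorem part_2_8_7_4 : dfsN 6 268435456 74982160 [5, 6, 9, 10, 11, 12] = true := by
  decide +kernel

set_option maxRecDepth 100000 in
theorem part_2_8_7_5 : dfsN 6 268435456 91759376 [4, 6, 9, 10, 11, 12] = true := by
  decide +kernel

set_option maxRecDepth 100000 in
theorem part_2_8_7_6 : dfsN 6 268435456 108536592 [4, 5, 9, 10, 11, 12] = true := by
  decide +kernel

set_option maxRecDepth 100000 in
theorem part_2_8_7_9 : dfsN 6 268435456 158868240 [4, 5, 6, 10, 11, 12] = true := by
  decide +kernel

set_option maxRecDepth 100000 in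
theorem part_2_8_7_10 : dfsN 6 268435456 175645456 [4, 5, 6, 9, 11, 12] = true := by
  decide +kernel

set_option maxRecDepth 100000 in
theorem part_2_8_7_11 : dfsN 6 268435456 192422672 [4, 5, 6, 9, 10, 12] = true := by
  decide +kernel

set_option maxRecDepth 100000 in
theorem part_2_8_7_12 : dfsN 6 268435456 209199888 [4, 5, 6, 9, 10, 11] = true := by
  decide +kernel

theorem part_2_8_7 : dfsN 7 16777216 7873296 [4, 5, 6, 9, 10, 11, 12] = true := by
  apply dfsN_step 6 16777216 7873296 [4, 5, 6, 9, 10, 11, 12]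
  intro v hv
  simp only [List.mem_cons, List.not_mem_nil, or_false] at hv
  rcases hv with rfl | rfl | rfl | rfl | rfl | rfl | rfl
  exacts [part_2_8_7_4, part_2_8_7_5, part_2_8_7_6, part_2_8_7_9, part_2_8_7_10, part_2_8_7_11, part_2_8_7_12]

set_option maxRecDepth 100000 in
theorem part_2_8_9_4 : dfsN 6 268435456 77079312 [5, 6, 7, 10, 11, 12] = true := by
  decide +kernel

set_option maxRecDepth 100000 in
theorem part_2_8_9_5 : dfsN 6 268435456 93856528 [4, 6, 7, 10, 11, 12] = true := by
  decide +kernel

set_option maxRecDepth 100000 in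
theorem part_2_8_9_6 : dfsN 6 268435456 110633744 [4, 5, 7, 10, 11, 12] = true := by
  decide +kernel

set_option maxRecDepth 100000 in
theorem part_2_8_9_7 : dfsN 6 268435456 127410960 [4, 5, 6, 10, 11, 12] = true := by
  decide +kernel

set_option maxRecDepth 100000 in
theorem part_2_8_9_10 : dfsN 6 268435456 177742608 [4, 5, 6, 7, 11, 12] = true := by
  decide +kernel

set_option maxRecDepth 100000 in
theorem part_2_8_9_11 : dfsN 6 268435456 194519824 [4, 5, 6, 7, 10, 12] = true := by
  decide +kernel

set_option maxRecDepth 100000 in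
theorem part_2_8_9_12 : dfsN 6 268435456 211297040 [4, 5, 6, 7, 10, 11] = true := by
  decide +kernel

theorem part_2_8_9 : dfsN 7 16777216 9970448 [4, 5, 6, 7, 10, 11, 12] = true := by
  apply dfsN_step 6 16777216 9970448 [4, 5, 6, 7, 10, 11, 12]
  intro v hv
  simp only [List.mem_cons, List.not_mem_nil, or_false] at hv
  rcases hv with rfl | rfl | rfl | rfl | rfl | rfl | rfl
  exacts [part_2_8_9_4, part_2_8_9_5, part_2_8_9_6, part_2_8_9_7, part_2_8_9_10, part_2_8_9_11, part_2_8_9_12]

set_option maxRecDepth 100000 in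
theorem part_2_8_10_4 : dfsN 6 268435456 78127888 [5, 6, 7, 9, 11, 12] = true := by
  decide +kernel

set_option maxRecDepth 100000 in
theorem part_2_8_10_5 : dfsN 6 268435456 94905104 [4, 6, 7, 9, 11, 12] = true := by
  decide +kernel

set_option maxRecDepth 100000 in
theorem part_2_8_10_6 : dfsN 6 268435456 111682320 [4, 5, 7, 9, 11, 12] = true := by
  decide +kernel

set_option maxRecDepth 100000 in
theorem part_2_8_10_7 : dfsN 6 268435456 128459536 [4, 5, 6, 9, 11, 12] = true := by
  decide +kernel

set_option maxRecDepth 100000 in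
theorem part_2_8_10_9 : dfsN 6 268435456 162013968 [4, 5, 6, 7, 11, 12] = true := by
  decide +kernel

set_option maxRecDepth 100000 in
theorem part_2_8_10_11 : dfsN 6 268435456 195568400 [4, 5, 6, 7, 9, 12] = true := by
  decide +kernel

set_option maxRecDepth 100000 in
theorem part_2_8_10_12 : dfsN 6 268435456 212345616 [4, 5, 6, 7, 9, 11] = true := by
  decide +kernel

theorem part_2_8_10 : dfsN 7 16777216 11019024 [4, 5, 6, 7, 9, 11, 12] = true := by
  apply dfsN_step 6 16777216 11019024 [4, 5, 6, 7, 9, 11, 12]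
  intro v hv
  simp only [List.mem_cons, List.not_mem_nil, or_false] at hv
  rcases hv with rfl | rfl | rfl | rfl | rfl | rfl | rfl
  exacts [part_2_8_10_4, part_2_8_10_5, part_2_8_10_6, part_2_8_10_7, part_2_8_10_9, part_2_8_10_11, part_2_8_10_12]

set_option maxRecDepth 100000 in
theorem part_2_8_11_4 : dfsN 6 268435456 79176464 [5, 6, 7, 9, 10, 12] = true := by
  decide +kernel

set_option maxRecDepth 100000 in
theorem part_2_8_11_5 : dfsN 6 268435456 95953680 [4, 6, 7, 9, 10, 12] = true := by
  decide +kernel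

set_option maxRecDepth 100000 in
theorem part_2_8_11_6 : dfsN 6 268435456 112730896 [4, 5, 7, 9, 10, 12] = true := by
  decide +kernel

set_option maxRecDepth 100000 in
theorem part_2_8_11_7 : dfsN 6 268435456 129508112 [4, 5, 6, 9, 10, 12] = true := by
  decide +kernel

set_option maxRecDepth 100000 in
theorem part_2_8_11_9 : dfsN 6 268435456 163062544 [4, 5, 6, 7, 10, 12] = true := by
  decide +kernel

set_option maxRecDepth 100000 in
theorem part_2_8_11_10 : dfsN 6 268435456 179839760 [4, 5, 6, 7, 9, 12] = true := by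
  decide +kernel

set_option maxRecDepth 100000 in
theorem part_2_8_11_12 : dfsN 6 268435456 213394192 [4, 5, 6, 7, 9, 10] = true := by
  decide +kernel

theorem part_2_8_11 : dfsN 7 16777216 12067600 [4, 5, 6, 7, 9, 10, 12] = true := by
  apply dfsN_step 6 16777216 12067600 [4, 5, 6, 7, 9, 10, 12]
  intro v hv
  simp only [List.mem_cons, List.not_mem_nil, or_false] at hv
  rcases hv with rfl | rfl | rfl | rfl | rfl | rfl | rfl
  exacts [part_2_8_11_4, part_2_8_11_5, part_2_8_11_6, part_2_8_11_7, part_2_8_11_9, part_2_8_11_10, part_2_8_11_12]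

set_option maxRecDepth 100000 in
theorem part_2_8_12_4 : dfsN 6 268435456 80225040 [5, 6, 7, 9, 10, 11] = true := by
  decide +kernel

set_option maxRecDepth 100000 in
theorem part_2_8_12_5 : dfsN 6 268435456 97002256 [4, 6, 7, 9, 10, 11] = true := by
  decide +kernel

set_option maxRecDepth 100000 in
theorem part_2_8_12_6 : dfsN 6 268435456 113779472 [4, 5, 7, 9, 10, 11] = true := by
  decide +kernel

set_option maxRecDepth 100000 in
theorem part_2_8_12_7 : dfsN 6 268435456 130556688 [4, 5, 6, 9, 10, 11] = true := by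
  decide +kernel

set_option maxRecDepth 100000 in
theorem part_2_8_12_9 : dfsN 6 268435456 164111120 [4, 5, 6, 7, 10, 11] = true := by
  decide +kernel

set_option maxRecDepth 100000 in
theorem part_2_8_12_10 : dfsN 6 268435456 180888336 [4, 5, 6, 7, 9, 11] = true := by
  decide +kernel

set_option maxRecDepth 100000 in
theorem part_2_8_12_11 : dfsN 6 268435456 197665552 [4, 5, 6, 7, 9, 10] = true := by
  decide +kernel

theorem part_2_8_12 : dfsN 7 16777216 13116176 [4, 5, 6, 7, 9, 10, 11] = true := by
  apply dfsN_step 6 16777216 13116176 [4, 5, 6, 7, 9, 10, 11]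
  intro v hv
  simp only [List.mem_cons, List.not_mem_nil, or_false] at hv
  rcases hv with rfl | rfl | rfl | rfl | rfl | rfl | rfl
  exacts [part_2_8_12_4, part_2_8_12_5, part_2_8_12_6, part_2_8_12_7, part_2_8_12_9, part_2_8_12_10, part_2_8_12_11]

theorem part_2_8 : dfsN 8 1048576 533264 [4, 5, 6, 7, 9, 10, 11, 12] = true := by
  apply dfsN_step 7 1048576 533264 [4, 5, 6, 7, 9, 10, 11, 12]
  intro v hv
  simp only [List.mem_cons, List.not_mem_nil, or_false] at hv
  rcases hv with rfl | rfl | rfl | rfl | rfl | rfl | rfl | rfl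
  exacts [part_2_8_4, part_2_8_5, part_2_8_6, part_2_8_7, part_2_8_9, part_2_8_10, part_2_8_11, part_2_8_12]

end Cfsg.Agent.Lib.H16.AG
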