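import Cfsg.Agent.Lib.H16.AG.Step

set_option autoImplicit false

/-! Degree 13, images `0, 1, 3, 2, 9` of `0, 1, 2, 3, 4` fixed: every completion that is an
`11`-cycle has a word `(x ^ b * y ^ a) ^ k` which is a `3`-, `5`- or `7`-cycle
(small kernel computations, one per pair of images of `5, 6`). -/

namespace Cfsg.Agent.Lib.H16.AG

set_option maxRecDepth 100000 in
theorem part_2_9_4_5 : dfsN 6 268435456 88679184 [6, 7, 8, 10, 11, 12] = true := by
  decide +kernel

set_option maxRecDepth 100000 in
theorem part_2_9_4_6 : dfsN 6 268435456 105456400 [5, 7, 8, 10, 11, 12] = true := by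
  decide +kernel

set_option maxRecDepth 100000 in
theorem part_2_9_4_7 : dfsN 6 268435456 122233616 [5, 6, 8, 10, 11, 12] = true := by
  decide +kernel

set_option maxRecDepth 100000 in
theorem part_2_9_4_8 : dfsN 6 268435456 139010832 [5, 6, 7, 10, 11, 12] = true := by
  decide +kernel

set_option maxRecDepth 100000 in
theorem part_2_9_4_10 : dfsN 6 268435456 172565264 [5, 6, 7, 8, 11, 12] = true := by
  decide +kernel

set_option maxRecDepth 100000 in
theorem part_2_9_4_11 : dfsN 6 268435456 189342480 [5, 6, 7, 8, 10, 12] = true := by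
  decide +kernel

set_option maxRecDepth 100000 in
theorem part_2_9_4_12 : dfsN 6 268435456 206119696 [5, 6, 7, 8, 10, 11] = true := by
  decide +kernel

theorem part_2_9_4 : dfsN 7 16777216 4793104 [5, 6, 7, 8, 10, 11, 12] = true := by
  apply dfsN_step 6 16777216 4793104 [5, 6, 7, 8, 10, 11, 12]
  intro v hv
  simp only [List.mem_cons, List.not_mem_nil, or_false] at hv
  rcases hv with rfl | rfl | rfl | rfl | rfl | rfl | rfl
  exacts [part_2_9_4_5, part_2_9_4_6, part_2_9_4_7, part_2_9_4_8, part_2_9_4_10, part_2_9_4_11, part_2_9_4_12]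

set_option maxRecDepth 100000 in
theorem part_2_9_5_4 : dfsN 6 268435456 72950544 [6, 7, 8, 10, 11, 12] = true := by
  decide +kernel

set_option maxRecDepth 100000 in
theorem part_2_9_5_6 : dfsN 6 268435456 106504976 [4, 7, 8, 10, 11, 12] = true := by
  decide +kernel

set_option maxRecDepth 100000 in
theorem part_2_9_5_7 : dfsN 6 268435456 123282192 [4, 6, 8, 10, 11, 12] = true := by
  decide +kernel

set_option maxRecDepth 100000 in
theorem part_2_9_5_8 : dfsN 6 268435456 140059408 [4, 6, 7, 10, 11, 12] = true := by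
  decide +kernel

set_option maxRecDepth 100000 in
theorem part_2_9_5_10 : dfsN 6 268435456 173613840 [4, 6, 7, 8, 11, 12] = true := by
  decide +kernel

set_option maxRecDepth 100000 in
theorem part_2_9_5_11 : dfsN 6 268435456 190391056 [4, 6, 7, 8, 10, 12] = true := by
  decide +kernel

set_option maxRecDepth 100000 in
theorem part_2_9_5_12 : dfsN 6 268435456 207168272 [4, 6, 7, 8, 10, 11] = true := by
  decide +kernel

theorem part_2_9_5 : dfsN 7 16777216 5841680 [4, 6, 7, 8, 10, 11, 12] = true := by
  apply dfsN_step 6 16777216 5841680 [4, 6, 7, 8, 10, 11, 12]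
  intro v hv
  simp only [List.mem_cons, List.not_mem_nil, or_false] at hv
  rcases hv with rfl | rfl | rfl | rfl | rfl | rfl | rfl
  exacts [part_2_9_5_4, part_2_9_5_6, part_2_9_5_7, part_2_9_5_8, part_2_9_5_10, part_2_9_5_11, part_2_9_5_12]

set_option maxRecDepth 100000 in
theorem part_2_9_6_4 : dfsN 6 268435456 73999120 [5, 7, 8, 10, 11, 12] = true := by
  decide +kernel

set_option maxRecDepth 100000 in
theorem part_2_9_6_5 : dfsN 6 268435456 90776336 [4, 7, 8, 10, 11, 12] = true := by
  decide +kernel

set_option maxRecDepth 100000 in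
theorem part_2_9_6_7 : dfsN 6 268435456 124330768 [4, 5, 8, 10, 11, 12] = true := by
  decide +kernel

set_option maxRecDepth 100000 in
theorem part_2_9_6_8 : dfsN 6 268435456 141107984 [4, 5, 7, 10, 11, 12] = true := by
  decide +kernel

set_option maxRecDepth 100000 in
theorem part_2_9_6_10 : dfsN 6 268435456 174662416 [4, 5, 7, 8, 11, 12] = true := by
  decide +kernel

set_option maxRecDepth 100000 in
theorem part_2_9_6_11 : dfsN 6 268435456 191439632 [4, 5, 7, 8, 10, 12] = true := by
  decide +kernel

set_option maxRecDepth 100000 in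
theorem part_2_9_6_12 : dfsN 6 268435456 208216848 [4, 5, 7, 8, 10, 11] = true := by
  decide +kernel

theorem part_2_9_6 : dfsN 7 16777216 6890256 [4, 5, 7, 8, 10, 11, 12] = true := by
  apply dfsN_step 6 16777216 6890256 [4, 5, 7, 8, 10, 11, 12]
  intro v hv
  simp only [List.mem_cons, List.not_mem_nil, or_false] at hv
  rcases hv with rfl | rfl | rfl | rfl | rfl | rfl | rfl
  exacts [part_2_9_6_4, part_2_9_6_5, part_2_9_6_7, part_2_9_6_8, part_2_9_6_10, part_2_9_6_11, part_2_9_6_12]

set_option maxRecDepth 100000 in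
theorem part_2_9_7_4 : dfsN 6 268435456 75047696 [5, 6, 8, 10, 11, 12] = true := by
  decide +kernel

set_option maxRecDepth 100000 in
theorem part_2_9_7_5 : dfsN 6 268435456 91824912 [4, 6, 8, 10, 11, 12] = true := by
  decide +kernel

set_option maxRecDepth 100000 in
theorem part_2_9_7_6 : dfsN 6 268435456 108602128 [4, 5, 8, 10, 11, 12] = true := by
  decide +kernel

set_option maxRecDepth 100000 in
theorem part_2_9_7_8 : dfsN 6 268435456 142156560 [4, 5, 6, 10, 11, 12] = true := by
  decide +kernel

set_option maxRecDepth 100000 in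
theorem part_2_9_7_10 : dfsN 6 268435456 175710992 [4, 5, 6, 8, 11, 12] = true := by
  decide +kernel

set_option maxRecDepth 100000 in
theorem part_2_9_7_11 : dfsN 6 268435456 192488208 [4, 5, 6, 8, 10, 12] = true := by
  decide +kernel

set_option maxRecDepth 100000 in
theorem part_2_9_7_12 : dfsN 6 268435456 209265424 [4, 5, 6, 8, 10, 11] = true := by
  decide +kernel

theorem part_2_9_7 : dfsN 7 16777216 7938832 [4, 5, 6, 8, 10, 11, 12] = true := by
  apply dfsN_step 6 16777216 7938832 [4, 5, 6, 8, 10, 11, 12]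
  intro v hv
  simp only [List.mem_cons, List.not_mem_nil, or_false] at hv
  rcases hv with rfl | rfl | rfl | rfl | rfl | rfl | rfl
  exacts [part_2_9_7_4, part_2_9_7_5, part_2_9_7_6, part_2_9_7_8, part_2_9_7_10, part_2_9_7_11, part_2_9_7_12]

set_option maxRecDepth 100000 in
theorem part_2_9_8_4 : dfsN 6 268435456 76096272 [5, 6, 7, 10, 11, 12] = true := by
  decide +kernel

set_option maxRecDepth 100000 in
theorem part_2_9_8_5 : dfsN 6 268435456 92873488 [4, 6, 7, 10, 11, 12] = true := by
  decide +kernel

set_option maxRecDepth 100000 in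
theorem part_2_9_8_6 : dfsN 6 268435456 109650704 [4, 5, 7, 10, 11, 12] = true := by
  decide +kernel

set_option maxRecDepth 100000 in
theorem part_2_9_8_7 : dfsN 6 268435456 126427920 [4, 5, 6, 10, 11, 12] = true := by
  decide +kernel

set_option maxRecDepth 100000 in
theorem part_2_9_8_10 : dfsN 6 268435456 176759568 [4, 5, 6, 7, 11, 12] = true := by
  decide +kernel

set_option maxRecDepth 100000 in
theorem part_2_9_8_11 : dfsN 6 268435456 193536784 [4, 5, 6, 7, 10, 12] = true := by
  decide +kernel

set_option maxRecDepth 100000 in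
theorem part_2_9_8_12 : dfsN 6 268435456 210314000 [4, 5, 6, 7, 10, 11] = true := by
  decide +kernel

theorem part_2_9_8 : dfsN 7 16777216 8987408 [4, 5, 6, 7, 10, 11, 12] = true := by
  apply dfsN_step 6 16777216 8987408 [4, 5, 6, 7, 10, 11, 12]
  intro v hv
  simp only [List.mem_cons, List.not_mem_nil, or_false] at hv
  rcases hv with rfl | rfl | rfl | rfl | rfl | rfl | rfl
  exacts [part_2_9_8_4, part_2_9_8_5, part_2_9_8_6, part_2_9_8_7, part_2_9_8_10, part_2_9_8_11, part_2_9_8_12]

set_option maxRecDepth 100000 in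
theorem part_2_9_10_4 : dfsN 6 268435456 78193424 [5, 6, 7, 8, 11, 12] = true := by
  decide +kernel

set_option maxRecDepth 100000 in
theorem part_2_9_10_5 : dfsN 6 268435456 94970640 [4, 6, 7, 8, 11, 12] = true := by
  decide +kernel

set_option maxRecDepth 100000 in
theorem part_2_9_10_6 : dfsN 6 268435456 111747856 [4, 5, 7, 8, 11, 12] = true := by
  decide +kernel

set_option maxRecDepth 100000 in
theorem part_2_9_10_7 : dfsN 6 268435456 128525072 [4, 5, 6, 8, 11, 12] = true := by
  decide +kernel

set_option maxRecDepth 100000 in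
theorem part_2_9_10_8 : dfsN 6 268435456 145302288 [4, 5, 6, 7, 11, 12] = true := by
  decide +kernel

set_option maxRecDepth 100000 in
theorem part_2_9_10_11 : dfsN 6 268435456 195633936 [4, 5, 6, 7, 8, 12] = true := by
  decide +kernel

set_option maxRecDepth 100000 in
theorem part_2_9_10_12 : dfsN 6 268435456 212411152 [4, 5, 6, 7, 8, 11] = true := by
  decide +kernel

theorem part_2_9_10 : dfsN 7 16777216 11084560 [4, 5, 6, 7, 8, 11, 12] = true := by
  apply dfsN_step 6 16777216 11084560 [4, 5, 6, 7, 8, 11, 12]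
  intro v hv
  simp only [List.mem_cons, List.not_mem_nil, or_false] at hv
  rcases hv with rfl | rfl | rfl | rfl | rfl | rfl | rfl
  exacts [part_2_9_10_4, part_2_9_10_5, part_2_9_10_6, part_2_9_10_7, part_2_9_10_8, part_2_9_10_11, part_2_9_10_12]

set_option maxRecDepth 100000 in
theorem part_2_9_11_4 : dfsN 6 268435456 79242000 [5, 6, 7, 8, 10, 12] = true := by
  decide +kernel

set_option maxRecDepth 100000 in
theorem part_2_9_11_5 : dfsN 6 268435456 96019216 [4, 6, 7, 8, 10, 12] = true := by
  decide +kernel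

set_option maxRecDepth 100000 in
theorem part_2_9_11_6 : dfsN 6 268435456 112796432 [4, 5, 7, 8, 10, 12] = true := by
  decide +kernel

set_option maxRecDepth 100000 in
theorem part_2_9_11_7 : dfsN 6 268435456 129573648 [4, 5, 6, 8, 10, 12] = true := by
  decide +kernel

set_option maxRecDepth 100000 in
theorem part_2_9_11_8 : dfsN 6 268435456 146350864 [4, 5, 6, 7, 10, 12] = true := by
  decide +kernel

set_option maxRecDepth 100000 in
theorem part_2_9_11_10 : dfsN 6 268435456 179905296 [4, 5, 6, 7, 8, 12] = true := by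
  decide +kernel

set_option maxRecDepth 100000 in
theorem part_2_9_11_12 : dfsN 6 268435456 213459728 [4, 5, 6, 7, 8, 10] = true := by
  decide +kernel

theorem part_2_9_11 : dfsN 7 16777216 12133136 [4, 5, 6, 7, 8, 10, 12] = true := by
  apply dfsN_step 6 16777216 12133136 [4, 5, 6, 7, 8, 10, 12]
  intro v hv
  simp only [List.mem_cons, List.not_mem_nil, or_false] at hv
  rcases hv with rfl | rfl | rfl | rfl | rfl | rfl | rfl
  exacts [part_2_9_11_4, part_2_9_11_5, part_2_9_11_6, part_2_9_11_7, part_2_9_11_8, part_2_9_11_10, part_2_9_11_12]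

set_option maxRecDepth 100000 in
theorem part_2_9_12_4 : dfsN 6 268435456 80290576 [5, 6, 7, 8, 10, 11] = true := by
  decide +kernel

set_option maxRecDepth 100000 in
theorem part_2_9_12_5 : dfsN 6 268435456 97067792 [4, 6, 7, 8, 10, 11] = true := by
  decide +kernel

set_option maxRecDepth 100000 in
theorem part_2_9_12_6 : dfsN 6 268435456 113845008 [4, 5, 7, 8, 10, 11] = true := by
  decide +kernel

set_option maxRecDepth 100000 in
theorem part_2_9_12_7 : dfsN 6 268435456 130622224 [4, 5, 6, 8, 10, 11] = true := by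
  decide +kernel

set_option maxRecDepth 100000 in
theorem part_2_9_12_8 : dfsN 6 268435456 147399440 [4, 5, 6, 7, 10, 11] = true := by
  decide +kernel

set_option maxRecDepth 100000 in
theorem part_2_9_12_10 : dfsN 6 268435456 180953872 [4, 5, 6, 7, 8, 11] = true := by
  decide +kernel

set_option maxRecDepth 100000 in
theorem part_2_9_12_11 : dfsN 6 268435456 197731088 [4, 5, 6, 7, 8, 10] = true := by
  decide +kernel

theorem part_2_9_12 : dfsN 7 16777216 13181712 [4, 5, 6, 7, 8, 10, 11] = true := by
  apply dfsN_step 6 16777216 13181712 [4, 5, 6, 7, 8, 10, 11]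
  intro v hv
  simp only [List.mem_cons, List.not_mem_nil, or_false] at hv
  rcases hv with rfl | rfl | rfl | rfl | rfl | rfl | rfl
  exacts [part_2_9_12_4, part_2_9_12_5, part_2_9_12_6, part_2_9_12_7, part_2_9_12_8, part_2_9_12_10, part_2_9_12_11]

theorem part_2_9 : dfsN 8 1048576 598800 [4, 5, 6, 7, 8, 10, 11, 12] = true := by
  apply dfsN_step 7 1048576 598800 [4, 5, 6, 7, 8, 10, 11, 12]
  intro v hv
  simp only [List.mem_cons, List.not_mem_nil, or_false] at hv
  rcases hv with rfl | rfl | rfl | rfl | rfl | rfl | rfl | rfl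
  exacts [part_2_9_4, part_2_9_5, part_2_9_6, part_2_9_7, part_2_9_8, part_2_9_10, part_2_9_11, part_2_9_12]

end Cfsg.Agent.Lib.H16.AG
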