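import Cfsg.Agent.Lib.H16.AG.Step

set_option autoImplicit false

/-! Degree 13, images `0, 1, 3, 2, 10` of `0, 1, 2, 3, 4` fixed: every completion that is an
`11`-cycle has a word `(x ^ b * y ^ a) ^ k` which is a `3`-, `5`- or `7`-cycle
(small kernel computations, one per pair of images of `5, 6`). -/

namespace Cfsg.Agent.Lib.H16.AG

set_option maxRecDepth 100000 in
theorem part_2_10_4_5 : dfsN 6 268435456 88744720 [6, 7, 8, 9, 11, 12] = true := by
  decide +kernel

set_option maxRecDepth 100000 in
theorem part_2_10_4_6 : dfsN 6 268435456 105521936 [5, 7, 8, 9, 11, 12] = true := by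
  decide +kernel

set_option maxRecDepth 100000 in
theorem part_2_10_4_7 : dfsN 6 268435456 122299152 [5, 6, 8, 9, 11, 12] = true := by
  decide +kernel

set_option maxRecDepth 100000 in
theorem part_2_10_4_8 : dfsN 6 268435456 139076368 [5, 6, 7, 9, 11, 12] = true := by
  decide +kernel

set_option maxRecDepth 100000 in
theorem part_2_10_4_9 : dfsN 6 268435456 155853584 [5, 6, 7, 8, 11, 12] = true := by
  decide +kernel

set_option maxRecDepth 100000 in
theorem part_2_10_4_11 : dfsN 6 268435456 189408016 [5, 6, 7, 8, 9, 12] = true := by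
  decide +kernel

set_option maxRecDepth 100000 in
theorem part_2_10_4_12 : dfsN 6 268435456 206185232 [5, 6, 7, 8, 9, 11] = true := by
  decide +kernel

theorem part_2_10_4 : dfsN 7 16777216 4858640 [5, 6, 7, 8, 9, 11, 12] = true := by
  apply dfsN_step 6 16777216 4858640 [5, 6, 7, 8, 9, 11, 12]
  intro v hv
  simp only [List.mem_cons, List.not_mem_nil, or_false] at hv
  rcases hv with rfl | rfl | rfl | rfl | rfl | rfl | rfl
  exacts [part_2_10_4_5, part_2_10_4_6, part_2_10_4_7, part_2_10_4_8, part_2_10_4_9, part_2_10_4_11, part_2_10_4_12]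

set_option maxRecDepth 100000 in
theorem part_2_10_5_4 : dfsN 6 268435456 73016080 [6, 7, 8, 9, 11, 12] = true := by
  decide +kernel

set_option maxRecDepth 100000 in
theorem part_2_10_5_6 : dfsN 6 268435456 106570512 [4, 7, 8, 9, 11, 12] = true := by
  decide +kernel

set_option maxRecDepth 100000 in
theorem part_2_10_5_7 : dfsN 6 268435456 123347728 [4, 6, 8, 9, 11, 12] = true := by
  decide +kernel

set_option maxRecDepth 100000 in
theorem part_2_10_5_8 : dfsN 6 268435456 140124944 [4, 6, 7, 9, 11, 12] = true := by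
  decide +kernel

set_option maxRecDepth 100000 in
theorem part_2_10_5_9 : dfsN 6 268435456 156902160 [4, 6, 7, 8, 11, 12] = true := by
  decide +kernel

set_option maxRecDepth 100000 in
theorem part_2_10_5_11 : dfsN 6 268435456 190456592 [4, 6, 7, 8, 9, 12] = true := by
  decide +kernel

set_option maxRecDepth 100000 in
theorem part_2_10_5_12 : dfsN 6 268435456 207233808 [4, 6, 7, 8, 9, 11] = true := by
  decide +kernel

theorem part_2_10_5 : dfsN 7 16777216 5907216 [4, 6, 7, 8, 9, 11, 12] = true := by
  apply dfsN_step 6 16777216 5907216 [4, 6, 7, 8, 9, 11, 12]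
  intro v hv
  simp only [List.mem_cons, List.not_mem_nil, or_false] at hv
  rcases hv with rfl | rfl | rfl | rfl | rfl | rfl | rfl
  exacts [part_2_10_5_4, part_2_10_5_6, part_2_10_5_7, part_2_10_5_8, part_2_10_5_9, part_2_10_5_11, part_2_10_5_12]

set_option maxRecDepth 100000 in
theorem part_2_10_6_4 : dfsN 6 268435456 74064656 [5, 7, 8, 9, 11, 12] = true := by
  decide +kernel

set_option maxRecDepth 100000 in
theorem part_2_10_6_5 : dfsN 6 268435456 90841872 [4, 7, 8, 9, 11, 12] = true := by
  decide +kernel

set_option maxRecDepth 100000 in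
theorem part_2_10_6_7 : dfsN 6 268435456 124396304 [4, 5, 8, 9, 11, 12] = true := by
  decide +kernel

set_option maxRecDepth 100000 in
theorem part_2_10_6_8 : dfsN 6 268435456 141173520 [4, 5, 7, 9, 11, 12] = true := by
  decide +kernel

set_option maxRecDepth 100000 in
theorem part_2_10_6_9 : dfsN 6 268435456 157950736 [4, 5, 7, 8, 11, 12] = true := by
  decide +kernel

set_option maxRecDepth 100000 in
theorem part_2_10_6_11 : dfsN 6 268435456 191505168 [4, 5, 7, 8, 9, 12] = true := by
  decide +kernel

set_option maxRecDepth 100000 in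
theorem part_2_10_6_12 : dfsN 6 268435456 208282384 [4, 5, 7, 8, 9, 11] = true := by
  decide +kernel

theorem part_2_10_6 : dfsN 7 16777216 6955792 [4, 5, 7, 8, 9, 11, 12] = true := by
  apply dfsN_step 6 16777216 6955792 [4, 5, 7, 8, 9, 11, 12]
  intro v hv
  simp only [List.mem_cons, List.not_mem_nil, or_false] at hv
  rcases hv with rfl | rfl | rfl | rfl | rfl | rfl | rfl
  exacts [part_2_10_6_4, part_2_10_6_5, part_2_10_6_7, part_2_10_6_8, part_2_10_6_9, part_2_10_6_11, part_2_10_6_12]

set_option maxRecDepth 100000 in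
theorem part_2_10_7_4 : dfsN 6 268435456 75113232 [5, 6, 8, 9, 11, 12] = true := by
  decide +kernel

set_option maxRecDepth 100000 in
theorem part_2_10_7_5 : dfsN 6 268435456 91890448 [4, 6, 8, 9, 11, 12] = true := by
  decide +kernel

set_option maxRecDepth 100000 in
theorem part_2_10_7_6 : dfsN 6 268435456 108667664 [4, 5, 8, 9, 11, 12] = true := by
  decide +kernel

set_option maxRecDepth 100000 in
theorem part_2_10_7_8 : dfsN 6 268435456 142222096 [4, 5, 6, 9, 11, 12] = true := by
  decide +kernel

set_option maxRecDepth 100000 in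
theorem part_2_10_7_9 : dfsN 6 268435456 158999312 [4, 5, 6, 8, 11, 12] = true := by
  decide +kernel

set_option maxRecDepth 100000 in
theorem part_2_10_7_11 : dfsN 6 268435456 192553744 [4, 5, 6, 8, 9, 12] = true := by
  decide +kernel

set_option maxRecDepth 100000 in
theorem part_2_10_7_12 : dfsN 6 268435456 209330960 [4, 5, 6, 8, 9, 11] = true := by
  decide +kernel

theorem part_2_10_7 : dfsN 7 16777216 8004368 [4, 5, 6, 8, 9, 11, 12] = true := by
  apply dfsN_step 6 16777216 8004368 [4, 5, 6, 8, 9, 11, 12]
  intro v hv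
  simp only [List.mem_cons, List.not_mem_nil, or_false] at hv
  rcases hv with rfl | rfl | rfl | rfl | rfl | rfl | rfl
  exacts [part_2_10_7_4, part_2_10_7_5, part_2_10_7_6, part_2_10_7_8, part_2_10_7_9, part_2_10_7_11, part_2_10_7_12]

set_option maxRecDepth 100000 in
theorem part_2_10_8_4 : dfsN 6 268435456 76161808 [5, 6, 7, 9, 11, 12] = true := by
  decide +kernel

set_option maxRecDepth 100000 in
theorem part_2_10_8_5 : dfsN 6 268435456 92939024 [4, 6, 7, 9, 11, 12] = true := by
  decide +kernel

set_option maxRecDepth 100000 in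
theorem part_2_10_8_6 : dfsN 6 268435456 109716240 [4, 5, 7, 9, 11, 12] = true := by
  decide +kernel

set_option maxRecDepth 100000 in
theorem part_2_10_8_7 : dfsN 6 268435456 126493456 [4, 5, 6, 9, 11, 12] = true := by
  decide +kernel

set_option maxRecDepth 100000 in
theorem part_2_10_8_9 : dfsN 6 268435456 160047888 [4, 5, 6, 7, 11, 12] = true := by
  decide +kernel

set_option maxRecDepth 100000 in
theorem part_2_10_8_11 : dfsN 6 268435456 193602320 [4, 5, 6, 7, 9, 12] = true := by
  decide +kernel

set_option maxRecDepth 100000 in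
theorem part_2_10_8_12 : dfsN 6 268435456 210379536 [4, 5, 6, 7, 9, 11] = true := by
  decide +kernel

theorem part_2_10_8 : dfsN 7 16777216 9052944 [4, 5, 6, 7, 9, 11, 12] = true := by
  apply dfsN_step 6 16777216 9052944 [4, 5, 6, 7, 9, 11, 12]
  intro v hv
  simp only [List.mem_cons, List.not_mem_nil, or_false] at hv
  rcases hv with rfl | rfl | rfl | rfl | rfl | rfl | rfl
  exacts [part_2_10_8_4, part_2_10_8_5, part_2_10_8_6, part_2_10_8_7, part_2_10_8_9, part_2_10_8_11, part_2_10_8_12]

set_option maxRecDepth 100000 in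
theorem part_2_10_9_4 : dfsN 6 268435456 77210384 [5, 6, 7, 8, 11, 12] = true := by
  decide +kernel

set_option maxRecDepth 100000 in
theorem part_2_10_9_5 : dfsN 6 268435456 93987600 [4, 6, 7, 8, 11, 12] = true := by
  decide +kernel

set_option maxRecDepth 100000 in
theorem part_2_10_9_6 : dfsN 6 268435456 110764816 [4, 5, 7, 8, 11, 12] = true := by
  decide +kernel

set_option maxRecDepth 100000 in
theorem part_2_10_9_7 : dfsN 6 268435456 127542032 [4, 5, 6, 8, 11, 12] = true := by
  decide +kernel

set_option maxRecDepth 100000 in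
theorem part_2_10_9_8 : dfsN 6 268435456 144319248 [4, 5, 6, 7, 11, 12] = true := by
  decide +kernel

set_option maxRecDepth 100000 in
theorem part_2_10_9_11 : dfsN 6 268435456 194650896 [4, 5, 6, 7, 8, 12] = true := by
  decide +kernel

set_option maxRecDepth 100000 in
theorem part_2_10_9_12 : dfsN 6 268435456 211428112 [4, 5, 6, 7, 8, 11] = true := by
  decide +kernel

theorem part_2_10_9 : dfsN 7 16777216 10101520 [4, 5, 6, 7, 8, 11, 12] = true := by
  apply dfsN_step 6 16777216 10101520 [4, 5, 6, 7, 8, 11, 12]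
  intro v hv
  simp only [List.mem_cons, List.not_mem_nil, or_false] at hv
  rcases hv with rfl | rfl | rfl | rfl | rfl | rfl | rfl
  exacts [part_2_10_9_4, part_2_10_9_5, part_2_10_9_6, part_2_10_9_7, part_2_10_9_8, part_2_10_9_11, part_2_10_9_12]

set_option maxRecDepth 100000 in
theorem part_2_10_11_4 : dfsN 6 268435456 79307536 [5, 6, 7, 8, 9, 12] = true := by
  decide +kernel

set_option maxRecDepth 100000 in
theorem part_2_10_11_5 : dfsN 6 268435456 96084752 [4, 6, 7, 8, 9, 12] = true := by
  decide +kernel

set_option maxRecDepth 100000 in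
theorem part_2_10_11_6 : dfsN 6 268435456 112861968 [4, 5, 7, 8, 9, 12] = true := by
  decide +kernel

set_option maxRecDepth 100000 in
theorem part_2_10_11_7 : dfsN 6 268435456 129639184 [4, 5, 6, 8, 9, 12] = true := by
  decide +kernel

set_option maxRecDepth 100000 in
theorem part_2_10_11_8 : dfsN 6 268435456 146416400 [4, 5, 6, 7, 9, 12] = true := by
  decide +kernel

set_option maxRecDepth 100000 in
theorem part_2_10_11_9 : dfsN 6 268435456 163193616 [4, 5, 6, 7, 8, 12] = true := by
  decide +kernel

set_option maxRecDepth 100000 in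
theorem part_2_10_11_12 : dfsN 6 268435456 213525264 [4, 5, 6, 7, 8, 9] = true := by
  decide +kernel

theorem part_2_10_11 : dfsN 7 16777216 12198672 [4, 5, 6, 7, 8, 9, 12] = true := by
  apply dfsN_step 6 16777216 12198672 [4, 5, 6, 7, 8, 9, 12]
  intro v hv
  simp only [List.mem_cons, List.not_mem_nil, or_false] at hv
  rcases hv with rfl | rfl | rfl | rfl | rfl | rfl | rfl
  exacts [part_2_10_11_4, part_2_10_11_5, part_2_10_11_6, part_2_10_11_7, part_2_10_11_8, part_2_10_11_9, part_2_10_11_12]

set_option maxRecDepth 100000 in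
theorem part_2_10_12_4 : dfsN 6 268435456 80356112 [5, 6, 7, 8, 9, 11] = true := by
  decide +kernel

set_option maxRecDepth 100000 in
theorem part_2_10_12_5 : dfsN 6 268435456 97133328 [4, 6, 7, 8, 9, 11] = true := by
  decide +kernel

set_option maxRecDepth 100000 in
theorem part_2_10_12_6 : dfsN 6 268435456 113910544 [4, 5, 7, 8, 9, 11] = true := by
  decide +kernel

set_option maxRecDepth 100000 in
theorem part_2_10_12_7 : dfsN 6 268435456 130687760 [4, 5, 6, 8, 9, 11] = true := by
  decide +kernel

set_option maxRecDepth 100000 in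
theorem part_2_10_12_8 : dfsN 6 268435456 147464976 [4, 5, 6, 7, 9, 11] = true := by
  decide +kernel

set_option maxRecDepth 100000 in
theorem part_2_10_12_9 : dfsN 6 268435456 164242192 [4, 5, 6, 7, 8, 11] = true := by
  decide +kernel

set_option maxRecDepth 100000 in
theorem part_2_10_12_11 : dfsN 6 268435456 197796624 [4, 5, 6, 7, 8, 9] = true := by
  decide +kernel

theorem part_2_10_12 : dfsN 7 16777216 13247248 [4, 5, 6, 7, 8, 9, 11] = true := by
  apply dfsN_step 6 16777216 13247248 [4, 5, 6, 7, 8, 9, 11]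
  intro v hv
  simp only [List.mem_cons, List.not_mem_nil, or_false] at hv
  rcases hv with rfl | rfl | rfl | rfl | rfl | rfl | rfl
  exacts [part_2_10_12_4, part_2_10_12_5, part_2_10_12_6, part_2_10_12_7, part_2_10_12_8, part_2_10_12_9, part_2_10_12_11]

theorem part_2_10 : dfsN 8 1048576 664336 [4, 5, 6, 7, 8, 9, 11, 12] = true := by
  apply dfsN_step 7 1048576 664336 [4, 5, 6, 7, 8, 9, 11, 12]
  intro v hv
  simp only [List.mem_cons, List.not_mem_nil, or_false] at hv
  rcases hv with rfl | rfl | rfl | rfl | rfl | rfl | rfl | rfl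
  exacts [part_2_10_4, part_2_10_5, part_2_10_6, part_2_10_7, part_2_10_8, part_2_10_9, part_2_10_11, part_2_10_12]

end Cfsg.Agent.Lib.H16.AG
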