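import Cfsg.Agent.Lib.H16.AG.Step

set_option autoImplicit false

/-! Degree 13, images `0, 1, 3, 2, 11` of `0, 1, 2, 3, 4` fixed: every completion that is an
`11`-cycle has a word `(x ^ b * y ^ a) ^ k` which is a `3`-, `5`- or `7`-cycle
(small kernel computations, one per pair of images of `5, 6`). -/

namespace Cfsg.Agent.Lib.H16.AG

set_option maxRecDepth 100000 in
theorem part_2_11_4_5 : dfsN 6 268435456 88810256 [6, 7, 8, 9, 10, 12] = true := by
  decide +kernel

set_option maxRecDepth 100000 in
theorem part_2_11_4_6 : dfsN 6 268435456 105587472 [5, 7, 8, 9, 10, 12] = true := by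
  decide +kernel

set_option maxRecDepth 100000 in
theorem part_2_11_4_7 : dfsN 6 268435456 122364688 [5, 6, 8, 9, 10, 12] = true := by
  decide +kernel

set_option maxRecDepth 100000 in
theorem part_2_11_4_8 : dfsN 6 268435456 139141904 [5, 6, 7, 9, 10, 12] = true := by
  decide +kernel

set_option maxRecDepth 100000 in
theorem part_2_11_4_9 : dfsN 6 268435456 155919120 [5, 6, 7, 8, 10, 12] = true := by
  decide +kernel

set_option maxRecDepth 100000 in
theorem part_2_11_4_10 : dfsN 6 268435456 172696336 [5, 6, 7, 8, 9, 12] = true := by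
  decide +kernel

set_option maxRecDepth 100000 in
theorem part_2_11_4_12 : dfsN 6 268435456 206250768 [5, 6, 7, 8, 9, 10] = true := by
  decide +kernel

theorem part_2_11_4 : dfsN 7 16777216 4924176 [5, 6, 7, 8, 9, 10, 12] = true := by
  apply dfsN_step 6 16777216 4924176 [5, 6, 7, 8, 9, 10, 12]
  intro v hv
  simp only [List.mem_cons, List.not_mem_nil, or_false] at hv
  rcases hv with rfl | rfl | rfl | rfl | rfl | rfl | rfl
  exacts [part_2_11_4_5, part_2_11_4_6, part_2_11_4_7, part_2_11_4_8, part_2_11_4_9, part_2_11_4_10, part_2_11_4_12]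

set_option maxRecDepth 100000 in
theorem part_2_11_5_4 : dfsN 6 268435456 73081616 [6, 7, 8, 9, 10, 12] = true := by
  decide +kernel

set_option maxRecDepth 100000 in
theorem part_2_11_5_6 : dfsN 6 268435456 106636048 [4, 7, 8, 9, 10, 12] = true := by
  decide +kernel

set_option maxRecDepth 100000 in
theorem part_2_11_5_7 : dfsN 6 268435456 123413264 [4, 6, 8, 9, 10, 12] = true := by
  decide +kernel

set_option maxRecDepth 100000 in
theorem part_2_11_5_8 : dfsN 6 268435456 140190480 [4, 6, 7, 9, 10, 12] = true := by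
  decide +kernel

set_option maxRecDepth 100000 in
theorem part_2_11_5_9 : dfsN 6 268435456 156967696 [4, 6, 7, 8, 10, 12] = true := by
  decide +kernel

set_option maxRecDepth 100000 in
theorem part_2_11_5_10 : dfsN 6 268435456 173744912 [4, 6, 7, 8, 9, 12] = true := by
  decide +kernel

set_option maxRecDepth 100000 in
theorem part_2_11_5_12 : dfsN 6 268435456 207299344 [4, 6, 7, 8, 9, 10] = true := by
  decide +kernel

theorem part_2_11_5 : dfsN 7 16777216 5972752 [4, 6, 7, 8, 9, 10, 12] = true := by
  apply dfsN_step 6 16777216 5972752 [4, 6, 7, 8, 9, 10, 12]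
  intro v hv
  simp only [List.mem_cons, List.not_mem_nil, or_false] at hv
  rcases hv with rfl | rfl | rfl | rfl | rfl | rfl | rfl
  exacts [part_2_11_5_4, part_2_11_5_6, part_2_11_5_7, part_2_11_5_8, part_2_11_5_9, part_2_11_5_10, part_2_11_5_12]

set_option maxRecDepth 100000 in
theorem part_2_11_6_4 : dfsN 6 268435456 74130192 [5, 7, 8, 9, 10, 12] = true := by
  decide +kernel

set_option maxRecDepth 100000 in
theorem part_2_11_6_5 : dfsN 6 268435456 90907408 [4, 7, 8, 9, 10, 12] = true := by
  decide +kernel

set_option maxRecDepth 100000 in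
theorem part_2_11_6_7 : dfsN 6 268435456 124461840 [4, 5, 8, 9, 10, 12] = true := by
  decide +kernel

set_option maxRecDepth 100000 in
theorem part_2_11_6_8 : dfsN 6 268435456 141239056 [4, 5, 7, 9, 10, 12] = true := by
  decide +kernel

set_option maxRecDepth 100000 in
theorem part_2_11_6_9 : dfsN 6 268435456 158016272 [4, 5, 7, 8, 10, 12] = true := by
  decide +kernel

set_option maxRecDepth 100000 in
theorem part_2_11_6_10 : dfsN 6 268435456 174793488 [4, 5, 7, 8, 9, 12] = true := by
  decide +kernel

set_option maxRecDepth 100000 in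
theorem part_2_11_6_12 : dfsN 6 268435456 208347920 [4, 5, 7, 8, 9, 10] = true := by
  decide +kernel

theorem part_2_11_6 : dfsN 7 16777216 7021328 [4, 5, 7, 8, 9, 10, 12] = true := by
  apply dfsN_step 6 16777216 7021328 [4, 5, 7, 8, 9, 10, 12]
  intro v hv
  simp only [List.mem_cons, List.not_mem_nil, or_false] at hv
  rcases hv with rfl | rfl | rfl | rfl | rfl | rfl | rfl
  exacts [part_2_11_6_4, part_2_11_6_5, part_2_11_6_7, part_2_11_6_8, part_2_11_6_9, part_2_11_6_10, part_2_11_6_12]

set_option maxRecDepth 100000 in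
theorem part_2_11_7_4 : dfsN 6 268435456 75178768 [5, 6, 8, 9, 10, 12] = true := by
  decide +kernel

set_option maxRecDepth 100000 in
theorem part_2_11_7_5 : dfsN 6 268435456 91955984 [4, 6, 8, 9, 10, 12] = true := by
  decide +kernel

set_option maxRecDepth 100000 in
theorem part_2_11_7_6 : dfsN 6 268435456 108733200 [4, 5, 8, 9, 10, 12] = true := by
  decide +kernel

set_option maxRecDepth 100000 in
theorem part_2_11_7_8 : dfsN 6 268435456 142287632 [4, 5, 6, 9, 10, 12] = true := by
  decide +kernel

set_option maxRecDepth 100000 in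
theorem part_2_11_7_9 : dfsN 6 268435456 159064848 [4, 5, 6, 8, 10, 12] = true := by
  decide +kernel

set_option maxRecDepth 100000 in
theorem part_2_11_7_10 : dfsN 6 268435456 175842064 [4, 5, 6, 8, 9, 12] = true := by
  decide +kernel

set_option maxRecDepth 100000 in
theorem part_2_11_7_12 : dfsN 6 268435456 209396496 [4, 5, 6, 8, 9, 10] = true := by
  decide +kernel

theorem part_2_11_7 : dfsN 7 16777216 8069904 [4, 5, 6, 8, 9, 10, 12] = true := by
  apply dfsN_step 6 16777216 8069904 [4, 5, 6, 8, 9, 10, 12]
  intro v hv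
  simp only [List.mem_cons, List.not_mem_nil, or_false] at hv
  rcases hv with rfl | rfl | rfl | rfl | rfl | rfl | rfl
  exacts [part_2_11_7_4, part_2_11_7_5, part_2_11_7_6, part_2_11_7_8, part_2_11_7_9, part_2_11_7_10, part_2_11_7_12]

set_option maxRecDepth 100000 in
theorem part_2_11_8_4 : dfsN 6 268435456 76227344 [5, 6, 7, 9, 10, 12] = true := by
  decide +kernel

set_option maxRecDepth 100000 in
theorem part_2_11_8_5 : dfsN 6 268435456 93004560 [4, 6, 7, 9, 10, 12] = true := by
  decide +kernel

set_option maxRecDepth 100000 in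
theorem part_2_11_8_6 : dfsN 6 268435456 109781776 [4, 5, 7, 9, 10, 12] = true := by
  decide +kernel

set_option maxRecDepth 100000 in
theorem part_2_11_8_7 : dfsN 6 268435456 126558992 [4, 5, 6, 9, 10, 12] = true := by
  decide +kernel

set_option maxRecDepth 100000 in
theorem part_2_11_8_9 : dfsN 6 268435456 160113424 [4, 5, 6, 7, 10, 12] = true := by
  decide +kernel

set_option maxRecDepth 100000 in
theorem part_2_11_8_10 : dfsN 6 268435456 176890640 [4, 5, 6, 7, 9, 12] = true := by
  decide +kernel

set_option maxRecDepth 100000 in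
theorem part_2_11_8_12 : dfsN 6 268435456 210445072 [4, 5, 6, 7, 9, 10] = true := by
  decide +kernel

theorem part_2_11_8 : dfsN 7 16777216 9118480 [4, 5, 6, 7, 9, 10, 12] = true := by
  apply dfsN_step 6 16777216 9118480 [4, 5, 6, 7, 9, 10, 12]
  intro v hv
  simp only [List.mem_cons, List.not_mem_nil, or_false] at hv
  rcases hv with rfl | rfl | rfl | rfl | rfl | rfl | rfl
  exacts [part_2_11_8_4, part_2_11_8_5, part_2_11_8_6, part_2_11_8_7, part_2_11_8_9, part_2_11_8_10, part_2_11_8_12]

set_option maxRecDepth 100000 in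
theorem part_2_11_9_4 : dfsN 6 268435456 77275920 [5, 6, 7, 8, 10, 12] = true := by
  decide +kernel

set_option maxRecDepth 100000 in
theorem part_2_11_9_5 : dfsN 6 268435456 94053136 [4, 6, 7, 8, 10, 12] = true := by
  decide +kernel

set_option maxRecDepth 100000 in
theorem part_2_11_9_6 : dfsN 6 268435456 110830352 [4, 5, 7, 8, 10, 12] = true := by
  decide +kernel

set_option maxRecDepth 100000 in
theorem part_2_11_9_7 : dfsN 6 268435456 127607568 [4, 5, 6, 8, 10, 12] = true := by
  decide +kernel

set_option maxRecDepth 100000 in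
theorem part_2_11_9_8 : dfsN 6 268435456 144384784 [4, 5, 6, 7, 10, 12] = true := by
  decide +kernel

set_option maxRecDepth 100000 in
theorem part_2_11_9_10 : dfsN 6 268435456 177939216 [4, 5, 6, 7, 8, 12] = true := by
  decide +kernel

set_option maxRecDepth 100000 in
theorem part_2_11_9_12 : dfsN 6 268435456 211493648 [4, 5, 6, 7, 8, 10] = true := by
  decide +kernel

theorem part_2_11_9 : dfsN 7 16777216 10167056 [4, 5, 6, 7, 8, 10, 12] = true := by
  apply dfsN_step 6 16777216 10167056 [4, 5, 6, 7, 8, 10, 12]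
  intro v hv
  simp only [List.mem_cons, List.not_mem_nil, or_false] at hv
  rcases hv with rfl | rfl | rfl | rfl | rfl | rfl | rfl
  exacts [part_2_11_9_4, part_2_11_9_5, part_2_11_9_6, part_2_11_9_7, part_2_11_9_8, part_2_11_9_10, part_2_11_9_12]

set_option maxRecDepth 100000 in
theorem part_2_11_10_4 : dfsN 6 268435456 78324496 [5, 6, 7, 8, 9, 12] = true := by
  decide +kernel

set_option maxRecDepth 100000 in
theorem part_2_11_10_5 : dfsN 6 268435456 95101712 [4, 6, 7, 8, 9, 12] = true := by
  decide +kernel

set_option maxRecDepth 100000 in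
theorem part_2_11_10_6 : dfsN 6 268435456 111878928 [4, 5, 7, 8, 9, 12] = true := by
  decide +kernel

set_option maxRecDepth 100000 in
theorem part_2_11_10_7 : dfsN 6 268435456 128656144 [4, 5, 6, 8, 9, 12] = true := by
  decide +kernel

set_option maxRecDepth 100000 in
theorem part_2_11_10_8 : dfsN 6 268435456 145433360 [4, 5, 6, 7, 9, 12] = true := by
  decide +kernel

set_option maxRecDepth 100000 in
theorem part_2_11_10_9 : dfsN 6 268435456 162210576 [4, 5, 6, 7, 8, 12] = true := by
  decide +kernel

set_option maxRecDepth 100000 in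
theorem part_2_11_10_12 : dfsN 6 268435456 212542224 [4, 5, 6, 7, 8, 9] = true := by
  decide +kernel

theorem part_2_11_10 : dfsN 7 16777216 11215632 [4, 5, 6, 7, 8, 9, 12] = true := by
  apply dfsN_step 6 16777216 11215632 [4, 5, 6, 7, 8, 9, 12]
  intro v hv
  simp only [List.mem_cons, List.not_mem_nil, or_false] at hv
  rcases hv with rfl | rfl | rfl | rfl | rfl | rfl | rfl
  exacts [part_2_11_10_4, part_2_11_10_5, part_2_11_10_6, part_2_11_10_7, part_2_11_10_8, part_2_11_10_9, part_2_11_10_12]

set_option maxRecDepth 100000 in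
theorem part_2_11_12_4 : dfsN 6 268435456 80421648 [5, 6, 7, 8, 9, 10] = true := by
  decide +kernel

set_option maxRecDepth 100000 in
theorem part_2_11_12_5 : dfsN 6 268435456 97198864 [4, 6, 7, 8, 9, 10] = true := by
  decide +kernel

set_option maxRecDepth 100000 in
theorem part_2_11_12_6 : dfsN 6 268435456 113976080 [4, 5, 7, 8, 9, 10] = true := by
  decide +kernel

set_option maxRecDepth 100000 in
theorem part_2_11_12_7 : dfsN 6 268435456 130753296 [4, 5, 6, 8, 9, 10] = true := by
  decide +kernel

set_option maxRecDepth 100000 in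
theorem part_2_11_12_8 : dfsN 6 268435456 147530512 [4, 5, 6, 7, 9, 10] = true := by
  decide +kernel

set_option maxRecDepth 100000 in
theorem part_2_11_12_9 : dfsN 6 268435456 164307728 [4, 5, 6, 7, 8, 10] = true := by
  decide +kernel

set_option maxRecDepth 100000 in
theorem part_2_11_12_10 : dfsN 6 268435456 181084944 [4, 5, 6, 7, 8, 9] = true := by
  decide +kernel

theorem part_2_11_12 : dfsN 7 16777216 13312784 [4, 5, 6, 7, 8, 9, 10] = true := by
  apply dfsN_step 6 16777216 13312784 [4, 5, 6, 7, 8, 9, 10]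
  intro v hv
  simp only [List.mem_cons, List.not_mem_nil, or_false] at hv
  rcases hv with rfl | rfl | rfl | rfl | rfl | rfl | rfl
  exacts [part_2_11_12_4, part_2_11_12_5, part_2_11_12_6, part_2_11_12_7, part_2_11_12_8, part_2_11_12_9, part_2_11_12_10]

theorem part_2_11 : dfsN 8 1048576 729872 [4, 5, 6, 7, 8, 9, 10, 12] = true := by
  apply dfsN_step 7 1048576 729872 [4, 5, 6, 7, 8, 9, 10, 12]
  intro v hv
  simp only [List.mem_cons, List.not_mem_nil, or_false] at hv
  rcases hv with rfl | rfl | rfl | rfl | rfl | rfl | rfl | rfl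
  exacts [part_2_11_4, part_2_11_5, part_2_11_6, part_2_11_7, part_2_11_8, part_2_11_9, part_2_11_10, part_2_11_12]

end Cfsg.Agent.Lib.H16.AG
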