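import Cfsg.Agent.Lib.H16.AG.Step

set_option autoImplicit false

/-! Degree 13, images `0, 1, 3, 2, 12` of `0, 1, 2, 3, 4` fixed: every completion that is an
`11`-cycle has a word `(x ^ b * y ^ a) ^ k` which is a `3`-, `5`- or `7`-cycle
(small kernel computations, one per pair of images of `5, 6`). -/

namespace Cfsg.Agent.Lib.H16.AG

set_option maxRecDepth 100000 in
theorem part_2_12_4_5 : dfsN 6 268435456 88875792 [6, 7, 8, 9, 10, 11] = true := by
  decide +kernel

set_option maxRecDepth 100000 in
theorem part_2_12_4_6 : dfsN 6 268435456 105653008 [5, 7, 8, 9, 10, 11] = true := by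
  decide +kernel

set_option maxRecDepth 100000 in
theorem part_2_12_4_7 : dfsN 6 268435456 122430224 [5, 6, 8, 9, 10, 11] = true := by
  decide +kernel

set_option maxRecDepth 100000 in
theorem part_2_12_4_8 : dfsN 6 268435456 139207440 [5, 6, 7, 9, 10, 11] = true := by
  decide +kernel

set_option maxRecDepth 100000 in
theorem part_2_12_4_9 : dfsN 6 268435456 155984656 [5, 6, 7, 8, 10, 11] = true := by
  decide +kernel

set_option maxRecDepth 100000 in
theorem part_2_12_4_10 : dfsN 6 268435456 172761872 [5, 6, 7, 8, 9, 11] = true := by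
  decide +kernel

set_option maxRecDepth 100000 in
theorem part_2_12_4_11 : dfsN 6 268435456 189539088 [5, 6, 7, 8, 9, 10] = true := by
  decide +kernel

theorem part_2_12_4 : dfsN 7 16777216 4989712 [5, 6, 7, 8, 9, 10, 11] = true := by
  apply dfsN_step 6 16777216 4989712 [5, 6, 7, 8, 9, 10, 11]
  intro v hv
  simp only [List.mem_cons, List.not_mem_nil, or_false] at hv
  rcases hv with rfl | rfl | rfl | rfl | rfl | rfl | rfl
  exacts [part_2_12_4_5, part_2_12_4_6, part_2_12_4_7, part_2_12_4_8, part_2_12_4_9, part_2_12_4_10, part_2_12_4_11]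

set_option maxRecDepth 100000 in
theorem part_2_12_5_4 : dfsN 6 268435456 73147152 [6, 7, 8, 9, 10, 11] = true := by
  decide +kernel

set_option maxRecDepth 100000 in
theorem part_2_12_5_6 : dfsN 6 268435456 106701584 [4, 7, 8, 9, 10, 11] = true := by
  decide +kernel

set_option maxRecDepth 100000 in
theorem part_2_12_5_7 : dfsN 6 268435456 123478800 [4, 6, 8, 9, 10, 11] = true := by
  decide +kernel

set_option maxRecDepth 100000 in
theorem part_2_12_5_8 : dfsN 6 268435456 140256016 [4, 6, 7, 9, 10, 11] = true := by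
  decide +kernel

set_option maxRecDepth 100000 in
theorem part_2_12_5_9 : dfsN 6 268435456 157033232 [4, 6, 7, 8, 10, 11] = true := by
  decide +kernel

set_option maxRecDepth 100000 in
theorem part_2_12_5_10 : dfsN 6 268435456 173810448 [4, 6, 7, 8, 9, 11] = true := by
  decide +kernel

set_option maxRecDepth 100000 in
theorem part_2_12_5_11 : dfsN 6 268435456 190587664 [4, 6, 7, 8, 9, 10] = true := by
  decide +kernel

theorem part_2_12_5 : dfsN 7 16777216 6038288 [4, 6, 7, 8, 9, 10, 11] = true := by
  apply dfsN_step 6 16777216 6038288 [4, 6, 7, 8, 9, 10, 11]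
  intro v hv
  simp only [List.mem_cons, List.not_mem_nil, or_false] at hv
  rcases hv with rfl | rfl | rfl | rfl | rfl | rfl | rfl
  exacts [part_2_12_5_4, part_2_12_5_6, part_2_12_5_7, part_2_12_5_8, part_2_12_5_9, part_2_12_5_10, part_2_12_5_11]

set_option maxRecDepth 100000 in
theorem part_2_12_6_4 : dfsN 6 268435456 74195728 [5, 7, 8, 9, 10, 11] = true := by
  decide +kernel

set_option maxRecDepth 100000 in
theorem part_2_12_6_5 : dfsN 6 268435456 90972944 [4, 7, 8, 9, 10, 11] = true := by
  decide +kernel

set_option maxRecDepth 100000 in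
theorem part_2_12_6_7 : dfsN 6 268435456 124527376 [4, 5, 8, 9, 10, 11] = true := by
  decide +kernel

set_option maxRecDepth 100000 in
theorem part_2_12_6_8 : dfsN 6 268435456 141304592 [4, 5, 7, 9, 10, 11] = true := by
  decide +kernel

set_option maxRecDepth 100000 in
theorem part_2_12_6_9 : dfsN 6 268435456 158081808 [4, 5, 7, 8, 10, 11] = true := by
  decide +kernel

set_option maxRecDepth 100000 in
theorem part_2_12_6_10 : dfsN 6 268435456 174859024 [4, 5, 7, 8, 9, 11] = true := by
  decide +kernel

set_option maxRecDepth 100000 in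
theorem part_2_12_6_11 : dfsN 6 268435456 191636240 [4, 5, 7, 8, 9, 10] = true := by
  decide +kernel

theorem part_2_12_6 : dfsN 7 16777216 7086864 [4, 5, 7, 8, 9, 10, 11] = true := by
  apply dfsN_step 6 16777216 7086864 [4, 5, 7, 8, 9, 10, 11]
  intro v hv
  simp only [List.mem_cons, List.not_mem_nil, or_false] at hv
  rcases hv with rfl | rfl | rfl | rfl | rfl | rfl | rfl
  exacts [part_2_12_6_4, part_2_12_6_5, part_2_12_6_7, part_2_12_6_8, part_2_12_6_9, part_2_12_6_10, part_2_12_6_11]

set_option maxRecDepth 100000 in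
theorem part_2_12_7_4 : dfsN 6 268435456 75244304 [5, 6, 8, 9, 10, 11] = true := by
  decide +kernel

set_option maxRecDepth 100000 in
theorem part_2_12_7_5 : dfsN 6 268435456 92021520 [4, 6, 8, 9, 10, 11] = true := by
  decide +kernel

set_option maxRecDepth 100000 in
theorem part_2_12_7_6 : dfsN 6 268435456 108798736 [4, 5, 8, 9, 10, 11] = true := by
  decide +kernel

set_option maxRecDepth 100000 in
theorem part_2_12_7_8 : dfsN 6 268435456 142353168 [4, 5, 6, 9, 10, 11] = true := by
  decide +kernel

set_option maxRecDepth 100000 in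
theorem part_2_12_7_9 : dfsN 6 268435456 159130384 [4, 5, 6, 8, 10, 11] = true := by
  decide +kernel

set_option maxRecDepth 100000 in
theorem part_2_12_7_10 : dfsN 6 268435456 175907600 [4, 5, 6, 8, 9, 11] = true := by
  decide +kernel

set_option maxRecDepth 100000 in
theorem part_2_12_7_11 : dfsN 6 268435456 192684816 [4, 5, 6, 8, 9, 10] = true := by
  decide +kernel

theorem part_2_12_7 : dfsN 7 16777216 8135440 [4, 5, 6, 8, 9, 10, 11] = true := by
  apply dfsN_step 6 16777216 8135440 [4, 5, 6, 8, 9, 10, 11]
  intro v hv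
  simp only [List.mem_cons, List.not_mem_nil, or_false] at hv
  rcases hv with rfl | rfl | rfl | rfl | rfl | rfl | rfl
  exacts [part_2_12_7_4, part_2_12_7_5, part_2_12_7_6, part_2_12_7_8, part_2_12_7_9, part_2_12_7_10, part_2_12_7_11]

set_option maxRecDepth 100000 in
theorem part_2_12_8_4 : dfsN 6 268435456 76292880 [5, 6, 7, 9, 10, 11] = true := by
  decide +kernel

set_option maxRecDepth 100000 in
theorem part_2_12_8_5 : dfsN 6 268435456 93070096 [4, 6, 7, 9, 10, 11] = true := by
  decide +kernel

set_option maxRecDepth 100000 in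
theorem part_2_12_8_6 : dfsN 6 268435456 109847312 [4, 5, 7, 9, 10, 11] = true := by
  decide +kernel

set_option maxRecDepth 100000 in
theorem part_2_12_8_7 : dfsN 6 268435456 126624528 [4, 5, 6, 9, 10, 11] = true := by
  decide +kernel

set_option maxRecDepth 100000 in
theorem part_2_12_8_9 : dfsN 6 268435456 160178960 [4, 5, 6, 7, 10, 11] = true := by
  decide +kernel

set_option maxRecDepth 100000 in
theorem part_2_12_8_10 : dfsN 6 268435456 176956176 [4, 5, 6, 7, 9, 11] = true := by
  decide +kernel

set_option maxRecDepth 100000 in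
theorem part_2_12_8_11 : dfsN 6 268435456 193733392 [4, 5, 6, 7, 9, 10] = true := by
  decide +kernel

theorem part_2_12_8 : dfsN 7 16777216 9184016 [4, 5, 6, 7, 9, 10, 11] = true := by
  apply dfsN_step 6 16777216 9184016 [4, 5, 6, 7, 9, 10, 11]
  intro v hv
  simp only [List.mem_cons, List.not_mem_nil, or_false] at hv
  rcases hv with rfl | rfl | rfl | rfl | rfl | rfl | rfl
  exacts [part_2_12_8_4, part_2_12_8_5, part_2_12_8_6, part_2_12_8_7, part_2_12_8_9, part_2_12_8_10, part_2_12_8_11]

set_option maxRecDepth 100000 in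
theorem part_2_12_9_4 : dfsN 6 268435456 77341456 [5, 6, 7, 8, 10, 11] = true := by
  decide +kernel

set_option maxRecDepth 100000 in
theorem part_2_12_9_5 : dfsN 6 268435456 94118672 [4, 6, 7, 8, 10, 11] = true := by
  decide +kernel

set_option maxRecDepth 100000 in
theorem part_2_12_9_6 : dfsN 6 268435456 110895888 [4, 5, 7, 8, 10, 11] = true := by
  decide +kernel

set_option maxRecDepth 100000 in
theorem part_2_12_9_7 : dfsN 6 268435456 127673104 [4, 5, 6, 8, 10, 11] = true := by
  decide +kernel

set_option maxRecDepth 100000 in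
theorem part_2_12_9_8 : dfsN 6 268435456 144450320 [4, 5, 6, 7, 10, 11] = true := by
  decide +kernel

set_option maxRecDepth 100000 in
theorem part_2_12_9_10 : dfsN 6 268435456 178004752 [4, 5, 6, 7, 8, 11] = true := by
  decide +kernel

set_option maxRecDepth 100000 in
theorem part_2_12_9_11 : dfsN 6 268435456 194781968 [4, 5, 6, 7, 8, 10] = true := by
  decide +kernel

theorem part_2_12_9 : dfsN 7 16777216 10232592 [4, 5, 6, 7, 8, 10, 11] = true := by
  apply dfsN_step 6 16777216 10232592 [4, 5, 6, 7, 8, 10, 11]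
  intro v hv
  simp only [List.mem_cons, List.not_mem_nil, or_false] at hv
  rcases hv with rfl | rfl | rfl | rfl | rfl | rfl | rfl
  exacts [part_2_12_9_4, part_2_12_9_5, part_2_12_9_6, part_2_12_9_7, part_2_12_9_8, part_2_12_9_10, part_2_12_9_11]

set_option maxRecDepth 100000 in
theorem part_2_12_10_4 : dfsN 6 268435456 78390032 [5, 6, 7, 8, 9, 11] = true := by
  decide +kernel

set_option maxRecDepth 100000 in
theorem part_2_12_10_5 : dfsN 6 268435456 95167248 [4, 6, 7, 8, 9, 11] = true := by
  decide +kernel

set_option maxRecDepth 100000 in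
theorem part_2_12_10_6 : dfsN 6 268435456 111944464 [4, 5, 7, 8, 9, 11] = true := by
  decide +kernel

set_option maxRecDepth 100000 in
theorem part_2_12_10_7 : dfsN 6 268435456 128721680 [4, 5, 6, 8, 9, 11] = true := by
  decide +kernel

set_option maxRecDepth 100000 in
theorem part_2_12_10_8 : dfsN 6 268435456 145498896 [4, 5, 6, 7, 9, 11] = true := by
  decide +kernel

set_option maxRecDepth 100000 in
theorem part_2_12_10_9 : dfsN 6 268435456 162276112 [4, 5, 6, 7, 8, 11] = true := by
  decide +kernel

set_option maxRecDepth 100000 in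
theorem part_2_12_10_11 : dfsN 6 268435456 195830544 [4, 5, 6, 7, 8, 9] = true := by
  decide +kernel

theorem part_2_12_10 : dfsN 7 16777216 11281168 [4, 5, 6, 7, 8, 9, 11] = true := by
  apply dfsN_step 6 16777216 11281168 [4, 5, 6, 7, 8, 9, 11]
  intro v hv
  simp only [List.mem_cons, List.not_mem_nil, or_false] at hv
  rcases hv with rfl | rfl | rfl | rfl | rfl | rfl | rfl
  exacts [part_2_12_10_4, part_2_12_10_5, part_2_12_10_6, part_2_12_10_7, part_2_12_10_8, part_2_12_10_9, part_2_12_10_11]

set_option maxRecDepth 100000 in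
theorem part_2_12_11_4 : dfsN 6 268435456 79438608 [5, 6, 7, 8, 9, 10] = true := by
  decide +kernel

set_option maxRecDepth 100000 in
theorem part_2_12_11_5 : dfsN 6 268435456 96215824 [4, 6, 7, 8, 9, 10] = true := by
  decide +kernel

set_option maxRecDepth 100000 in
theorem part_2_12_11_6 : dfsN 6 268435456 112993040 [4, 5, 7, 8, 9, 10] = true := by
  decide +kernel

set_option maxRecDepth 100000 in
theorem part_2_12_11_7 : dfsN 6 268435456 129770256 [4, 5, 6, 8, 9, 10] = true := by
  decide +kernel

set_option maxRecDepth 100000 in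
theorem part_2_12_11_8 : dfsN 6 268435456 146547472 [4, 5, 6, 7, 9, 10] = true := by
  decide +kernel

set_option maxRecDepth 100000 in
theorem part_2_12_11_9 : dfsN 6 268435456 163324688 [4, 5, 6, 7, 8, 10] = true := by
  decide +kernel

set_option maxRecDepth 100000 in
theorem part_2_12_11_10 : dfsN 6 268435456 180101904 [4, 5, 6, 7, 8, 9] = true := by
  decide +kernel

theorem part_2_12_11 : dfsN 7 16777216 12329744 [4, 5, 6, 7, 8, 9, 10] = true := by
  apply dfsN_step 6 16777216 12329744 [4, 5, 6, 7, 8, 9, 10]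
  intro v hv
  simp only [List.mem_cons, List.not_mem_nil, or_false] at hv
  rcases hv with rfl | rfl | rfl | rfl | rfl | rfl | rfl
  exacts [part_2_12_11_4, part_2_12_11_5, part_2_12_11_6, part_2_12_11_7, part_2_12_11_8, part_2_12_11_9, part_2_12_11_10]

theorem part_2_12 : dfsN 8 1048576 795408 [4, 5, 6, 7, 8, 9, 10, 11] = true := by
  apply dfsN_step 7 1048576 795408 [4, 5, 6, 7, 8, 9, 10, 11]
  intro v hv
  simp only [List.mem_cons, List.not_mem_nil, or_false] at hv
  rcases hv with rfl | rfl | rfl | rfl | rfl | rfl | rfl | rfl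
  exacts [part_2_12_4, part_2_12_5, part_2_12_6, part_2_12_7, part_2_12_8, part_2_12_9, part_2_12_10, part_2_12_11]

end Cfsg.Agent.Lib.H16.AG
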