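import Cfsg.Agent.Lib.H16.AG.Step

set_option autoImplicit false

/-! Degree 13, images `0, 1, 3, 4, 2` of `0, 1, 2, 3, 4` fixed: every completion that is an
`11`-cycle has a word `(x ^ b * y ^ a) ^ k` which is a `3`-, `5`- or `7`-cycle
(small kernel computations, one per pair of images of `5, 6`). -/

namespace Cfsg.Agent.Lib.H16.AG

set_option maxRecDepth 100000 in
theorem part_4_2_5_6 : dfsN 6 268435456 106054416 [7, 8, 9, 10, 11, 12] = true := by
  decide +kernel

set_option maxRecDepth 100000 in
theorem part_4_2_5_7 : dfsN 6 268435456 122831632 [6, 8, 9, 10, 11, 12] = true := by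
  decide +kernel

set_option maxRecDepth 100000 in
theorem part_4_2_5_8 : dfsN 6 268435456 139608848 [6, 7, 9, 10, 11, 12] = true := by
  decide +kernel

set_option maxRecDepth 100000 in
theorem part_4_2_5_9 : dfsN 6 268435456 156386064 [6, 7, 8, 10, 11, 12] = true := by
  decide +kernel

set_option maxRecDepth 100000 in
theorem part_4_2_5_10 : dfsN 6 268435456 173163280 [6, 7, 8, 9, 11, 12] = true := by
  decide +kernel

set_option maxRecDepth 100000 in
theorem part_4_2_5_11 : dfsN 6 268435456 189940496 [6, 7, 8, 9, 10, 12] = true := by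
  decide +kernel

set_option maxRecDepth 100000 in
theorem part_4_2_5_12 : dfsN 6 268435456 206717712 [6, 7, 8, 9, 10, 11] = true := by
  decide +kernel

theorem part_4_2_5 : dfsN 7 16777216 5391120 [6, 7, 8, 9, 10, 11, 12] = true := by
  apply dfsN_step 6 16777216 5391120 [6, 7, 8, 9, 10, 11, 12]
  intro v hv
  simp only [List.mem_cons, List.not_mem_nil, or_false] at hv
  rcases hv with rfl | rfl | rfl | rfl | rfl | rfl | rfl
  exacts [part_4_2_5_6, part_4_2_5_7, part_4_2_5_8, part_4_2_5_9, part_4_2_5_10, part_4_2_5_11, part_4_2_5_12]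

set_option maxRecDepth 100000 in
theorem part_4_2_6_5 : dfsN 6 268435456 90325776 [7, 8, 9, 10, 11, 12] = true := by
  decide +kernel

set_option maxRecDepth 100000 in
theorem part_4_2_6_7 : dfsN 6 268435456 123880208 [5, 8, 9, 10, 11, 12] = true := by
  decide +kernel

set_option maxRecDepth 100000 in
theorem part_4_2_6_8 : dfsN 6 268435456 140657424 [5, 7, 9, 10, 11, 12] = true := by
  decide +kernel

set_option maxRecDepth 100000 in
theorem part_4_2_6_9 : dfsN 6 268435456 157434640 [5, 7, 8, 10, 11, 12] = true := by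
  decide +kernel

set_option maxRecDepth 100000 in
theorem part_4_2_6_10 : dfsN 6 268435456 174211856 [5, 7, 8, 9, 11, 12] = true := by
  decide +kernel

set_option maxRecDepth 100000 in
theorem part_4_2_6_11 : dfsN 6 268435456 190989072 [5, 7, 8, 9, 10, 12] = true := by
  decide +kernel

set_option maxRecDepth 100000 in
theorem part_4_2_6_12 : dfsN 6 268435456 207766288 [5, 7, 8, 9, 10, 11] = true := by
  decide +kernel

theorem part_4_2_6 : dfsN 7 16777216 6439696 [5, 7, 8, 9, 10, 11, 12] = true := by
  apply dfsN_step 6 16777216 6439696 [5, 7, 8, 9, 10, 11, 12]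
  intro v hv
  simp only [List.mem_cons, List.not_mem_nil, or_false] at hv
  rcases hv with rfl | rfl | rfl | rfl | rfl | rfl | rfl
  exacts [part_4_2_6_5, part_4_2_6_7, part_4_2_6_8, part_4_2_6_9, part_4_2_6_10, part_4_2_6_11, part_4_2_6_12]

set_option maxRecDepth 100000 in
theorem part_4_2_7_5 : dfsN 6 268435456 91374352 [6, 8, 9, 10, 11, 12] = true := by
  decide +kernel

set_option maxRecDepth 100000 in
theorem part_4_2_7_6 : dfsN 6 268435456 108151568 [5, 8, 9, 10, 11, 12] = true := by
  decide +kernel

set_option maxRecDepth 100000 in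
theorem part_4_2_7_8 : dfsN 6 268435456 141706000 [5, 6, 9, 10, 11, 12] = true := by
  decide +kernel

set_option maxRecDepth 100000 in
theorem part_4_2_7_9 : dfsN 6 268435456 158483216 [5, 6, 8, 10, 11, 12] = true := by
  decide +kernel

set_option maxRecDepth 100000 in
theorem part_4_2_7_10 : dfsN 6 268435456 175260432 [5, 6, 8, 9, 11, 12] = true := by
  decide +kernel

set_option maxRecDepth 100000 in
theorem part_4_2_7_11 : dfsN 6 268435456 192037648 [5, 6, 8, 9, 10, 12] = true := by
  decide +kernel

set_option maxRecDepth 100000 in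
theorem part_4_2_7_12 : dfsN 6 268435456 208814864 [5, 6, 8, 9, 10, 11] = true := by
  decide +kernel

theorem part_4_2_7 : dfsN 7 16777216 7488272 [5, 6, 8, 9, 10, 11, 12] = true := by
  apply dfsN_step 6 16777216 7488272 [5, 6, 8, 9, 10, 11, 12]
  intro v hv
  simp only [List.mem_cons, List.not_mem_nil, or_false] at hv
  rcases hv with rfl | rfl | rfl | rfl | rfl | rfl | rfl
  exacts [part_4_2_7_5, part_4_2_7_6, part_4_2_7_8, part_4_2_7_9, part_4_2_7_10, part_4_2_7_11, part_4_2_7_12]

set_option maxRecDepth 100000 in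
theorem part_4_2_8_5 : dfsN 6 268435456 92422928 [6, 7, 9, 10, 11, 12] = true := by
  decide +kernel

set_option maxRecDepth 100000 in
theorem part_4_2_8_6 : dfsN 6 268435456 109200144 [5, 7, 9, 10, 11, 12] = true := by
  decide +kernel

set_option maxRecDepth 100000 in
theorem part_4_2_8_7 : dfsN 6 268435456 125977360 [5, 6, 9, 10, 11, 12] = true := by
  decide +kernel

set_option maxRecDepth 100000 in
theorem part_4_2_8_9 : dfsN 6 268435456 159531792 [5, 6, 7, 10, 11, 12] = true := by
  decide +kernel

set_option maxRecDepth 100000 in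
theorem part_4_2_8_10 : dfsN 6 268435456 176309008 [5, 6, 7, 9, 11, 12] = true := by
  decide +kernel

set_option maxRecDepth 100000 in
theorem part_4_2_8_11 : dfsN 6 268435456 193086224 [5, 6, 7, 9, 10, 12] = true := by
  decide +kernel

set_option maxRecDepth 100000 in
theorem part_4_2_8_12 : dfsN 6 268435456 209863440 [5, 6, 7, 9, 10, 11] = true := by
  decide +kernel

theorem part_4_2_8 : dfsN 7 16777216 8536848 [5, 6, 7, 9, 10, 11, 12] = true := by
  apply dfsN_step 6 16777216 8536848 [5, 6, 7, 9, 10, 11, 12]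
  intro v hv
  simp only [List.mem_cons, List.not_mem_nil, or_false] at hv
  rcases hv with rfl | rfl | rfl | rfl | rfl | rfl | rfl
  exacts [part_4_2_8_5, part_4_2_8_6, part_4_2_8_7, part_4_2_8_9, part_4_2_8_10, part_4_2_8_11, part_4_2_8_12]

set_option maxRecDepth 100000 in
theorem part_4_2_9_5 : dfsN 6 268435456 93471504 [6, 7, 8, 10, 11, 12] = true := by
  decide +kernel

set_option maxRecDepth 100000 in
theorem part_4_2_9_6 : dfsN 6 268435456 110248720 [5, 7, 8, 10, 11, 12] = true := by
  decide +kernel

set_option maxRecDepth 100000 in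
theorem part_4_2_9_7 : dfsN 6 268435456 127025936 [5, 6, 8, 10, 11, 12] = true := by
  decide +kernel

set_option maxRecDepth 100000 in
theorem part_4_2_9_8 : dfsN 6 268435456 143803152 [5, 6, 7, 10, 11, 12] = true := by
  decide +kernel

set_option maxRecDepth 100000 in
theorem part_4_2_9_10 : dfsN 6 268435456 177357584 [5, 6, 7, 8, 11, 12] = true := by
  decide +kernel

set_option maxRecDepth 100000 in
theorem part_4_2_9_11 : dfsN 6 268435456 194134800 [5, 6, 7, 8, 10, 12] = true := by
  decide +kernel

set_option maxRecDepth 100000 in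
theorem part_4_2_9_12 : dfsN 6 268435456 210912016 [5, 6, 7, 8, 10, 11] = true := by
  decide +kernel

theorem part_4_2_9 : dfsN 7 16777216 9585424 [5, 6, 7, 8, 10, 11, 12] = true := by
  apply dfsN_step 6 16777216 9585424 [5, 6, 7, 8, 10, 11, 12]
  intro v hv
  simp only [List.mem_cons, List.not_mem_nil, or_false] at hv
  rcases hv with rfl | rfl | rfl | rfl | rfl | rfl | rfl
  exacts [part_4_2_9_5, part_4_2_9_6, part_4_2_9_7, part_4_2_9_8, part_4_2_9_10, part_4_2_9_11, part_4_2_9_12]

set_option maxRecDepth 100000 in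
theorem part_4_2_10_5 : dfsN 6 268435456 94520080 [6, 7, 8, 9, 11, 12] = true := by
  decide +kernel

set_option maxRecDepth 100000 in
theorem part_4_2_10_6 : dfsN 6 268435456 111297296 [5, 7, 8, 9, 11, 12] = true := by
  decide +kernel

set_option maxRecDepth 100000 in
theorem part_4_2_10_7 : dfsN 6 268435456 128074512 [5, 6, 8, 9, 11, 12] = true := by
  decide +kernel

set_option maxRecDepth 100000 in
theorem part_4_2_10_8 : dfsN 6 268435456 144851728 [5, 6, 7, 9, 11, 12] = true := by
  decide +kernel

set_option maxRecDepth 100000 in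
theorem part_4_2_10_9 : dfsN 6 268435456 161628944 [5, 6, 7, 8, 11, 12] = true := by
  decide +kernel

set_option maxRecDepth 100000 in
theorem part_4_2_10_11 : dfsN 6 268435456 195183376 [5, 6, 7, 8, 9, 12] = true := by
  decide +kernel

set_option maxRecDepth 100000 in
theorem part_4_2_10_12 : dfsN 6 268435456 211960592 [5, 6, 7, 8, 9, 11] = true := by
  decide +kernel

theorem part_4_2_10 : dfsN 7 16777216 10634000 [5, 6, 7, 8, 9, 11, 12] = true := by
  apply dfsN_step 6 16777216 10634000 [5, 6, 7, 8, 9, 11, 12]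
  intro v hv
  simp only [List.mem_cons, List.not_mem_nil, or_false] at hv
  rcases hv with rfl | rfl | rfl | rfl | rfl | rfl | rfl
  exacts [part_4_2_10_5, part_4_2_10_6, part_4_2_10_7, part_4_2_10_8, part_4_2_10_9, part_4_2_10_11, part_4_2_10_12]

set_option maxRecDepth 100000 in
theorem part_4_2_11_5 : dfsN 6 268435456 95568656 [6, 7, 8, 9, 10, 12] = true := by
  decide +kernel

set_option maxRecDepth 100000 in
theorem part_4_2_11_6 : dfsN 6 268435456 112345872 [5, 7, 8, 9, 10, 12] = true := by
  decide +kernel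

set_option maxRecDepth 100000 in
theorem part_4_2_11_7 : dfsN 6 268435456 129123088 [5, 6, 8, 9, 10, 12] = true := by
  decide +kernel

set_option maxRecDepth 100000 in
theorem part_4_2_11_8 : dfsN 6 268435456 145900304 [5, 6, 7, 9, 10, 12] = true := by
  decide +kernel

set_option maxRecDepth 100000 in
theorem part_4_2_11_9 : dfsN 6 268435456 162677520 [5, 6, 7, 8, 10, 12] = true := by
  decide +kernel

set_option maxRecDepth 100000 in
theorem part_4_2_11_10 : dfsN 6 268435456 179454736 [5, 6, 7, 8, 9, 12] = true := by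
  decide +kernel

set_option maxRecDepth 100000 in
theorem part_4_2_11_12 : dfsN 6 268435456 213009168 [5, 6, 7, 8, 9, 10] = true := by
  decide +kernel

theorem part_4_2_11 : dfsN 7 16777216 11682576 [5, 6, 7, 8, 9, 10, 12] = true := by
  apply dfsN_step 6 16777216 11682576 [5, 6, 7, 8, 9, 10, 12]
  intro v hv
  simp only [List.mem_cons, List.not_mem_nil, or_false] at hv
  rcases hv with rfl | rfl | rfl | rfl | rfl | rfl | rfl
  exacts [part_4_2_11_5, part_4_2_11_6, part_4_2_11_7, part_4_2_11_8, part_4_2_11_9, part_4_2_11_10, part_4_2_11_12]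

set_option maxRecDepth 100000 in
theorem part_4_2_12_5 : dfsN 6 268435456 96617232 [6, 7, 8, 9, 10, 11] = true := by
  decide +kernel

set_option maxRecDepth 100000 in
theorem part_4_2_12_6 : dfsN 6 268435456 113394448 [5, 7, 8, 9, 10, 11] = true := by
  decide +kernel

set_option maxRecDepth 100000 in
theorem part_4_2_12_7 : dfsN 6 268435456 130171664 [5, 6, 8, 9, 10, 11] = true := by
  decide +kernel

set_option maxRecDepth 100000 in
theorem part_4_2_12_8 : dfsN 6 268435456 146948880 [5, 6, 7, 9, 10, 11] = true := by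
  decide +kernel

set_option maxRecDepth 100000 in
theorem part_4_2_12_9 : dfsN 6 268435456 163726096 [5, 6, 7, 8, 10, 11] = true := by
  decide +kernel

set_option maxRecDepth 100000 in
theorem part_4_2_12_10 : dfsN 6 268435456 180503312 [5, 6, 7, 8, 9, 11] = true := by
  decide +kernel

set_option maxRecDepth 100000 in
theorem part_4_2_12_11 : dfsN 6 268435456 197280528 [5, 6, 7, 8, 9, 10] = true := by
  decide +kernel

theorem part_4_2_12 : dfsN 7 16777216 12731152 [5, 6, 7, 8, 9, 10, 11] = true := by
  apply dfsN_step 6 16777216 12731152 [5, 6, 7, 8, 9, 10, 11]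
  intro v hv
  simp only [List.mem_cons, List.not_mem_nil, or_false] at hv
  rcases hv with rfl | rfl | rfl | rfl | rfl | rfl | rfl
  exacts [part_4_2_12_5, part_4_2_12_6, part_4_2_12_7, part_4_2_12_8, part_4_2_12_9, part_4_2_12_10, part_4_2_12_11]

theorem part_4_2 : dfsN 8 1048576 148240 [5, 6, 7, 8, 9, 10, 11, 12] = true := by
  apply dfsN_step 7 1048576 148240 [5, 6, 7, 8, 9, 10, 11, 12]
  intro v hv
  simp only [List.mem_cons, List.not_mem_nil, or_false] at hv
  rcases hv with rfl | rfl | rfl | rfl | rfl | rfl | rfl | rfl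
  exacts [part_4_2_5, part_4_2_6, part_4_2_7, part_4_2_8, part_4_2_9, part_4_2_10, part_4_2_11, part_4_2_12]

end Cfsg.Agent.Lib.H16.AG
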