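import Cfsg.Agent.Lib.H16.AG.Step

set_option autoImplicit false

/-! Degree 13, images `0, 1, 3, 4, 5` of `0, 1, 2, 3, 4` fixed: every completion that is an
`11`-cycle has a word `(x ^ b * y ^ a) ^ k` which is a `3`-, `5`- or `7`-cycle
(small kernel computations, one per pair of images of `5, 6`). -/

namespace Cfsg.Agent.Lib.H16.AG

set_option maxRecDepth 100000 in
theorem part_4_5_2_6 : dfsN 6 268435456 103105296 [7, 8, 9, 10, 11, 12] = true := by
  decide +kernel

set_option maxRecDepth 100000 in
theorem part_4_5_2_7 : dfsN 6 268435456 119882512 [6, 8, 9, 10, 11, 12] = true := by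
  decide +kernel

set_option maxRecDepth 100000 in
theorem part_4_5_2_8 : dfsN 6 268435456 136659728 [6, 7, 9, 10, 11, 12] = true := by
  decide +kernel

set_option maxRecDepth 100000 in
theorem part_4_5_2_9 : dfsN 6 268435456 153436944 [6, 7, 8, 10, 11, 12] = true := by
  decide +kernel

set_option maxRecDepth 100000 in
theorem part_4_5_2_10 : dfsN 6 268435456 170214160 [6, 7, 8, 9, 11, 12] = true := by
  decide +kernel

set_option maxRecDepth 100000 in
theorem part_4_5_2_11 : dfsN 6 268435456 186991376 [6, 7, 8, 9, 10, 12] = true := by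
  decide +kernel

set_option maxRecDepth 100000 in
theorem part_4_5_2_12 : dfsN 6 268435456 203768592 [6, 7, 8, 9, 10, 11] = true := by
  decide +kernel

theorem part_4_5_2 : dfsN 7 16777216 2442000 [6, 7, 8, 9, 10, 11, 12] = true := by
  apply dfsN_step 6 16777216 2442000 [6, 7, 8, 9, 10, 11, 12]
  intro v hv
  simp only [List.mem_cons, List.not_mem_nil, or_false] at hv
  rcases hv with rfl | rfl | rfl | rfl | rfl | rfl | rfl
  exacts [part_4_5_2_6, part_4_5_2_7, part_4_5_2_8, part_4_5_2_9, part_4_5_2_10, part_4_5_2_11, part_4_5_2_12]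

set_option maxRecDepth 100000 in
theorem part_4_5_6_2 : dfsN 6 268435456 40190736 [7, 8, 9, 10, 11, 12] = true := by
  decide +kernel

set_option maxRecDepth 100000 in
theorem part_4_5_6_7 : dfsN 6 268435456 124076816 [2, 8, 9, 10, 11, 12] = true := by
  decide +kernel

set_option maxRecDepth 100000 in
theorem part_4_5_6_8 : dfsN 6 268435456 140854032 [2, 7, 9, 10, 11, 12] = true := by
  decide +kernel

set_option maxRecDepth 100000 in
theorem part_4_5_6_9 : dfsN 6 268435456 157631248 [2, 7, 8, 10, 11, 12] = true := by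
  decide +kernel

set_option maxRecDepth 100000 in
theorem part_4_5_6_10 : dfsN 6 268435456 174408464 [2, 7, 8, 9, 11, 12] = true := by
  decide +kernel

set_option maxRecDepth 100000 in
theorem part_4_5_6_11 : dfsN 6 268435456 191185680 [2, 7, 8, 9, 10, 12] = true := by
  decide +kernel

set_option maxRecDepth 100000 in
theorem part_4_5_6_12 : dfsN 6 268435456 207962896 [2, 7, 8, 9, 10, 11] = true := by
  decide +kernel

theorem part_4_5_6 : dfsN 7 16777216 6636304 [2, 7, 8, 9, 10, 11, 12] = true := by
  apply dfsN_step 6 16777216 6636304 [2, 7, 8, 9, 10, 11, 12]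
  intro v hv
  simp only [List.mem_cons, List.not_mem_nil, or_false] at hv
  rcases hv with rfl | rfl | rfl | rfl | rfl | rfl | rfl
  exacts [part_4_5_6_2, part_4_5_6_7, part_4_5_6_8, part_4_5_6_9, part_4_5_6_10, part_4_5_6_11, part_4_5_6_12]

set_option maxRecDepth 100000 in
theorem part_4_5_7_2 : dfsN 6 268435456 41239312 [6, 8, 9, 10, 11, 12] = true := by
  decide +kernel

set_option maxRecDepth 100000 in
theorem part_4_5_7_6 : dfsN 6 268435456 108348176 [2, 8, 9, 10, 11, 12] = true := by
  decide +kernel

set_option maxRecDepth 100000 in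
theorem part_4_5_7_8 : dfsN 6 268435456 141902608 [2, 6, 9, 10, 11, 12] = true := by
  decide +kernel

set_option maxRecDepth 100000 in
theorem part_4_5_7_9 : dfsN 6 268435456 158679824 [2, 6, 8, 10, 11, 12] = true := by
  decide +kernel

set_option maxRecDepth 100000 in
theorem part_4_5_7_10 : dfsN 6 268435456 175457040 [2, 6, 8, 9, 11, 12] = true := by
  decide +kernel

set_option maxRecDepth 100000 in
theorem part_4_5_7_11 : dfsN 6 268435456 192234256 [2, 6, 8, 9, 10, 12] = true := by
  decide +kernel

set_option maxRecDepth 100000 in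
theorem part_4_5_7_12 : dfsN 6 268435456 209011472 [2, 6, 8, 9, 10, 11] = true := by
  decide +kernel

theorem part_4_5_7 : dfsN 7 16777216 7684880 [2, 6, 8, 9, 10, 11, 12] = true := by
  apply dfsN_step 6 16777216 7684880 [2, 6, 8, 9, 10, 11, 12]
  intro v hv
  simp only [List.mem_cons, List.not_mem_nil, or_false] at hv
  rcases hv with rfl | rfl | rfl | rfl | rfl | rfl | rfl
  exacts [part_4_5_7_2, part_4_5_7_6, part_4_5_7_8, part_4_5_7_9, part_4_5_7_10, part_4_5_7_11, part_4_5_7_12]

set_option maxRecDepth 100000 in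
theorem part_4_5_8_2 : dfsN 6 268435456 42287888 [6, 7, 9, 10, 11, 12] = true := by
  decide +kernel

set_option maxRecDepth 100000 in
theorem part_4_5_8_6 : dfsN 6 268435456 109396752 [2, 7, 9, 10, 11, 12] = true := by
  decide +kernel

set_option maxRecDepth 100000 in
theorem part_4_5_8_7 : dfsN 6 268435456 126173968 [2, 6, 9, 10, 11, 12] = true := by
  decide +kernel

set_option maxRecDepth 100000 in
theorem part_4_5_8_9 : dfsN 6 268435456 159728400 [2, 6, 7, 10, 11, 12] = true := by
  decide +kernel

set_option maxRecDepth 100000 in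
theorem part_4_5_8_10 : dfsN 6 268435456 176505616 [2, 6, 7, 9, 11, 12] = true := by
  decide +kernel

set_option maxRecDepth 100000 in
theorem part_4_5_8_11 : dfsN 6 268435456 193282832 [2, 6, 7, 9, 10, 12] = true := by
  decide +kernel

set_option maxRecDepth 100000 in
theorem part_4_5_8_12 : dfsN 6 268435456 210060048 [2, 6, 7, 9, 10, 11] = true := by
  decide +kernel

theorem part_4_5_8 : dfsN 7 16777216 8733456 [2, 6, 7, 9, 10, 11, 12] = true := by
  apply dfsN_step 6 16777216 8733456 [2, 6, 7, 9, 10, 11, 12]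
  intro v hv
  simp only [List.mem_cons, List.not_mem_nil, or_false] at hv
  rcases hv with rfl | rfl | rfl | rfl | rfl | rfl | rfl
  exacts [part_4_5_8_2, part_4_5_8_6, part_4_5_8_7, part_4_5_8_9, part_4_5_8_10, part_4_5_8_11, part_4_5_8_12]

set_option maxRecDepth 100000 in
theorem part_4_5_9_2 : dfsN 6 268435456 43336464 [6, 7, 8, 10, 11, 12] = true := by
  decide +kernel

set_option maxRecDepth 100000 in
theorem part_4_5_9_6 : dfsN 6 268435456 110445328 [2, 7, 8, 10, 11, 12] = true := by
  decide +kernel

set_option maxRecDepth 100000 in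
theorem part_4_5_9_7 : dfsN 6 268435456 127222544 [2, 6, 8, 10, 11, 12] = true := by
  decide +kernel

set_option maxRecDepth 100000 in
theorem part_4_5_9_8 : dfsN 6 268435456 143999760 [2, 6, 7, 10, 11, 12] = true := by
  decide +kernel

set_option maxRecDepth 100000 in
theorem part_4_5_9_10 : dfsN 6 268435456 177554192 [2, 6, 7, 8, 11, 12] = true := by
  decide +kernel

set_option maxRecDepth 100000 in
theorem part_4_5_9_11 : dfsN 6 268435456 194331408 [2, 6, 7, 8, 10, 12] = true := by
  decide +kernel

set_option maxRecDepth 100000 in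
theorem part_4_5_9_12 : dfsN 6 268435456 211108624 [2, 6, 7, 8, 10, 11] = true := by
  decide +kernel

theorem part_4_5_9 : dfsN 7 16777216 9782032 [2, 6, 7, 8, 10, 11, 12] = true := by
  apply dfsN_step 6 16777216 9782032 [2, 6, 7, 8, 10, 11, 12]
  intro v hv
  simp only [List.mem_cons, List.not_mem_nil, or_false] at hv
  rcases hv with rfl | rfl | rfl | rfl | rfl | rfl | rfl
  exacts [part_4_5_9_2, part_4_5_9_6, part_4_5_9_7, part_4_5_9_8, part_4_5_9_10, part_4_5_9_11, part_4_5_9_12]

set_option maxRecDepth 100000 in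
theorem part_4_5_10_2 : dfsN 6 268435456 44385040 [6, 7, 8, 9, 11, 12] = true := by
  decide +kernel

set_option maxRecDepth 100000 in
theorem part_4_5_10_6 : dfsN 6 268435456 111493904 [2, 7, 8, 9, 11, 12] = true := by
  decide +kernel

set_option maxRecDepth 100000 in
theorem part_4_5_10_7 : dfsN 6 268435456 128271120 [2, 6, 8, 9, 11, 12] = true := by
  decide +kernel

set_option maxRecDepth 100000 in
theorem part_4_5_10_8 : dfsN 6 268435456 145048336 [2, 6, 7, 9, 11, 12] = true := by
  decide +kernel

set_option maxRecDepth 100000 in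
theorem part_4_5_10_9 : dfsN 6 268435456 161825552 [2, 6, 7, 8, 11, 12] = true := by
  decide +kernel

set_option maxRecDepth 100000 in
theorem part_4_5_10_11 : dfsN 6 268435456 195379984 [2, 6, 7, 8, 9, 12] = true := by
  decide +kernel

set_option maxRecDepth 100000 in
theorem part_4_5_10_12 : dfsN 6 268435456 212157200 [2, 6, 7, 8, 9, 11] = true := by
  decide +kernel

theorem part_4_5_10 : dfsN 7 16777216 10830608 [2, 6, 7, 8, 9, 11, 12] = true := by
  apply dfsN_step 6 16777216 10830608 [2, 6, 7, 8, 9, 11, 12]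
  intro v hv
  simp only [List.mem_cons, List.not_mem_nil, or_false] at hv
  rcases hv with rfl | rfl | rfl | rfl | rfl | rfl | rfl
  exacts [part_4_5_10_2, part_4_5_10_6, part_4_5_10_7, part_4_5_10_8, part_4_5_10_9, part_4_5_10_11, part_4_5_10_12]

set_option maxRecDepth 100000 in
theorem part_4_5_11_2 : dfsN 6 268435456 45433616 [6, 7, 8, 9, 10, 12] = true := by
  decide +kernel

set_option maxRecDepth 100000 in
theorem part_4_5_11_6 : dfsN 6 268435456 112542480 [2, 7, 8, 9, 10, 12] = true := by
  decide +kernel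

set_option maxRecDepth 100000 in
theorem part_4_5_11_7 : dfsN 6 268435456 129319696 [2, 6, 8, 9, 10, 12] = true := by
  decide +kernel

set_option maxRecDepth 100000 in
theorem part_4_5_11_8 : dfsN 6 268435456 146096912 [2, 6, 7, 9, 10, 12] = true := by
  decide +kernel

set_option maxRecDepth 100000 in
theorem part_4_5_11_9 : dfsN 6 268435456 162874128 [2, 6, 7, 8, 10, 12] = true := by
  decide +kernel

set_option maxRecDepth 100000 in
theorem part_4_5_11_10 : dfsN 6 268435456 179651344 [2, 6, 7, 8, 9, 12] = true := by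
  decide +kernel

set_option maxRecDepth 100000 in
theorem part_4_5_11_12 : dfsN 6 268435456 213205776 [2, 6, 7, 8, 9, 10] = true := by
  decide +kernel

theorem part_4_5_11 : dfsN 7 16777216 11879184 [2, 6, 7, 8, 9, 10, 12] = true := by
  apply dfsN_step 6 16777216 11879184 [2, 6, 7, 8, 9, 10, 12]
  intro v hv
  simp only [List.mem_cons, List.not_mem_nil, or_false] at hv
  rcases hv with rfl | rfl | rfl | rfl | rfl | rfl | rfl
  exacts [part_4_5_11_2, part_4_5_11_6, part_4_5_11_7, part_4_5_11_8, part_4_5_11_9, part_4_5_11_10, part_4_5_11_12]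

set_option maxRecDepth 100000 in
theorem part_4_5_12_2 : dfsN 6 268435456 46482192 [6, 7, 8, 9, 10, 11] = true := by
  decide +kernel

set_option maxRecDepth 100000 in
theorem part_4_5_12_6 : dfsN 6 268435456 113591056 [2, 7, 8, 9, 10, 11] = true := by
  decide +kernel

set_option maxRecDepth 100000 in
theorem part_4_5_12_7 : dfsN 6 268435456 130368272 [2, 6, 8, 9, 10, 11] = true := by
  decide +kernel

set_option maxRecDepth 100000 in
theorem part_4_5_12_8 : dfsN 6 268435456 147145488 [2, 6, 7, 9, 10, 11] = true := by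
  decide +kernel

set_option maxRecDepth 100000 in
theorem part_4_5_12_9 : dfsN 6 268435456 163922704 [2, 6, 7, 8, 10, 11] = true := by
  decide +kernel

set_option maxRecDepth 100000 in
theorem part_4_5_12_10 : dfsN 6 268435456 180699920 [2, 6, 7, 8, 9, 11] = true := by
  decide +kernel

set_option maxRecDepth 100000 in
theorem part_4_5_12_11 : dfsN 6 268435456 197477136 [2, 6, 7, 8, 9, 10] = true := by
  decide +kernel

theorem part_4_5_12 : dfsN 7 16777216 12927760 [2, 6, 7, 8, 9, 10, 11] = true := by
  apply dfsN_step 6 16777216 12927760 [2, 6, 7, 8, 9, 10, 11]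
  intro v hv
  simp only [List.mem_cons, List.not_mem_nil, or_false] at hv
  rcases hv with rfl | rfl | rfl | rfl | rfl | rfl | rfl
  exacts [part_4_5_12_2, part_4_5_12_6, part_4_5_12_7, part_4_5_12_8, part_4_5_12_9, part_4_5_12_10, part_4_5_12_11]

theorem part_4_5 : dfsN 8 1048576 344848 [2, 6, 7, 8, 9, 10, 11, 12] = true := by
  apply dfsN_step 7 1048576 344848 [2, 6, 7, 8, 9, 10, 11, 12]
  intro v hv
  simp only [List.mem_cons, List.not_mem_nil, or_false] at hv
  rcases hv with rfl | rfl | rfl | rfl | rfl | rfl | rfl | rfl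
  exacts [part_4_5_2, part_4_5_6, part_4_5_7, part_4_5_8, part_4_5_9, part_4_5_10, part_4_5_11, part_4_5_12]

end Cfsg.Agent.Lib.H16.AG
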