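import Cfsg.Agent.Lib.H16.AG.Step

set_option autoImplicit false

/-! Degree 13, images `0, 1, 3, 4, 6` of `0, 1, 2, 3, 4` fixed: every completion that is an
`11`-cycle has a word `(x ^ b * y ^ a) ^ k` which is a `3`-, `5`- or `7`-cycle
(small kernel computations, one per pair of images of `5, 6`). -/

namespace Cfsg.Agent.Lib.H16.AG

set_option maxRecDepth 100000 in
theorem part_4_6_2_5 : dfsN 6 268435456 86393616 [7, 8, 9, 10, 11, 12] = true := by
  decide +kernel

set_option maxRecDepth 100000 in
theorem part_4_6_2_7 : dfsN 6 268435456 119948048 [5, 8, 9, 10, 11, 12] = true := by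
  decide +kernel

set_option maxRecDepth 100000 in
theorem part_4_6_2_8 : dfsN 6 268435456 136725264 [5, 7, 9, 10, 11, 12] = true := by
  decide +kernel

set_option maxRecDepth 100000 in
theorem part_4_6_2_9 : dfsN 6 268435456 153502480 [5, 7, 8, 10, 11, 12] = true := by
  decide +kernel

set_option maxRecDepth 100000 in
theorem part_4_6_2_10 : dfsN 6 268435456 170279696 [5, 7, 8, 9, 11, 12] = true := by
  decide +kernel

set_option maxRecDepth 100000 in
theorem part_4_6_2_11 : dfsN 6 268435456 187056912 [5, 7, 8, 9, 10, 12] = true := by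
  decide +kernel

set_option maxRecDepth 100000 in
theorem part_4_6_2_12 : dfsN 6 268435456 203834128 [5, 7, 8, 9, 10, 11] = true := by
  decide +kernel

theorem part_4_6_2 : dfsN 7 16777216 2507536 [5, 7, 8, 9, 10, 11, 12] = true := by
  apply dfsN_step 6 16777216 2507536 [5, 7, 8, 9, 10, 11, 12]
  intro v hv
  simp only [List.mem_cons, List.not_mem_nil, or_false] at hv
  rcases hv with rfl | rfl | rfl | rfl | rfl | rfl | rfl
  exacts [part_4_6_2_5, part_4_6_2_7, part_4_6_2_8, part_4_6_2_9, part_4_6_2_10, part_4_6_2_11, part_4_6_2_12]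

set_option maxRecDepth 100000 in
theorem part_4_6_5_2 : dfsN 6 268435456 39207696 [7, 8, 9, 10, 11, 12] = true := by
  decide +kernel

set_option maxRecDepth 100000 in
theorem part_4_6_5_7 : dfsN 6 268435456 123093776 [2, 8, 9, 10, 11, 12] = true := by
  decide +kernel

set_option maxRecDepth 100000 in
theorem part_4_6_5_8 : dfsN 6 268435456 139870992 [2, 7, 9, 10, 11, 12] = true := by
  decide +kernel

set_option maxRecDepth 100000 in
theorem part_4_6_5_9 : dfsN 6 268435456 156648208 [2, 7, 8, 10, 11, 12] = true := by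
  decide +kernel

set_option maxRecDepth 100000 in
theorem part_4_6_5_10 : dfsN 6 268435456 173425424 [2, 7, 8, 9, 11, 12] = true := by
  decide +kernel

set_option maxRecDepth 100000 in
theorem part_4_6_5_11 : dfsN 6 268435456 190202640 [2, 7, 8, 9, 10, 12] = true := by
  decide +kernel

set_option maxRecDepth 100000 in
theorem part_4_6_5_12 : dfsN 6 268435456 206979856 [2, 7, 8, 9, 10, 11] = true := by
  decide +kernel

theorem part_4_6_5 : dfsN 7 16777216 5653264 [2, 7, 8, 9, 10, 11, 12] = true := by
  apply dfsN_step 6 16777216 5653264 [2, 7, 8, 9, 10, 11, 12]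
  intro v hv
  simp only [List.mem_cons, List.not_mem_nil, or_false] at hv
  rcases hv with rfl | rfl | rfl | rfl | rfl | rfl | rfl
  exacts [part_4_6_5_2, part_4_6_5_7, part_4_6_5_8, part_4_6_5_9, part_4_6_5_10, part_4_6_5_11, part_4_6_5_12]

set_option maxRecDepth 100000 in
theorem part_4_6_7_2 : dfsN 6 268435456 41304848 [5, 8, 9, 10, 11, 12] = true := by
  decide +kernel

set_option maxRecDepth 100000 in
theorem part_4_6_7_5 : dfsN 6 268435456 91636496 [2, 8, 9, 10, 11, 12] = true := by
  decide +kernel

set_option maxRecDepth 100000 in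
theorem part_4_6_7_8 : dfsN 6 268435456 141968144 [2, 5, 9, 10, 11, 12] = true := by
  decide +kernel

set_option maxRecDepth 100000 in
theorem part_4_6_7_9 : dfsN 6 268435456 158745360 [2, 5, 8, 10, 11, 12] = true := by
  decide +kernel

set_option maxRecDepth 100000 in
theorem part_4_6_7_10 : dfsN 6 268435456 175522576 [2, 5, 8, 9, 11, 12] = true := by
  decide +kernel

set_option maxRecDepth 100000 in
theorem part_4_6_7_11 : dfsN 6 268435456 192299792 [2, 5, 8, 9, 10, 12] = true := by
  decide +kernel

set_option maxRecDepth 100000 in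
theorem part_4_6_7_12 : dfsN 6 268435456 209077008 [2, 5, 8, 9, 10, 11] = true := by
  decide +kernel

theorem part_4_6_7 : dfsN 7 16777216 7750416 [2, 5, 8, 9, 10, 11, 12] = true := by
  apply dfsN_step 6 16777216 7750416 [2, 5, 8, 9, 10, 11, 12]
  intro v hv
  simp only [List.mem_cons, List.not_mem_nil, or_false] at hv
  rcases hv with rfl | rfl | rfl | rfl | rfl | rfl | rfl
  exacts [part_4_6_7_2, part_4_6_7_5, part_4_6_7_8, part_4_6_7_9, part_4_6_7_10, part_4_6_7_11, part_4_6_7_12]

set_option maxRecDepth 100000 in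
theorem part_4_6_8_2 : dfsN 6 268435456 42353424 [5, 7, 9, 10, 11, 12] = true := by
  decide +kernel

set_option maxRecDepth 100000 in
theorem part_4_6_8_5 : dfsN 6 268435456 92685072 [2, 7, 9, 10, 11, 12] = true := by
  decide +kernel

set_option maxRecDepth 100000 in
theorem part_4_6_8_7 : dfsN 6 268435456 126239504 [2, 5, 9, 10, 11, 12] = true := by
  decide +kernel

set_option maxRecDepth 100000 in
theorem part_4_6_8_9 : dfsN 6 268435456 159793936 [2, 5, 7, 10, 11, 12] = true := by
  decide +kernel

set_option maxRecDepth 100000 in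
theorem part_4_6_8_10 : dfsN 6 268435456 176571152 [2, 5, 7, 9, 11, 12] = true := by
  decide +kernel

set_option maxRecDepth 100000 in
theorem part_4_6_8_11 : dfsN 6 268435456 193348368 [2, 5, 7, 9, 10, 12] = true := by
  decide +kernel

set_option maxRecDepth 100000 in
theorem part_4_6_8_12 : dfsN 6 268435456 210125584 [2, 5, 7, 9, 10, 11] = true := by
  decide +kernel

theorem part_4_6_8 : dfsN 7 16777216 8798992 [2, 5, 7, 9, 10, 11, 12] = true := by
  apply dfsN_step 6 16777216 8798992 [2, 5, 7, 9, 10, 11, 12]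
  intro v hv
  simp only [List.mem_cons, List.not_mem_nil, or_false] at hv
  rcases hv with rfl | rfl | rfl | rfl | rfl | rfl | rfl
  exacts [part_4_6_8_2, part_4_6_8_5, part_4_6_8_7, part_4_6_8_9, part_4_6_8_10, part_4_6_8_11, part_4_6_8_12]

set_option maxRecDepth 100000 in
theorem part_4_6_9_2 : dfsN 6 268435456 43402000 [5, 7, 8, 10, 11, 12] = true := by
  decide +kernel

set_option maxRecDepth 100000 in
theorem part_4_6_9_5 : dfsN 6 268435456 93733648 [2, 7, 8, 10, 11, 12] = true := by
  decide +kernel

set_option maxRecDepth 100000 in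
theorem part_4_6_9_7 : dfsN 6 268435456 127288080 [2, 5, 8, 10, 11, 12] = true := by
  decide +kernel

set_option maxRecDepth 100000 in
theorem part_4_6_9_8 : dfsN 6 268435456 144065296 [2, 5, 7, 10, 11, 12] = true := by
  decide +kernel

set_option maxRecDepth 100000 in
theorem part_4_6_9_10 : dfsN 6 268435456 177619728 [2, 5, 7, 8, 11, 12] = true := by
  decide +kernel

set_option maxRecDepth 100000 in
theorem part_4_6_9_11 : dfsN 6 268435456 194396944 [2, 5, 7, 8, 10, 12] = true := by
  decide +kernel

set_option maxRecDepth 100000 in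
theorem part_4_6_9_12 : dfsN 6 268435456 211174160 [2, 5, 7, 8, 10, 11] = true := by
  decide +kernel

theorem part_4_6_9 : dfsN 7 16777216 9847568 [2, 5, 7, 8, 10, 11, 12] = true := by
  apply dfsN_step 6 16777216 9847568 [2, 5, 7, 8, 10, 11, 12]
  intro v hv
  simp only [List.mem_cons, List.not_mem_nil, or_false] at hv
  rcases hv with rfl | rfl | rfl | rfl | rfl | rfl | rfl
  exacts [part_4_6_9_2, part_4_6_9_5, part_4_6_9_7, part_4_6_9_8, part_4_6_9_10, part_4_6_9_11, part_4_6_9_12]

set_option maxRecDepth 100000 in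
theorem part_4_6_10_2 : dfsN 6 268435456 44450576 [5, 7, 8, 9, 11, 12] = true := by
  decide +kernel

set_option maxRecDepth 100000 in
theorem part_4_6_10_5 : dfsN 6 268435456 94782224 [2, 7, 8, 9, 11, 12] = true := by
  decide +kernel

set_option maxRecDepth 100000 in
theorem part_4_6_10_7 : dfsN 6 268435456 128336656 [2, 5, 8, 9, 11, 12] = true := by
  decide +kernel

set_option maxRecDepth 100000 in
theorem part_4_6_10_8 : dfsN 6 268435456 145113872 [2, 5, 7, 9, 11, 12] = true := by
  decide +kernel

set_option maxRecDepth 100000 in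
theorem part_4_6_10_9 : dfsN 6 268435456 161891088 [2, 5, 7, 8, 11, 12] = true := by
  decide +kernel

set_option maxRecDepth 100000 in
theorem part_4_6_10_11 : dfsN 6 268435456 195445520 [2, 5, 7, 8, 9, 12] = true := by
  decide +kernel

set_option maxRecDepth 100000 in
theorem part_4_6_10_12 : dfsN 6 268435456 212222736 [2, 5, 7, 8, 9, 11] = true := by
  decide +kernel

theorem part_4_6_10 : dfsN 7 16777216 10896144 [2, 5, 7, 8, 9, 11, 12] = true := by
  apply dfsN_step 6 16777216 10896144 [2, 5, 7, 8, 9, 11, 12]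
  intro v hv
  simp only [List.mem_cons, List.not_mem_nil, or_false] at hv
  rcases hv with rfl | rfl | rfl | rfl | rfl | rfl | rfl
  exacts [part_4_6_10_2, part_4_6_10_5, part_4_6_10_7, part_4_6_10_8, part_4_6_10_9, part_4_6_10_11, part_4_6_10_12]

set_option maxRecDepth 100000 in
theorem part_4_6_11_2 : dfsN 6 268435456 45499152 [5, 7, 8, 9, 10, 12] = true := by
  decide +kernel

set_option maxRecDepth 100000 in
theorem part_4_6_11_5 : dfsN 6 268435456 95830800 [2, 7, 8, 9, 10, 12] = true := by
  decide +kernel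

set_option maxRecDepth 100000 in
theorem part_4_6_11_7 : dfsN 6 268435456 129385232 [2, 5, 8, 9, 10, 12] = true := by
  decide +kernel

set_option maxRecDepth 100000 in
theorem part_4_6_11_8 : dfsN 6 268435456 146162448 [2, 5, 7, 9, 10, 12] = true := by
  decide +kernel

set_option maxRecDepth 100000 in
theorem part_4_6_11_9 : dfsN 6 268435456 162939664 [2, 5, 7, 8, 10, 12] = true := by
  decide +kernel

set_option maxRecDepth 100000 in
theorem part_4_6_11_10 : dfsN 6 268435456 179716880 [2, 5, 7, 8, 9, 12] = true := by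
  decide +kernel

set_option maxRecDepth 100000 in
theorem part_4_6_11_12 : dfsN 6 268435456 213271312 [2, 5, 7, 8, 9, 10] = true := by
  decide +kernel

theorem part_4_6_11 : dfsN 7 16777216 11944720 [2, 5, 7, 8, 9, 10, 12] = true := by
  apply dfsN_step 6 16777216 11944720 [2, 5, 7, 8, 9, 10, 12]
  intro v hv
  simp only [List.mem_cons, List.not_mem_nil, or_false] at hv
  rcases hv with rfl | rfl | rfl | rfl | rfl | rfl | rfl
  exacts [part_4_6_11_2, part_4_6_11_5, part_4_6_11_7, part_4_6_11_8, part_4_6_11_9, part_4_6_11_10, part_4_6_11_12]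

set_option maxRecDepth 100000 in
theorem part_4_6_12_2 : dfsN 6 268435456 46547728 [5, 7, 8, 9, 10, 11] = true := by
  decide +kernel

set_option maxRecDepth 100000 in
theorem part_4_6_12_5 : dfsN 6 268435456 96879376 [2, 7, 8, 9, 10, 11] = true := by
  decide +kernel

set_option maxRecDepth 100000 in
theorem part_4_6_12_7 : dfsN 6 268435456 130433808 [2, 5, 8, 9, 10, 11] = true := by
  decide +kernel

set_option maxRecDepth 100000 in
theorem part_4_6_12_8 : dfsN 6 268435456 147211024 [2, 5, 7, 9, 10, 11] = true := by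
  decide +kernel

set_option maxRecDepth 100000 in
theorem part_4_6_12_9 : dfsN 6 268435456 163988240 [2, 5, 7, 8, 10, 11] = true := by
  decide +kernel

set_option maxRecDepth 100000 in
theorem part_4_6_12_10 : dfsN 6 268435456 180765456 [2, 5, 7, 8, 9, 11] = true := by
  decide +kernel

set_option maxRecDepth 100000 in
theorem part_4_6_12_11 : dfsN 6 268435456 197542672 [2, 5, 7, 8, 9, 10] = true := by
  decide +kernel

theorem part_4_6_12 : dfsN 7 16777216 12993296 [2, 5, 7, 8, 9, 10, 11] = true := by
  apply dfsN_step 6 16777216 12993296 [2, 5, 7, 8, 9, 10, 11]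
  intro v hv
  simp only [List.mem_cons, List.not_mem_nil, or_false] at hv
  rcases hv with rfl | rfl | rfl | rfl | rfl | rfl | rfl
  exacts [part_4_6_12_2, part_4_6_12_5, part_4_6_12_7, part_4_6_12_8, part_4_6_12_9, part_4_6_12_10, part_4_6_12_11]

theorem part_4_6 : dfsN 8 1048576 410384 [2, 5, 7, 8, 9, 10, 11, 12] = true := by
  apply dfsN_step 7 1048576 410384 [2, 5, 7, 8, 9, 10, 11, 12]
  intro v hv
  simp only [List.mem_cons, List.not_mem_nil, or_false] at hv
  rcases hv with rfl | rfl | rfl | rfl | rfl | rfl | rfl | rfl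
  exacts [part_4_6_2, part_4_6_5, part_4_6_7, part_4_6_8, part_4_6_9, part_4_6_10, part_4_6_11, part_4_6_12]

end Cfsg.Agent.Lib.H16.AG
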