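import Cfsg.Agent.Lib.H16.AG.Step

set_option autoImplicit false

/-! Degree 13, images `0, 1, 3, 4, 8` of `0, 1, 2, 3, 4` fixed: every completion that is an
`11`-cycle has a word `(x ^ b * y ^ a) ^ k` which is a `3`-, `5`- or `7`-cycle
(small kernel computations, one per pair of images of `5, 6`). -/

namespace Cfsg.Agent.Lib.H16.AG

set_option maxRecDepth 100000 in
theorem part_4_8_2_5 : dfsN 6 268435456 86524688 [6, 7, 9, 10, 11, 12] = true := by
  decide +kernel

set_option maxRecDepth 100000 in
theorem part_4_8_2_6 : dfsN 6 268435456 103301904 [5, 7, 9, 10, 11, 12] = true := by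
  decide +kernel

set_option maxRecDepth 100000 in
theorem part_4_8_2_7 : dfsN 6 268435456 120079120 [5, 6, 9, 10, 11, 12] = true := by
  decide +kernel

set_option maxRecDepth 100000 in
theorem part_4_8_2_9 : dfsN 6 268435456 153633552 [5, 6, 7, 10, 11, 12] = true := by
  decide +kernel

set_option maxRecDepth 100000 in
theorem part_4_8_2_10 : dfsN 6 268435456 170410768 [5, 6, 7, 9, 11, 12] = true := by
  decide +kernel

set_option maxRecDepth 100000 in
theorem part_4_8_2_11 : dfsN 6 268435456 187187984 [5, 6, 7, 9, 10, 12] = true := by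
  decide +kernel

set_option maxRecDepth 100000 in
theorem part_4_8_2_12 : dfsN 6 268435456 203965200 [5, 6, 7, 9, 10, 11] = true := by
  decide +kernel

theorem part_4_8_2 : dfsN 7 16777216 2638608 [5, 6, 7, 9, 10, 11, 12] = true := by
  apply dfsN_step 6 16777216 2638608 [5, 6, 7, 9, 10, 11, 12]
  intro v hv
  simp only [List.mem_cons, List.not_mem_nil, or_false] at hv
  rcases hv with rfl | rfl | rfl | rfl | rfl | rfl | rfl
  exacts [part_4_8_2_5, part_4_8_2_6, part_4_8_2_7, part_4_8_2_9, part_4_8_2_10, part_4_8_2_11, part_4_8_2_12]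

set_option maxRecDepth 100000 in
theorem part_4_8_5_2 : dfsN 6 268435456 39338768 [6, 7, 9, 10, 11, 12] = true := by
  decide +kernel

set_option maxRecDepth 100000 in
theorem part_4_8_5_6 : dfsN 6 268435456 106447632 [2, 7, 9, 10, 11, 12] = true := by
  decide +kernel

set_option maxRecDepth 100000 in
theorem part_4_8_5_7 : dfsN 6 268435456 123224848 [2, 6, 9, 10, 11, 12] = true := by
  decide +kernel

set_option maxRecDepth 100000 in
theorem part_4_8_5_9 : dfsN 6 268435456 156779280 [2, 6, 7, 10, 11, 12] = true := by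
  decide +kernel

set_option maxRecDepth 100000 in
theorem part_4_8_5_10 : dfsN 6 268435456 173556496 [2, 6, 7, 9, 11, 12] = true := by
  decide +kernel

set_option maxRecDepth 100000 in
theorem part_4_8_5_11 : dfsN 6 268435456 190333712 [2, 6, 7, 9, 10, 12] = true := by
  decide +kernel

set_option maxRecDepth 100000 in
theorem part_4_8_5_12 : dfsN 6 268435456 207110928 [2, 6, 7, 9, 10, 11] = true := by
  decide +kernel

theorem part_4_8_5 : dfsN 7 16777216 5784336 [2, 6, 7, 9, 10, 11, 12] = true := by
  apply dfsN_step 6 16777216 5784336 [2, 6, 7, 9, 10, 11, 12]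
  intro v hv
  simp only [List.mem_cons, List.not_mem_nil, or_false] at hv
  rcases hv with rfl | rfl | rfl | rfl | rfl | rfl | rfl
  exacts [part_4_8_5_2, part_4_8_5_6, part_4_8_5_7, part_4_8_5_9, part_4_8_5_10, part_4_8_5_11, part_4_8_5_12]

set_option maxRecDepth 100000 in
theorem part_4_8_6_2 : dfsN 6 268435456 40387344 [5, 7, 9, 10, 11, 12] = true := by
  decide +kernel

set_option maxRecDepth 100000 in
theorem part_4_8_6_5 : dfsN 6 268435456 90718992 [2, 7, 9, 10, 11, 12] = true := by
  decide +kernel

set_option maxRecDepth 100000 in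
theorem part_4_8_6_7 : dfsN 6 268435456 124273424 [2, 5, 9, 10, 11, 12] = true := by
  decide +kernel

set_option maxRecDepth 100000 in
theorem part_4_8_6_9 : dfsN 6 268435456 157827856 [2, 5, 7, 10, 11, 12] = true := by
  decide +kernel

set_option maxRecDepth 100000 in
theorem part_4_8_6_10 : dfsN 6 268435456 174605072 [2, 5, 7, 9, 11, 12] = true := by
  decide +kernel

set_option maxRecDepth 100000 in
theorem part_4_8_6_11 : dfsN 6 268435456 191382288 [2, 5, 7, 9, 10, 12] = true := by
  decide +kernel

set_option maxRecDepth 100000 in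
theorem part_4_8_6_12 : dfsN 6 268435456 208159504 [2, 5, 7, 9, 10, 11] = true := by
  decide +kernel

theorem part_4_8_6 : dfsN 7 16777216 6832912 [2, 5, 7, 9, 10, 11, 12] = true := by
  apply dfsN_step 6 16777216 6832912 [2, 5, 7, 9, 10, 11, 12]
  intro v hv
  simp only [List.mem_cons, List.not_mem_nil, or_false] at hv
  rcases hv with rfl | rfl | rfl | rfl | rfl | rfl | rfl
  exacts [part_4_8_6_2, part_4_8_6_5, part_4_8_6_7, part_4_8_6_9, part_4_8_6_10, part_4_8_6_11, part_4_8_6_12]

set_option maxRecDepth 100000 in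
theorem part_4_8_7_2 : dfsN 6 268435456 41435920 [5, 6, 9, 10, 11, 12] = true := by
  decide +kernel

set_option maxRecDepth 100000 in
theorem part_4_8_7_5 : dfsN 6 268435456 91767568 [2, 6, 9, 10, 11, 12] = true := by
  decide +kernel

set_option maxRecDepth 100000 in
theorem part_4_8_7_6 : dfsN 6 268435456 108544784 [2, 5, 9, 10, 11, 12] = true := by
  decide +kernel

set_option maxRecDepth 100000 in
theorem part_4_8_7_9 : dfsN 6 268435456 158876432 [2, 5, 6, 10, 11, 12] = true := by
  decide +kernel

set_option maxRecDepth 100000 in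
theorem part_4_8_7_10 : dfsN 6 268435456 175653648 [2, 5, 6, 9, 11, 12] = true := by
  decide +kernel

set_option maxRecDepth 100000 in
theorem part_4_8_7_11 : dfsN 6 268435456 192430864 [2, 5, 6, 9, 10, 12] = true := by
  decide +kernel

set_option maxRecDepth 100000 in
theorem part_4_8_7_12 : dfsN 6 268435456 209208080 [2, 5, 6, 9, 10, 11] = true := by
  decide +kernel

theorem part_4_8_7 : dfsN 7 16777216 7881488 [2, 5, 6, 9, 10, 11, 12] = true := by
  apply dfsN_step 6 16777216 7881488 [2, 5, 6, 9, 10, 11, 12]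
  intro v hv
  simp only [List.mem_cons, List.not_mem_nil, or_false] at hv
  rcases hv with rfl | rfl | rfl | rfl | rfl | rfl | rfl
  exacts [part_4_8_7_2, part_4_8_7_5, part_4_8_7_6, part_4_8_7_9, part_4_8_7_10, part_4_8_7_11, part_4_8_7_12]

set_option maxRecDepth 100000 in
theorem part_4_8_9_2 : dfsN 6 268435456 43533072 [5, 6, 7, 10, 11, 12] = true := by
  decide +kernel

set_option maxRecDepth 100000 in
theorem part_4_8_9_5 : dfsN 6 268435456 93864720 [2, 6, 7, 10, 11, 12] = true := by
  decide +kernel

set_option maxRecDepth 100000 in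
theorem part_4_8_9_6 : dfsN 6 268435456 110641936 [2, 5, 7, 10, 11, 12] = true := by
  decide +kernel

set_option maxRecDepth 100000 in
theorem part_4_8_9_7 : dfsN 6 268435456 127419152 [2, 5, 6, 10, 11, 12] = true := by
  decide +kernel

set_option maxRecDepth 100000 in
theorem part_4_8_9_10 : dfsN 6 268435456 177750800 [2, 5, 6, 7, 11, 12] = true := by
  decide +kernel

set_option maxRecDepth 100000 in
theorem part_4_8_9_11 : dfsN 6 268435456 194528016 [2, 5, 6, 7, 10, 12] = true := by
  decide +kernel

set_option maxRecDepth 100000 in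
theorem part_4_8_9_12 : dfsN 6 268435456 211305232 [2, 5, 6, 7, 10, 11] = true := by
  decide +kernel

theorem part_4_8_9 : dfsN 7 16777216 9978640 [2, 5, 6, 7, 10, 11, 12] = true := by
  apply dfsN_step 6 16777216 9978640 [2, 5, 6, 7, 10, 11, 12]
  intro v hv
  simp only [List.mem_cons, List.not_mem_nil, or_false] at hv
  rcases hv with rfl | rfl | rfl | rfl | rfl | rfl | rfl
  exacts [part_4_8_9_2, part_4_8_9_5, part_4_8_9_6, part_4_8_9_7, part_4_8_9_10, part_4_8_9_11, part_4_8_9_12]

set_option maxRecDepth 100000 in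
theorem part_4_8_10_2 : dfsN 6 268435456 44581648 [5, 6, 7, 9, 11, 12] = true := by
  decide +kernel

set_option maxRecDepth 100000 in
theorem part_4_8_10_5 : dfsN 6 268435456 94913296 [2, 6, 7, 9, 11, 12] = true := by
  decide +kernel

set_option maxRecDepth 100000 in
theorem part_4_8_10_6 : dfsN 6 268435456 111690512 [2, 5, 7, 9, 11, 12] = true := by
  decide +kernel

set_option maxRecDepth 100000 in
theorem part_4_8_10_7 : dfsN 6 268435456 128467728 [2, 5, 6, 9, 11, 12] = true := by
  decide +kernel

set_option maxRecDepth 100000 in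
theorem part_4_8_10_9 : dfsN 6 268435456 162022160 [2, 5, 6, 7, 11, 12] = true := by
  decide +kernel

set_option maxRecDepth 100000 in
theorem part_4_8_10_11 : dfsN 6 268435456 195576592 [2, 5, 6, 7, 9, 12] = true := by
  decide +kernel

set_option maxRecDepth 100000 in
theorem part_4_8_10_12 : dfsN 6 268435456 212353808 [2, 5, 6, 7, 9, 11] = true := by
  decide +kernel

theorem part_4_8_10 : dfsN 7 16777216 11027216 [2, 5, 6, 7, 9, 11, 12] = true := by
  apply dfsN_step 6 16777216 11027216 [2, 5, 6, 7, 9, 11, 12]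
  intro v hv
  simp only [List.mem_cons, List.not_mem_nil, or_false] at hv
  rcases hv with rfl | rfl | rfl | rfl | rfl | rfl | rfl
  exacts [part_4_8_10_2, part_4_8_10_5, part_4_8_10_6, part_4_8_10_7, part_4_8_10_9, part_4_8_10_11, part_4_8_10_12]

set_option maxRecDepth 100000 in
theorem part_4_8_11_2 : dfsN 6 268435456 45630224 [5, 6, 7, 9, 10, 12] = true := by
  decide +kernel

set_option maxRecDepth 100000 in
theorem part_4_8_11_5 : dfsN 6 268435456 95961872 [2, 6, 7, 9, 10, 12] = true := by
  decide +kernel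

set_option maxRecDepth 100000 in
theorem part_4_8_11_6 : dfsN 6 268435456 112739088 [2, 5, 7, 9, 10, 12] = true := by
  decide +kernel

set_option maxRecDepth 100000 in
theorem part_4_8_11_7 : dfsN 6 268435456 129516304 [2, 5, 6, 9, 10, 12] = true := by
  decide +kernel

set_option maxRecDepth 100000 in
theorem part_4_8_11_9 : dfsN 6 268435456 163070736 [2, 5, 6, 7, 10, 12] = true := by
  decide +kernel

set_option maxRecDepth 100000 in
theorem part_4_8_11_10 : dfsN 6 268435456 179847952 [2, 5, 6, 7, 9, 12] = true := by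
  decide +kernel

set_option maxRecDepth 100000 in
theorem part_4_8_11_12 : dfsN 6 268435456 213402384 [2, 5, 6, 7, 9, 10] = true := by
  decide +kernel

theorem part_4_8_11 : dfsN 7 16777216 12075792 [2, 5, 6, 7, 9, 10, 12] = true := by
  apply dfsN_step 6 16777216 12075792 [2, 5, 6, 7, 9, 10, 12]
  intro v hv
  simp only [List.mem_cons, List.not_mem_nil, or_false] at hv
  rcases hv with rfl | rfl | rfl | rfl | rfl | rfl | rfl
  exacts [part_4_8_11_2, part_4_8_11_5, part_4_8_11_6, part_4_8_11_7, part_4_8_11_9, part_4_8_11_10, part_4_8_11_12]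

set_option maxRecDepth 100000 in
theorem part_4_8_12_2 : dfsN 6 268435456 46678800 [5, 6, 7, 9, 10, 11] = true := by
  decide +kernel

set_option maxRecDepth 100000 in
theorem part_4_8_12_5 : dfsN 6 268435456 97010448 [2, 6, 7, 9, 10, 11] = true := by
  decide +kernel

set_option maxRecDepth 100000 in
theorem part_4_8_12_6 : dfsN 6 268435456 113787664 [2, 5, 7, 9, 10, 11] = true := by
  decide +kernel

set_option maxRecDepth 100000 in
theorem part_4_8_12_7 : dfsN 6 268435456 130564880 [2, 5, 6, 9, 10, 11] = true := by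
  decide +kernel

set_option maxRecDepth 100000 in
theorem part_4_8_12_9 : dfsN 6 268435456 164119312 [2, 5, 6, 7, 10, 11] = true := by
  decide +kernel

set_option maxRecDepth 100000 in
theorem part_4_8_12_10 : dfsN 6 268435456 180896528 [2, 5, 6, 7, 9, 11] = true := by
  decide +kernel

set_option maxRecDepth 100000 in
theorem part_4_8_12_11 : dfsN 6 268435456 197673744 [2, 5, 6, 7, 9, 10] = true := by
  decide +kernel

theorem part_4_8_12 : dfsN 7 16777216 13124368 [2, 5, 6, 7, 9, 10, 11] = true := by
  apply dfsN_step 6 16777216 13124368 [2, 5, 6, 7, 9, 10, 11]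
  intro v hv
  simp only [List.mem_cons, List.not_mem_nil, or_false] at hv
  rcases hv with rfl | rfl | rfl | rfl | rfl | rfl | rfl
  exacts [part_4_8_12_2, part_4_8_12_5, part_4_8_12_6, part_4_8_12_7, part_4_8_12_9, part_4_8_12_10, part_4_8_12_11]

theorem part_4_8 : dfsN 8 1048576 541456 [2, 5, 6, 7, 9, 10, 11, 12] = true := by
  apply dfsN_step 7 1048576 541456 [2, 5, 6, 7, 9, 10, 11, 12]
  intro v hv
  simp only [List.mem_cons, List.not_mem_nil, or_false] at hv
  rcases hv with rfl | rfl | rfl | rfl | rfl | rfl | rfl | rfl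
  exacts [part_4_8_2, part_4_8_5, part_4_8_6, part_4_8_7, part_4_8_9, part_4_8_10, part_4_8_11, part_4_8_12]

end Cfsg.Agent.Lib.H16.AG
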