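import Cfsg.Agent.Lib.H16.AG.Step

set_option autoImplicit false

/-! Degree 13, images `0, 1, 3, 4, 9` of `0, 1, 2, 3, 4` fixed: every completion that is an
`11`-cycle has a word `(x ^ b * y ^ a) ^ k` which is a `3`-, `5`- or `7`-cycle
(small kernel computations, one per pair of images of `5, 6`). -/

namespace Cfsg.Agent.Lib.H16.AG

set_option maxRecDepth 100000 in
theorem part_4_9_2_5 : dfsN 6 268435456 86590224 [6, 7, 8, 10, 11, 12] = true := by
  decide +kernel

set_option maxRecDepth 100000 in
theorem part_4_9_2_6 : dfsN 6 268435456 103367440 [5, 7, 8, 10, 11, 12] = true := by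
  decide +kernel

set_option maxRecDepth 100000 in
theorem part_4_9_2_7 : dfsN 6 268435456 120144656 [5, 6, 8, 10, 11, 12] = true := by
  decide +kernel

set_option maxRecDepth 100000 in
theorem part_4_9_2_8 : dfsN 6 268435456 136921872 [5, 6, 7, 10, 11, 12] = true := by
  decide +kernel

set_option maxRecDepth 100000 in
theorem part_4_9_2_10 : dfsN 6 268435456 170476304 [5, 6, 7, 8, 11, 12] = true := by
  decide +kernel

set_option maxRecDepth 100000 in
theorem part_4_9_2_11 : dfsN 6 268435456 187253520 [5, 6, 7, 8, 10, 12] = true := by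
  decide +kernel

set_option maxRecDepth 100000 in
theorem part_4_9_2_12 : dfsN 6 268435456 204030736 [5, 6, 7, 8, 10, 11] = true := by
  decide +kernel

theorem part_4_9_2 : dfsN 7 16777216 2704144 [5, 6, 7, 8, 10, 11, 12] = true := by
  apply dfsN_step 6 16777216 2704144 [5, 6, 7, 8, 10, 11, 12]
  intro v hv
  simp only [List.mem_cons, List.not_mem_nil, or_false] at hv
  rcases hv with rfl | rfl | rfl | rfl | rfl | rfl | rfl
  exacts [part_4_9_2_5, part_4_9_2_6, part_4_9_2_7, part_4_9_2_8, part_4_9_2_10, part_4_9_2_11, part_4_9_2_12]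

set_option maxRecDepth 100000 in
theorem part_4_9_5_2 : dfsN 6 268435456 39404304 [6, 7, 8, 10, 11, 12] = true := by
  decide +kernel

set_option maxRecDepth 100000 in
theorem part_4_9_5_6 : dfsN 6 268435456 106513168 [2, 7, 8, 10, 11, 12] = true := by
  decide +kernel

set_option maxRecDepth 100000 in
theorem part_4_9_5_7 : dfsN 6 268435456 123290384 [2, 6, 8, 10, 11, 12] = true := by
  decide +kernel

set_option maxRecDepth 100000 in
theorem part_4_9_5_8 : dfsN 6 268435456 140067600 [2, 6, 7, 10, 11, 12] = true := by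
  decide +kernel

set_option maxRecDepth 100000 in
theorem part_4_9_5_10 : dfsN 6 268435456 173622032 [2, 6, 7, 8, 11, 12] = true := by
  decide +kernel

set_option maxRecDepth 100000 in
theorem part_4_9_5_11 : dfsN 6 268435456 190399248 [2, 6, 7, 8, 10, 12] = true := by
  decide +kernel

set_option maxRecDepth 100000 in
theorem part_4_9_5_12 : dfsN 6 268435456 207176464 [2, 6, 7, 8, 10, 11] = true := by
  decide +kernel

theorem part_4_9_5 : dfsN 7 16777216 5849872 [2, 6, 7, 8, 10, 11, 12] = true := by
  apply dfsN_step 6 16777216 5849872 [2, 6, 7, 8, 10, 11, 12]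
  intro v hv
  simp only [List.mem_cons, List.not_mem_nil, or_false] at hv
  rcases hv with rfl | rfl | rfl | rfl | rfl | rfl | rfl
  exacts [part_4_9_5_2, part_4_9_5_6, part_4_9_5_7, part_4_9_5_8, part_4_9_5_10, part_4_9_5_11, part_4_9_5_12]

set_option maxRecDepth 100000 in
theorem part_4_9_6_2 : dfsN 6 268435456 40452880 [5, 7, 8, 10, 11, 12] = true := by
  decide +kernel

set_option maxRecDepth 100000 in
theorem part_4_9_6_5 : dfsN 6 268435456 90784528 [2, 7, 8, 10, 11, 12] = true := by
  decide +kernel

set_option maxRecDepth 100000 in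
theorem part_4_9_6_7 : dfsN 6 268435456 124338960 [2, 5, 8, 10, 11, 12] = true := by
  decide +kernel

set_option maxRecDepth 100000 in
theorem part_4_9_6_8 : dfsN 6 268435456 141116176 [2, 5, 7, 10, 11, 12] = true := by
  decide +kernel

set_option maxRecDepth 100000 in
theorem part_4_9_6_10 : dfsN 6 268435456 174670608 [2, 5, 7, 8, 11, 12] = true := by
  decide +kernel

set_option maxRecDepth 100000 in
theorem part_4_9_6_11 : dfsN 6 268435456 191447824 [2, 5, 7, 8, 10, 12] = true := by
  decide +kernel

set_option maxRecDepth 100000 in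
theorem part_4_9_6_12 : dfsN 6 268435456 208225040 [2, 5, 7, 8, 10, 11] = true := by
  decide +kernel

theorem part_4_9_6 : dfsN 7 16777216 6898448 [2, 5, 7, 8, 10, 11, 12] = true := by
  apply dfsN_step 6 16777216 6898448 [2, 5, 7, 8, 10, 11, 12]
  intro v hv
  simp only [List.mem_cons, List.not_mem_nil, or_false] at hv
  rcases hv with rfl | rfl | rfl | rfl | rfl | rfl | rfl
  exacts [part_4_9_6_2, part_4_9_6_5, part_4_9_6_7, part_4_9_6_8, part_4_9_6_10, part_4_9_6_11, part_4_9_6_12]

set_option maxRecDepth 100000 in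
theorem part_4_9_7_2 : dfsN 6 268435456 41501456 [5, 6, 8, 10, 11, 12] = true := by
  decide +kernel

set_option maxRecDepth 100000 in
theorem part_4_9_7_5 : dfsN 6 268435456 91833104 [2, 6, 8, 10, 11, 12] = true := by
  decide +kernel

set_option maxRecDepth 100000 in
theorem part_4_9_7_6 : dfsN 6 268435456 108610320 [2, 5, 8, 10, 11, 12] = true := by
  decide +kernel

set_option maxRecDepth 100000 in
theorem part_4_9_7_8 : dfsN 6 268435456 142164752 [2, 5, 6, 10, 11, 12] = true := by
  decide +kernel

set_option maxRecDepth 100000 in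
theorem part_4_9_7_10 : dfsN 6 268435456 175719184 [2, 5, 6, 8, 11, 12] = true := by
  decide +kernel

set_option maxRecDepth 100000 in
theorem part_4_9_7_11 : dfsN 6 268435456 192496400 [2, 5, 6, 8, 10, 12] = true := by
  decide +kernel

set_option maxRecDepth 100000 in
theorem part_4_9_7_12 : dfsN 6 268435456 209273616 [2, 5, 6, 8, 10, 11] = true := by
  decide +kernel

theorem part_4_9_7 : dfsN 7 16777216 7947024 [2, 5, 6, 8, 10, 11, 12] = true := by
  apply dfsN_step 6 16777216 7947024 [2, 5, 6, 8, 10, 11, 12]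
  intro v hv
  simp only [List.mem_cons, List.not_mem_nil, or_false] at hv
  rcases hv with rfl | rfl | rfl | rfl | rfl | rfl | rfl
  exacts [part_4_9_7_2, part_4_9_7_5, part_4_9_7_6, part_4_9_7_8, part_4_9_7_10, part_4_9_7_11, part_4_9_7_12]

set_option maxRecDepth 100000 in
theorem part_4_9_8_2 : dfsN 6 268435456 42550032 [5, 6, 7, 10, 11, 12] = true := by
  decide +kernel

set_option maxRecDepth 100000 in
theorem part_4_9_8_5 : dfsN 6 268435456 92881680 [2, 6, 7, 10, 11, 12] = true := by
  decide +kernel

set_option maxRecDepth 100000 in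
theorem part_4_9_8_6 : dfsN 6 268435456 109658896 [2, 5, 7, 10, 11, 12] = true := by
  decide +kernel

set_option maxRecDepth 100000 in
theorem part_4_9_8_7 : dfsN 6 268435456 126436112 [2, 5, 6, 10, 11, 12] = true := by
  decide +kernel

set_option maxRecDepth 100000 in
theorem part_4_9_8_10 : dfsN 6 268435456 176767760 [2, 5, 6, 7, 11, 12] = true := by
  decide +kernel

set_option maxRecDepth 100000 in
theorem part_4_9_8_11 : dfsN 6 268435456 193544976 [2, 5, 6, 7, 10, 12] = true := by
  decide +kernel

set_option maxRecDepth 100000 in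
theorem part_4_9_8_12 : dfsN 6 268435456 210322192 [2, 5, 6, 7, 10, 11] = true := by
  decide +kernel

theorem part_4_9_8 : dfsN 7 16777216 8995600 [2, 5, 6, 7, 10, 11, 12] = true := by
  apply dfsN_step 6 16777216 8995600 [2, 5, 6, 7, 10, 11, 12]
  intro v hv
  simp only [List.mem_cons, List.not_mem_nil, or_false] at hv
  rcases hv with rfl | rfl | rfl | rfl | rfl | rfl | rfl
  exacts [part_4_9_8_2, part_4_9_8_5, part_4_9_8_6, part_4_9_8_7, part_4_9_8_10, part_4_9_8_11, part_4_9_8_12]

set_option maxRecDepth 100000 in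
theorem part_4_9_10_2 : dfsN 6 268435456 44647184 [5, 6, 7, 8, 11, 12] = true := by
  decide +kernel

set_option maxRecDepth 100000 in
theorem part_4_9_10_5 : dfsN 6 268435456 94978832 [2, 6, 7, 8, 11, 12] = true := by
  decide +kernel

set_option maxRecDepth 100000 in
theorem part_4_9_10_6 : dfsN 6 268435456 111756048 [2, 5, 7, 8, 11, 12] = true := by
  decide +kernel

set_option maxRecDepth 100000 in
theorem part_4_9_10_7 : dfsN 6 268435456 128533264 [2, 5, 6, 8, 11, 12] = true := by
  decide +kernel

set_option maxRecDepth 100000 in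
theorem part_4_9_10_8 : dfsN 6 268435456 145310480 [2, 5, 6, 7, 11, 12] = true := by
  decide +kernel

set_option maxRecDepth 100000 in
theorem part_4_9_10_11 : dfsN 6 268435456 195642128 [2, 5, 6, 7, 8, 12] = true := by
  decide +kernel

set_option maxRecDepth 100000 in
theorem part_4_9_10_12 : dfsN 6 268435456 212419344 [2, 5, 6, 7, 8, 11] = true := by
  decide +kernel

theorem part_4_9_10 : dfsN 7 16777216 11092752 [2, 5, 6, 7, 8, 11, 12] = true := by
  apply dfsN_step 6 16777216 11092752 [2, 5, 6, 7, 8, 11, 12]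
  intro v hv
  simp only [List.mem_cons, List.not_mem_nil, or_false] at hv
  rcases hv with rfl | rfl | rfl | rfl | rfl | rfl | rfl
  exacts [part_4_9_10_2, part_4_9_10_5, part_4_9_10_6, part_4_9_10_7, part_4_9_10_8, part_4_9_10_11, part_4_9_10_12]

set_option maxRecDepth 100000 in
theorem part_4_9_11_2 : dfsN 6 268435456 45695760 [5, 6, 7, 8, 10, 12] = true := by
  decide +kernel

set_option maxRecDepth 100000 in
theorem part_4_9_11_5 : dfsN 6 268435456 96027408 [2, 6, 7, 8, 10, 12] = true := by
  decide +kernel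

set_option maxRecDepth 100000 in
theorem part_4_9_11_6 : dfsN 6 268435456 112804624 [2, 5, 7, 8, 10, 12] = true := by
  decide +kernel

set_option maxRecDepth 100000 in
theorem part_4_9_11_7 : dfsN 6 268435456 129581840 [2, 5, 6, 8, 10, 12] = true := by
  decide +kernel

set_option maxRecDepth 100000 in
theorem part_4_9_11_8 : dfsN 6 268435456 146359056 [2, 5, 6, 7, 10, 12] = true := by
  decide +kernel

set_option maxRecDepth 100000 in
theorem part_4_9_11_10 : dfsN 6 268435456 179913488 [2, 5, 6, 7, 8, 12] = true := by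
  decide +kernel

set_option maxRecDepth 100000 in
theorem part_4_9_11_12 : dfsN 6 268435456 213467920 [2, 5, 6, 7, 8, 10] = true := by
  decide +kernel

theorem part_4_9_11 : dfsN 7 16777216 12141328 [2, 5, 6, 7, 8, 10, 12] = true := by
  apply dfsN_step 6 16777216 12141328 [2, 5, 6, 7, 8, 10, 12]
  intro v hv
  simp only [List.mem_cons, List.not_mem_nil, or_false] at hv
  rcases hv with rfl | rfl | rfl | rfl | rfl | rfl | rfl
  exacts [part_4_9_11_2, part_4_9_11_5, part_4_9_11_6, part_4_9_11_7, part_4_9_11_8, part_4_9_11_10, part_4_9_11_12]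

set_option maxRecDepth 100000 in
theorem part_4_9_12_2 : dfsN 6 268435456 46744336 [5, 6, 7, 8, 10, 11] = true := by
  decide +kernel

set_option maxRecDepth 100000 in
theorem part_4_9_12_5 : dfsN 6 268435456 97075984 [2, 6, 7, 8, 10, 11] = true := by
  decide +kernel

set_option maxRecDepth 100000 in
theorem part_4_9_12_6 : dfsN 6 268435456 113853200 [2, 5, 7, 8, 10, 11] = true := by
  decide +kernel

set_option maxRecDepth 100000 in
theorem part_4_9_12_7 : dfsN 6 268435456 130630416 [2, 5, 6, 8, 10, 11] = true := by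
  decide +kernel

set_option maxRecDepth 100000 in
theorem part_4_9_12_8 : dfsN 6 268435456 147407632 [2, 5, 6, 7, 10, 11] = true := by
  decide +kernel

set_option maxRecDepth 100000 in
theorem part_4_9_12_10 : dfsN 6 268435456 180962064 [2, 5, 6, 7, 8, 11] = true := by
  decide +kernel

set_option maxRecDepth 100000 in
theorem part_4_9_12_11 : dfsN 6 268435456 197739280 [2, 5, 6, 7, 8, 10] = true := by
  decide +kernel

theorem part_4_9_12 : dfsN 7 16777216 13189904 [2, 5, 6, 7, 8, 10, 11] = true := by
  apply dfsN_step 6 16777216 13189904 [2, 5, 6, 7, 8, 10, 11]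
  intro v hv
  simp only [List.mem_cons, List.not_mem_nil, or_false] at hv
  rcases hv with rfl | rfl | rfl | rfl | rfl | rfl | rfl
  exacts [part_4_9_12_2, part_4_9_12_5, part_4_9_12_6, part_4_9_12_7, part_4_9_12_8, part_4_9_12_10, part_4_9_12_11]

theorem part_4_9 : dfsN 8 1048576 606992 [2, 5, 6, 7, 8, 10, 11, 12] = true := by
  apply dfsN_step 7 1048576 606992 [2, 5, 6, 7, 8, 10, 11, 12]
  intro v hv
  simp only [List.mem_cons, List.not_mem_nil, or_false] at hv
  rcases hv with rfl | rfl | rfl | rfl | rfl | rfl | rfl | rfl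
  exacts [part_4_9_2, part_4_9_5, part_4_9_6, part_4_9_7, part_4_9_8, part_4_9_10, part_4_9_11, part_4_9_12]

end Cfsg.Agent.Lib.H16.AG
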