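import Cfsg.Agent.Lib.H16.AG.Step

set_option autoImplicit false

/-! Degree 13, images `0, 1, 3, 4, 10` of `0, 1, 2, 3, 4` fixed: every completion that is an
`11`-cycle has a word `(x ^ b * y ^ a) ^ k` which is a `3`-, `5`- or `7`-cycle
(small kernel computations, one per pair of images of `5, 6`). -/

namespace Cfsg.Agent.Lib.H16.AG

set_option maxRecDepth 100000 in
theorem part_4_10_2_5 : dfsN 6 268435456 86655760 [6, 7, 8, 9, 11, 12] = true := by
  decide +kernel

set_option maxRecDepth 100000 in
theorem part_4_10_2_6 : dfsN 6 268435456 103432976 [5, 7, 8, 9, 11, 12] = true := by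
  decide +kernel

set_option maxRecDepth 100000 in
theorem part_4_10_2_7 : dfsN 6 268435456 120210192 [5, 6, 8, 9, 11, 12] = true := by
  decide +kernel

set_option maxRecDepth 100000 in
theorem part_4_10_2_8 : dfsN 6 268435456 136987408 [5, 6, 7, 9, 11, 12] = true := by
  decide +kernel

set_option maxRecDepth 100000 in
theorem part_4_10_2_9 : dfsN 6 268435456 153764624 [5, 6, 7, 8, 11, 12] = true := by
  decide +kernel

set_option maxRecDepth 100000 in
theorem part_4_10_2_11 : dfsN 6 268435456 187319056 [5, 6, 7, 8, 9, 12] = true := by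
  decide +kernel

set_option maxRecDepth 100000 in
theorem part_4_10_2_12 : dfsN 6 268435456 204096272 [5, 6, 7, 8, 9, 11] = true := by
  decide +kernel

theorem part_4_10_2 : dfsN 7 16777216 2769680 [5, 6, 7, 8, 9, 11, 12] = true := by
  apply dfsN_step 6 16777216 2769680 [5, 6, 7, 8, 9, 11, 12]
  intro v hv
  simp only [List.mem_cons, List.not_mem_nil, or_false] at hv
  rcases hv with rfl | rfl | rfl | rfl | rfl | rfl | rfl
  exacts [part_4_10_2_5, part_4_10_2_6, part_4_10_2_7, part_4_10_2_8, part_4_10_2_9, part_4_10_2_11, part_4_10_2_12]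

set_option maxRecDepth 100000 in
theorem part_4_10_5_2 : dfsN 6 268435456 39469840 [6, 7, 8, 9, 11, 12] = true := by
  decide +kernel

set_option maxRecDepth 100000 in
theorem part_4_10_5_6 : dfsN 6 268435456 106578704 [2, 7, 8, 9, 11, 12] = true := by
  decide +kernel

set_option maxRecDepth 100000 in
theorem part_4_10_5_7 : dfsN 6 268435456 123355920 [2, 6, 8, 9, 11, 12] = true := by
  decide +kernel

set_option maxRecDepth 100000 in
theorem part_4_10_5_8 : dfsN 6 268435456 140133136 [2, 6, 7, 9, 11, 12] = true := by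
  decide +kernel

set_option maxRecDepth 100000 in
theorem part_4_10_5_9 : dfsN 6 268435456 156910352 [2, 6, 7, 8, 11, 12] = true := by
  decide +kernel

set_option maxRecDepth 100000 in
theorem part_4_10_5_11 : dfsN 6 268435456 190464784 [2, 6, 7, 8, 9, 12] = true := by
  decide +kernel

set_option maxRecDepth 100000 in
theorem part_4_10_5_12 : dfsN 6 268435456 207242000 [2, 6, 7, 8, 9, 11] = true := by
  decide +kernel

theorem part_4_10_5 : dfsN 7 16777216 5915408 [2, 6, 7, 8, 9, 11, 12] = true := by
  apply dfsN_step 6 16777216 5915408 [2, 6, 7, 8, 9, 11, 12]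
  intro v hv
  simp only [List.mem_cons, List.not_mem_nil, or_false] at hv
  rcases hv with rfl | rfl | rfl | rfl | rfl | rfl | rfl
  exacts [part_4_10_5_2, part_4_10_5_6, part_4_10_5_7, part_4_10_5_8, part_4_10_5_9, part_4_10_5_11, part_4_10_5_12]

set_option maxRecDepth 100000 in
theorem part_4_10_6_2 : dfsN 6 268435456 40518416 [5, 7, 8, 9, 11, 12] = true := by
  decide +kernel

set_option maxRecDepth 100000 in
theorem part_4_10_6_5 : dfsN 6 268435456 90850064 [2, 7, 8, 9, 11, 12] = true := by
  decide +kernel

set_option maxRecDepth 100000 in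
theorem part_4_10_6_7 : dfsN 6 268435456 124404496 [2, 5, 8, 9, 11, 12] = true := by
  decide +kernel

set_option maxRecDepth 100000 in
theorem part_4_10_6_8 : dfsN 6 268435456 141181712 [2, 5, 7, 9, 11, 12] = true := by
  decide +kernel

set_option maxRecDepth 100000 in
theorem part_4_10_6_9 : dfsN 6 268435456 157958928 [2, 5, 7, 8, 11, 12] = true := by
  decide +kernel

set_option maxRecDepth 100000 in
theorem part_4_10_6_11 : dfsN 6 268435456 191513360 [2, 5, 7, 8, 9, 12] = true := by
  decide +kernel

set_option maxRecDepth 100000 in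
theorem part_4_10_6_12 : dfsN 6 268435456 208290576 [2, 5, 7, 8, 9, 11] = true := by
  decide +kernel

theorem part_4_10_6 : dfsN 7 16777216 6963984 [2, 5, 7, 8, 9, 11, 12] = true := by
  apply dfsN_step 6 16777216 6963984 [2, 5, 7, 8, 9, 11, 12]
  intro v hv
  simp only [List.mem_cons, List.not_mem_nil, or_false] at hv
  rcases hv with rfl | rfl | rfl | rfl | rfl | rfl | rfl
  exacts [part_4_10_6_2, part_4_10_6_5, part_4_10_6_7, part_4_10_6_8, part_4_10_6_9, part_4_10_6_11, part_4_10_6_12]

set_option maxRecDepth 100000 in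
theorem part_4_10_7_2 : dfsN 6 268435456 41566992 [5, 6, 8, 9, 11, 12] = true := by
  decide +kernel

set_option maxRecDepth 100000 in
theorem part_4_10_7_5 : dfsN 6 268435456 91898640 [2, 6, 8, 9, 11, 12] = true := by
  decide +kernel

set_option maxRecDepth 100000 in
theorem part_4_10_7_6 : dfsN 6 268435456 108675856 [2, 5, 8, 9, 11, 12] = true := by
  decide +kernel

set_option maxRecDepth 100000 in
theorem part_4_10_7_8 : dfsN 6 268435456 142230288 [2, 5, 6, 9, 11, 12] = true := by
  decide +kernel

set_option maxRecDepth 100000 in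
theorem part_4_10_7_9 : dfsN 6 268435456 159007504 [2, 5, 6, 8, 11, 12] = true := by
  decide +kernel

set_option maxRecDepth 100000 in
theorem part_4_10_7_11 : dfsN 6 268435456 192561936 [2, 5, 6, 8, 9, 12] = true := by
  decide +kernel

set_option maxRecDepth 100000 in
theorem part_4_10_7_12 : dfsN 6 268435456 209339152 [2, 5, 6, 8, 9, 11] = true := by
  decide +kernel

theorem part_4_10_7 : dfsN 7 16777216 8012560 [2, 5, 6, 8, 9, 11, 12] = true := by
  apply dfsN_step 6 16777216 8012560 [2, 5, 6, 8, 9, 11, 12]
  intro v hv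
  simp only [List.mem_cons, List.not_mem_nil, or_false] at hv
  rcases hv with rfl | rfl | rfl | rfl | rfl | rfl | rfl
  exacts [part_4_10_7_2, part_4_10_7_5, part_4_10_7_6, part_4_10_7_8, part_4_10_7_9, part_4_10_7_11, part_4_10_7_12]

set_option maxRecDepth 100000 in
theorem part_4_10_8_2 : dfsN 6 268435456 42615568 [5, 6, 7, 9, 11, 12] = true := by
  decide +kernel

set_option maxRecDepth 100000 in
theorem part_4_10_8_5 : dfsN 6 268435456 92947216 [2, 6, 7, 9, 11, 12] = true := by
  decide +kernel

set_option maxRecDepth 100000 in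
theorem part_4_10_8_6 : dfsN 6 268435456 109724432 [2, 5, 7, 9, 11, 12] = true := by
  decide +kernel

set_option maxRecDepth 100000 in
theorem part_4_10_8_7 : dfsN 6 268435456 126501648 [2, 5, 6, 9, 11, 12] = true := by
  decide +kernel

set_option maxRecDepth 100000 in
theorem part_4_10_8_9 : dfsN 6 268435456 160056080 [2, 5, 6, 7, 11, 12] = true := by
  decide +kernel

set_option maxRecDepth 100000 in
theorem part_4_10_8_11 : dfsN 6 268435456 193610512 [2, 5, 6, 7, 9, 12] = true := by
  decide +kernel

set_option maxRecDepth 100000 in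
theorem part_4_10_8_12 : dfsN 6 268435456 210387728 [2, 5, 6, 7, 9, 11] = true := by
  decide +kernel

theorem part_4_10_8 : dfsN 7 16777216 9061136 [2, 5, 6, 7, 9, 11, 12] = true := by
  apply dfsN_step 6 16777216 9061136 [2, 5, 6, 7, 9, 11, 12]
  intro v hv
  simp only [List.mem_cons, List.not_mem_nil, or_false] at hv
  rcases hv with rfl | rfl | rfl | rfl | rfl | rfl | rfl
  exacts [part_4_10_8_2, part_4_10_8_5, part_4_10_8_6, part_4_10_8_7, part_4_10_8_9, part_4_10_8_11, part_4_10_8_12]

set_option maxRecDepth 100000 in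
theorem part_4_10_9_2 : dfsN 6 268435456 43664144 [5, 6, 7, 8, 11, 12] = true := by
  decide +kernel

set_option maxRecDepth 100000 in
theorem part_4_10_9_5 : dfsN 6 268435456 93995792 [2, 6, 7, 8, 11, 12] = true := by
  decide +kernel

set_option maxRecDepth 100000 in
theorem part_4_10_9_6 : dfsN 6 268435456 110773008 [2, 5, 7, 8, 11, 12] = true := by
  decide +kernel

set_option maxRecDepth 100000 in
theorem part_4_10_9_7 : dfsN 6 268435456 127550224 [2, 5, 6, 8, 11, 12] = true := by
  decide +kernel

set_option maxRecDepth 100000 in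
theorem part_4_10_9_8 : dfsN 6 268435456 144327440 [2, 5, 6, 7, 11, 12] = true := by
  decide +kernel

set_option maxRecDepth 100000 in
theorem part_4_10_9_11 : dfsN 6 268435456 194659088 [2, 5, 6, 7, 8, 12] = true := by
  decide +kernel

set_option maxRecDepth 100000 in
theorem part_4_10_9_12 : dfsN 6 268435456 211436304 [2, 5, 6, 7, 8, 11] = true := by
  decide +kernel

theorem part_4_10_9 : dfsN 7 16777216 10109712 [2, 5, 6, 7, 8, 11, 12] = true := by
  apply dfsN_step 6 16777216 10109712 [2, 5, 6, 7, 8, 11, 12]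
  intro v hv
  simp only [List.mem_cons, List.not_mem_nil, or_false] at hv
  rcases hv with rfl | rfl | rfl | rfl | rfl | rfl | rfl
  exacts [part_4_10_9_2, part_4_10_9_5, part_4_10_9_6, part_4_10_9_7, part_4_10_9_8, part_4_10_9_11, part_4_10_9_12]

set_option maxRecDepth 100000 in
theorem part_4_10_11_2 : dfsN 6 268435456 45761296 [5, 6, 7, 8, 9, 12] = true := by
  decide +kernel

set_option maxRecDepth 100000 in
theorem part_4_10_11_5 : dfsN 6 268435456 96092944 [2, 6, 7, 8, 9, 12] = true := by
  decide +kernel

set_option maxRecDepth 100000 in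
theorem part_4_10_11_6 : dfsN 6 268435456 112870160 [2, 5, 7, 8, 9, 12] = true := by
  decide +kernel

set_option maxRecDepth 100000 in
theorem part_4_10_11_7 : dfsN 6 268435456 129647376 [2, 5, 6, 8, 9, 12] = true := by
  decide +kernel

set_option maxRecDepth 100000 in
theorem part_4_10_11_8 : dfsN 6 268435456 146424592 [2, 5, 6, 7, 9, 12] = true := by
  decide +kernel

set_option maxRecDepth 100000 in
theorem part_4_10_11_9 : dfsN 6 268435456 163201808 [2, 5, 6, 7, 8, 12] = true := by
  decide +kernel

set_option maxRecDepth 100000 in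
theorem part_4_10_11_12 : dfsN 6 268435456 213533456 [2, 5, 6, 7, 8, 9] = true := by
  decide +kernel

theorem part_4_10_11 : dfsN 7 16777216 12206864 [2, 5, 6, 7, 8, 9, 12] = true := by
  apply dfsN_step 6 16777216 12206864 [2, 5, 6, 7, 8, 9, 12]
  intro v hv
  simp only [List.mem_cons, List.not_mem_nil, or_false] at hv
  rcases hv with rfl | rfl | rfl | rfl | rfl | rfl | rfl
  exacts [part_4_10_11_2, part_4_10_11_5, part_4_10_11_6, part_4_10_11_7, part_4_10_11_8, part_4_10_11_9, part_4_10_11_12]

set_option maxRecDepth 100000 in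
theorem part_4_10_12_2 : dfsN 6 268435456 46809872 [5, 6, 7, 8, 9, 11] = true := by
  decide +kernel

set_option maxRecDepth 100000 in
theorem part_4_10_12_5 : dfsN 6 268435456 97141520 [2, 6, 7, 8, 9, 11] = true := by
  decide +kernel

set_option maxRecDepth 100000 in
theorem part_4_10_12_6 : dfsN 6 268435456 113918736 [2, 5, 7, 8, 9, 11] = true := by
  decide +kernel

set_option maxRecDepth 100000 in
theorem part_4_10_12_7 : dfsN 6 268435456 130695952 [2, 5, 6, 8, 9, 11] = true := by
  decide +kernel

set_option maxRecDepth 100000 in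
theorem part_4_10_12_8 : dfsN 6 268435456 147473168 [2, 5, 6, 7, 9, 11] = true := by
  decide +kernel

set_option maxRecDepth 100000 in
theorem part_4_10_12_9 : dfsN 6 268435456 164250384 [2, 5, 6, 7, 8, 11] = true := by
  decide +kernel

set_option maxRecDepth 100000 in
theorem part_4_10_12_11 : dfsN 6 268435456 197804816 [2, 5, 6, 7, 8, 9] = true := by
  decide +kernel

theorem part_4_10_12 : dfsN 7 16777216 13255440 [2, 5, 6, 7, 8, 9, 11] = true := by
  apply dfsN_step 6 16777216 13255440 [2, 5, 6, 7, 8, 9, 11]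
  intro v hv
  simp only [List.mem_cons, List.not_mem_nil, or_false] at hv
  rcases hv with rfl | rfl | rfl | rfl | rfl | rfl | rfl
  exacts [part_4_10_12_2, part_4_10_12_5, part_4_10_12_6, part_4_10_12_7, part_4_10_12_8, part_4_10_12_9, part_4_10_12_11]

theorem part_4_10 : dfsN 8 1048576 672528 [2, 5, 6, 7, 8, 9, 11, 12] = true := by
  apply dfsN_step 7 1048576 672528 [2, 5, 6, 7, 8, 9, 11, 12]
  intro v hv
  simp only [List.mem_cons, List.not_mem_nil, or_false] at hv
  rcases hv with rfl | rfl | rfl | rfl | rfl | rfl | rfl | rfl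
  exacts [part_4_10_2, part_4_10_5, part_4_10_6, part_4_10_7, part_4_10_8, part_4_10_9, part_4_10_11, part_4_10_12]

end Cfsg.Agent.Lib.H16.AG
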