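import Cfsg.Agent.Lib.H16.AG.Step

set_option autoImplicit false

/-! Degree 13, images `0, 1, 3, 4, 11` of `0, 1, 2, 3, 4` fixed: every completion that is an
`11`-cycle has a word `(x ^ b * y ^ a) ^ k` which is a `3`-, `5`- or `7`-cycle
(small kernel computations, one per pair of images of `5, 6`). -/

namespace Cfsg.Agent.Lib.H16.AG

set_option maxRecDepth 100000 in
theorem part_4_11_2_5 : dfsN 6 268435456 86721296 [6, 7, 8, 9, 10, 12] = true := by
  decide +kernel

set_option maxRecDepth 100000 in
theorem part_4_11_2_6 : dfsN 6 268435456 103498512 [5, 7, 8, 9, 10, 12] = true := by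
  decide +kernel

set_option maxRecDepth 100000 in
theorem part_4_11_2_7 : dfsN 6 268435456 120275728 [5, 6, 8, 9, 10, 12] = true := by
  decide +kernel

set_option maxRecDepth 100000 in
theorem part_4_11_2_8 : dfsN 6 268435456 137052944 [5, 6, 7, 9, 10, 12] = true := by
  decide +kernel

set_option maxRecDepth 100000 in
theorem part_4_11_2_9 : dfsN 6 268435456 153830160 [5, 6, 7, 8, 10, 12] = true := by
  decide +kernel

set_option maxRecDepth 100000 in
theorem part_4_11_2_10 : dfsN 6 268435456 170607376 [5, 6, 7, 8, 9, 12] = true := by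
  decide +kernel

set_option maxRecDepth 100000 in
theorem part_4_11_2_12 : dfsN 6 268435456 204161808 [5, 6, 7, 8, 9, 10] = true := by
  decide +kernel

theorem part_4_11_2 : dfsN 7 16777216 2835216 [5, 6, 7, 8, 9, 10, 12] = true := by
  apply dfsN_step 6 16777216 2835216 [5, 6, 7, 8, 9, 10, 12]
  intro v hv
  simp only [List.mem_cons, List.not_mem_nil, or_false] at hv
  rcases hv with rfl | rfl | rfl | rfl | rfl | rfl | rfl
  exacts [part_4_11_2_5, part_4_11_2_6, part_4_11_2_7, part_4_11_2_8, part_4_11_2_9, part_4_11_2_10, part_4_11_2_12]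

set_option maxRecDepth 100000 in
theorem part_4_11_5_2 : dfsN 6 268435456 39535376 [6, 7, 8, 9, 10, 12] = true := by
  decide +kernel

set_option maxRecDepth 100000 in
theorem part_4_11_5_6 : dfsN 6 268435456 106644240 [2, 7, 8, 9, 10, 12] = true := by
  decide +kernel

set_option maxRecDepth 100000 in
theorem part_4_11_5_7 : dfsN 6 268435456 123421456 [2, 6, 8, 9, 10, 12] = true := by
  decide +kernel

set_option maxRecDepth 100000 in
theorem part_4_11_5_8 : dfsN 6 268435456 140198672 [2, 6, 7, 9, 10, 12] = true := by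
  decide +kernel

set_option maxRecDepth 100000 in
theorem part_4_11_5_9 : dfsN 6 268435456 156975888 [2, 6, 7, 8, 10, 12] = true := by
  decide +kernel

set_option maxRecDepth 100000 in
theorem part_4_11_5_10 : dfsN 6 268435456 173753104 [2, 6, 7, 8, 9, 12] = true := by
  decide +kernel

set_option maxRecDepth 100000 in
theorem part_4_11_5_12 : dfsN 6 268435456 207307536 [2, 6, 7, 8, 9, 10] = true := by
  decide +kernel

theorem part_4_11_5 : dfsN 7 16777216 5980944 [2, 6, 7, 8, 9, 10, 12] = true := by
  apply dfsN_step 6 16777216 5980944 [2, 6, 7, 8, 9, 10, 12]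
  intro v hv
  simp only [List.mem_cons, List.not_mem_nil, or_false] at hv
  rcases hv with rfl | rfl | rfl | rfl | rfl | rfl | rfl
  exacts [part_4_11_5_2, part_4_11_5_6, part_4_11_5_7, part_4_11_5_8, part_4_11_5_9, part_4_11_5_10, part_4_11_5_12]

set_option maxRecDepth 100000 in
theorem part_4_11_6_2 : dfsN 6 268435456 40583952 [5, 7, 8, 9, 10, 12] = true := by
  decide +kernel

set_option maxRecDepth 100000 in
theorem part_4_11_6_5 : dfsN 6 268435456 90915600 [2, 7, 8, 9, 10, 12] = true := by
  decide +kernel

set_option maxRecDepth 100000 in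
theorem part_4_11_6_7 : dfsN 6 268435456 124470032 [2, 5, 8, 9, 10, 12] = true := by
  decide +kernel

set_option maxRecDepth 100000 in
theorem part_4_11_6_8 : dfsN 6 268435456 141247248 [2, 5, 7, 9, 10, 12] = true := by
  decide +kernel

set_option maxRecDepth 100000 in
theorem part_4_11_6_9 : dfsN 6 268435456 158024464 [2, 5, 7, 8, 10, 12] = true := by
  decide +kernel

set_option maxRecDepth 100000 in
theorem part_4_11_6_10 : dfsN 6 268435456 174801680 [2, 5, 7, 8, 9, 12] = true := by
  decide +kernel

set_option maxRecDepth 100000 in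
theorem part_4_11_6_12 : dfsN 6 268435456 208356112 [2, 5, 7, 8, 9, 10] = true := by
  decide +kernel

theorem part_4_11_6 : dfsN 7 16777216 7029520 [2, 5, 7, 8, 9, 10, 12] = true := by
  apply dfsN_step 6 16777216 7029520 [2, 5, 7, 8, 9, 10, 12]
  intro v hv
  simp only [List.mem_cons, List.not_mem_nil, or_false] at hv
  rcases hv with rfl | rfl | rfl | rfl | rfl | rfl | rfl
  exacts [part_4_11_6_2, part_4_11_6_5, part_4_11_6_7, part_4_11_6_8, part_4_11_6_9, part_4_11_6_10, part_4_11_6_12]

set_option maxRecDepth 100000 in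
theorem part_4_11_7_2 : dfsN 6 268435456 41632528 [5, 6, 8, 9, 10, 12] = true := by
  decide +kernel

set_option maxRecDepth 100000 in
theorem part_4_11_7_5 : dfsN 6 268435456 91964176 [2, 6, 8, 9, 10, 12] = true := by
  decide +kernel

set_option maxRecDepth 100000 in
theorem part_4_11_7_6 : dfsN 6 268435456 108741392 [2, 5, 8, 9, 10, 12] = true := by
  decide +kernel

set_option maxRecDepth 100000 in
theorem part_4_11_7_8 : dfsN 6 268435456 142295824 [2, 5, 6, 9, 10, 12] = true := by
  decide +kernel

set_option maxRecDepth 100000 in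
theorem part_4_11_7_9 : dfsN 6 268435456 159073040 [2, 5, 6, 8, 10, 12] = true := by
  decide +kernel

set_option maxRecDepth 100000 in
theorem part_4_11_7_10 : dfsN 6 268435456 175850256 [2, 5, 6, 8, 9, 12] = true := by
  decide +kernel

set_option maxRecDepth 100000 in
theorem part_4_11_7_12 : dfsN 6 268435456 209404688 [2, 5, 6, 8, 9, 10] = true := by
  decide +kernel

theorem part_4_11_7 : dfsN 7 16777216 8078096 [2, 5, 6, 8, 9, 10, 12] = true := by
  apply dfsN_step 6 16777216 8078096 [2, 5, 6, 8, 9, 10, 12]
  intro v hv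
  simp only [List.mem_cons, List.not_mem_nil, or_false] at hv
  rcases hv with rfl | rfl | rfl | rfl | rfl | rfl | rfl
  exacts [part_4_11_7_2, part_4_11_7_5, part_4_11_7_6, part_4_11_7_8, part_4_11_7_9, part_4_11_7_10, part_4_11_7_12]

set_option maxRecDepth 100000 in
theorem part_4_11_8_2 : dfsN 6 268435456 42681104 [5, 6, 7, 9, 10, 12] = true := by
  decide +kernel

set_option maxRecDepth 100000 in
theorem part_4_11_8_5 : dfsN 6 268435456 93012752 [2, 6, 7, 9, 10, 12] = true := by
  decide +kernel

set_option maxRecDepth 100000 in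
theorem part_4_11_8_6 : dfsN 6 268435456 109789968 [2, 5, 7, 9, 10, 12] = true := by
  decide +kernel

set_option maxRecDepth 100000 in
theorem part_4_11_8_7 : dfsN 6 268435456 126567184 [2, 5, 6, 9, 10, 12] = true := by
  decide +kernel

set_option maxRecDepth 100000 in
theorem part_4_11_8_9 : dfsN 6 268435456 160121616 [2, 5, 6, 7, 10, 12] = true := by
  decide +kernel

set_option maxRecDepth 100000 in
theorem part_4_11_8_10 : dfsN 6 268435456 176898832 [2, 5, 6, 7, 9, 12] = true := by
  decide +kernel

set_option maxRecDepth 100000 in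
theorem part_4_11_8_12 : dfsN 6 268435456 210453264 [2, 5, 6, 7, 9, 10] = true := by
  decide +kernel

theorem part_4_11_8 : dfsN 7 16777216 9126672 [2, 5, 6, 7, 9, 10, 12] = true := by
  apply dfsN_step 6 16777216 9126672 [2, 5, 6, 7, 9, 10, 12]
  intro v hv
  simp only [List.mem_cons, List.not_mem_nil, or_false] at hv
  rcases hv with rfl | rfl | rfl | rfl | rfl | rfl | rfl
  exacts [part_4_11_8_2, part_4_11_8_5, part_4_11_8_6, part_4_11_8_7, part_4_11_8_9, part_4_11_8_10, part_4_11_8_12]

set_option maxRecDepth 100000 in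
theorem part_4_11_9_2 : dfsN 6 268435456 43729680 [5, 6, 7, 8, 10, 12] = true := by
  decide +kernel

set_option maxRecDepth 100000 in
theorem part_4_11_9_5 : dfsN 6 268435456 94061328 [2, 6, 7, 8, 10, 12] = true := by
  decide +kernel

set_option maxRecDepth 100000 in
theorem part_4_11_9_6 : dfsN 6 268435456 110838544 [2, 5, 7, 8, 10, 12] = true := by
  decide +kernel

set_option maxRecDepth 100000 in
theorem part_4_11_9_7 : dfsN 6 268435456 127615760 [2, 5, 6, 8, 10, 12] = true := by
  decide +kernel

set_option maxRecDepth 100000 in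
theorem part_4_11_9_8 : dfsN 6 268435456 144392976 [2, 5, 6, 7, 10, 12] = true := by
  decide +kernel

set_option maxRecDepth 100000 in
theorem part_4_11_9_10 : dfsN 6 268435456 177947408 [2, 5, 6, 7, 8, 12] = true := by
  decide +kernel

set_option maxRecDepth 100000 in
theorem part_4_11_9_12 : dfsN 6 268435456 211501840 [2, 5, 6, 7, 8, 10] = true := by
  decide +kernel

theorem part_4_11_9 : dfsN 7 16777216 10175248 [2, 5, 6, 7, 8, 10, 12] = true := by
  apply dfsN_step 6 16777216 10175248 [2, 5, 6, 7, 8, 10, 12]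
  intro v hv
  simp only [List.mem_cons, List.not_mem_nil, or_false] at hv
  rcases hv with rfl | rfl | rfl | rfl | rfl | rfl | rfl
  exacts [part_4_11_9_2, part_4_11_9_5, part_4_11_9_6, part_4_11_9_7, part_4_11_9_8, part_4_11_9_10, part_4_11_9_12]

set_option maxRecDepth 100000 in
theorem part_4_11_10_2 : dfsN 6 268435456 44778256 [5, 6, 7, 8, 9, 12] = true := by
  decide +kernel

set_option maxRecDepth 100000 in
theorem part_4_11_10_5 : dfsN 6 268435456 95109904 [2, 6, 7, 8, 9, 12] = true := by
  decide +kernel

set_option maxRecDepth 100000 in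
theorem part_4_11_10_6 : dfsN 6 268435456 111887120 [2, 5, 7, 8, 9, 12] = true := by
  decide +kernel

set_option maxRecDepth 100000 in
theorem part_4_11_10_7 : dfsN 6 268435456 128664336 [2, 5, 6, 8, 9, 12] = true := by
  decide +kernel

set_option maxRecDepth 100000 in
theorem part_4_11_10_8 : dfsN 6 268435456 145441552 [2, 5, 6, 7, 9, 12] = true := by
  decide +kernel

set_option maxRecDepth 100000 in
theorem part_4_11_10_9 : dfsN 6 268435456 162218768 [2, 5, 6, 7, 8, 12] = true := by
  decide +kernel

set_option maxRecDepth 100000 in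
theorem part_4_11_10_12 : dfsN 6 268435456 212550416 [2, 5, 6, 7, 8, 9] = true := by
  decide +kernel

theorem part_4_11_10 : dfsN 7 16777216 11223824 [2, 5, 6, 7, 8, 9, 12] = true := by
  apply dfsN_step 6 16777216 11223824 [2, 5, 6, 7, 8, 9, 12]
  intro v hv
  simp only [List.mem_cons, List.not_mem_nil, or_false] at hv
  rcases hv with rfl | rfl | rfl | rfl | rfl | rfl | rfl
  exacts [part_4_11_10_2, part_4_11_10_5, part_4_11_10_6, part_4_11_10_7, part_4_11_10_8, part_4_11_10_9, part_4_11_10_12]

set_option maxRecDepth 100000 in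
theorem part_4_11_12_2 : dfsN 6 268435456 46875408 [5, 6, 7, 8, 9, 10] = true := by
  decide +kernel

set_option maxRecDepth 100000 in
theorem part_4_11_12_5 : dfsN 6 268435456 97207056 [2, 6, 7, 8, 9, 10] = true := by
  decide +kernel

set_option maxRecDepth 100000 in
theorem part_4_11_12_6 : dfsN 6 268435456 113984272 [2, 5, 7, 8, 9, 10] = true := by
  decide +kernel

set_option maxRecDepth 100000 in
theorem part_4_11_12_7 : dfsN 6 268435456 130761488 [2, 5, 6, 8, 9, 10] = true := by
  decide +kernel

set_option maxRecDepth 100000 in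
theorem part_4_11_12_8 : dfsN 6 268435456 147538704 [2, 5, 6, 7, 9, 10] = true := by
  decide +kernel

set_option maxRecDepth 100000 in
theorem part_4_11_12_9 : dfsN 6 268435456 164315920 [2, 5, 6, 7, 8, 10] = true := by
  decide +kernel

set_option maxRecDepth 100000 in
theorem part_4_11_12_10 : dfsN 6 268435456 181093136 [2, 5, 6, 7, 8, 9] = true := by
  decide +kernel

theorem part_4_11_12 : dfsN 7 16777216 13320976 [2, 5, 6, 7, 8, 9, 10] = true := by
  apply dfsN_step 6 16777216 13320976 [2, 5, 6, 7, 8, 9, 10]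
  intro v hv
  simp only [List.mem_cons, List.not_mem_nil, or_false] at hv
  rcases hv with rfl | rfl | rfl | rfl | rfl | rfl | rfl
  exacts [part_4_11_12_2, part_4_11_12_5, part_4_11_12_6, part_4_11_12_7, part_4_11_12_8, part_4_11_12_9, part_4_11_12_10]

theorem part_4_11 : dfsN 8 1048576 738064 [2, 5, 6, 7, 8, 9, 10, 12] = true := by
  apply dfsN_step 7 1048576 738064 [2, 5, 6, 7, 8, 9, 10, 12]
  intro v hv
  simp only [List.mem_cons, List.not_mem_nil, or_false] at hv
  rcases hv with rfl | rfl | rfl | rfl | rfl | rfl | rfl | rfl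
  exacts [part_4_11_2, part_4_11_5, part_4_11_6, part_4_11_7, part_4_11_8, part_4_11_9, part_4_11_10, part_4_11_12]

end Cfsg.Agent.Lib.H16.AG
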