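import Cfsg.Agent.Lib.H16.AG.Step

set_option autoImplicit false

/-! Degree 13, images `0, 1, 3, 4, 12` of `0, 1, 2, 3, 4` fixed: every completion that is an
`11`-cycle has a word `(x ^ b * y ^ a) ^ k` which is a `3`-, `5`- or `7`-cycle
(small kernel computations, one per pair of images of `5, 6`). -/

namespace Cfsg.Agent.Lib.H16.AG

set_option maxRecDepth 100000 in
theorem part_4_12_2_5 : dfsN 6 268435456 86786832 [6, 7, 8, 9, 10, 11] = true := by
  decide +kernel

set_option maxRecDepth 100000 in
theorem part_4_12_2_6 : dfsN 6 268435456 103564048 [5, 7, 8, 9, 10, 11] = true := by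
  decide +kernel

set_option maxRecDepth 100000 in
theorem part_4_12_2_7 : dfsN 6 268435456 120341264 [5, 6, 8, 9, 10, 11] = true := by
  decide +kernel

set_option maxRecDepth 100000 in
theorem part_4_12_2_8 : dfsN 6 268435456 137118480 [5, 6, 7, 9, 10, 11] = true := by
  decide +kernel

set_option maxRecDepth 100000 in
theorem part_4_12_2_9 : dfsN 6 268435456 153895696 [5, 6, 7, 8, 10, 11] = true := by
  decide +kernel

set_option maxRecDepth 100000 in
theorem part_4_12_2_10 : dfsN 6 268435456 170672912 [5, 6, 7, 8, 9, 11] = true := by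
  decide +kernel

set_option maxRecDepth 100000 in
theorem part_4_12_2_11 : dfsN 6 268435456 187450128 [5, 6, 7, 8, 9, 10] = true := by
  decide +kernel

theorem part_4_12_2 : dfsN 7 16777216 2900752 [5, 6, 7, 8, 9, 10, 11] = true := by
  apply dfsN_step 6 16777216 2900752 [5, 6, 7, 8, 9, 10, 11]
  intro v hv
  simp only [List.mem_cons, List.not_mem_nil, or_false] at hv
  rcases hv with rfl | rfl | rfl | rfl | rfl | rfl | rfl
  exacts [part_4_12_2_5, part_4_12_2_6, part_4_12_2_7, part_4_12_2_8, part_4_12_2_9, part_4_12_2_10, part_4_12_2_11]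

set_option maxRecDepth 100000 in
theorem part_4_12_5_2 : dfsN 6 268435456 39600912 [6, 7, 8, 9, 10, 11] = true := by
  decide +kernel

set_option maxRecDepth 100000 in
theorem part_4_12_5_6 : dfsN 6 268435456 106709776 [2, 7, 8, 9, 10, 11] = true := by
  decide +kernel

set_option maxRecDepth 100000 in
theorem part_4_12_5_7 : dfsN 6 268435456 123486992 [2, 6, 8, 9, 10, 11] = true := by
  decide +kernel

set_option maxRecDepth 100000 in
theorem part_4_12_5_8 : dfsN 6 268435456 140264208 [2, 6, 7, 9, 10, 11] = true := by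
  decide +kernel

set_option maxRecDepth 100000 in
theorem part_4_12_5_9 : dfsN 6 268435456 157041424 [2, 6, 7, 8, 10, 11] = true := by
  decide +kernel

set_option maxRecDepth 100000 in
theorem part_4_12_5_10 : dfsN 6 268435456 173818640 [2, 6, 7, 8, 9, 11] = true := by
  decide +kernel

set_option maxRecDepth 100000 in
theorem part_4_12_5_11 : dfsN 6 268435456 190595856 [2, 6, 7, 8, 9, 10] = true := by
  decide +kernel

theorem part_4_12_5 : dfsN 7 16777216 6046480 [2, 6, 7, 8, 9, 10, 11] = true := by
  apply dfsN_step 6 16777216 6046480 [2, 6, 7, 8, 9, 10, 11]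
  intro v hv
  simp only [List.mem_cons, List.not_mem_nil, or_false] at hv
  rcases hv with rfl | rfl | rfl | rfl | rfl | rfl | rfl
  exacts [part_4_12_5_2, part_4_12_5_6, part_4_12_5_7, part_4_12_5_8, part_4_12_5_9, part_4_12_5_10, part_4_12_5_11]

set_option maxRecDepth 100000 in
theorem part_4_12_6_2 : dfsN 6 268435456 40649488 [5, 7, 8, 9, 10, 11] = true := by
  decide +kernel

set_option maxRecDepth 100000 in
theorem part_4_12_6_5 : dfsN 6 268435456 90981136 [2, 7, 8, 9, 10, 11] = true := by
  decide +kernel

set_option maxRecDepth 100000 in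
theorem part_4_12_6_7 : dfsN 6 268435456 124535568 [2, 5, 8, 9, 10, 11] = true := by
  decide +kernel

set_option maxRecDepth 100000 in
theorem part_4_12_6_8 : dfsN 6 268435456 141312784 [2, 5, 7, 9, 10, 11] = true := by
  decide +kernel

set_option maxRecDepth 100000 in
theorem part_4_12_6_9 : dfsN 6 268435456 158090000 [2, 5, 7, 8, 10, 11] = true := by
  decide +kernel

set_option maxRecDepth 100000 in
theorem part_4_12_6_10 : dfsN 6 268435456 174867216 [2, 5, 7, 8, 9, 11] = true := by
  decide +kernel

set_option maxRecDepth 100000 in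
theorem part_4_12_6_11 : dfsN 6 268435456 191644432 [2, 5, 7, 8, 9, 10] = true := by
  decide +kernel

theorem part_4_12_6 : dfsN 7 16777216 7095056 [2, 5, 7, 8, 9, 10, 11] = true := by
  apply dfsN_step 6 16777216 7095056 [2, 5, 7, 8, 9, 10, 11]
  intro v hv
  simp only [List.mem_cons, List.not_mem_nil, or_false] at hv
  rcases hv with rfl | rfl | rfl | rfl | rfl | rfl | rfl
  exacts [part_4_12_6_2, part_4_12_6_5, part_4_12_6_7, part_4_12_6_8, part_4_12_6_9, part_4_12_6_10, part_4_12_6_11]

set_option maxRecDepth 100000 in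
theorem part_4_12_7_2 : dfsN 6 268435456 41698064 [5, 6, 8, 9, 10, 11] = true := by
  decide +kernel

set_option maxRecDepth 100000 in
theorem part_4_12_7_5 : dfsN 6 268435456 92029712 [2, 6, 8, 9, 10, 11] = true := by
  decide +kernel

set_option maxRecDepth 100000 in
theorem part_4_12_7_6 : dfsN 6 268435456 108806928 [2, 5, 8, 9, 10, 11] = true := by
  decide +kernel

set_option maxRecDepth 100000 in
theorem part_4_12_7_8 : dfsN 6 268435456 142361360 [2, 5, 6, 9, 10, 11] = true := by
  decide +kernel

set_option maxRecDepth 100000 in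
theorem part_4_12_7_9 : dfsN 6 268435456 159138576 [2, 5, 6, 8, 10, 11] = true := by
  decide +kernel

set_option maxRecDepth 100000 in
theorem part_4_12_7_10 : dfsN 6 268435456 175915792 [2, 5, 6, 8, 9, 11] = true := by
  decide +kernel

set_option maxRecDepth 100000 in
theorem part_4_12_7_11 : dfsN 6 268435456 192693008 [2, 5, 6, 8, 9, 10] = true := by
  decide +kernel

theorem part_4_12_7 : dfsN 7 16777216 8143632 [2, 5, 6, 8, 9, 10, 11] = true := by
  apply dfsN_step 6 16777216 8143632 [2, 5, 6, 8, 9, 10, 11]
  intro v hv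
  simp only [List.mem_cons, List.not_mem_nil, or_false] at hv
  rcases hv with rfl | rfl | rfl | rfl | rfl | rfl | rfl
  exacts [part_4_12_7_2, part_4_12_7_5, part_4_12_7_6, part_4_12_7_8, part_4_12_7_9, part_4_12_7_10, part_4_12_7_11]

set_option maxRecDepth 100000 in
theorem part_4_12_8_2 : dfsN 6 268435456 42746640 [5, 6, 7, 9, 10, 11] = true := by
  decide +kernel

set_option maxRecDepth 100000 in
theorem part_4_12_8_5 : dfsN 6 268435456 93078288 [2, 6, 7, 9, 10, 11] = true := by
  decide +kernel

set_option maxRecDepth 100000 in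
theorem part_4_12_8_6 : dfsN 6 268435456 109855504 [2, 5, 7, 9, 10, 11] = true := by
  decide +kernel

set_option maxRecDepth 100000 in
theorem part_4_12_8_7 : dfsN 6 268435456 126632720 [2, 5, 6, 9, 10, 11] = true := by
  decide +kernel

set_option maxRecDepth 100000 in
theorem part_4_12_8_9 : dfsN 6 268435456 160187152 [2, 5, 6, 7, 10, 11] = true := by
  decide +kernel

set_option maxRecDepth 100000 in
theorem part_4_12_8_10 : dfsN 6 268435456 176964368 [2, 5, 6, 7, 9, 11] = true := by
  decide +kernel

set_option maxRecDepth 100000 in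
theorem part_4_12_8_11 : dfsN 6 268435456 193741584 [2, 5, 6, 7, 9, 10] = true := by
  decide +kernel

theorem part_4_12_8 : dfsN 7 16777216 9192208 [2, 5, 6, 7, 9, 10, 11] = true := by
  apply dfsN_step 6 16777216 9192208 [2, 5, 6, 7, 9, 10, 11]
  intro v hv
  simp only [List.mem_cons, List.not_mem_nil, or_false] at hv
  rcases hv with rfl | rfl | rfl | rfl | rfl | rfl | rfl
  exacts [part_4_12_8_2, part_4_12_8_5, part_4_12_8_6, part_4_12_8_7, part_4_12_8_9, part_4_12_8_10, part_4_12_8_11]

set_option maxRecDepth 100000 in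
theorem part_4_12_9_2 : dfsN 6 268435456 43795216 [5, 6, 7, 8, 10, 11] = true := by
  decide +kernel

set_option maxRecDepth 100000 in
theorem part_4_12_9_5 : dfsN 6 268435456 94126864 [2, 6, 7, 8, 10, 11] = true := by
  decide +kernel

set_option maxRecDepth 100000 in
theorem part_4_12_9_6 : dfsN 6 268435456 110904080 [2, 5, 7, 8, 10, 11] = true := by
  decide +kernel

set_option maxRecDepth 100000 in
theorem part_4_12_9_7 : dfsN 6 268435456 127681296 [2, 5, 6, 8, 10, 11] = true := by
  decide +kernel

set_option maxRecDepth 100000 in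
theorem part_4_12_9_8 : dfsN 6 268435456 144458512 [2, 5, 6, 7, 10, 11] = true := by
  decide +kernel

set_option maxRecDepth 100000 in
theorem part_4_12_9_10 : dfsN 6 268435456 178012944 [2, 5, 6, 7, 8, 11] = true := by
  decide +kernel

set_option maxRecDepth 100000 in
theorem part_4_12_9_11 : dfsN 6 268435456 194790160 [2, 5, 6, 7, 8, 10] = true := by
  decide +kernel

theorem part_4_12_9 : dfsN 7 16777216 10240784 [2, 5, 6, 7, 8, 10, 11] = true := by
  apply dfsN_step 6 16777216 10240784 [2, 5, 6, 7, 8, 10, 11]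
  intro v hv
  simp only [List.mem_cons, List.not_mem_nil, or_false] at hv
  rcases hv with rfl | rfl | rfl | rfl | rfl | rfl | rfl
  exacts [part_4_12_9_2, part_4_12_9_5, part_4_12_9_6, part_4_12_9_7, part_4_12_9_8, part_4_12_9_10, part_4_12_9_11]

set_option maxRecDepth 100000 in
theorem part_4_12_10_2 : dfsN 6 268435456 44843792 [5, 6, 7, 8, 9, 11] = true := by
  decide +kernel

set_option maxRecDepth 100000 in
theorem part_4_12_10_5 : dfsN 6 268435456 95175440 [2, 6, 7, 8, 9, 11] = true := by
  decide +kernel

set_option maxRecDepth 100000 in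
theorem part_4_12_10_6 : dfsN 6 268435456 111952656 [2, 5, 7, 8, 9, 11] = true := by
  decide +kernel

set_option maxRecDepth 100000 in
theorem part_4_12_10_7 : dfsN 6 268435456 128729872 [2, 5, 6, 8, 9, 11] = true := by
  decide +kernel

set_option maxRecDepth 100000 in
theorem part_4_12_10_8 : dfsN 6 268435456 145507088 [2, 5, 6, 7, 9, 11] = true := by
  decide +kernel

set_option maxRecDepth 100000 in
theorem part_4_12_10_9 : dfsN 6 268435456 162284304 [2, 5, 6, 7, 8, 11] = true := by
  decide +kernel

set_option maxRecDepth 100000 in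
theorem part_4_12_10_11 : dfsN 6 268435456 195838736 [2, 5, 6, 7, 8, 9] = true := by
  decide +kernel

theorem part_4_12_10 : dfsN 7 16777216 11289360 [2, 5, 6, 7, 8, 9, 11] = true := by
  apply dfsN_step 6 16777216 11289360 [2, 5, 6, 7, 8, 9, 11]
  intro v hv
  simp only [List.mem_cons, List.not_mem_nil, or_false] at hv
  rcases hv with rfl | rfl | rfl | rfl | rfl | rfl | rfl
  exacts [part_4_12_10_2, part_4_12_10_5, part_4_12_10_6, part_4_12_10_7, part_4_12_10_8, part_4_12_10_9, part_4_12_10_11]

set_option maxRecDepth 100000 in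
theorem part_4_12_11_2 : dfsN 6 268435456 45892368 [5, 6, 7, 8, 9, 10] = true := by
  decide +kernel

set_option maxRecDepth 100000 in
theorem part_4_12_11_5 : dfsN 6 268435456 96224016 [2, 6, 7, 8, 9, 10] = true := by
  decide +kernel

set_option maxRecDepth 100000 in
theorem part_4_12_11_6 : dfsN 6 268435456 113001232 [2, 5, 7, 8, 9, 10] = true := by
  decide +kernel

set_option maxRecDepth 100000 in
theorem part_4_12_11_7 : dfsN 6 268435456 129778448 [2, 5, 6, 8, 9, 10] = true := by
  decide +kernel

set_option maxRecDepth 100000 in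
theorem part_4_12_11_8 : dfsN 6 268435456 146555664 [2, 5, 6, 7, 9, 10] = true := by
  decide +kernel

set_option maxRecDepth 100000 in
theorem part_4_12_11_9 : dfsN 6 268435456 163332880 [2, 5, 6, 7, 8, 10] = true := by
  decide +kernel

set_option maxRecDepth 100000 in
theorem part_4_12_11_10 : dfsN 6 268435456 180110096 [2, 5, 6, 7, 8, 9] = true := by
  decide +kernel

theorem part_4_12_11 : dfsN 7 16777216 12337936 [2, 5, 6, 7, 8, 9, 10] = true := by
  apply dfsN_step 6 16777216 12337936 [2, 5, 6, 7, 8, 9, 10]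
  intro v hv
  simp only [List.mem_cons, List.not_mem_nil, or_false] at hv
  rcases hv with rfl | rfl | rfl | rfl | rfl | rfl | rfl
  exacts [part_4_12_11_2, part_4_12_11_5, part_4_12_11_6, part_4_12_11_7, part_4_12_11_8, part_4_12_11_9, part_4_12_11_10]

theorem part_4_12 : dfsN 8 1048576 803600 [2, 5, 6, 7, 8, 9, 10, 11] = true := by
  apply dfsN_step 7 1048576 803600 [2, 5, 6, 7, 8, 9, 10, 11]
  intro v hv
  simp only [List.mem_cons, List.not_mem_nil, or_false] at hv
  rcases hv with rfl | rfl | rfl | rfl | rfl | rfl | rfl | rfl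
  exacts [part_4_12_2, part_4_12_5, part_4_12_6, part_4_12_7, part_4_12_8, part_4_12_9, part_4_12_10, part_4_12_11]

end Cfsg.Agent.Lib.H16.AG
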