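import Cfsg.Agent.Lib.H16.AG.Step

set_option autoImplicit false

/-! Degree 13, images `0, 1, 3, 5, 2` of `0, 1, 2, 3, 4` fixed: every completion that is an
`11`-cycle has a word `(x ^ b * y ^ a) ^ k` which is a `3`-, `5`- or `7`-cycle
(small kernel computations, one per pair of images of `5, 6`). -/

namespace Cfsg.Agent.Lib.H16.AG

set_option maxRecDepth 100000 in
theorem part_5_2_4_6 : dfsN 6 268435456 105009936 [7, 8, 9, 10, 11, 12] = true := by
  decide +kernel

set_option maxRecDepth 100000 in
theorem part_5_2_4_7 : dfsN 6 268435456 121787152 [6, 8, 9, 10, 11, 12] = true := by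
  decide +kernel

set_option maxRecDepth 100000 in
theorem part_5_2_4_8 : dfsN 6 268435456 138564368 [6, 7, 9, 10, 11, 12] = true := by
  decide +kernel

set_option maxRecDepth 100000 in
theorem part_5_2_4_9 : dfsN 6 268435456 155341584 [6, 7, 8, 10, 11, 12] = true := by
  decide +kernel

set_option maxRecDepth 100000 in
theorem part_5_2_4_10 : dfsN 6 268435456 172118800 [6, 7, 8, 9, 11, 12] = true := by
  decide +kernel

set_option maxRecDepth 100000 in
theorem part_5_2_4_11 : dfsN 6 268435456 188896016 [6, 7, 8, 9, 10, 12] = true := by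
  decide +kernel

set_option maxRecDepth 100000 in
theorem part_5_2_4_12 : dfsN 6 268435456 205673232 [6, 7, 8, 9, 10, 11] = true := by
  decide +kernel

theorem part_5_2_4 : dfsN 7 16777216 4346640 [6, 7, 8, 9, 10, 11, 12] = true := by
  apply dfsN_step 6 16777216 4346640 [6, 7, 8, 9, 10, 11, 12]
  intro v hv
  simp only [List.mem_cons, List.not_mem_nil, or_false] at hv
  rcases hv with rfl | rfl | rfl | rfl | rfl | rfl | rfl
  exacts [part_5_2_4_6, part_5_2_4_7, part_5_2_4_8, part_5_2_4_9, part_5_2_4_10, part_5_2_4_11, part_5_2_4_12]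

set_option maxRecDepth 100000 in
theorem part_5_2_6_4 : dfsN 6 268435456 73552656 [7, 8, 9, 10, 11, 12] = true := by
  decide +kernel

set_option maxRecDepth 100000 in
theorem part_5_2_6_7 : dfsN 6 268435456 123884304 [4, 8, 9, 10, 11, 12] = true := by
  decide +kernel

set_option maxRecDepth 100000 in
theorem part_5_2_6_8 : dfsN 6 268435456 140661520 [4, 7, 9, 10, 11, 12] = true := by
  decide +kernel

set_option maxRecDepth 100000 in
theorem part_5_2_6_9 : dfsN 6 268435456 157438736 [4, 7, 8, 10, 11, 12] = true := by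
  decide +kernel

set_option maxRecDepth 100000 in
theorem part_5_2_6_10 : dfsN 6 268435456 174215952 [4, 7, 8, 9, 11, 12] = true := by
  decide +kernel

set_option maxRecDepth 100000 in
theorem part_5_2_6_11 : dfsN 6 268435456 190993168 [4, 7, 8, 9, 10, 12] = true := by
  decide +kernel

set_option maxRecDepth 100000 in
theorem part_5_2_6_12 : dfsN 6 268435456 207770384 [4, 7, 8, 9, 10, 11] = true := by
  decide +kernel

theorem part_5_2_6 : dfsN 7 16777216 6443792 [4, 7, 8, 9, 10, 11, 12] = true := by
  apply dfsN_step 6 16777216 6443792 [4, 7, 8, 9, 10, 11, 12]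
  intro v hv
  simp only [List.mem_cons, List.not_mem_nil, or_false] at hv
  rcases hv with rfl | rfl | rfl | rfl | rfl | rfl | rfl
  exacts [part_5_2_6_4, part_5_2_6_7, part_5_2_6_8, part_5_2_6_9, part_5_2_6_10, part_5_2_6_11, part_5_2_6_12]

set_option maxRecDepth 100000 in
theorem part_5_2_7_4 : dfsN 6 268435456 74601232 [6, 8, 9, 10, 11, 12] = true := by
  decide +kernel

set_option maxRecDepth 100000 in
theorem part_5_2_7_6 : dfsN 6 268435456 108155664 [4, 8, 9, 10, 11, 12] = true := by
  decide +kernel

set_option maxRecDepth 100000 in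
theorem part_5_2_7_8 : dfsN 6 268435456 141710096 [4, 6, 9, 10, 11, 12] = true := by
  decide +kernel

set_option maxRecDepth 100000 in
theorem part_5_2_7_9 : dfsN 6 268435456 158487312 [4, 6, 8, 10, 11, 12] = true := by
  decide +kernel

set_option maxRecDepth 100000 in
theorem part_5_2_7_10 : dfsN 6 268435456 175264528 [4, 6, 8, 9, 11, 12] = true := by
  decide +kernel

set_option maxRecDepth 100000 in
theorem part_5_2_7_11 : dfsN 6 268435456 192041744 [4, 6, 8, 9, 10, 12] = true := by
  decide +kernel

set_option maxRecDepth 100000 in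
theorem part_5_2_7_12 : dfsN 6 268435456 208818960 [4, 6, 8, 9, 10, 11] = true := by
  decide +kernel

theorem part_5_2_7 : dfsN 7 16777216 7492368 [4, 6, 8, 9, 10, 11, 12] = true := by
  apply dfsN_step 6 16777216 7492368 [4, 6, 8, 9, 10, 11, 12]
  intro v hv
  simp only [List.mem_cons, List.not_mem_nil, or_false] at hv
  rcases hv with rfl | rfl | rfl | rfl | rfl | rfl | rfl
  exacts [part_5_2_7_4, part_5_2_7_6, part_5_2_7_8, part_5_2_7_9, part_5_2_7_10, part_5_2_7_11, part_5_2_7_12]

set_option maxRecDepth 100000 in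
theorem part_5_2_8_4 : dfsN 6 268435456 75649808 [6, 7, 9, 10, 11, 12] = true := by
  decide +kernel

set_option maxRecDepth 100000 in
theorem part_5_2_8_6 : dfsN 6 268435456 109204240 [4, 7, 9, 10, 11, 12] = true := by
  decide +kernel

set_option maxRecDepth 100000 in
theorem part_5_2_8_7 : dfsN 6 268435456 125981456 [4, 6, 9, 10, 11, 12] = true := by
  decide +kernel

set_option maxRecDepth 100000 in
theorem part_5_2_8_9 : dfsN 6 268435456 159535888 [4, 6, 7, 10, 11, 12] = true := by
  decide +kernel

set_option maxRecDepth 100000 in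
theorem part_5_2_8_10 : dfsN 6 268435456 176313104 [4, 6, 7, 9, 11, 12] = true := by
  decide +kernel

set_option maxRecDepth 100000 in
theorem part_5_2_8_11 : dfsN 6 268435456 193090320 [4, 6, 7, 9, 10, 12] = true := by
  decide +kernel

set_option maxRecDepth 100000 in
theorem part_5_2_8_12 : dfsN 6 268435456 209867536 [4, 6, 7, 9, 10, 11] = true := by
  decide +kernel

theorem part_5_2_8 : dfsN 7 16777216 8540944 [4, 6, 7, 9, 10, 11, 12] = true := by
  apply dfsN_step 6 16777216 8540944 [4, 6, 7, 9, 10, 11, 12]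
  intro v hv
  simp only [List.mem_cons, List.not_mem_nil, or_false] at hv
  rcases hv with rfl | rfl | rfl | rfl | rfl | rfl | rfl
  exacts [part_5_2_8_4, part_5_2_8_6, part_5_2_8_7, part_5_2_8_9, part_5_2_8_10, part_5_2_8_11, part_5_2_8_12]

set_option maxRecDepth 100000 in
theorem part_5_2_9_4 : dfsN 6 268435456 76698384 [6, 7, 8, 10, 11, 12] = true := by
  decide +kernel

set_option maxRecDepth 100000 in
theorem part_5_2_9_6 : dfsN 6 268435456 110252816 [4, 7, 8, 10, 11, 12] = true := by
  decide +kernel

set_option maxRecDepth 100000 in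
theorem part_5_2_9_7 : dfsN 6 268435456 127030032 [4, 6, 8, 10, 11, 12] = true := by
  decide +kernel

set_option maxRecDepth 100000 in
theorem part_5_2_9_8 : dfsN 6 268435456 143807248 [4, 6, 7, 10, 11, 12] = true := by
  decide +kernel

set_option maxRecDepth 100000 in
theorem part_5_2_9_10 : dfsN 6 268435456 177361680 [4, 6, 7, 8, 11, 12] = true := by
  decide +kernel

set_option maxRecDepth 100000 in
theorem part_5_2_9_11 : dfsN 6 268435456 194138896 [4, 6, 7, 8, 10, 12] = true := by
  decide +kernel

set_option maxRecDepth 100000 in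
theorem part_5_2_9_12 : dfsN 6 268435456 210916112 [4, 6, 7, 8, 10, 11] = true := by
  decide +kernel

theorem part_5_2_9 : dfsN 7 16777216 9589520 [4, 6, 7, 8, 10, 11, 12] = true := by
  apply dfsN_step 6 16777216 9589520 [4, 6, 7, 8, 10, 11, 12]
  intro v hv
  simp only [List.mem_cons, List.not_mem_nil, or_false] at hv
  rcases hv with rfl | rfl | rfl | rfl | rfl | rfl | rfl
  exacts [part_5_2_9_4, part_5_2_9_6, part_5_2_9_7, part_5_2_9_8, part_5_2_9_10, part_5_2_9_11, part_5_2_9_12]

set_option maxRecDepth 100000 in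
theorem part_5_2_10_4 : dfsN 6 268435456 77746960 [6, 7, 8, 9, 11, 12] = true := by
  decide +kernel

set_option maxRecDepth 100000 in
theorem part_5_2_10_6 : dfsN 6 268435456 111301392 [4, 7, 8, 9, 11, 12] = true := by
  decide +kernel

set_option maxRecDepth 100000 in
theorem part_5_2_10_7 : dfsN 6 268435456 128078608 [4, 6, 8, 9, 11, 12] = true := by
  decide +kernel

set_option maxRecDepth 100000 in
theorem part_5_2_10_8 : dfsN 6 268435456 144855824 [4, 6, 7, 9, 11, 12] = true := by
  decide +kernel

set_option maxRecDepth 100000 in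
theorem part_5_2_10_9 : dfsN 6 268435456 161633040 [4, 6, 7, 8, 11, 12] = true := by
  decide +kernel

set_option maxRecDepth 100000 in
theorem part_5_2_10_11 : dfsN 6 268435456 195187472 [4, 6, 7, 8, 9, 12] = true := by
  decide +kernel

set_option maxRecDepth 100000 in
theorem part_5_2_10_12 : dfsN 6 268435456 211964688 [4, 6, 7, 8, 9, 11] = true := by
  decide +kernel

theorem part_5_2_10 : dfsN 7 16777216 10638096 [4, 6, 7, 8, 9, 11, 12] = true := by
  apply dfsN_step 6 16777216 10638096 [4, 6, 7, 8, 9, 11, 12]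
  intro v hv
  simp only [List.mem_cons, List.not_mem_nil, or_false] at hv
  rcases hv with rfl | rfl | rfl | rfl | rfl | rfl | rfl
  exacts [part_5_2_10_4, part_5_2_10_6, part_5_2_10_7, part_5_2_10_8, part_5_2_10_9, part_5_2_10_11, part_5_2_10_12]

set_option maxRecDepth 100000 in
theorem part_5_2_11_4 : dfsN 6 268435456 78795536 [6, 7, 8, 9, 10, 12] = true := by
  decide +kernel

set_option maxRecDepth 100000 in
theorem part_5_2_11_6 : dfsN 6 268435456 112349968 [4, 7, 8, 9, 10, 12] = true := by
  decide +kernel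

set_option maxRecDepth 100000 in
theorem part_5_2_11_7 : dfsN 6 268435456 129127184 [4, 6, 8, 9, 10, 12] = true := by
  decide +kernel

set_option maxRecDepth 100000 in
theorem part_5_2_11_8 : dfsN 6 268435456 145904400 [4, 6, 7, 9, 10, 12] = true := by
  decide +kernel

set_option maxRecDepth 100000 in
theorem part_5_2_11_9 : dfsN 6 268435456 162681616 [4, 6, 7, 8, 10, 12] = true := by
  decide +kernel

set_option maxRecDepth 100000 in
theorem part_5_2_11_10 : dfsN 6 268435456 179458832 [4, 6, 7, 8, 9, 12] = true := by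
  decide +kernel

set_option maxRecDepth 100000 in
theorem part_5_2_11_12 : dfsN 6 268435456 213013264 [4, 6, 7, 8, 9, 10] = true := by
  decide +kernel

theorem part_5_2_11 : dfsN 7 16777216 11686672 [4, 6, 7, 8, 9, 10, 12] = true := by
  apply dfsN_step 6 16777216 11686672 [4, 6, 7, 8, 9, 10, 12]
  intro v hv
  simp only [List.mem_cons, List.not_mem_nil, or_false] at hv
  rcases hv with rfl | rfl | rfl | rfl | rfl | rfl | rfl
  exacts [part_5_2_11_4, part_5_2_11_6, part_5_2_11_7, part_5_2_11_8, part_5_2_11_9, part_5_2_11_10, part_5_2_11_12]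

set_option maxRecDepth 100000 in
theorem part_5_2_12_4 : dfsN 6 268435456 79844112 [6, 7, 8, 9, 10, 11] = true := by
  decide +kernel

set_option maxRecDepth 100000 in
theorem part_5_2_12_6 : dfsN 6 268435456 113398544 [4, 7, 8, 9, 10, 11] = true := by
  decide +kernel

set_option maxRecDepth 100000 in
theorem part_5_2_12_7 : dfsN 6 268435456 130175760 [4, 6, 8, 9, 10, 11] = true := by
  decide +kernel

set_option maxRecDepth 100000 in
theorem part_5_2_12_8 : dfsN 6 268435456 146952976 [4, 6, 7, 9, 10, 11] = true := by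
  decide +kernel

set_option maxRecDepth 100000 in
theorem part_5_2_12_9 : dfsN 6 268435456 163730192 [4, 6, 7, 8, 10, 11] = true := by
  decide +kernel

set_option maxRecDepth 100000 in
theorem part_5_2_12_10 : dfsN 6 268435456 180507408 [4, 6, 7, 8, 9, 11] = true := by
  decide +kernel

set_option maxRecDepth 100000 in
theorem part_5_2_12_11 : dfsN 6 268435456 197284624 [4, 6, 7, 8, 9, 10] = true := by
  decide +kernel

theorem part_5_2_12 : dfsN 7 16777216 12735248 [4, 6, 7, 8, 9, 10, 11] = true := by
  apply dfsN_step 6 16777216 12735248 [4, 6, 7, 8, 9, 10, 11]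
  intro v hv
  simp only [List.mem_cons, List.not_mem_nil, or_false] at hv
  rcases hv with rfl | rfl | rfl | rfl | rfl | rfl | rfl
  exacts [part_5_2_12_4, part_5_2_12_6, part_5_2_12_7, part_5_2_12_8, part_5_2_12_9, part_5_2_12_10, part_5_2_12_11]

theorem part_5_2 : dfsN 8 1048576 152336 [4, 6, 7, 8, 9, 10, 11, 12] = true := by
  apply dfsN_step 7 1048576 152336 [4, 6, 7, 8, 9, 10, 11, 12]
  intro v hv
  simp only [List.mem_cons, List.not_mem_nil, or_false] at hv
  rcases hv with rfl | rfl | rfl | rfl | rfl | rfl | rfl | rfl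
  exacts [part_5_2_4, part_5_2_6, part_5_2_7, part_5_2_8, part_5_2_9, part_5_2_10, part_5_2_11, part_5_2_12]

end Cfsg.Agent.Lib.H16.AG
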