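import Cfsg.Agent.Lib.H16.AG.Step

set_option autoImplicit false

/-! Degree 13, images `0, 1, 3, 5, 4` of `0, 1, 2, 3, 4` fixed: every completion that is an
`11`-cycle has a word `(x ^ b * y ^ a) ^ k` which is a `3`-, `5`- or `7`-cycle
(small kernel computations, one per pair of images of `5, 6`). -/

namespace Cfsg.Agent.Lib.H16.AG

set_option maxRecDepth 100000 in
theorem part_5_4_2_6 : dfsN 6 268435456 103043856 [7, 8, 9, 10, 11, 12] = true := by
  decide +kernel

set_option maxRecDepth 100000 in
theorem part_5_4_2_7 : dfsN 6 268435456 119821072 [6, 8, 9, 10, 11, 12] = true := by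
  decide +kernel

set_option maxRecDepth 100000 in
theorem part_5_4_2_8 : dfsN 6 268435456 136598288 [6, 7, 9, 10, 11, 12] = true := by
  decide +kernel

set_option maxRecDepth 100000 in
theorem part_5_4_2_9 : dfsN 6 268435456 153375504 [6, 7, 8, 10, 11, 12] = true := by
  decide +kernel

set_option maxRecDepth 100000 in
theorem part_5_4_2_10 : dfsN 6 268435456 170152720 [6, 7, 8, 9, 11, 12] = true := by
  decide +kernel

set_option maxRecDepth 100000 in
theorem part_5_4_2_11 : dfsN 6 268435456 186929936 [6, 7, 8, 9, 10, 12] = true := by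
  decide +kernel

set_option maxRecDepth 100000 in
theorem part_5_4_2_12 : dfsN 6 268435456 203707152 [6, 7, 8, 9, 10, 11] = true := by
  decide +kernel

theorem part_5_4_2 : dfsN 7 16777216 2380560 [6, 7, 8, 9, 10, 11, 12] = true := by
  apply dfsN_step 6 16777216 2380560 [6, 7, 8, 9, 10, 11, 12]
  intro v hv
  simp only [List.mem_cons, List.not_mem_nil, or_false] at hv
  rcases hv with rfl | rfl | rfl | rfl | rfl | rfl | rfl
  exacts [part_5_4_2_6, part_5_4_2_7, part_5_4_2_8, part_5_4_2_9, part_5_4_2_10, part_5_4_2_11, part_5_4_2_12]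

set_option maxRecDepth 100000 in
theorem part_5_4_6_2 : dfsN 6 268435456 40129296 [7, 8, 9, 10, 11, 12] = true := by
  decide +kernel

set_option maxRecDepth 100000 in
theorem part_5_4_6_7 : dfsN 6 268435456 124015376 [2, 8, 9, 10, 11, 12] = true := by
  decide +kernel

set_option maxRecDepth 100000 in
theorem part_5_4_6_8 : dfsN 6 268435456 140792592 [2, 7, 9, 10, 11, 12] = true := by
  decide +kernel

set_option maxRecDepth 100000 in
theorem part_5_4_6_9 : dfsN 6 268435456 157569808 [2, 7, 8, 10, 11, 12] = true := by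
  decide +kernel

set_option maxRecDepth 100000 in
theorem part_5_4_6_10 : dfsN 6 268435456 174347024 [2, 7, 8, 9, 11, 12] = true := by
  decide +kernel

set_option maxRecDepth 100000 in
theorem part_5_4_6_11 : dfsN 6 268435456 191124240 [2, 7, 8, 9, 10, 12] = true := by
  decide +kernel

set_option maxRecDepth 100000 in
theorem part_5_4_6_12 : dfsN 6 268435456 207901456 [2, 7, 8, 9, 10, 11] = true := by
  decide +kernel

theorem part_5_4_6 : dfsN 7 16777216 6574864 [2, 7, 8, 9, 10, 11, 12] = true := by
  apply dfsN_step 6 16777216 6574864 [2, 7, 8, 9, 10, 11, 12]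
  intro v hv
  simp only [List.mem_cons, List.not_mem_nil, or_false] at hv
  rcases hv with rfl | rfl | rfl | rfl | rfl | rfl | rfl
  exacts [part_5_4_6_2, part_5_4_6_7, part_5_4_6_8, part_5_4_6_9, part_5_4_6_10, part_5_4_6_11, part_5_4_6_12]

set_option maxRecDepth 100000 in
theorem part_5_4_7_2 : dfsN 6 268435456 41177872 [6, 8, 9, 10, 11, 12] = true := by
  decide +kernel

set_option maxRecDepth 100000 in
theorem part_5_4_7_6 : dfsN 6 268435456 108286736 [2, 8, 9, 10, 11, 12] = true := by
  decide +kernel

set_option maxRecDepth 100000 in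
theorem part_5_4_7_8 : dfsN 6 268435456 141841168 [2, 6, 9, 10, 11, 12] = true := by
  decide +kernel

set_option maxRecDepth 100000 in
theorem part_5_4_7_9 : dfsN 6 268435456 158618384 [2, 6, 8, 10, 11, 12] = true := by
  decide +kernel

set_option maxRecDepth 100000 in
theorem part_5_4_7_10 : dfsN 6 268435456 175395600 [2, 6, 8, 9, 11, 12] = true := by
  decide +kernel

set_option maxRecDepth 100000 in
theorem part_5_4_7_11 : dfsN 6 268435456 192172816 [2, 6, 8, 9, 10, 12] = true := by
  decide +kernel

set_option maxRecDepth 100000 in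
theorem part_5_4_7_12 : dfsN 6 268435456 208950032 [2, 6, 8, 9, 10, 11] = true := by
  decide +kernel

theorem part_5_4_7 : dfsN 7 16777216 7623440 [2, 6, 8, 9, 10, 11, 12] = true := by
  apply dfsN_step 6 16777216 7623440 [2, 6, 8, 9, 10, 11, 12]
  intro v hv
  simp only [List.mem_cons, List.not_mem_nil, or_false] at hv
  rcases hv with rfl | rfl | rfl | rfl | rfl | rfl | rfl
  exacts [part_5_4_7_2, part_5_4_7_6, part_5_4_7_8, part_5_4_7_9, part_5_4_7_10, part_5_4_7_11, part_5_4_7_12]

set_option maxRecDepth 100000 in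
theorem part_5_4_8_2 : dfsN 6 268435456 42226448 [6, 7, 9, 10, 11, 12] = true := by
  decide +kernel

set_option maxRecDepth 100000 in
theorem part_5_4_8_6 : dfsN 6 268435456 109335312 [2, 7, 9, 10, 11, 12] = true := by
  decide +kernel

set_option maxRecDepth 100000 in
theorem part_5_4_8_7 : dfsN 6 268435456 126112528 [2, 6, 9, 10, 11, 12] = true := by
  decide +kernel

set_option maxRecDepth 100000 in
theorem part_5_4_8_9 : dfsN 6 268435456 159666960 [2, 6, 7, 10, 11, 12] = true := by
  decide +kernel

set_option maxRecDepth 100000 in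
theorem part_5_4_8_10 : dfsN 6 268435456 176444176 [2, 6, 7, 9, 11, 12] = true := by
  decide +kernel

set_option maxRecDepth 100000 in
theorem part_5_4_8_11 : dfsN 6 268435456 193221392 [2, 6, 7, 9, 10, 12] = true := by
  decide +kernel

set_option maxRecDepth 100000 in
theorem part_5_4_8_12 : dfsN 6 268435456 209998608 [2, 6, 7, 9, 10, 11] = true := by
  decide +kernel

theorem part_5_4_8 : dfsN 7 16777216 8672016 [2, 6, 7, 9, 10, 11, 12] = true := by
  apply dfsN_step 6 16777216 8672016 [2, 6, 7, 9, 10, 11, 12]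
  intro v hv
  simp only [List.mem_cons, List.not_mem_nil, or_false] at hv
  rcases hv with rfl | rfl | rfl | rfl | rfl | rfl | rfl
  exacts [part_5_4_8_2, part_5_4_8_6, part_5_4_8_7, part_5_4_8_9, part_5_4_8_10, part_5_4_8_11, part_5_4_8_12]

set_option maxRecDepth 100000 in
theorem part_5_4_9_2 : dfsN 6 268435456 43275024 [6, 7, 8, 10, 11, 12] = true := by
  decide +kernel

set_option maxRecDepth 100000 in
theorem part_5_4_9_6 : dfsN 6 268435456 110383888 [2, 7, 8, 10, 11, 12] = true := by
  decide +kernel

set_option maxRecDepth 100000 in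
theorem part_5_4_9_7 : dfsN 6 268435456 127161104 [2, 6, 8, 10, 11, 12] = true := by
  decide +kernel

set_option maxRecDepth 100000 in
theorem part_5_4_9_8 : dfsN 6 268435456 143938320 [2, 6, 7, 10, 11, 12] = true := by
  decide +kernel

set_option maxRecDepth 100000 in
theorem part_5_4_9_10 : dfsN 6 268435456 177492752 [2, 6, 7, 8, 11, 12] = true := by
  decide +kernel

set_option maxRecDepth 100000 in
theorem part_5_4_9_11 : dfsN 6 268435456 194269968 [2, 6, 7, 8, 10, 12] = true := by
  decide +kernel

set_option maxRecDepth 100000 in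
theorem part_5_4_9_12 : dfsN 6 268435456 211047184 [2, 6, 7, 8, 10, 11] = true := by
  decide +kernel

theorem part_5_4_9 : dfsN 7 16777216 9720592 [2, 6, 7, 8, 10, 11, 12] = true := by
  apply dfsN_step 6 16777216 9720592 [2, 6, 7, 8, 10, 11, 12]
  intro v hv
  simp only [List.mem_cons, List.not_mem_nil, or_false] at hv
  rcases hv with rfl | rfl | rfl | rfl | rfl | rfl | rfl
  exacts [part_5_4_9_2, part_5_4_9_6, part_5_4_9_7, part_5_4_9_8, part_5_4_9_10, part_5_4_9_11, part_5_4_9_12]

set_option maxRecDepth 100000 in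
theorem part_5_4_10_2 : dfsN 6 268435456 44323600 [6, 7, 8, 9, 11, 12] = true := by
  decide +kernel

set_option maxRecDepth 100000 in
theorem part_5_4_10_6 : dfsN 6 268435456 111432464 [2, 7, 8, 9, 11, 12] = true := by
  decide +kernel

set_option maxRecDepth 100000 in
theorem part_5_4_10_7 : dfsN 6 268435456 128209680 [2, 6, 8, 9, 11, 12] = true := by
  decide +kernel

set_option maxRecDepth 100000 in
theorem part_5_4_10_8 : dfsN 6 268435456 144986896 [2, 6, 7, 9, 11, 12] = true := by
  decide +kernel

set_option maxRecDepth 100000 in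
theorem part_5_4_10_9 : dfsN 6 268435456 161764112 [2, 6, 7, 8, 11, 12] = true := by
  decide +kernel

set_option maxRecDepth 100000 in
theorem part_5_4_10_11 : dfsN 6 268435456 195318544 [2, 6, 7, 8, 9, 12] = true := by
  decide +kernel

set_option maxRecDepth 100000 in
theorem part_5_4_10_12 : dfsN 6 268435456 212095760 [2, 6, 7, 8, 9, 11] = true := by
  decide +kernel

theorem part_5_4_10 : dfsN 7 16777216 10769168 [2, 6, 7, 8, 9, 11, 12] = true := by
  apply dfsN_step 6 16777216 10769168 [2, 6, 7, 8, 9, 11, 12]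
  intro v hv
  simp only [List.mem_cons, List.not_mem_nil, or_false] at hv
  rcases hv with rfl | rfl | rfl | rfl | rfl | rfl | rfl
  exacts [part_5_4_10_2, part_5_4_10_6, part_5_4_10_7, part_5_4_10_8, part_5_4_10_9, part_5_4_10_11, part_5_4_10_12]

set_option maxRecDepth 100000 in
theorem part_5_4_11_2 : dfsN 6 268435456 45372176 [6, 7, 8, 9, 10, 12] = true := by
  decide +kernel

set_option maxRecDepth 100000 in
theorem part_5_4_11_6 : dfsN 6 268435456 112481040 [2, 7, 8, 9, 10, 12] = true := by
  decide +kernel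

set_option maxRecDepth 100000 in
theorem part_5_4_11_7 : dfsN 6 268435456 129258256 [2, 6, 8, 9, 10, 12] = true := by
  decide +kernel

set_option maxRecDepth 100000 in
theorem part_5_4_11_8 : dfsN 6 268435456 146035472 [2, 6, 7, 9, 10, 12] = true := by
  decide +kernel

set_option maxRecDepth 100000 in
theorem part_5_4_11_9 : dfsN 6 268435456 162812688 [2, 6, 7, 8, 10, 12] = true := by
  decide +kernel

set_option maxRecDepth 100000 in
theorem part_5_4_11_10 : dfsN 6 268435456 179589904 [2, 6, 7, 8, 9, 12] = true := by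
  decide +kernel

set_option maxRecDepth 100000 in
theorem part_5_4_11_12 : dfsN 6 268435456 213144336 [2, 6, 7, 8, 9, 10] = true := by
  decide +kernel

theorem part_5_4_11 : dfsN 7 16777216 11817744 [2, 6, 7, 8, 9, 10, 12] = true := by
  apply dfsN_step 6 16777216 11817744 [2, 6, 7, 8, 9, 10, 12]
  intro v hv
  simp only [List.mem_cons, List.not_mem_nil, or_false] at hv
  rcases hv with rfl | rfl | rfl | rfl | rfl | rfl | rfl
  exacts [part_5_4_11_2, part_5_4_11_6, part_5_4_11_7, part_5_4_11_8, part_5_4_11_9, part_5_4_11_10, part_5_4_11_12]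

set_option maxRecDepth 100000 in
theorem part_5_4_12_2 : dfsN 6 268435456 46420752 [6, 7, 8, 9, 10, 11] = true := by
  decide +kernel

set_option maxRecDepth 100000 in
theorem part_5_4_12_6 : dfsN 6 268435456 113529616 [2, 7, 8, 9, 10, 11] = true := by
  decide +kernel

set_option maxRecDepth 100000 in
theorem part_5_4_12_7 : dfsN 6 268435456 130306832 [2, 6, 8, 9, 10, 11] = true := by
  decide +kernel

set_option maxRecDepth 100000 in
theorem part_5_4_12_8 : dfsN 6 268435456 147084048 [2, 6, 7, 9, 10, 11] = true := by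
  decide +kernel

set_option maxRecDepth 100000 in
theorem part_5_4_12_9 : dfsN 6 268435456 163861264 [2, 6, 7, 8, 10, 11] = true := by
  decide +kernel

set_option maxRecDepth 100000 in
theorem part_5_4_12_10 : dfsN 6 268435456 180638480 [2, 6, 7, 8, 9, 11] = true := by
  decide +kernel

set_option maxRecDepth 100000 in
theorem part_5_4_12_11 : dfsN 6 268435456 197415696 [2, 6, 7, 8, 9, 10] = true := by
  decide +kernel

theorem part_5_4_12 : dfsN 7 16777216 12866320 [2, 6, 7, 8, 9, 10, 11] = true := by
  apply dfsN_step 6 16777216 12866320 [2, 6, 7, 8, 9, 10, 11]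
  intro v hv
  simp only [List.mem_cons, List.not_mem_nil, or_false] at hv
  rcases hv with rfl | rfl | rfl | rfl | rfl | rfl | rfl
  exacts [part_5_4_12_2, part_5_4_12_6, part_5_4_12_7, part_5_4_12_8, part_5_4_12_9, part_5_4_12_10, part_5_4_12_11]

theorem part_5_4 : dfsN 8 1048576 283408 [2, 6, 7, 8, 9, 10, 11, 12] = true := by
  apply dfsN_step 7 1048576 283408 [2, 6, 7, 8, 9, 10, 11, 12]
  intro v hv
  simp only [List.mem_cons, List.not_mem_nil, or_false] at hv
  rcases hv with rfl | rfl | rfl | rfl | rfl | rfl | rfl | rfl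
  exacts [part_5_4_2, part_5_4_6, part_5_4_7, part_5_4_8, part_5_4_9, part_5_4_10, part_5_4_11, part_5_4_12]

end Cfsg.Agent.Lib.H16.AG
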