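import Cfsg.Agent.Lib.H16.AG.Step

set_option autoImplicit false

/-! Degree 13, images `0, 1, 3, 5, 6` of `0, 1, 2, 3, 4` fixed: every completion that is an
`11`-cycle has a word `(x ^ b * y ^ a) ^ k` which is a `3`-, `5`- or `7`-cycle
(small kernel computations, one per pair of images of `5, 6`). -/

namespace Cfsg.Agent.Lib.H16.AG

set_option maxRecDepth 100000 in
theorem part_5_6_2_4 : dfsN 6 268435456 69620496 [7, 8, 9, 10, 11, 12] = true := by
  decide +kernel

set_option maxRecDepth 100000 in
theorem part_5_6_2_7 : dfsN 6 268435456 119952144 [4, 8, 9, 10, 11, 12] = true := by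
  decide +kernel

set_option maxRecDepth 100000 in
theorem part_5_6_2_8 : dfsN 6 268435456 136729360 [4, 7, 9, 10, 11, 12] = true := by
  decide +kernel

set_option maxRecDepth 100000 in
theorem part_5_6_2_9 : dfsN 6 268435456 153506576 [4, 7, 8, 10, 11, 12] = true := by
  decide +kernel

set_option maxRecDepth 100000 in
theorem part_5_6_2_10 : dfsN 6 268435456 170283792 [4, 7, 8, 9, 11, 12] = true := by
  decide +kernel

set_option maxRecDepth 100000 in
theorem part_5_6_2_11 : dfsN 6 268435456 187061008 [4, 7, 8, 9, 10, 12] = true := by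
  decide +kernel

set_option maxRecDepth 100000 in
theorem part_5_6_2_12 : dfsN 6 268435456 203838224 [4, 7, 8, 9, 10, 11] = true := by
  decide +kernel

theorem part_5_6_2 : dfsN 7 16777216 2511632 [4, 7, 8, 9, 10, 11, 12] = true := by
  apply dfsN_step 6 16777216 2511632 [4, 7, 8, 9, 10, 11, 12]
  intro v hv
  simp only [List.mem_cons, List.not_mem_nil, or_false] at hv
  rcases hv with rfl | rfl | rfl | rfl | rfl | rfl | rfl
  exacts [part_5_6_2_4, part_5_6_2_7, part_5_6_2_8, part_5_6_2_9, part_5_6_2_10, part_5_6_2_11, part_5_6_2_12]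

set_option maxRecDepth 100000 in
theorem part_5_6_4_2 : dfsN 6 268435456 38163216 [7, 8, 9, 10, 11, 12] = true := by
  decide +kernel

set_option maxRecDepth 100000 in
theorem part_5_6_4_7 : dfsN 6 268435456 122049296 [2, 8, 9, 10, 11, 12] = true := by
  decide +kernel

set_option maxRecDepth 100000 in
theorem part_5_6_4_8 : dfsN 6 268435456 138826512 [2, 7, 9, 10, 11, 12] = true := by
  decide +kernel

set_option maxRecDepth 100000 in
theorem part_5_6_4_9 : dfsN 6 268435456 155603728 [2, 7, 8, 10, 11, 12] = true := by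
  decide +kernel

set_option maxRecDepth 100000 in
theorem part_5_6_4_10 : dfsN 6 268435456 172380944 [2, 7, 8, 9, 11, 12] = true := by
  decide +kernel

set_option maxRecDepth 100000 in
theorem part_5_6_4_11 : dfsN 6 268435456 189158160 [2, 7, 8, 9, 10, 12] = true := by
  decide +kernel

set_option maxRecDepth 100000 in
theorem part_5_6_4_12 : dfsN 6 268435456 205935376 [2, 7, 8, 9, 10, 11] = true := by
  decide +kernel

theorem part_5_6_4 : dfsN 7 16777216 4608784 [2, 7, 8, 9, 10, 11, 12] = true := by
  apply dfsN_step 6 16777216 4608784 [2, 7, 8, 9, 10, 11, 12]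
  intro v hv
  simp only [List.mem_cons, List.not_mem_nil, or_false] at hv
  rcases hv with rfl | rfl | rfl | rfl | rfl | rfl | rfl
  exacts [part_5_6_4_2, part_5_6_4_7, part_5_6_4_8, part_5_6_4_9, part_5_6_4_10, part_5_6_4_11, part_5_6_4_12]

set_option maxRecDepth 100000 in
theorem part_5_6_7_2 : dfsN 6 268435456 41308944 [4, 8, 9, 10, 11, 12] = true := by
  decide +kernel

set_option maxRecDepth 100000 in
theorem part_5_6_7_4 : dfsN 6 268435456 74863376 [2, 8, 9, 10, 11, 12] = true := by
  decide +kernel

set_option maxRecDepth 100000 in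
theorem part_5_6_7_8 : dfsN 6 268435456 141972240 [2, 4, 9, 10, 11, 12] = true := by
  decide +kernel

set_option maxRecDepth 100000 in
theorem part_5_6_7_9 : dfsN 6 268435456 158749456 [2, 4, 8, 10, 11, 12] = true := by
  decide +kernel

set_option maxRecDepth 100000 in
theorem part_5_6_7_10 : dfsN 6 268435456 175526672 [2, 4, 8, 9, 11, 12] = true := by
  decide +kernel

set_option maxRecDepth 100000 in
theorem part_5_6_7_11 : dfsN 6 268435456 192303888 [2, 4, 8, 9, 10, 12] = true := by
  decide +kernel

set_option maxRecDepth 100000 in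
theorem part_5_6_7_12 : dfsN 6 268435456 209081104 [2, 4, 8, 9, 10, 11] = true := by
  decide +kernel

theorem part_5_6_7 : dfsN 7 16777216 7754512 [2, 4, 8, 9, 10, 11, 12] = true := by
  apply dfsN_step 6 16777216 7754512 [2, 4, 8, 9, 10, 11, 12]
  intro v hv
  simp only [List.mem_cons, List.not_mem_nil, or_false] at hv
  rcases hv with rfl | rfl | rfl | rfl | rfl | rfl | rfl
  exacts [part_5_6_7_2, part_5_6_7_4, part_5_6_7_8, part_5_6_7_9, part_5_6_7_10, part_5_6_7_11, part_5_6_7_12]

set_option maxRecDepth 100000 in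
theorem part_5_6_8_2 : dfsN 6 268435456 42357520 [4, 7, 9, 10, 11, 12] = true := by
  decide +kernel

set_option maxRecDepth 100000 in
theorem part_5_6_8_4 : dfsN 6 268435456 75911952 [2, 7, 9, 10, 11, 12] = true := by
  decide +kernel

set_option maxRecDepth 100000 in
theorem part_5_6_8_7 : dfsN 6 268435456 126243600 [2, 4, 9, 10, 11, 12] = true := by
  decide +kernel

set_option maxRecDepth 100000 in
theorem part_5_6_8_9 : dfsN 6 268435456 159798032 [2, 4, 7, 10, 11, 12] = true := by
  decide +kernel

set_option maxRecDepth 100000 in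
theorem part_5_6_8_10 : dfsN 6 268435456 176575248 [2, 4, 7, 9, 11, 12] = true := by
  decide +kernel

set_option maxRecDepth 100000 in
theorem part_5_6_8_11 : dfsN 6 268435456 193352464 [2, 4, 7, 9, 10, 12] = true := by
  decide +kernel

set_option maxRecDepth 100000 in
theorem part_5_6_8_12 : dfsN 6 268435456 210129680 [2, 4, 7, 9, 10, 11] = true := by
  decide +kernel

theorem part_5_6_8 : dfsN 7 16777216 8803088 [2, 4, 7, 9, 10, 11, 12] = true := by
  apply dfsN_step 6 16777216 8803088 [2, 4, 7, 9, 10, 11, 12]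
  intro v hv
  simp only [List.mem_cons, List.not_mem_nil, or_false] at hv
  rcases hv with rfl | rfl | rfl | rfl | rfl | rfl | rfl
  exacts [part_5_6_8_2, part_5_6_8_4, part_5_6_8_7, part_5_6_8_9, part_5_6_8_10, part_5_6_8_11, part_5_6_8_12]

set_option maxRecDepth 100000 in
theorem part_5_6_9_2 : dfsN 6 268435456 43406096 [4, 7, 8, 10, 11, 12] = true := by
  decide +kernel

set_option maxRecDepth 100000 in
theorem part_5_6_9_4 : dfsN 6 268435456 76960528 [2, 7, 8, 10, 11, 12] = true := by
  decide +kernel

set_option maxRecDepth 100000 in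
theorem part_5_6_9_7 : dfsN 6 268435456 127292176 [2, 4, 8, 10, 11, 12] = true := by
  decide +kernel

set_option maxRecDepth 100000 in
theorem part_5_6_9_8 : dfsN 6 268435456 144069392 [2, 4, 7, 10, 11, 12] = true := by
  decide +kernel

set_option maxRecDepth 100000 in
theorem part_5_6_9_10 : dfsN 6 268435456 177623824 [2, 4, 7, 8, 11, 12] = true := by
  decide +kernel

set_option maxRecDepth 100000 in
theorem part_5_6_9_11 : dfsN 6 268435456 194401040 [2, 4, 7, 8, 10, 12] = true := by
  decide +kernel

set_option maxRecDepth 100000 in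
theorem part_5_6_9_12 : dfsN 6 268435456 211178256 [2, 4, 7, 8, 10, 11] = true := by
  decide +kernel

theorem part_5_6_9 : dfsN 7 16777216 9851664 [2, 4, 7, 8, 10, 11, 12] = true := by
  apply dfsN_step 6 16777216 9851664 [2, 4, 7, 8, 10, 11, 12]
  intro v hv
  simp only [List.mem_cons, List.not_mem_nil, or_false] at hv
  rcases hv with rfl | rfl | rfl | rfl | rfl | rfl | rfl
  exacts [part_5_6_9_2, part_5_6_9_4, part_5_6_9_7, part_5_6_9_8, part_5_6_9_10, part_5_6_9_11, part_5_6_9_12]

set_option maxRecDepth 100000 in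
theorem part_5_6_10_2 : dfsN 6 268435456 44454672 [4, 7, 8, 9, 11, 12] = true := by
  decide +kernel

set_option maxRecDepth 100000 in
theorem part_5_6_10_4 : dfsN 6 268435456 78009104 [2, 7, 8, 9, 11, 12] = true := by
  decide +kernel

set_option maxRecDepth 100000 in
theorem part_5_6_10_7 : dfsN 6 268435456 128340752 [2, 4, 8, 9, 11, 12] = true := by
  decide +kernel

set_option maxRecDepth 100000 in
theorem part_5_6_10_8 : dfsN 6 268435456 145117968 [2, 4, 7, 9, 11, 12] = true := by
  decide +kernel

set_option maxRecDepth 100000 in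
theorem part_5_6_10_9 : dfsN 6 268435456 161895184 [2, 4, 7, 8, 11, 12] = true := by
  decide +kernel

set_option maxRecDepth 100000 in
theorem part_5_6_10_11 : dfsN 6 268435456 195449616 [2, 4, 7, 8, 9, 12] = true := by
  decide +kernel

set_option maxRecDepth 100000 in
theorem part_5_6_10_12 : dfsN 6 268435456 212226832 [2, 4, 7, 8, 9, 11] = true := by
  decide +kernel

theorem part_5_6_10 : dfsN 7 16777216 10900240 [2, 4, 7, 8, 9, 11, 12] = true := by
  apply dfsN_step 6 16777216 10900240 [2, 4, 7, 8, 9, 11, 12]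
  intro v hv
  simp only [List.mem_cons, List.not_mem_nil, or_false] at hv
  rcases hv with rfl | rfl | rfl | rfl | rfl | rfl | rfl
  exacts [part_5_6_10_2, part_5_6_10_4, part_5_6_10_7, part_5_6_10_8, part_5_6_10_9, part_5_6_10_11, part_5_6_10_12]

set_option maxRecDepth 100000 in
theorem part_5_6_11_2 : dfsN 6 268435456 45503248 [4, 7, 8, 9, 10, 12] = true := by
  decide +kernel

set_option maxRecDepth 100000 in
theorem part_5_6_11_4 : dfsN 6 268435456 79057680 [2, 7, 8, 9, 10, 12] = true := by
  decide +kernel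

set_option maxRecDepth 100000 in
theorem part_5_6_11_7 : dfsN 6 268435456 129389328 [2, 4, 8, 9, 10, 12] = true := by
  decide +kernel

set_option maxRecDepth 100000 in
theorem part_5_6_11_8 : dfsN 6 268435456 146166544 [2, 4, 7, 9, 10, 12] = true := by
  decide +kernel

set_option maxRecDepth 100000 in
theorem part_5_6_11_9 : dfsN 6 268435456 162943760 [2, 4, 7, 8, 10, 12] = true := by
  decide +kernel

set_option maxRecDepth 100000 in
theorem part_5_6_11_10 : dfsN 6 268435456 179720976 [2, 4, 7, 8, 9, 12] = true := by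
  decide +kernel

set_option maxRecDepth 100000 in
theorem part_5_6_11_12 : dfsN 6 268435456 213275408 [2, 4, 7, 8, 9, 10] = true := by
  decide +kernel

theorem part_5_6_11 : dfsN 7 16777216 11948816 [2, 4, 7, 8, 9, 10, 12] = true := by
  apply dfsN_step 6 16777216 11948816 [2, 4, 7, 8, 9, 10, 12]
  intro v hv
  simp only [List.mem_cons, List.not_mem_nil, or_false] at hv
  rcases hv with rfl | rfl | rfl | rfl | rfl | rfl | rfl
  exacts [part_5_6_11_2, part_5_6_11_4, part_5_6_11_7, part_5_6_11_8, part_5_6_11_9, part_5_6_11_10, part_5_6_11_12]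

set_option maxRecDepth 100000 in
theorem part_5_6_12_2 : dfsN 6 268435456 46551824 [4, 7, 8, 9, 10, 11] = true := by
  decide +kernel

set_option maxRecDepth 100000 in
theorem part_5_6_12_4 : dfsN 6 268435456 80106256 [2, 7, 8, 9, 10, 11] = true := by
  decide +kernel

set_option maxRecDepth 100000 in
theorem part_5_6_12_7 : dfsN 6 268435456 130437904 [2, 4, 8, 9, 10, 11] = true := by
  decide +kernel

set_option maxRecDepth 100000 in
theorem part_5_6_12_8 : dfsN 6 268435456 147215120 [2, 4, 7, 9, 10, 11] = true := by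
  decide +kernel

set_option maxRecDepth 100000 in
theorem part_5_6_12_9 : dfsN 6 268435456 163992336 [2, 4, 7, 8, 10, 11] = true := by
  decide +kernel

set_option maxRecDepth 100000 in
theorem part_5_6_12_10 : dfsN 6 268435456 180769552 [2, 4, 7, 8, 9, 11] = true := by
  decide +kernel

set_option maxRecDepth 100000 in
theorem part_5_6_12_11 : dfsN 6 268435456 197546768 [2, 4, 7, 8, 9, 10] = true := by
  decide +kernel

theorem part_5_6_12 : dfsN 7 16777216 12997392 [2, 4, 7, 8, 9, 10, 11] = true := by
  apply dfsN_step 6 16777216 12997392 [2, 4, 7, 8, 9, 10, 11]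
  intro v hv
  simp only [List.mem_cons, List.not_mem_nil, or_false] at hv
  rcases hv with rfl | rfl | rfl | rfl | rfl | rfl | rfl
  exacts [part_5_6_12_2, part_5_6_12_4, part_5_6_12_7, part_5_6_12_8, part_5_6_12_9, part_5_6_12_10, part_5_6_12_11]

theorem part_5_6 : dfsN 8 1048576 414480 [2, 4, 7, 8, 9, 10, 11, 12] = true := by
  apply dfsN_step 7 1048576 414480 [2, 4, 7, 8, 9, 10, 11, 12]
  intro v hv
  simp only [List.mem_cons, List.not_mem_nil, or_false] at hv
  rcases hv with rfl | rfl | rfl | rfl | rfl | rfl | rfl | rfl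
  exacts [part_5_6_2, part_5_6_4, part_5_6_7, part_5_6_8, part_5_6_9, part_5_6_10, part_5_6_11, part_5_6_12]

end Cfsg.Agent.Lib.H16.AG
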