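import Cfsg.Agent.Lib.H16.AG.Step

set_option autoImplicit false

/-! Degree 13, images `0, 1, 3, 5, 7` of `0, 1, 2, 3, 4` fixed: every completion that is an
`11`-cycle has a word `(x ^ b * y ^ a) ^ k` which is a `3`-, `5`- or `7`-cycle
(small kernel computations, one per pair of images of `5, 6`). -/

namespace Cfsg.Agent.Lib.H16.AG

set_option maxRecDepth 100000 in
theorem part_5_7_2_4 : dfsN 6 268435456 69686032 [6, 8, 9, 10, 11, 12] = true := by
  decide +kernel

set_option maxRecDepth 100000 in
theorem part_5_7_2_6 : dfsN 6 268435456 103240464 [4, 8, 9, 10, 11, 12] = true := by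
  decide +kernel

set_option maxRecDepth 100000 in
theorem part_5_7_2_8 : dfsN 6 268435456 136794896 [4, 6, 9, 10, 11, 12] = true := by
  decide +kernel

set_option maxRecDepth 100000 in
theorem part_5_7_2_9 : dfsN 6 268435456 153572112 [4, 6, 8, 10, 11, 12] = true := by
  decide +kernel

set_option maxRecDepth 100000 in
theorem part_5_7_2_10 : dfsN 6 268435456 170349328 [4, 6, 8, 9, 11, 12] = true := by
  decide +kernel

set_option maxRecDepth 100000 in
theorem part_5_7_2_11 : dfsN 6 268435456 187126544 [4, 6, 8, 9, 10, 12] = true := by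
  decide +kernel

set_option maxRecDepth 100000 in
theorem part_5_7_2_12 : dfsN 6 268435456 203903760 [4, 6, 8, 9, 10, 11] = true := by
  decide +kernel

theorem part_5_7_2 : dfsN 7 16777216 2577168 [4, 6, 8, 9, 10, 11, 12] = true := by
  apply dfsN_step 6 16777216 2577168 [4, 6, 8, 9, 10, 11, 12]
  intro v hv
  simp only [List.mem_cons, List.not_mem_nil, or_false] at hv
  rcases hv with rfl | rfl | rfl | rfl | rfl | rfl | rfl
  exacts [part_5_7_2_4, part_5_7_2_6, part_5_7_2_8, part_5_7_2_9, part_5_7_2_10, part_5_7_2_11, part_5_7_2_12]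

set_option maxRecDepth 100000 in
theorem part_5_7_4_2 : dfsN 6 268435456 38228752 [6, 8, 9, 10, 11, 12] = true := by
  decide +kernel

set_option maxRecDepth 100000 in
theorem part_5_7_4_6 : dfsN 6 268435456 105337616 [2, 8, 9, 10, 11, 12] = true := by
  decide +kernel

set_option maxRecDepth 100000 in
theorem part_5_7_4_8 : dfsN 6 268435456 138892048 [2, 6, 9, 10, 11, 12] = true := by
  decide +kernel

set_option maxRecDepth 100000 in
theorem part_5_7_4_9 : dfsN 6 268435456 155669264 [2, 6, 8, 10, 11, 12] = true := by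
  decide +kernel

set_option maxRecDepth 100000 in
theorem part_5_7_4_10 : dfsN 6 268435456 172446480 [2, 6, 8, 9, 11, 12] = true := by
  decide +kernel

set_option maxRecDepth 100000 in
theorem part_5_7_4_11 : dfsN 6 268435456 189223696 [2, 6, 8, 9, 10, 12] = true := by
  decide +kernel

set_option maxRecDepth 100000 in
theorem part_5_7_4_12 : dfsN 6 268435456 206000912 [2, 6, 8, 9, 10, 11] = true := by
  decide +kernel

theorem part_5_7_4 : dfsN 7 16777216 4674320 [2, 6, 8, 9, 10, 11, 12] = true := by
  apply dfsN_step 6 16777216 4674320 [2, 6, 8, 9, 10, 11, 12]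
  intro v hv
  simp only [List.mem_cons, List.not_mem_nil, or_false] at hv
  rcases hv with rfl | rfl | rfl | rfl | rfl | rfl | rfl
  exacts [part_5_7_4_2, part_5_7_4_6, part_5_7_4_8, part_5_7_4_9, part_5_7_4_10, part_5_7_4_11, part_5_7_4_12]

set_option maxRecDepth 100000 in
theorem part_5_7_6_2 : dfsN 6 268435456 40325904 [4, 8, 9, 10, 11, 12] = true := by
  decide +kernel

set_option maxRecDepth 100000 in
theorem part_5_7_6_4 : dfsN 6 268435456 73880336 [2, 8, 9, 10, 11, 12] = true := by
  decide +kernel

set_option maxRecDepth 100000 in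
theorem part_5_7_6_8 : dfsN 6 268435456 140989200 [2, 4, 9, 10, 11, 12] = true := by
  decide +kernel

set_option maxRecDepth 100000 in
theorem part_5_7_6_9 : dfsN 6 268435456 157766416 [2, 4, 8, 10, 11, 12] = true := by
  decide +kernel

set_option maxRecDepth 100000 in
theorem part_5_7_6_10 : dfsN 6 268435456 174543632 [2, 4, 8, 9, 11, 12] = true := by
  decide +kernel

set_option maxRecDepth 100000 in
theorem part_5_7_6_11 : dfsN 6 268435456 191320848 [2, 4, 8, 9, 10, 12] = true := by
  decide +kernel

set_option maxRecDepth 100000 in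
theorem part_5_7_6_12 : dfsN 6 268435456 208098064 [2, 4, 8, 9, 10, 11] = true := by
  decide +kernel

theorem part_5_7_6 : dfsN 7 16777216 6771472 [2, 4, 8, 9, 10, 11, 12] = true := by
  apply dfsN_step 6 16777216 6771472 [2, 4, 8, 9, 10, 11, 12]
  intro v hv
  simp only [List.mem_cons, List.not_mem_nil, or_false] at hv
  rcases hv with rfl | rfl | rfl | rfl | rfl | rfl | rfl
  exacts [part_5_7_6_2, part_5_7_6_4, part_5_7_6_8, part_5_7_6_9, part_5_7_6_10, part_5_7_6_11, part_5_7_6_12]

set_option maxRecDepth 100000 in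
theorem part_5_7_8_2 : dfsN 6 268435456 42423056 [4, 6, 9, 10, 11, 12] = true := by
  decide +kernel

set_option maxRecDepth 100000 in
theorem part_5_7_8_4 : dfsN 6 268435456 75977488 [2, 6, 9, 10, 11, 12] = true := by
  decide +kernel

set_option maxRecDepth 100000 in
theorem part_5_7_8_6 : dfsN 6 268435456 109531920 [2, 4, 9, 10, 11, 12] = true := by
  decide +kernel

set_option maxRecDepth 100000 in
theorem part_5_7_8_9 : dfsN 6 268435456 159863568 [2, 4, 6, 10, 11, 12] = true := by
  decide +kernel

set_option maxRecDepth 100000 in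
theorem part_5_7_8_10 : dfsN 6 268435456 176640784 [2, 4, 6, 9, 11, 12] = true := by
  decide +kernel

set_option maxRecDepth 100000 in
theorem part_5_7_8_11 : dfsN 6 268435456 193418000 [2, 4, 6, 9, 10, 12] = true := by
  decide +kernel

set_option maxRecDepth 100000 in
theorem part_5_7_8_12 : dfsN 6 268435456 210195216 [2, 4, 6, 9, 10, 11] = true := by
  decide +kernel

theorem part_5_7_8 : dfsN 7 16777216 8868624 [2, 4, 6, 9, 10, 11, 12] = true := by
  apply dfsN_step 6 16777216 8868624 [2, 4, 6, 9, 10, 11, 12]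
  intro v hv
  simp only [List.mem_cons, List.not_mem_nil, or_false] at hv
  rcases hv with rfl | rfl | rfl | rfl | rfl | rfl | rfl
  exacts [part_5_7_8_2, part_5_7_8_4, part_5_7_8_6, part_5_7_8_9, part_5_7_8_10, part_5_7_8_11, part_5_7_8_12]

set_option maxRecDepth 100000 in
theorem part_5_7_9_2 : dfsN 6 268435456 43471632 [4, 6, 8, 10, 11, 12] = true := by
  decide +kernel

set_option maxRecDepth 100000 in
theorem part_5_7_9_4 : dfsN 6 268435456 77026064 [2, 6, 8, 10, 11, 12] = true := by
  decide +kernel

set_option maxRecDepth 100000 in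
theorem part_5_7_9_6 : dfsN 6 268435456 110580496 [2, 4, 8, 10, 11, 12] = true := by
  decide +kernel

set_option maxRecDepth 100000 in
theorem part_5_7_9_8 : dfsN 6 268435456 144134928 [2, 4, 6, 10, 11, 12] = true := by
  decide +kernel

set_option maxRecDepth 100000 in
theorem part_5_7_9_10 : dfsN 6 268435456 177689360 [2, 4, 6, 8, 11, 12] = true := by
  decide +kernel

set_option maxRecDepth 100000 in
theorem part_5_7_9_11 : dfsN 6 268435456 194466576 [2, 4, 6, 8, 10, 12] = true := by
  decide +kernel

set_option maxRecDepth 100000 in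
theorem part_5_7_9_12 : dfsN 6 268435456 211243792 [2, 4, 6, 8, 10, 11] = true := by
  decide +kernel

theorem part_5_7_9 : dfsN 7 16777216 9917200 [2, 4, 6, 8, 10, 11, 12] = true := by
  apply dfsN_step 6 16777216 9917200 [2, 4, 6, 8, 10, 11, 12]
  intro v hv
  simp only [List.mem_cons, List.not_mem_nil, or_false] at hv
  rcases hv with rfl | rfl | rfl | rfl | rfl | rfl | rfl
  exacts [part_5_7_9_2, part_5_7_9_4, part_5_7_9_6, part_5_7_9_8, part_5_7_9_10, part_5_7_9_11, part_5_7_9_12]

set_option maxRecDepth 100000 in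
theorem part_5_7_10_2 : dfsN 6 268435456 44520208 [4, 6, 8, 9, 11, 12] = true := by
  decide +kernel

set_option maxRecDepth 100000 in
theorem part_5_7_10_4 : dfsN 6 268435456 78074640 [2, 6, 8, 9, 11, 12] = true := by
  decide +kernel

set_option maxRecDepth 100000 in
theorem part_5_7_10_6 : dfsN 6 268435456 111629072 [2, 4, 8, 9, 11, 12] = true := by
  decide +kernel

set_option maxRecDepth 100000 in
theorem part_5_7_10_8 : dfsN 6 268435456 145183504 [2, 4, 6, 9, 11, 12] = true := by
  decide +kernel

set_option maxRecDepth 100000 in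
theorem part_5_7_10_9 : dfsN 6 268435456 161960720 [2, 4, 6, 8, 11, 12] = true := by
  decide +kernel

set_option maxRecDepth 100000 in
theorem part_5_7_10_11 : dfsN 6 268435456 195515152 [2, 4, 6, 8, 9, 12] = true := by
  decide +kernel

set_option maxRecDepth 100000 in
theorem part_5_7_10_12 : dfsN 6 268435456 212292368 [2, 4, 6, 8, 9, 11] = true := by
  decide +kernel

theorem part_5_7_10 : dfsN 7 16777216 10965776 [2, 4, 6, 8, 9, 11, 12] = true := by
  apply dfsN_step 6 16777216 10965776 [2, 4, 6, 8, 9, 11, 12]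
  intro v hv
  simp only [List.mem_cons, List.not_mem_nil, or_false] at hv
  rcases hv with rfl | rfl | rfl | rfl | rfl | rfl | rfl
  exacts [part_5_7_10_2, part_5_7_10_4, part_5_7_10_6, part_5_7_10_8, part_5_7_10_9, part_5_7_10_11, part_5_7_10_12]

set_option maxRecDepth 100000 in
theorem part_5_7_11_2 : dfsN 6 268435456 45568784 [4, 6, 8, 9, 10, 12] = true := by
  decide +kernel

set_option maxRecDepth 100000 in
theorem part_5_7_11_4 : dfsN 6 268435456 79123216 [2, 6, 8, 9, 10, 12] = true := by
  decide +kernel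

set_option maxRecDepth 100000 in
theorem part_5_7_11_6 : dfsN 6 268435456 112677648 [2, 4, 8, 9, 10, 12] = true := by
  decide +kernel

set_option maxRecDepth 100000 in
theorem part_5_7_11_8 : dfsN 6 268435456 146232080 [2, 4, 6, 9, 10, 12] = true := by
  decide +kernel

set_option maxRecDepth 100000 in
theorem part_5_7_11_9 : dfsN 6 268435456 163009296 [2, 4, 6, 8, 10, 12] = true := by
  decide +kernel

set_option maxRecDepth 100000 in
theorem part_5_7_11_10 : dfsN 6 268435456 179786512 [2, 4, 6, 8, 9, 12] = true := by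
  decide +kernel

set_option maxRecDepth 100000 in
theorem part_5_7_11_12 : dfsN 6 268435456 213340944 [2, 4, 6, 8, 9, 10] = true := by
  decide +kernel

theorem part_5_7_11 : dfsN 7 16777216 12014352 [2, 4, 6, 8, 9, 10, 12] = true := by
  apply dfsN_step 6 16777216 12014352 [2, 4, 6, 8, 9, 10, 12]
  intro v hv
  simp only [List.mem_cons, List.not_mem_nil, or_false] at hv
  rcases hv with rfl | rfl | rfl | rfl | rfl | rfl | rfl
  exacts [part_5_7_11_2, part_5_7_11_4, part_5_7_11_6, part_5_7_11_8, part_5_7_11_9, part_5_7_11_10, part_5_7_11_12]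

set_option maxRecDepth 100000 in
theorem part_5_7_12_2 : dfsN 6 268435456 46617360 [4, 6, 8, 9, 10, 11] = true := by
  decide +kernel

set_option maxRecDepth 100000 in
theorem part_5_7_12_4 : dfsN 6 268435456 80171792 [2, 6, 8, 9, 10, 11] = true := by
  decide +kernel

set_option maxRecDepth 100000 in
theorem part_5_7_12_6 : dfsN 6 268435456 113726224 [2, 4, 8, 9, 10, 11] = true := by
  decide +kernel

set_option maxRecDepth 100000 in
theorem part_5_7_12_8 : dfsN 6 268435456 147280656 [2, 4, 6, 9, 10, 11] = true := by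
  decide +kernel

set_option maxRecDepth 100000 in
theorem part_5_7_12_9 : dfsN 6 268435456 164057872 [2, 4, 6, 8, 10, 11] = true := by
  decide +kernel

set_option maxRecDepth 100000 in
theorem part_5_7_12_10 : dfsN 6 268435456 180835088 [2, 4, 6, 8, 9, 11] = true := by
  decide +kernel

set_option maxRecDepth 100000 in
theorem part_5_7_12_11 : dfsN 6 268435456 197612304 [2, 4, 6, 8, 9, 10] = true := by
  decide +kernel

theorem part_5_7_12 : dfsN 7 16777216 13062928 [2, 4, 6, 8, 9, 10, 11] = true := by
  apply dfsN_step 6 16777216 13062928 [2, 4, 6, 8, 9, 10, 11]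
  intro v hv
  simp only [List.mem_cons, List.not_mem_nil, or_false] at hv
  rcases hv with rfl | rfl | rfl | rfl | rfl | rfl | rfl
  exacts [part_5_7_12_2, part_5_7_12_4, part_5_7_12_6, part_5_7_12_8, part_5_7_12_9, part_5_7_12_10, part_5_7_12_11]

theorem part_5_7 : dfsN 8 1048576 480016 [2, 4, 6, 8, 9, 10, 11, 12] = true := by
  apply dfsN_step 7 1048576 480016 [2, 4, 6, 8, 9, 10, 11, 12]
  intro v hv
  simp only [List.mem_cons, List.not_mem_nil, or_false] at hv
  rcases hv with rfl | rfl | rfl | rfl | rfl | rfl | rfl | rfl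
  exacts [part_5_7_2, part_5_7_4, part_5_7_6, part_5_7_8, part_5_7_9, part_5_7_10, part_5_7_11, part_5_7_12]

end Cfsg.Agent.Lib.H16.AG
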