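import Cfsg.Agent.Lib.H16.AG.Step

set_option autoImplicit false

/-! Degree 13, images `0, 1, 3, 5, 8` of `0, 1, 2, 3, 4` fixed: every completion that is an
`11`-cycle has a word `(x ^ b * y ^ a) ^ k` which is a `3`-, `5`- or `7`-cycle
(small kernel computations, one per pair of images of `5, 6`). -/

namespace Cfsg.Agent.Lib.H16.AG

set_option maxRecDepth 100000 in
theorem part_5_8_2_4 : dfsN 6 268435456 69751568 [6, 7, 9, 10, 11, 12] = true := by
  decide +kernel

set_option maxRecDepth 100000 in
theorem part_5_8_2_6 : dfsN 6 268435456 103306000 [4, 7, 9, 10, 11, 12] = true := by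
  decide +kernel

set_option maxRecDepth 100000 in
theorem part_5_8_2_7 : dfsN 6 268435456 120083216 [4, 6, 9, 10, 11, 12] = true := by
  decide +kernel

set_option maxRecDepth 100000 in
theorem part_5_8_2_9 : dfsN 6 268435456 153637648 [4, 6, 7, 10, 11, 12] = true := by
  decide +kernel

set_option maxRecDepth 100000 in
theorem part_5_8_2_10 : dfsN 6 268435456 170414864 [4, 6, 7, 9, 11, 12] = true := by
  decide +kernel

set_option maxRecDepth 100000 in
theorem part_5_8_2_11 : dfsN 6 268435456 187192080 [4, 6, 7, 9, 10, 12] = true := by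
  decide +kernel

set_option maxRecDepth 100000 in
theorem part_5_8_2_12 : dfsN 6 268435456 203969296 [4, 6, 7, 9, 10, 11] = true := by
  decide +kernel

theorem part_5_8_2 : dfsN 7 16777216 2642704 [4, 6, 7, 9, 10, 11, 12] = true := by
  apply dfsN_step 6 16777216 2642704 [4, 6, 7, 9, 10, 11, 12]
  intro v hv
  simp only [List.mem_cons, List.not_mem_nil, or_false] at hv
  rcases hv with rfl | rfl | rfl | rfl | rfl | rfl | rfl
  exacts [part_5_8_2_4, part_5_8_2_6, part_5_8_2_7, part_5_8_2_9, part_5_8_2_10, part_5_8_2_11, part_5_8_2_12]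

set_option maxRecDepth 100000 in
theorem part_5_8_4_2 : dfsN 6 268435456 38294288 [6, 7, 9, 10, 11, 12] = true := by
  decide +kernel

set_option maxRecDepth 100000 in
theorem part_5_8_4_6 : dfsN 6 268435456 105403152 [2, 7, 9, 10, 11, 12] = true := by
  decide +kernel

set_option maxRecDepth 100000 in
theorem part_5_8_4_7 : dfsN 6 268435456 122180368 [2, 6, 9, 10, 11, 12] = true := by
  decide +kernel

set_option maxRecDepth 100000 in
theorem part_5_8_4_9 : dfsN 6 268435456 155734800 [2, 6, 7, 10, 11, 12] = true := by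
  decide +kernel

set_option maxRecDepth 100000 in
theorem part_5_8_4_10 : dfsN 6 268435456 172512016 [2, 6, 7, 9, 11, 12] = true := by
  decide +kernel

set_option maxRecDepth 100000 in
theorem part_5_8_4_11 : dfsN 6 268435456 189289232 [2, 6, 7, 9, 10, 12] = true := by
  decide +kernel

set_option maxRecDepth 100000 in
theorem part_5_8_4_12 : dfsN 6 268435456 206066448 [2, 6, 7, 9, 10, 11] = true := by
  decide +kernel

theorem part_5_8_4 : dfsN 7 16777216 4739856 [2, 6, 7, 9, 10, 11, 12] = true := by
  apply dfsN_step 6 16777216 4739856 [2, 6, 7, 9, 10, 11, 12]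
  intro v hv
  simp only [List.mem_cons, List.not_mem_nil, or_false] at hv
  rcases hv with rfl | rfl | rfl | rfl | rfl | rfl | rfl
  exacts [part_5_8_4_2, part_5_8_4_6, part_5_8_4_7, part_5_8_4_9, part_5_8_4_10, part_5_8_4_11, part_5_8_4_12]

set_option maxRecDepth 100000 in
theorem part_5_8_6_2 : dfsN 6 268435456 40391440 [4, 7, 9, 10, 11, 12] = true := by
  decide +kernel

set_option maxRecDepth 100000 in
theorem part_5_8_6_4 : dfsN 6 268435456 73945872 [2, 7, 9, 10, 11, 12] = true := by
  decide +kernel

set_option maxRecDepth 100000 in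
theorem part_5_8_6_7 : dfsN 6 268435456 124277520 [2, 4, 9, 10, 11, 12] = true := by
  decide +kernel

set_option maxRecDepth 100000 in
theorem part_5_8_6_9 : dfsN 6 268435456 157831952 [2, 4, 7, 10, 11, 12] = true := by
  decide +kernel

set_option maxRecDepth 100000 in
theorem part_5_8_6_10 : dfsN 6 268435456 174609168 [2, 4, 7, 9, 11, 12] = true := by
  decide +kernel

set_option maxRecDepth 100000 in
theorem part_5_8_6_11 : dfsN 6 268435456 191386384 [2, 4, 7, 9, 10, 12] = true := by
  decide +kernel

set_option maxRecDepth 100000 in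
theorem part_5_8_6_12 : dfsN 6 268435456 208163600 [2, 4, 7, 9, 10, 11] = true := by
  decide +kernel

theorem part_5_8_6 : dfsN 7 16777216 6837008 [2, 4, 7, 9, 10, 11, 12] = true := by
  apply dfsN_step 6 16777216 6837008 [2, 4, 7, 9, 10, 11, 12]
  intro v hv
  simp only [List.mem_cons, List.not_mem_nil, or_false] at hv
  rcases hv with rfl | rfl | rfl | rfl | rfl | rfl | rfl
  exacts [part_5_8_6_2, part_5_8_6_4, part_5_8_6_7, part_5_8_6_9, part_5_8_6_10, part_5_8_6_11, part_5_8_6_12]

set_option maxRecDepth 100000 in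
theorem part_5_8_7_2 : dfsN 6 268435456 41440016 [4, 6, 9, 10, 11, 12] = true := by
  decide +kernel

set_option maxRecDepth 100000 in
theorem part_5_8_7_4 : dfsN 6 268435456 74994448 [2, 6, 9, 10, 11, 12] = true := by
  decide +kernel

set_option maxRecDepth 100000 in
theorem part_5_8_7_6 : dfsN 6 268435456 108548880 [2, 4, 9, 10, 11, 12] = true := by
  decide +kernel

set_option maxRecDepth 100000 in
theorem part_5_8_7_9 : dfsN 6 268435456 158880528 [2, 4, 6, 10, 11, 12] = true := by
  decide +kernel

set_option maxRecDepth 100000 in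
theorem part_5_8_7_10 : dfsN 6 268435456 175657744 [2, 4, 6, 9, 11, 12] = true := by
  decide +kernel

set_option maxRecDepth 100000 in
theorem part_5_8_7_11 : dfsN 6 268435456 192434960 [2, 4, 6, 9, 10, 12] = true := by
  decide +kernel

set_option maxRecDepth 100000 in
theorem part_5_8_7_12 : dfsN 6 268435456 209212176 [2, 4, 6, 9, 10, 11] = true := by
  decide +kernel

theorem part_5_8_7 : dfsN 7 16777216 7885584 [2, 4, 6, 9, 10, 11, 12] = true := by
  apply dfsN_step 6 16777216 7885584 [2, 4, 6, 9, 10, 11, 12]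
  intro v hv
  simp only [List.mem_cons, List.not_mem_nil, or_false] at hv
  rcases hv with rfl | rfl | rfl | rfl | rfl | rfl | rfl
  exacts [part_5_8_7_2, part_5_8_7_4, part_5_8_7_6, part_5_8_7_9, part_5_8_7_10, part_5_8_7_11, part_5_8_7_12]

set_option maxRecDepth 100000 in
theorem part_5_8_9_2 : dfsN 6 268435456 43537168 [4, 6, 7, 10, 11, 12] = true := by
  decide +kernel

set_option maxRecDepth 100000 in
theorem part_5_8_9_4 : dfsN 6 268435456 77091600 [2, 6, 7, 10, 11, 12] = true := by
  decide +kernel

set_option maxRecDepth 100000 in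
theorem part_5_8_9_6 : dfsN 6 268435456 110646032 [2, 4, 7, 10, 11, 12] = true := by
  decide +kernel

set_option maxRecDepth 100000 in
theorem part_5_8_9_7 : dfsN 6 268435456 127423248 [2, 4, 6, 10, 11, 12] = true := by
  decide +kernel

set_option maxRecDepth 100000 in
theorem part_5_8_9_10 : dfsN 6 268435456 177754896 [2, 4, 6, 7, 11, 12] = true := by
  decide +kernel

set_option maxRecDepth 100000 in
theorem part_5_8_9_11 : dfsN 6 268435456 194532112 [2, 4, 6, 7, 10, 12] = true := by
  decide +kernel

set_option maxRecDepth 100000 in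
theorem part_5_8_9_12 : dfsN 6 268435456 211309328 [2, 4, 6, 7, 10, 11] = true := by
  decide +kernel

theorem part_5_8_9 : dfsN 7 16777216 9982736 [2, 4, 6, 7, 10, 11, 12] = true := by
  apply dfsN_step 6 16777216 9982736 [2, 4, 6, 7, 10, 11, 12]
  intro v hv
  simp only [List.mem_cons, List.not_mem_nil, or_false] at hv
  rcases hv with rfl | rfl | rfl | rfl | rfl | rfl | rfl
  exacts [part_5_8_9_2, part_5_8_9_4, part_5_8_9_6, part_5_8_9_7, part_5_8_9_10, part_5_8_9_11, part_5_8_9_12]

set_option maxRecDepth 100000 in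
theorem part_5_8_10_2 : dfsN 6 268435456 44585744 [4, 6, 7, 9, 11, 12] = true := by
  decide +kernel

set_option maxRecDepth 100000 in
theorem part_5_8_10_4 : dfsN 6 268435456 78140176 [2, 6, 7, 9, 11, 12] = true := by
  decide +kernel

set_option maxRecDepth 100000 in
theorem part_5_8_10_6 : dfsN 6 268435456 111694608 [2, 4, 7, 9, 11, 12] = true := by
  decide +kernel

set_option maxRecDepth 100000 in
theorem part_5_8_10_7 : dfsN 6 268435456 128471824 [2, 4, 6, 9, 11, 12] = true := by
  decide +kernel

set_option maxRecDepth 100000 in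
theorem part_5_8_10_9 : dfsN 6 268435456 162026256 [2, 4, 6, 7, 11, 12] = true := by
  decide +kernel

set_option maxRecDepth 100000 in
theorem part_5_8_10_11 : dfsN 6 268435456 195580688 [2, 4, 6, 7, 9, 12] = true := by
  decide +kernel

set_option maxRecDepth 100000 in
theorem part_5_8_10_12 : dfsN 6 268435456 212357904 [2, 4, 6, 7, 9, 11] = true := by
  decide +kernel

theorem part_5_8_10 : dfsN 7 16777216 11031312 [2, 4, 6, 7, 9, 11, 12] = true := by
  apply dfsN_step 6 16777216 11031312 [2, 4, 6, 7, 9, 11, 12]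
  intro v hv
  simp only [List.mem_cons, List.not_mem_nil, or_false] at hv
  rcases hv with rfl | rfl | rfl | rfl | rfl | rfl | rfl
  exacts [part_5_8_10_2, part_5_8_10_4, part_5_8_10_6, part_5_8_10_7, part_5_8_10_9, part_5_8_10_11, part_5_8_10_12]

set_option maxRecDepth 100000 in
theorem part_5_8_11_2 : dfsN 6 268435456 45634320 [4, 6, 7, 9, 10, 12] = true := by
  decide +kernel

set_option maxRecDepth 100000 in
theorem part_5_8_11_4 : dfsN 6 268435456 79188752 [2, 6, 7, 9, 10, 12] = true := by
  decide +kernel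

set_option maxRecDepth 100000 in
theorem part_5_8_11_6 : dfsN 6 268435456 112743184 [2, 4, 7, 9, 10, 12] = true := by
  decide +kernel

set_option maxRecDepth 100000 in
theorem part_5_8_11_7 : dfsN 6 268435456 129520400 [2, 4, 6, 9, 10, 12] = true := by
  decide +kernel

set_option maxRecDepth 100000 in
theorem part_5_8_11_9 : dfsN 6 268435456 163074832 [2, 4, 6, 7, 10, 12] = true := by
  decide +kernel

set_option maxRecDepth 100000 in
theorem part_5_8_11_10 : dfsN 6 268435456 179852048 [2, 4, 6, 7, 9, 12] = true := by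
  decide +kernel

set_option maxRecDepth 100000 in
theorem part_5_8_11_12 : dfsN 6 268435456 213406480 [2, 4, 6, 7, 9, 10] = true := by
  decide +kernel

theorem part_5_8_11 : dfsN 7 16777216 12079888 [2, 4, 6, 7, 9, 10, 12] = true := by
  apply dfsN_step 6 16777216 12079888 [2, 4, 6, 7, 9, 10, 12]
  intro v hv
  simp only [List.mem_cons, List.not_mem_nil, or_false] at hv
  rcases hv with rfl | rfl | rfl | rfl | rfl | rfl | rfl
  exacts [part_5_8_11_2, part_5_8_11_4, part_5_8_11_6, part_5_8_11_7, part_5_8_11_9, part_5_8_11_10, part_5_8_11_12]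

set_option maxRecDepth 100000 in
theorem part_5_8_12_2 : dfsN 6 268435456 46682896 [4, 6, 7, 9, 10, 11] = true := by
  decide +kernel

set_option maxRecDepth 100000 in
theorem part_5_8_12_4 : dfsN 6 268435456 80237328 [2, 6, 7, 9, 10, 11] = true := by
  decide +kernel

set_option maxRecDepth 100000 in
theorem part_5_8_12_6 : dfsN 6 268435456 113791760 [2, 4, 7, 9, 10, 11] = true := by
  decide +kernel

set_option maxRecDepth 100000 in
theorem part_5_8_12_7 : dfsN 6 268435456 130568976 [2, 4, 6, 9, 10, 11] = true := by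
  decide +kernel

set_option maxRecDepth 100000 in
theorem part_5_8_12_9 : dfsN 6 268435456 164123408 [2, 4, 6, 7, 10, 11] = true := by
  decide +kernel

set_option maxRecDepth 100000 in
theorem part_5_8_12_10 : dfsN 6 268435456 180900624 [2, 4, 6, 7, 9, 11] = true := by
  decide +kernel

set_option maxRecDepth 100000 in
theorem part_5_8_12_11 : dfsN 6 268435456 197677840 [2, 4, 6, 7, 9, 10] = true := by
  decide +kernel

theorem part_5_8_12 : dfsN 7 16777216 13128464 [2, 4, 6, 7, 9, 10, 11] = true := by
  apply dfsN_step 6 16777216 13128464 [2, 4, 6, 7, 9, 10, 11]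
  intro v hv
  simp only [List.mem_cons, List.not_mem_nil, or_false] at hv
  rcases hv with rfl | rfl | rfl | rfl | rfl | rfl | rfl
  exacts [part_5_8_12_2, part_5_8_12_4, part_5_8_12_6, part_5_8_12_7, part_5_8_12_9, part_5_8_12_10, part_5_8_12_11]

theorem part_5_8 : dfsN 8 1048576 545552 [2, 4, 6, 7, 9, 10, 11, 12] = true := by
  apply dfsN_step 7 1048576 545552 [2, 4, 6, 7, 9, 10, 11, 12]
  intro v hv
  simp only [List.mem_cons, List.not_mem_nil, or_false] at hv
  rcases hv with rfl | rfl | rfl | rfl | rfl | rfl | rfl | rfl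
  exacts [part_5_8_2, part_5_8_4, part_5_8_6, part_5_8_7, part_5_8_9, part_5_8_10, part_5_8_11, part_5_8_12]

end Cfsg.Agent.Lib.H16.AG
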