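import Cfsg.Agent.Lib.H16.AG.Step

set_option autoImplicit false

/-! Degree 13, images `0, 1, 3, 5, 9` of `0, 1, 2, 3, 4` fixed: every completion that is an
`11`-cycle has a word `(x ^ b * y ^ a) ^ k` which is a `3`-, `5`- or `7`-cycle
(small kernel computations, one per pair of images of `5, 6`). -/

namespace Cfsg.Agent.Lib.H16.AG

set_option maxRecDepth 100000 in
theorem part_5_9_2_4 : dfsN 6 268435456 69817104 [6, 7, 8, 10, 11, 12] = true := by
  decide +kernel

set_option maxRecDepth 100000 in
theorem part_5_9_2_6 : dfsN 6 268435456 103371536 [4, 7, 8, 10, 11, 12] = true := by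
  decide +kernel

set_option maxRecDepth 100000 in
theorem part_5_9_2_7 : dfsN 6 268435456 120148752 [4, 6, 8, 10, 11, 12] = true := by
  decide +kernel

set_option maxRecDepth 100000 in
theorem part_5_9_2_8 : dfsN 6 268435456 136925968 [4, 6, 7, 10, 11, 12] = true := by
  decide +kernel

set_option maxRecDepth 100000 in
theorem part_5_9_2_10 : dfsN 6 268435456 170480400 [4, 6, 7, 8, 11, 12] = true := by
  decide +kernel

set_option maxRecDepth 100000 in
theorem part_5_9_2_11 : dfsN 6 268435456 187257616 [4, 6, 7, 8, 10, 12] = true := by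
  decide +kernel

set_option maxRecDepth 100000 in
theorem part_5_9_2_12 : dfsN 6 268435456 204034832 [4, 6, 7, 8, 10, 11] = true := by
  decide +kernel

theorem part_5_9_2 : dfsN 7 16777216 2708240 [4, 6, 7, 8, 10, 11, 12] = true := by
  apply dfsN_step 6 16777216 2708240 [4, 6, 7, 8, 10, 11, 12]
  intro v hv
  simp only [List.mem_cons, List.not_mem_nil, or_false] at hv
  rcases hv with rfl | rfl | rfl | rfl | rfl | rfl | rfl
  exacts [part_5_9_2_4, part_5_9_2_6, part_5_9_2_7, part_5_9_2_8, part_5_9_2_10, part_5_9_2_11, part_5_9_2_12]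

set_option maxRecDepth 100000 in
theorem part_5_9_4_2 : dfsN 6 268435456 38359824 [6, 7, 8, 10, 11, 12] = true := by
  decide +kernel

set_option maxRecDepth 100000 in
theorem part_5_9_4_6 : dfsN 6 268435456 105468688 [2, 7, 8, 10, 11, 12] = true := by
  decide +kernel

set_option maxRecDepth 100000 in
theorem part_5_9_4_7 : dfsN 6 268435456 122245904 [2, 6, 8, 10, 11, 12] = true := by
  decide +kernel

set_option maxRecDepth 100000 in
theorem part_5_9_4_8 : dfsN 6 268435456 139023120 [2, 6, 7, 10, 11, 12] = true := by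
  decide +kernel

set_option maxRecDepth 100000 in
theorem part_5_9_4_10 : dfsN 6 268435456 172577552 [2, 6, 7, 8, 11, 12] = true := by
  decide +kernel

set_option maxRecDepth 100000 in
theorem part_5_9_4_11 : dfsN 6 268435456 189354768 [2, 6, 7, 8, 10, 12] = true := by
  decide +kernel

set_option maxRecDepth 100000 in
theorem part_5_9_4_12 : dfsN 6 268435456 206131984 [2, 6, 7, 8, 10, 11] = true := by
  decide +kernel

theorem part_5_9_4 : dfsN 7 16777216 4805392 [2, 6, 7, 8, 10, 11, 12] = true := by
  apply dfsN_step 6 16777216 4805392 [2, 6, 7, 8, 10, 11, 12]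
  intro v hv
  simp only [List.mem_cons, List.not_mem_nil, or_false] at hv
  rcases hv with rfl | rfl | rfl | rfl | rfl | rfl | rfl
  exacts [part_5_9_4_2, part_5_9_4_6, part_5_9_4_7, part_5_9_4_8, part_5_9_4_10, part_5_9_4_11, part_5_9_4_12]

set_option maxRecDepth 100000 in
theorem part_5_9_6_2 : dfsN 6 268435456 40456976 [4, 7, 8, 10, 11, 12] = true := by
  decide +kernel

set_option maxRecDepth 100000 in
theorem part_5_9_6_4 : dfsN 6 268435456 74011408 [2, 7, 8, 10, 11, 12] = true := by
  decide +kernel

set_option maxRecDepth 100000 in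
theorem part_5_9_6_7 : dfsN 6 268435456 124343056 [2, 4, 8, 10, 11, 12] = true := by
  decide +kernel

set_option maxRecDepth 100000 in
theorem part_5_9_6_8 : dfsN 6 268435456 141120272 [2, 4, 7, 10, 11, 12] = true := by
  decide +kernel

set_option maxRecDepth 100000 in
theorem part_5_9_6_10 : dfsN 6 268435456 174674704 [2, 4, 7, 8, 11, 12] = true := by
  decide +kernel

set_option maxRecDepth 100000 in
theorem part_5_9_6_11 : dfsN 6 268435456 191451920 [2, 4, 7, 8, 10, 12] = true := by
  decide +kernel

set_option maxRecDepth 100000 in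
theorem part_5_9_6_12 : dfsN 6 268435456 208229136 [2, 4, 7, 8, 10, 11] = true := by
  decide +kernel

theorem part_5_9_6 : dfsN 7 16777216 6902544 [2, 4, 7, 8, 10, 11, 12] = true := by
  apply dfsN_step 6 16777216 6902544 [2, 4, 7, 8, 10, 11, 12]
  intro v hv
  simp only [List.mem_cons, List.not_mem_nil, or_false] at hv
  rcases hv with rfl | rfl | rfl | rfl | rfl | rfl | rfl
  exacts [part_5_9_6_2, part_5_9_6_4, part_5_9_6_7, part_5_9_6_8, part_5_9_6_10, part_5_9_6_11, part_5_9_6_12]

set_option maxRecDepth 100000 in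
theorem part_5_9_7_2 : dfsN 6 268435456 41505552 [4, 6, 8, 10, 11, 12] = true := by
  decide +kernel

set_option maxRecDepth 100000 in
theorem part_5_9_7_4 : dfsN 6 268435456 75059984 [2, 6, 8, 10, 11, 12] = true := by
  decide +kernel

set_option maxRecDepth 100000 in
theorem part_5_9_7_6 : dfsN 6 268435456 108614416 [2, 4, 8, 10, 11, 12] = true := by
  decide +kernel

set_option maxRecDepth 100000 in
theorem part_5_9_7_8 : dfsN 6 268435456 142168848 [2, 4, 6, 10, 11, 12] = true := by
  decide +kernel

set_option maxRecDepth 100000 in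
theorem part_5_9_7_10 : dfsN 6 268435456 175723280 [2, 4, 6, 8, 11, 12] = true := by
  decide +kernel

set_option maxRecDepth 100000 in
theorem part_5_9_7_11 : dfsN 6 268435456 192500496 [2, 4, 6, 8, 10, 12] = true := by
  decide +kernel

set_option maxRecDepth 100000 in
theorem part_5_9_7_12 : dfsN 6 268435456 209277712 [2, 4, 6, 8, 10, 11] = true := by
  decide +kernel

theorem part_5_9_7 : dfsN 7 16777216 7951120 [2, 4, 6, 8, 10, 11, 12] = true := by
  apply dfsN_step 6 16777216 7951120 [2, 4, 6, 8, 10, 11, 12]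
  intro v hv
  simp only [List.mem_cons, List.not_mem_nil, or_false] at hv
  rcases hv with rfl | rfl | rfl | rfl | rfl | rfl | rfl
  exacts [part_5_9_7_2, part_5_9_7_4, part_5_9_7_6, part_5_9_7_8, part_5_9_7_10, part_5_9_7_11, part_5_9_7_12]

set_option maxRecDepth 100000 in
theorem part_5_9_8_2 : dfsN 6 268435456 42554128 [4, 6, 7, 10, 11, 12] = true := by
  decide +kernel

set_option maxRecDepth 100000 in
theorem part_5_9_8_4 : dfsN 6 268435456 76108560 [2, 6, 7, 10, 11, 12] = true := by
  decide +kernel

set_option maxRecDepth 100000 in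
theorem part_5_9_8_6 : dfsN 6 268435456 109662992 [2, 4, 7, 10, 11, 12] = true := by
  decide +kernel

set_option maxRecDepth 100000 in
theorem part_5_9_8_7 : dfsN 6 268435456 126440208 [2, 4, 6, 10, 11, 12] = true := by
  decide +kernel

set_option maxRecDepth 100000 in
theorem part_5_9_8_10 : dfsN 6 268435456 176771856 [2, 4, 6, 7, 11, 12] = true := by
  decide +kernel

set_option maxRecDepth 100000 in
theorem part_5_9_8_11 : dfsN 6 268435456 193549072 [2, 4, 6, 7, 10, 12] = true := by
  decide +kernel

set_option maxRecDepth 100000 in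
theorem part_5_9_8_12 : dfsN 6 268435456 210326288 [2, 4, 6, 7, 10, 11] = true := by
  decide +kernel

theorem part_5_9_8 : dfsN 7 16777216 8999696 [2, 4, 6, 7, 10, 11, 12] = true := by
  apply dfsN_step 6 16777216 8999696 [2, 4, 6, 7, 10, 11, 12]
  intro v hv
  simp only [List.mem_cons, List.not_mem_nil, or_false] at hv
  rcases hv with rfl | rfl | rfl | rfl | rfl | rfl | rfl
  exacts [part_5_9_8_2, part_5_9_8_4, part_5_9_8_6, part_5_9_8_7, part_5_9_8_10, part_5_9_8_11, part_5_9_8_12]

set_option maxRecDepth 100000 in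
theorem part_5_9_10_2 : dfsN 6 268435456 44651280 [4, 6, 7, 8, 11, 12] = true := by
  decide +kernel

set_option maxRecDepth 100000 in
theorem part_5_9_10_4 : dfsN 6 268435456 78205712 [2, 6, 7, 8, 11, 12] = true := by
  decide +kernel

set_option maxRecDepth 100000 in
theorem part_5_9_10_6 : dfsN 6 268435456 111760144 [2, 4, 7, 8, 11, 12] = true := by
  decide +kernel

set_option maxRecDepth 100000 in
theorem part_5_9_10_7 : dfsN 6 268435456 128537360 [2, 4, 6, 8, 11, 12] = true := by
  decide +kernel

set_option maxRecDepth 100000 in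
theorem part_5_9_10_8 : dfsN 6 268435456 145314576 [2, 4, 6, 7, 11, 12] = true := by
  decide +kernel

set_option maxRecDepth 100000 in
theorem part_5_9_10_11 : dfsN 6 268435456 195646224 [2, 4, 6, 7, 8, 12] = true := by
  decide +kernel

set_option maxRecDepth 100000 in
theorem part_5_9_10_12 : dfsN 6 268435456 212423440 [2, 4, 6, 7, 8, 11] = true := by
  decide +kernel

theorem part_5_9_10 : dfsN 7 16777216 11096848 [2, 4, 6, 7, 8, 11, 12] = true := by
  apply dfsN_step 6 16777216 11096848 [2, 4, 6, 7, 8, 11, 12]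
  intro v hv
  simp only [List.mem_cons, List.not_mem_nil, or_false] at hv
  rcases hv with rfl | rfl | rfl | rfl | rfl | rfl | rfl
  exacts [part_5_9_10_2, part_5_9_10_4, part_5_9_10_6, part_5_9_10_7, part_5_9_10_8, part_5_9_10_11, part_5_9_10_12]

set_option maxRecDepth 100000 in
theorem part_5_9_11_2 : dfsN 6 268435456 45699856 [4, 6, 7, 8, 10, 12] = true := by
  decide +kernel

set_option maxRecDepth 100000 in
theorem part_5_9_11_4 : dfsN 6 268435456 79254288 [2, 6, 7, 8, 10, 12] = true := by
  decide +kernel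

set_option maxRecDepth 100000 in
theorem part_5_9_11_6 : dfsN 6 268435456 112808720 [2, 4, 7, 8, 10, 12] = true := by
  decide +kernel

set_option maxRecDepth 100000 in
theorem part_5_9_11_7 : dfsN 6 268435456 129585936 [2, 4, 6, 8, 10, 12] = true := by
  decide +kernel

set_option maxRecDepth 100000 in
theorem part_5_9_11_8 : dfsN 6 268435456 146363152 [2, 4, 6, 7, 10, 12] = true := by
  decide +kernel

set_option maxRecDepth 100000 in
theorem part_5_9_11_10 : dfsN 6 268435456 179917584 [2, 4, 6, 7, 8, 12] = true := by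
  decide +kernel

set_option maxRecDepth 100000 in
theorem part_5_9_11_12 : dfsN 6 268435456 213472016 [2, 4, 6, 7, 8, 10] = true := by
  decide +kernel

theorem part_5_9_11 : dfsN 7 16777216 12145424 [2, 4, 6, 7, 8, 10, 12] = true := by
  apply dfsN_step 6 16777216 12145424 [2, 4, 6, 7, 8, 10, 12]
  intro v hv
  simp only [List.mem_cons, List.not_mem_nil, or_false] at hv
  rcases hv with rfl | rfl | rfl | rfl | rfl | rfl | rfl
  exacts [part_5_9_11_2, part_5_9_11_4, part_5_9_11_6, part_5_9_11_7, part_5_9_11_8, part_5_9_11_10, part_5_9_11_12]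

set_option maxRecDepth 100000 in
theorem part_5_9_12_2 : dfsN 6 268435456 46748432 [4, 6, 7, 8, 10, 11] = true := by
  decide +kernel

set_option maxRecDepth 100000 in
theorem part_5_9_12_4 : dfsN 6 268435456 80302864 [2, 6, 7, 8, 10, 11] = true := by
  decide +kernel

set_option maxRecDepth 100000 in
theorem part_5_9_12_6 : dfsN 6 268435456 113857296 [2, 4, 7, 8, 10, 11] = true := by
  decide +kernel

set_option maxRecDepth 100000 in
theorem part_5_9_12_7 : dfsN 6 268435456 130634512 [2, 4, 6, 8, 10, 11] = true := by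
  decide +kernel

set_option maxRecDepth 100000 in
theorem part_5_9_12_8 : dfsN 6 268435456 147411728 [2, 4, 6, 7, 10, 11] = true := by
  decide +kernel

set_option maxRecDepth 100000 in
theorem part_5_9_12_10 : dfsN 6 268435456 180966160 [2, 4, 6, 7, 8, 11] = true := by
  decide +kernel

set_option maxRecDepth 100000 in
theorem part_5_9_12_11 : dfsN 6 268435456 197743376 [2, 4, 6, 7, 8, 10] = true := by
  decide +kernel

theorem part_5_9_12 : dfsN 7 16777216 13194000 [2, 4, 6, 7, 8, 10, 11] = true := by
  apply dfsN_step 6 16777216 13194000 [2, 4, 6, 7, 8, 10, 11]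
  intro v hv
  simp only [List.mem_cons, List.not_mem_nil, or_false] at hv
  rcases hv with rfl | rfl | rfl | rfl | rfl | rfl | rfl
  exacts [part_5_9_12_2, part_5_9_12_4, part_5_9_12_6, part_5_9_12_7, part_5_9_12_8, part_5_9_12_10, part_5_9_12_11]

theorem part_5_9 : dfsN 8 1048576 611088 [2, 4, 6, 7, 8, 10, 11, 12] = true := by
  apply dfsN_step 7 1048576 611088 [2, 4, 6, 7, 8, 10, 11, 12]
  intro v hv
  simp only [List.mem_cons, List.not_mem_nil, or_false] at hv
  rcases hv with rfl | rfl | rfl | rfl | rfl | rfl | rfl | rfl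
  exacts [part_5_9_2, part_5_9_4, part_5_9_6, part_5_9_7, part_5_9_8, part_5_9_10, part_5_9_11, part_5_9_12]

end Cfsg.Agent.Lib.H16.AG
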