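import Cfsg.Agent.Lib.H16.AG.Step

set_option autoImplicit false

/-! Degree 13, images `0, 1, 3, 5, 10` of `0, 1, 2, 3, 4` fixed: every completion that is an
`11`-cycle has a word `(x ^ b * y ^ a) ^ k` which is a `3`-, `5`- or `7`-cycle
(small kernel computations, one per pair of images of `5, 6`). -/

namespace Cfsg.Agent.Lib.H16.AG

set_option maxRecDepth 100000 in
theorem part_5_10_2_4 : dfsN 6 268435456 69882640 [6, 7, 8, 9, 11, 12] = true := by
  decide +kernel

set_option maxRecDepth 100000 in
theorem part_5_10_2_6 : dfsN 6 268435456 103437072 [4, 7, 8, 9, 11, 12] = true := by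
  decide +kernel

set_option maxRecDepth 100000 in
theorem part_5_10_2_7 : dfsN 6 268435456 120214288 [4, 6, 8, 9, 11, 12] = true := by
  decide +kernel

set_option maxRecDepth 100000 in
theorem part_5_10_2_8 : dfsN 6 268435456 136991504 [4, 6, 7, 9, 11, 12] = true := by
  decide +kernel

set_option maxRecDepth 100000 in
theorem part_5_10_2_9 : dfsN 6 268435456 153768720 [4, 6, 7, 8, 11, 12] = true := by
  decide +kernel

set_option maxRecDepth 100000 in
theorem part_5_10_2_11 : dfsN 6 268435456 187323152 [4, 6, 7, 8, 9, 12] = true := by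
  decide +kernel

set_option maxRecDepth 100000 in
theorem part_5_10_2_12 : dfsN 6 268435456 204100368 [4, 6, 7, 8, 9, 11] = true := by
  decide +kernel

theorem part_5_10_2 : dfsN 7 16777216 2773776 [4, 6, 7, 8, 9, 11, 12] = true := by
  apply dfsN_step 6 16777216 2773776 [4, 6, 7, 8, 9, 11, 12]
  intro v hv
  simp only [List.mem_cons, List.not_mem_nil, or_false] at hv
  rcases hv with rfl | rfl | rfl | rfl | rfl | rfl | rfl
  exacts [part_5_10_2_4, part_5_10_2_6, part_5_10_2_7, part_5_10_2_8, part_5_10_2_9, part_5_10_2_11, part_5_10_2_12]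

set_option maxRecDepth 100000 in
theorem part_5_10_4_2 : dfsN 6 268435456 38425360 [6, 7, 8, 9, 11, 12] = true := by
  decide +kernel

set_option maxRecDepth 100000 in
theorem part_5_10_4_6 : dfsN 6 268435456 105534224 [2, 7, 8, 9, 11, 12] = true := by
  decide +kernel

set_option maxRecDepth 100000 in
theorem part_5_10_4_7 : dfsN 6 268435456 122311440 [2, 6, 8, 9, 11, 12] = true := by
  decide +kernel

set_option maxRecDepth 100000 in
theorem part_5_10_4_8 : dfsN 6 268435456 139088656 [2, 6, 7, 9, 11, 12] = true := by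
  decide +kernel

set_option maxRecDepth 100000 in
theorem part_5_10_4_9 : dfsN 6 268435456 155865872 [2, 6, 7, 8, 11, 12] = true := by
  decide +kernel

set_option maxRecDepth 100000 in
theorem part_5_10_4_11 : dfsN 6 268435456 189420304 [2, 6, 7, 8, 9, 12] = true := by
  decide +kernel

set_option maxRecDepth 100000 in
theorem part_5_10_4_12 : dfsN 6 268435456 206197520 [2, 6, 7, 8, 9, 11] = true := by
  decide +kernel

theorem part_5_10_4 : dfsN 7 16777216 4870928 [2, 6, 7, 8, 9, 11, 12] = true := by
  apply dfsN_step 6 16777216 4870928 [2, 6, 7, 8, 9, 11, 12]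
  intro v hv
  simp only [List.mem_cons, List.not_mem_nil, or_false] at hv
  rcases hv with rfl | rfl | rfl | rfl | rfl | rfl | rfl
  exacts [part_5_10_4_2, part_5_10_4_6, part_5_10_4_7, part_5_10_4_8, part_5_10_4_9, part_5_10_4_11, part_5_10_4_12]

set_option maxRecDepth 100000 in
theorem part_5_10_6_2 : dfsN 6 268435456 40522512 [4, 7, 8, 9, 11, 12] = true := by
  decide +kernel

set_option maxRecDepth 100000 in
theorem part_5_10_6_4 : dfsN 6 268435456 74076944 [2, 7, 8, 9, 11, 12] = true := by
  decide +kernel

set_option maxRecDepth 100000 in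
theorem part_5_10_6_7 : dfsN 6 268435456 124408592 [2, 4, 8, 9, 11, 12] = true := by
  decide +kernel

set_option maxRecDepth 100000 in
theorem part_5_10_6_8 : dfsN 6 268435456 141185808 [2, 4, 7, 9, 11, 12] = true := by
  decide +kernel

set_option maxRecDepth 100000 in
theorem part_5_10_6_9 : dfsN 6 268435456 157963024 [2, 4, 7, 8, 11, 12] = true := by
  decide +kernel

set_option maxRecDepth 100000 in
theorem part_5_10_6_11 : dfsN 6 268435456 191517456 [2, 4, 7, 8, 9, 12] = true := by
  decide +kernel

set_option maxRecDepth 100000 in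
theorem part_5_10_6_12 : dfsN 6 268435456 208294672 [2, 4, 7, 8, 9, 11] = true := by
  decide +kernel

theorem part_5_10_6 : dfsN 7 16777216 6968080 [2, 4, 7, 8, 9, 11, 12] = true := by
  apply dfsN_step 6 16777216 6968080 [2, 4, 7, 8, 9, 11, 12]
  intro v hv
  simp only [List.mem_cons, List.not_mem_nil, or_false] at hv
  rcases hv with rfl | rfl | rfl | rfl | rfl | rfl | rfl
  exacts [part_5_10_6_2, part_5_10_6_4, part_5_10_6_7, part_5_10_6_8, part_5_10_6_9, part_5_10_6_11, part_5_10_6_12]

set_option maxRecDepth 100000 in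
theorem part_5_10_7_2 : dfsN 6 268435456 41571088 [4, 6, 8, 9, 11, 12] = true := by
  decide +kernel

set_option maxRecDepth 100000 in
theorem part_5_10_7_4 : dfsN 6 268435456 75125520 [2, 6, 8, 9, 11, 12] = true := by
  decide +kernel

set_option maxRecDepth 100000 in
theorem part_5_10_7_6 : dfsN 6 268435456 108679952 [2, 4, 8, 9, 11, 12] = true := by
  decide +kernel

set_option maxRecDepth 100000 in
theorem part_5_10_7_8 : dfsN 6 268435456 142234384 [2, 4, 6, 9, 11, 12] = true := by
  decide +kernel

set_option maxRecDepth 100000 in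
theorem part_5_10_7_9 : dfsN 6 268435456 159011600 [2, 4, 6, 8, 11, 12] = true := by
  decide +kernel

set_option maxRecDepth 100000 in
theorem part_5_10_7_11 : dfsN 6 268435456 192566032 [2, 4, 6, 8, 9, 12] = true := by
  decide +kernel

set_option maxRecDepth 100000 in
theorem part_5_10_7_12 : dfsN 6 268435456 209343248 [2, 4, 6, 8, 9, 11] = true := by
  decide +kernel

theorem part_5_10_7 : dfsN 7 16777216 8016656 [2, 4, 6, 8, 9, 11, 12] = true := by
  apply dfsN_step 6 16777216 8016656 [2, 4, 6, 8, 9, 11, 12]
  intro v hv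
  simp only [List.mem_cons, List.not_mem_nil, or_false] at hv
  rcases hv with rfl | rfl | rfl | rfl | rfl | rfl | rfl
  exacts [part_5_10_7_2, part_5_10_7_4, part_5_10_7_6, part_5_10_7_8, part_5_10_7_9, part_5_10_7_11, part_5_10_7_12]

set_option maxRecDepth 100000 in
theorem part_5_10_8_2 : dfsN 6 268435456 42619664 [4, 6, 7, 9, 11, 12] = true := by
  decide +kernel

set_option maxRecDepth 100000 in
theorem part_5_10_8_4 : dfsN 6 268435456 76174096 [2, 6, 7, 9, 11, 12] = true := by
  decide +kernel

set_option maxRecDepth 100000 in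
theorem part_5_10_8_6 : dfsN 6 268435456 109728528 [2, 4, 7, 9, 11, 12] = true := by
  decide +kernel

set_option maxRecDepth 100000 in
theorem part_5_10_8_7 : dfsN 6 268435456 126505744 [2, 4, 6, 9, 11, 12] = true := by
  decide +kernel

set_option maxRecDepth 100000 in
theorem part_5_10_8_9 : dfsN 6 268435456 160060176 [2, 4, 6, 7, 11, 12] = true := by
  decide +kernel

set_option maxRecDepth 100000 in
theorem part_5_10_8_11 : dfsN 6 268435456 193614608 [2, 4, 6, 7, 9, 12] = true := by
  decide +kernel

set_option maxRecDepth 100000 in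
theorem part_5_10_8_12 : dfsN 6 268435456 210391824 [2, 4, 6, 7, 9, 11] = true := by
  decide +kernel

theorem part_5_10_8 : dfsN 7 16777216 9065232 [2, 4, 6, 7, 9, 11, 12] = true := by
  apply dfsN_step 6 16777216 9065232 [2, 4, 6, 7, 9, 11, 12]
  intro v hv
  simp only [List.mem_cons, List.not_mem_nil, or_false] at hv
  rcases hv with rfl | rfl | rfl | rfl | rfl | rfl | rfl
  exacts [part_5_10_8_2, part_5_10_8_4, part_5_10_8_6, part_5_10_8_7, part_5_10_8_9, part_5_10_8_11, part_5_10_8_12]

set_option maxRecDepth 100000 in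
theorem part_5_10_9_2 : dfsN 6 268435456 43668240 [4, 6, 7, 8, 11, 12] = true := by
  decide +kernel

set_option maxRecDepth 100000 in
theorem part_5_10_9_4 : dfsN 6 268435456 77222672 [2, 6, 7, 8, 11, 12] = true := by
  decide +kernel

set_option maxRecDepth 100000 in
theorem part_5_10_9_6 : dfsN 6 268435456 110777104 [2, 4, 7, 8, 11, 12] = true := by
  decide +kernel

set_option maxRecDepth 100000 in
theorem part_5_10_9_7 : dfsN 6 268435456 127554320 [2, 4, 6, 8, 11, 12] = true := by
  decide +kernel

set_option maxRecDepth 100000 in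
theorem part_5_10_9_8 : dfsN 6 268435456 144331536 [2, 4, 6, 7, 11, 12] = true := by
  decide +kernel

set_option maxRecDepth 100000 in
theorem part_5_10_9_11 : dfsN 6 268435456 194663184 [2, 4, 6, 7, 8, 12] = true := by
  decide +kernel

set_option maxRecDepth 100000 in
theorem part_5_10_9_12 : dfsN 6 268435456 211440400 [2, 4, 6, 7, 8, 11] = true := by
  decide +kernel

theorem part_5_10_9 : dfsN 7 16777216 10113808 [2, 4, 6, 7, 8, 11, 12] = true := by
  apply dfsN_step 6 16777216 10113808 [2, 4, 6, 7, 8, 11, 12]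
  intro v hv
  simp only [List.mem_cons, List.not_mem_nil, or_false] at hv
  rcases hv with rfl | rfl | rfl | rfl | rfl | rfl | rfl
  exacts [part_5_10_9_2, part_5_10_9_4, part_5_10_9_6, part_5_10_9_7, part_5_10_9_8, part_5_10_9_11, part_5_10_9_12]

set_option maxRecDepth 100000 in
theorem part_5_10_11_2 : dfsN 6 268435456 45765392 [4, 6, 7, 8, 9, 12] = true := by
  decide +kernel

set_option maxRecDepth 100000 in
theorem part_5_10_11_4 : dfsN 6 268435456 79319824 [2, 6, 7, 8, 9, 12] = true := by
  decide +kernel

set_option maxRecDepth 100000 in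
theorem part_5_10_11_6 : dfsN 6 268435456 112874256 [2, 4, 7, 8, 9, 12] = true := by
  decide +kernel

set_option maxRecDepth 100000 in
theorem part_5_10_11_7 : dfsN 6 268435456 129651472 [2, 4, 6, 8, 9, 12] = true := by
  decide +kernel

set_option maxRecDepth 100000 in
theorem part_5_10_11_8 : dfsN 6 268435456 146428688 [2, 4, 6, 7, 9, 12] = true := by
  decide +kernel

set_option maxRecDepth 100000 in
theorem part_5_10_11_9 : dfsN 6 268435456 163205904 [2, 4, 6, 7, 8, 12] = true := by
  decide +kernel

set_option maxRecDepth 100000 in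
theorem part_5_10_11_12 : dfsN 6 268435456 213537552 [2, 4, 6, 7, 8, 9] = true := by
  decide +kernel

theorem part_5_10_11 : dfsN 7 16777216 12210960 [2, 4, 6, 7, 8, 9, 12] = true := by
  apply dfsN_step 6 16777216 12210960 [2, 4, 6, 7, 8, 9, 12]
  intro v hv
  simp only [List.mem_cons, List.not_mem_nil, or_false] at hv
  rcases hv with rfl | rfl | rfl | rfl | rfl | rfl | rfl
  exacts [part_5_10_11_2, part_5_10_11_4, part_5_10_11_6, part_5_10_11_7, part_5_10_11_8, part_5_10_11_9, part_5_10_11_12]

set_option maxRecDepth 100000 in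
theorem part_5_10_12_2 : dfsN 6 268435456 46813968 [4, 6, 7, 8, 9, 11] = true := by
  decide +kernel

set_option maxRecDepth 100000 in
theorem part_5_10_12_4 : dfsN 6 268435456 80368400 [2, 6, 7, 8, 9, 11] = true := by
  decide +kernel

set_option maxRecDepth 100000 in
theorem part_5_10_12_6 : dfsN 6 268435456 113922832 [2, 4, 7, 8, 9, 11] = true := by
  decide +kernel

set_option maxRecDepth 100000 in
theorem part_5_10_12_7 : dfsN 6 268435456 130700048 [2, 4, 6, 8, 9, 11] = true := by
  decide +kernel

set_option maxRecDepth 100000 in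
theorem part_5_10_12_8 : dfsN 6 268435456 147477264 [2, 4, 6, 7, 9, 11] = true := by
  decide +kernel

set_option maxRecDepth 100000 in
theorem part_5_10_12_9 : dfsN 6 268435456 164254480 [2, 4, 6, 7, 8, 11] = true := by
  decide +kernel

set_option maxRecDepth 100000 in
theorem part_5_10_12_11 : dfsN 6 268435456 197808912 [2, 4, 6, 7, 8, 9] = true := by
  decide +kernel

theorem part_5_10_12 : dfsN 7 16777216 13259536 [2, 4, 6, 7, 8, 9, 11] = true := by
  apply dfsN_step 6 16777216 13259536 [2, 4, 6, 7, 8, 9, 11]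
  intro v hv
  simp only [List.mem_cons, List.not_mem_nil, or_false] at hv
  rcases hv with rfl | rfl | rfl | rfl | rfl | rfl | rfl
  exacts [part_5_10_12_2, part_5_10_12_4, part_5_10_12_6, part_5_10_12_7, part_5_10_12_8, part_5_10_12_9, part_5_10_12_11]

theorem part_5_10 : dfsN 8 1048576 676624 [2, 4, 6, 7, 8, 9, 11, 12] = true := by
  apply dfsN_step 7 1048576 676624 [2, 4, 6, 7, 8, 9, 11, 12]
  intro v hv
  simp only [List.mem_cons, List.not_mem_nil, or_false] at hv
  rcases hv with rfl | rfl | rfl | rfl | rfl | rfl | rfl | rfl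
  exacts [part_5_10_2, part_5_10_4, part_5_10_6, part_5_10_7, part_5_10_8, part_5_10_9, part_5_10_11, part_5_10_12]

end Cfsg.Agent.Lib.H16.AG
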