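import Cfsg.Agent.Lib.H16.AG.Step

set_option autoImplicit false

/-! Degree 13, images `0, 1, 3, 5, 12` of `0, 1, 2, 3, 4` fixed: every completion that is an
`11`-cycle has a word `(x ^ b * y ^ a) ^ k` which is a `3`-, `5`- or `7`-cycle
(small kernel computations, one per pair of images of `5, 6`). -/

namespace Cfsg.Agent.Lib.H16.AG

set_option maxRecDepth 100000 in
theorem part_5_12_2_4 : dfsN 6 268435456 70013712 [6, 7, 8, 9, 10, 11] = true := by
  decide +kernel

set_option maxRecDepth 100000 in
theorem part_5_12_2_6 : dfsN 6 268435456 103568144 [4, 7, 8, 9, 10, 11] = true := by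
  decide +kernel

set_option maxRecDepth 100000 in
theorem part_5_12_2_7 : dfsN 6 268435456 120345360 [4, 6, 8, 9, 10, 11] = true := by
  decide +kernel

set_option maxRecDepth 100000 in
theorem part_5_12_2_8 : dfsN 6 268435456 137122576 [4, 6, 7, 9, 10, 11] = true := by
  decide +kernel

set_option maxRecDepth 100000 in
theorem part_5_12_2_9 : dfsN 6 268435456 153899792 [4, 6, 7, 8, 10, 11] = true := by
  decide +kernel

set_option maxRecDepth 100000 in
theorem part_5_12_2_10 : dfsN 6 268435456 170677008 [4, 6, 7, 8, 9, 11] = true := by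
  decide +kernel

set_option maxRecDepth 100000 in
theorem part_5_12_2_11 : dfsN 6 268435456 187454224 [4, 6, 7, 8, 9, 10] = true := by
  decide +kernel

theorem part_5_12_2 : dfsN 7 16777216 2904848 [4, 6, 7, 8, 9, 10, 11] = true := by
  apply dfsN_step 6 16777216 2904848 [4, 6, 7, 8, 9, 10, 11]
  intro v hv
  simp only [List.mem_cons, List.not_mem_nil, or_false] at hv
  rcases hv with rfl | rfl | rfl | rfl | rfl | rfl | rfl
  exacts [part_5_12_2_4, part_5_12_2_6, part_5_12_2_7, part_5_12_2_8, part_5_12_2_9, part_5_12_2_10, part_5_12_2_11]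

set_option maxRecDepth 100000 in
theorem part_5_12_4_2 : dfsN 6 268435456 38556432 [6, 7, 8, 9, 10, 11] = true := by
  decide +kernel

set_option maxRecDepth 100000 in
theorem part_5_12_4_6 : dfsN 6 268435456 105665296 [2, 7, 8, 9, 10, 11] = true := by
  decide +kernel

set_option maxRecDepth 100000 in
theorem part_5_12_4_7 : dfsN 6 268435456 122442512 [2, 6, 8, 9, 10, 11] = true := by
  decide +kernel

set_option maxRecDepth 100000 in
theorem part_5_12_4_8 : dfsN 6 268435456 139219728 [2, 6, 7, 9, 10, 11] = true := by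
  decide +kernel

set_option maxRecDepth 100000 in
theorem part_5_12_4_9 : dfsN 6 268435456 155996944 [2, 6, 7, 8, 10, 11] = true := by
  decide +kernel

set_option maxRecDepth 100000 in
theorem part_5_12_4_10 : dfsN 6 268435456 172774160 [2, 6, 7, 8, 9, 11] = true := by
  decide +kernel

set_option maxRecDepth 100000 in
theorem part_5_12_4_11 : dfsN 6 268435456 189551376 [2, 6, 7, 8, 9, 10] = true := by
  decide +kernel

theorem part_5_12_4 : dfsN 7 16777216 5002000 [2, 6, 7, 8, 9, 10, 11] = true := by
  apply dfsN_step 6 16777216 5002000 [2, 6, 7, 8, 9, 10, 11]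
  intro v hv
  simp only [List.mem_cons, List.not_mem_nil, or_false] at hv
  rcases hv with rfl | rfl | rfl | rfl | rfl | rfl | rfl
  exacts [part_5_12_4_2, part_5_12_4_6, part_5_12_4_7, part_5_12_4_8, part_5_12_4_9, part_5_12_4_10, part_5_12_4_11]

set_option maxRecDepth 100000 in
theorem part_5_12_6_2 : dfsN 6 268435456 40653584 [4, 7, 8, 9, 10, 11] = true := by
  decide +kernel

set_option maxRecDepth 100000 in
theorem part_5_12_6_4 : dfsN 6 268435456 74208016 [2, 7, 8, 9, 10, 11] = true := by
  decide +kernel

set_option maxRecDepth 100000 in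
theorem part_5_12_6_7 : dfsN 6 268435456 124539664 [2, 4, 8, 9, 10, 11] = true := by
  decide +kernel

set_option maxRecDepth 100000 in
theorem part_5_12_6_8 : dfsN 6 268435456 141316880 [2, 4, 7, 9, 10, 11] = true := by
  decide +kernel

set_option maxRecDepth 100000 in
theorem part_5_12_6_9 : dfsN 6 268435456 158094096 [2, 4, 7, 8, 10, 11] = true := by
  decide +kernel

set_option maxRecDepth 100000 in
theorem part_5_12_6_10 : dfsN 6 268435456 174871312 [2, 4, 7, 8, 9, 11] = true := by
  decide +kernel

set_option maxRecDepth 100000 in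
theorem part_5_12_6_11 : dfsN 6 268435456 191648528 [2, 4, 7, 8, 9, 10] = true := by
  decide +kernel

theorem part_5_12_6 : dfsN 7 16777216 7099152 [2, 4, 7, 8, 9, 10, 11] = true := by
  apply dfsN_step 6 16777216 7099152 [2, 4, 7, 8, 9, 10, 11]
  intro v hv
  simp only [List.mem_cons, List.not_mem_nil, or_false] at hv
  rcases hv with rfl | rfl | rfl | rfl | rfl | rfl | rfl
  exacts [part_5_12_6_2, part_5_12_6_4, part_5_12_6_7, part_5_12_6_8, part_5_12_6_9, part_5_12_6_10, part_5_12_6_11]

set_option maxRecDepth 100000 in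
theorem part_5_12_7_2 : dfsN 6 268435456 41702160 [4, 6, 8, 9, 10, 11] = true := by
  decide +kernel

set_option maxRecDepth 100000 in
theorem part_5_12_7_4 : dfsN 6 268435456 75256592 [2, 6, 8, 9, 10, 11] = true := by
  decide +kernel

set_option maxRecDepth 100000 in
theorem part_5_12_7_6 : dfsN 6 268435456 108811024 [2, 4, 8, 9, 10, 11] = true := by
  decide +kernel

set_option maxRecDepth 100000 in
theorem part_5_12_7_8 : dfsN 6 268435456 142365456 [2, 4, 6, 9, 10, 11] = true := by
  decide +kernel

set_option maxRecDepth 100000 in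
theorem part_5_12_7_9 : dfsN 6 268435456 159142672 [2, 4, 6, 8, 10, 11] = true := by
  decide +kernel

set_option maxRecDepth 100000 in
theorem part_5_12_7_10 : dfsN 6 268435456 175919888 [2, 4, 6, 8, 9, 11] = true := by
  decide +kernel

set_option maxRecDepth 100000 in
theorem part_5_12_7_11 : dfsN 6 268435456 192697104 [2, 4, 6, 8, 9, 10] = true := by
  decide +kernel

theorem part_5_12_7 : dfsN 7 16777216 8147728 [2, 4, 6, 8, 9, 10, 11] = true := by
  apply dfsN_step 6 16777216 8147728 [2, 4, 6, 8, 9, 10, 11]
  intro v hv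
  simp only [List.mem_cons, List.not_mem_nil, or_false] at hv
  rcases hv with rfl | rfl | rfl | rfl | rfl | rfl | rfl
  exacts [part_5_12_7_2, part_5_12_7_4, part_5_12_7_6, part_5_12_7_8, part_5_12_7_9, part_5_12_7_10, part_5_12_7_11]

set_option maxRecDepth 100000 in
theorem part_5_12_8_2 : dfsN 6 268435456 42750736 [4, 6, 7, 9, 10, 11] = true := by
  decide +kernel

set_option maxRecDepth 100000 in
theorem part_5_12_8_4 : dfsN 6 268435456 76305168 [2, 6, 7, 9, 10, 11] = true := by
  decide +kernel

set_option maxRecDepth 100000 in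
theorem part_5_12_8_6 : dfsN 6 268435456 109859600 [2, 4, 7, 9, 10, 11] = true := by
  decide +kernel

set_option maxRecDepth 100000 in
theorem part_5_12_8_7 : dfsN 6 268435456 126636816 [2, 4, 6, 9, 10, 11] = true := by
  decide +kernel

set_option maxRecDepth 100000 in
theorem part_5_12_8_9 : dfsN 6 268435456 160191248 [2, 4, 6, 7, 10, 11] = true := by
  decide +kernel

set_option maxRecDepth 100000 in
theorem part_5_12_8_10 : dfsN 6 268435456 176968464 [2, 4, 6, 7, 9, 11] = true := by
  decide +kernel

set_option maxRecDepth 100000 in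
theorem part_5_12_8_11 : dfsN 6 268435456 193745680 [2, 4, 6, 7, 9, 10] = true := by
  decide +kernel

theorem part_5_12_8 : dfsN 7 16777216 9196304 [2, 4, 6, 7, 9, 10, 11] = true := by
  apply dfsN_step 6 16777216 9196304 [2, 4, 6, 7, 9, 10, 11]
  intro v hv
  simp only [List.mem_cons, List.not_mem_nil, or_false] at hv
  rcases hv with rfl | rfl | rfl | rfl | rfl | rfl | rfl
  exacts [part_5_12_8_2, part_5_12_8_4, part_5_12_8_6, part_5_12_8_7, part_5_12_8_9, part_5_12_8_10, part_5_12_8_11]

set_option maxRecDepth 100000 in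
theorem part_5_12_9_2 : dfsN 6 268435456 43799312 [4, 6, 7, 8, 10, 11] = true := by
  decide +kernel

set_option maxRecDepth 100000 in
theorem part_5_12_9_4 : dfsN 6 268435456 77353744 [2, 6, 7, 8, 10, 11] = true := by
  decide +kernel

set_option maxRecDepth 100000 in
theorem part_5_12_9_6 : dfsN 6 268435456 110908176 [2, 4, 7, 8, 10, 11] = true := by
  decide +kernel

set_option maxRecDepth 100000 in
theorem part_5_12_9_7 : dfsN 6 268435456 127685392 [2, 4, 6, 8, 10, 11] = true := by
  decide +kernel

set_option maxRecDepth 100000 in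
theorem part_5_12_9_8 : dfsN 6 268435456 144462608 [2, 4, 6, 7, 10, 11] = true := by
  decide +kernel

set_option maxRecDepth 100000 in
theorem part_5_12_9_10 : dfsN 6 268435456 178017040 [2, 4, 6, 7, 8, 11] = true := by
  decide +kernel

set_option maxRecDepth 100000 in
theorem part_5_12_9_11 : dfsN 6 268435456 194794256 [2, 4, 6, 7, 8, 10] = true := by
  decide +kernel

theorem part_5_12_9 : dfsN 7 16777216 10244880 [2, 4, 6, 7, 8, 10, 11] = true := by
  apply dfsN_step 6 16777216 10244880 [2, 4, 6, 7, 8, 10, 11]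
  intro v hv
  simp only [List.mem_cons, List.not_mem_nil, or_false] at hv
  rcases hv with rfl | rfl | rfl | rfl | rfl | rfl | rfl
  exacts [part_5_12_9_2, part_5_12_9_4, part_5_12_9_6, part_5_12_9_7, part_5_12_9_8, part_5_12_9_10, part_5_12_9_11]

set_option maxRecDepth 100000 in
theorem part_5_12_10_2 : dfsN 6 268435456 44847888 [4, 6, 7, 8, 9, 11] = true := by
  decide +kernel

set_option maxRecDepth 100000 in
theorem part_5_12_10_4 : dfsN 6 268435456 78402320 [2, 6, 7, 8, 9, 11] = true := by
  decide +kernel

set_option maxRecDepth 100000 in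
theorem part_5_12_10_6 : dfsN 6 268435456 111956752 [2, 4, 7, 8, 9, 11] = true := by
  decide +kernel

set_option maxRecDepth 100000 in
theorem part_5_12_10_7 : dfsN 6 268435456 128733968 [2, 4, 6, 8, 9, 11] = true := by
  decide +kernel

set_option maxRecDepth 100000 in
theorem part_5_12_10_8 : dfsN 6 268435456 145511184 [2, 4, 6, 7, 9, 11] = true := by
  decide +kernel

set_option maxRecDepth 100000 in
theorem part_5_12_10_9 : dfsN 6 268435456 162288400 [2, 4, 6, 7, 8, 11] = true := by
  decide +kernel

set_option maxRecDepth 100000 in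
theorem part_5_12_10_11 : dfsN 6 268435456 195842832 [2, 4, 6, 7, 8, 9] = true := by
  decide +kernel

theorem part_5_12_10 : dfsN 7 16777216 11293456 [2, 4, 6, 7, 8, 9, 11] = true := by
  apply dfsN_step 6 16777216 11293456 [2, 4, 6, 7, 8, 9, 11]
  intro v hv
  simp only [List.mem_cons, List.not_mem_nil, or_false] at hv
  rcases hv with rfl | rfl | rfl | rfl | rfl | rfl | rfl
  exacts [part_5_12_10_2, part_5_12_10_4, part_5_12_10_6, part_5_12_10_7, part_5_12_10_8, part_5_12_10_9, part_5_12_10_11]

set_option maxRecDepth 100000 in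
theorem part_5_12_11_2 : dfsN 6 268435456 45896464 [4, 6, 7, 8, 9, 10] = true := by
  decide +kernel

set_option maxRecDepth 100000 in
theorem part_5_12_11_4 : dfsN 6 268435456 79450896 [2, 6, 7, 8, 9, 10] = true := by
  decide +kernel

set_option maxRecDepth 100000 in
theorem part_5_12_11_6 : dfsN 6 268435456 113005328 [2, 4, 7, 8, 9, 10] = true := by
  decide +kernel

set_option maxRecDepth 100000 in
theorem part_5_12_11_7 : dfsN 6 268435456 129782544 [2, 4, 6, 8, 9, 10] = true := by
  decide +kernel

set_option maxRecDepth 100000 in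
theorem part_5_12_11_8 : dfsN 6 268435456 146559760 [2, 4, 6, 7, 9, 10] = true := by
  decide +kernel

set_option maxRecDepth 100000 in
theorem part_5_12_11_9 : dfsN 6 268435456 163336976 [2, 4, 6, 7, 8, 10] = true := by
  decide +kernel

set_option maxRecDepth 100000 in
theorem part_5_12_11_10 : dfsN 6 268435456 180114192 [2, 4, 6, 7, 8, 9] = true := by
  decide +kernel

theorem part_5_12_11 : dfsN 7 16777216 12342032 [2, 4, 6, 7, 8, 9, 10] = true := by
  apply dfsN_step 6 16777216 12342032 [2, 4, 6, 7, 8, 9, 10]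
  intro v hv
  simp only [List.mem_cons, List.not_mem_nil, or_false] at hv
  rcases hv with rfl | rfl | rfl | rfl | rfl | rfl | rfl
  exacts [part_5_12_11_2, part_5_12_11_4, part_5_12_11_6, part_5_12_11_7, part_5_12_11_8, part_5_12_11_9, part_5_12_11_10]

theorem part_5_12 : dfsN 8 1048576 807696 [2, 4, 6, 7, 8, 9, 10, 11] = true := by
  apply dfsN_step 7 1048576 807696 [2, 4, 6, 7, 8, 9, 10, 11]
  intro v hv
  simp only [List.mem_cons, List.not_mem_nil, or_false] at hv
  rcases hv with rfl | rfl | rfl | rfl | rfl | rfl | rfl | rfl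
  exacts [part_5_12_2, part_5_12_4, part_5_12_6, part_5_12_7, part_5_12_8, part_5_12_9, part_5_12_10, part_5_12_11]

end Cfsg.Agent.Lib.H16.AG
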