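import Cfsg.Agent.Lib.H16.AG.Step

set_option autoImplicit false

/-! Degree 13, images `0, 1, 3, 6, 2` of `0, 1, 2, 3, 4` fixed: every completion that is an
`11`-cycle has a word `(x ^ b * y ^ a) ^ k` which is a `3`-, `5`- or `7`-cycle
(small kernel computations, one per pair of images of `5, 6`). -/

namespace Cfsg.Agent.Lib.H16.AG

set_option maxRecDepth 100000 in
theorem part_6_2_4_5 : dfsN 6 268435456 88236816 [7, 8, 9, 10, 11, 12] = true := by
  decide +kernel

set_option maxRecDepth 100000 in
theorem part_6_2_4_7 : dfsN 6 268435456 121791248 [5, 8, 9, 10, 11, 12] = true := by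
  decide +kernel

set_option maxRecDepth 100000 in
theorem part_6_2_4_8 : dfsN 6 268435456 138568464 [5, 7, 9, 10, 11, 12] = true := by
  decide +kernel

set_option maxRecDepth 100000 in
theorem part_6_2_4_9 : dfsN 6 268435456 155345680 [5, 7, 8, 10, 11, 12] = true := by
  decide +kernel

set_option maxRecDepth 100000 in
theorem part_6_2_4_10 : dfsN 6 268435456 172122896 [5, 7, 8, 9, 11, 12] = true := by
  decide +kernel

set_option maxRecDepth 100000 in
theorem part_6_2_4_11 : dfsN 6 268435456 188900112 [5, 7, 8, 9, 10, 12] = true := by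
  decide +kernel

set_option maxRecDepth 100000 in
theorem part_6_2_4_12 : dfsN 6 268435456 205677328 [5, 7, 8, 9, 10, 11] = true := by
  decide +kernel

theorem part_6_2_4 : dfsN 7 16777216 4350736 [5, 7, 8, 9, 10, 11, 12] = true := by
  apply dfsN_step 6 16777216 4350736 [5, 7, 8, 9, 10, 11, 12]
  intro v hv
  simp only [List.mem_cons, List.not_mem_nil, or_false] at hv
  rcases hv with rfl | rfl | rfl | rfl | rfl | rfl | rfl
  exacts [part_6_2_4_5, part_6_2_4_7, part_6_2_4_8, part_6_2_4_9, part_6_2_4_10, part_6_2_4_11, part_6_2_4_12]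

set_option maxRecDepth 100000 in
theorem part_6_2_5_4 : dfsN 6 268435456 72508176 [7, 8, 9, 10, 11, 12] = true := by
  decide +kernel

set_option maxRecDepth 100000 in
theorem part_6_2_5_7 : dfsN 6 268435456 122839824 [4, 8, 9, 10, 11, 12] = true := by
  decide +kernel

set_option maxRecDepth 100000 in
theorem part_6_2_5_8 : dfsN 6 268435456 139617040 [4, 7, 9, 10, 11, 12] = true := by
  decide +kernel

set_option maxRecDepth 100000 in
theorem part_6_2_5_9 : dfsN 6 268435456 156394256 [4, 7, 8, 10, 11, 12] = true := by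
  decide +kernel

set_option maxRecDepth 100000 in
theorem part_6_2_5_10 : dfsN 6 268435456 173171472 [4, 7, 8, 9, 11, 12] = true := by
  decide +kernel

set_option maxRecDepth 100000 in
theorem part_6_2_5_11 : dfsN 6 268435456 189948688 [4, 7, 8, 9, 10, 12] = true := by
  decide +kernel

set_option maxRecDepth 100000 in
theorem part_6_2_5_12 : dfsN 6 268435456 206725904 [4, 7, 8, 9, 10, 11] = true := by
  decide +kernel

theorem part_6_2_5 : dfsN 7 16777216 5399312 [4, 7, 8, 9, 10, 11, 12] = true := by
  apply dfsN_step 6 16777216 5399312 [4, 7, 8, 9, 10, 11, 12]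
  intro v hv
  simp only [List.mem_cons, List.not_mem_nil, or_false] at hv
  rcases hv with rfl | rfl | rfl | rfl | rfl | rfl | rfl
  exacts [part_6_2_5_4, part_6_2_5_7, part_6_2_5_8, part_6_2_5_9, part_6_2_5_10, part_6_2_5_11, part_6_2_5_12]

set_option maxRecDepth 100000 in
theorem part_6_2_7_4 : dfsN 6 268435456 74605328 [5, 8, 9, 10, 11, 12] = true := by
  decide +kernel

set_option maxRecDepth 100000 in
theorem part_6_2_7_5 : dfsN 6 268435456 91382544 [4, 8, 9, 10, 11, 12] = true := by
  decide +kernel

set_option maxRecDepth 100000 in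
theorem part_6_2_7_8 : dfsN 6 268435456 141714192 [4, 5, 9, 10, 11, 12] = true := by
  decide +kernel

set_option maxRecDepth 100000 in
theorem part_6_2_7_9 : dfsN 6 268435456 158491408 [4, 5, 8, 10, 11, 12] = true := by
  decide +kernel

set_option maxRecDepth 100000 in
theorem part_6_2_7_10 : dfsN 6 268435456 175268624 [4, 5, 8, 9, 11, 12] = true := by
  decide +kernel

set_option maxRecDepth 100000 in
theorem part_6_2_7_11 : dfsN 6 268435456 192045840 [4, 5, 8, 9, 10, 12] = true := by
  decide +kernel

set_option maxRecDepth 100000 in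
theorem part_6_2_7_12 : dfsN 6 268435456 208823056 [4, 5, 8, 9, 10, 11] = true := by
  decide +kernel

theorem part_6_2_7 : dfsN 7 16777216 7496464 [4, 5, 8, 9, 10, 11, 12] = true := by
  apply dfsN_step 6 16777216 7496464 [4, 5, 8, 9, 10, 11, 12]
  intro v hv
  simp only [List.mem_cons, List.not_mem_nil, or_false] at hv
  rcases hv with rfl | rfl | rfl | rfl | rfl | rfl | rfl
  exacts [part_6_2_7_4, part_6_2_7_5, part_6_2_7_8, part_6_2_7_9, part_6_2_7_10, part_6_2_7_11, part_6_2_7_12]

set_option maxRecDepth 100000 in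
theorem part_6_2_8_4 : dfsN 6 268435456 75653904 [5, 7, 9, 10, 11, 12] = true := by
  decide +kernel

set_option maxRecDepth 100000 in
theorem part_6_2_8_5 : dfsN 6 268435456 92431120 [4, 7, 9, 10, 11, 12] = true := by
  decide +kernel

set_option maxRecDepth 100000 in
theorem part_6_2_8_7 : dfsN 6 268435456 125985552 [4, 5, 9, 10, 11, 12] = true := by
  decide +kernel

set_option maxRecDepth 100000 in
theorem part_6_2_8_9 : dfsN 6 268435456 159539984 [4, 5, 7, 10, 11, 12] = true := by
  decide +kernel

set_option maxRecDepth 100000 in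
theorem part_6_2_8_10 : dfsN 6 268435456 176317200 [4, 5, 7, 9, 11, 12] = true := by
  decide +kernel

set_option maxRecDepth 100000 in
theorem part_6_2_8_11 : dfsN 6 268435456 193094416 [4, 5, 7, 9, 10, 12] = true := by
  decide +kernel

set_option maxRecDepth 100000 in
theorem part_6_2_8_12 : dfsN 6 268435456 209871632 [4, 5, 7, 9, 10, 11] = true := by
  decide +kernel

theorem part_6_2_8 : dfsN 7 16777216 8545040 [4, 5, 7, 9, 10, 11, 12] = true := by
  apply dfsN_step 6 16777216 8545040 [4, 5, 7, 9, 10, 11, 12]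
  intro v hv
  simp only [List.mem_cons, List.not_mem_nil, or_false] at hv
  rcases hv with rfl | rfl | rfl | rfl | rfl | rfl | rfl
  exacts [part_6_2_8_4, part_6_2_8_5, part_6_2_8_7, part_6_2_8_9, part_6_2_8_10, part_6_2_8_11, part_6_2_8_12]

set_option maxRecDepth 100000 in
theorem part_6_2_9_4 : dfsN 6 268435456 76702480 [5, 7, 8, 10, 11, 12] = true := by
  decide +kernel

set_option maxRecDepth 100000 in
theorem part_6_2_9_5 : dfsN 6 268435456 93479696 [4, 7, 8, 10, 11, 12] = true := by
  decide +kernel

set_option maxRecDepth 100000 in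
theorem part_6_2_9_7 : dfsN 6 268435456 127034128 [4, 5, 8, 10, 11, 12] = true := by
  decide +kernel

set_option maxRecDepth 100000 in
theorem part_6_2_9_8 : dfsN 6 268435456 143811344 [4, 5, 7, 10, 11, 12] = true := by
  decide +kernel

set_option maxRecDepth 100000 in
theorem part_6_2_9_10 : dfsN 6 268435456 177365776 [4, 5, 7, 8, 11, 12] = true := by
  decide +kernel

set_option maxRecDepth 100000 in
theorem part_6_2_9_11 : dfsN 6 268435456 194142992 [4, 5, 7, 8, 10, 12] = true := by
  decide +kernel

set_option maxRecDepth 100000 in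
theorem part_6_2_9_12 : dfsN 6 268435456 210920208 [4, 5, 7, 8, 10, 11] = true := by
  decide +kernel

theorem part_6_2_9 : dfsN 7 16777216 9593616 [4, 5, 7, 8, 10, 11, 12] = true := by
  apply dfsN_step 6 16777216 9593616 [4, 5, 7, 8, 10, 11, 12]
  intro v hv
  simp only [List.mem_cons, List.not_mem_nil, or_false] at hv
  rcases hv with rfl | rfl | rfl | rfl | rfl | rfl | rfl
  exacts [part_6_2_9_4, part_6_2_9_5, part_6_2_9_7, part_6_2_9_8, part_6_2_9_10, part_6_2_9_11, part_6_2_9_12]

set_option maxRecDepth 100000 in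
theorem part_6_2_10_4 : dfsN 6 268435456 77751056 [5, 7, 8, 9, 11, 12] = true := by
  decide +kernel

set_option maxRecDepth 100000 in
theorem part_6_2_10_5 : dfsN 6 268435456 94528272 [4, 7, 8, 9, 11, 12] = true := by
  decide +kernel

set_option maxRecDepth 100000 in
theorem part_6_2_10_7 : dfsN 6 268435456 128082704 [4, 5, 8, 9, 11, 12] = true := by
  decide +kernel

set_option maxRecDepth 100000 in
theorem part_6_2_10_8 : dfsN 6 268435456 144859920 [4, 5, 7, 9, 11, 12] = true := by
  decide +kernel

set_option maxRecDepth 100000 in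
theorem part_6_2_10_9 : dfsN 6 268435456 161637136 [4, 5, 7, 8, 11, 12] = true := by
  decide +kernel

set_option maxRecDepth 100000 in
theorem part_6_2_10_11 : dfsN 6 268435456 195191568 [4, 5, 7, 8, 9, 12] = true := by
  decide +kernel

set_option maxRecDepth 100000 in
theorem part_6_2_10_12 : dfsN 6 268435456 211968784 [4, 5, 7, 8, 9, 11] = true := by
  decide +kernel

theorem part_6_2_10 : dfsN 7 16777216 10642192 [4, 5, 7, 8, 9, 11, 12] = true := by
  apply dfsN_step 6 16777216 10642192 [4, 5, 7, 8, 9, 11, 12]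
  intro v hv
  simp only [List.mem_cons, List.not_mem_nil, or_false] at hv
  rcases hv with rfl | rfl | rfl | rfl | rfl | rfl | rfl
  exacts [part_6_2_10_4, part_6_2_10_5, part_6_2_10_7, part_6_2_10_8, part_6_2_10_9, part_6_2_10_11, part_6_2_10_12]

set_option maxRecDepth 100000 in
theorem part_6_2_11_4 : dfsN 6 268435456 78799632 [5, 7, 8, 9, 10, 12] = true := by
  decide +kernel

set_option maxRecDepth 100000 in
theorem part_6_2_11_5 : dfsN 6 268435456 95576848 [4, 7, 8, 9, 10, 12] = true := by
  decide +kernel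

set_option maxRecDepth 100000 in
theorem part_6_2_11_7 : dfsN 6 268435456 129131280 [4, 5, 8, 9, 10, 12] = true := by
  decide +kernel

set_option maxRecDepth 100000 in
theorem part_6_2_11_8 : dfsN 6 268435456 145908496 [4, 5, 7, 9, 10, 12] = true := by
  decide +kernel

set_option maxRecDepth 100000 in
theorem part_6_2_11_9 : dfsN 6 268435456 162685712 [4, 5, 7, 8, 10, 12] = true := by
  decide +kernel

set_option maxRecDepth 100000 in
theorem part_6_2_11_10 : dfsN 6 268435456 179462928 [4, 5, 7, 8, 9, 12] = true := by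
  decide +kernel

set_option maxRecDepth 100000 in
theorem part_6_2_11_12 : dfsN 6 268435456 213017360 [4, 5, 7, 8, 9, 10] = true := by
  decide +kernel

theorem part_6_2_11 : dfsN 7 16777216 11690768 [4, 5, 7, 8, 9, 10, 12] = true := by
  apply dfsN_step 6 16777216 11690768 [4, 5, 7, 8, 9, 10, 12]
  intro v hv
  simp only [List.mem_cons, List.not_mem_nil, or_false] at hv
  rcases hv with rfl | rfl | rfl | rfl | rfl | rfl | rfl
  exacts [part_6_2_11_4, part_6_2_11_5, part_6_2_11_7, part_6_2_11_8, part_6_2_11_9, part_6_2_11_10, part_6_2_11_12]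

set_option maxRecDepth 100000 in
theorem part_6_2_12_4 : dfsN 6 268435456 79848208 [5, 7, 8, 9, 10, 11] = true := by
  decide +kernel

set_option maxRecDepth 100000 in
theorem part_6_2_12_5 : dfsN 6 268435456 96625424 [4, 7, 8, 9, 10, 11] = true := by
  decide +kernel

set_option maxRecDepth 100000 in
theorem part_6_2_12_7 : dfsN 6 268435456 130179856 [4, 5, 8, 9, 10, 11] = true := by
  decide +kernel

set_option maxRecDepth 100000 in
theorem part_6_2_12_8 : dfsN 6 268435456 146957072 [4, 5, 7, 9, 10, 11] = true := by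
  decide +kernel

set_option maxRecDepth 100000 in
theorem part_6_2_12_9 : dfsN 6 268435456 163734288 [4, 5, 7, 8, 10, 11] = true := by
  decide +kernel

set_option maxRecDepth 100000 in
theorem part_6_2_12_10 : dfsN 6 268435456 180511504 [4, 5, 7, 8, 9, 11] = true := by
  decide +kernel

set_option maxRecDepth 100000 in
theorem part_6_2_12_11 : dfsN 6 268435456 197288720 [4, 5, 7, 8, 9, 10] = true := by
  decide +kernel

theorem part_6_2_12 : dfsN 7 16777216 12739344 [4, 5, 7, 8, 9, 10, 11] = true := by
  apply dfsN_step 6 16777216 12739344 [4, 5, 7, 8, 9, 10, 11]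
  intro v hv
  simp only [List.mem_cons, List.not_mem_nil, or_false] at hv
  rcases hv with rfl | rfl | rfl | rfl | rfl | rfl | rfl
  exacts [part_6_2_12_4, part_6_2_12_5, part_6_2_12_7, part_6_2_12_8, part_6_2_12_9, part_6_2_12_10, part_6_2_12_11]

theorem part_6_2 : dfsN 8 1048576 156432 [4, 5, 7, 8, 9, 10, 11, 12] = true := by
  apply dfsN_step 7 1048576 156432 [4, 5, 7, 8, 9, 10, 11, 12]
  intro v hv
  simp only [List.mem_cons, List.not_mem_nil, or_false] at hv
  rcases hv with rfl | rfl | rfl | rfl | rfl | rfl | rfl | rfl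
  exacts [part_6_2_4, part_6_2_5, part_6_2_7, part_6_2_8, part_6_2_9, part_6_2_10, part_6_2_11, part_6_2_12]

end Cfsg.Agent.Lib.H16.AG
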