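import Cfsg.Agent.Lib.H16.AG.Step

set_option autoImplicit false

/-! Degree 13, images `0, 1, 3, 6, 4` of `0, 1, 2, 3, 4` fixed: every completion that is an
`11`-cycle has a word `(x ^ b * y ^ a) ^ k` which is a `3`-, `5`- or `7`-cycle
(small kernel computations, one per pair of images of `5, 6`). -/

namespace Cfsg.Agent.Lib.H16.AG

set_option maxRecDepth 100000 in
theorem part_6_4_2_5 : dfsN 6 268435456 86270736 [7, 8, 9, 10, 11, 12] = true := by
  decide +kernel

set_option maxRecDepth 100000 in
theorem part_6_4_2_7 : dfsN 6 268435456 119825168 [5, 8, 9, 10, 11, 12] = true := by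
  decide +kernel

set_option maxRecDepth 100000 in
theorem part_6_4_2_8 : dfsN 6 268435456 136602384 [5, 7, 9, 10, 11, 12] = true := by
  decide +kernel

set_option maxRecDepth 100000 in
theorem part_6_4_2_9 : dfsN 6 268435456 153379600 [5, 7, 8, 10, 11, 12] = true := by
  decide +kernel

set_option maxRecDepth 100000 in
theorem part_6_4_2_10 : dfsN 6 268435456 170156816 [5, 7, 8, 9, 11, 12] = true := by
  decide +kernel

set_option maxRecDepth 100000 in
theorem part_6_4_2_11 : dfsN 6 268435456 186934032 [5, 7, 8, 9, 10, 12] = true := by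
  decide +kernel

set_option maxRecDepth 100000 in
theorem part_6_4_2_12 : dfsN 6 268435456 203711248 [5, 7, 8, 9, 10, 11] = true := by
  decide +kernel

theorem part_6_4_2 : dfsN 7 16777216 2384656 [5, 7, 8, 9, 10, 11, 12] = true := by
  apply dfsN_step 6 16777216 2384656 [5, 7, 8, 9, 10, 11, 12]
  intro v hv
  simp only [List.mem_cons, List.not_mem_nil, or_false] at hv
  rcases hv with rfl | rfl | rfl | rfl | rfl | rfl | rfl
  exacts [part_6_4_2_5, part_6_4_2_7, part_6_4_2_8, part_6_4_2_9, part_6_4_2_10, part_6_4_2_11, part_6_4_2_12]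

set_option maxRecDepth 100000 in
theorem part_6_4_5_2 : dfsN 6 268435456 39084816 [7, 8, 9, 10, 11, 12] = true := by
  decide +kernel

set_option maxRecDepth 100000 in
theorem part_6_4_5_7 : dfsN 6 268435456 122970896 [2, 8, 9, 10, 11, 12] = true := by
  decide +kernel

set_option maxRecDepth 100000 in
theorem part_6_4_5_8 : dfsN 6 268435456 139748112 [2, 7, 9, 10, 11, 12] = true := by
  decide +kernel

set_option maxRecDepth 100000 in
theorem part_6_4_5_9 : dfsN 6 268435456 156525328 [2, 7, 8, 10, 11, 12] = true := by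
  decide +kernel

set_option maxRecDepth 100000 in
theorem part_6_4_5_10 : dfsN 6 268435456 173302544 [2, 7, 8, 9, 11, 12] = true := by
  decide +kernel

set_option maxRecDepth 100000 in
theorem part_6_4_5_11 : dfsN 6 268435456 190079760 [2, 7, 8, 9, 10, 12] = true := by
  decide +kernel

set_option maxRecDepth 100000 in
theorem part_6_4_5_12 : dfsN 6 268435456 206856976 [2, 7, 8, 9, 10, 11] = true := by
  decide +kernel

theorem part_6_4_5 : dfsN 7 16777216 5530384 [2, 7, 8, 9, 10, 11, 12] = true := by
  apply dfsN_step 6 16777216 5530384 [2, 7, 8, 9, 10, 11, 12]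
  intro v hv
  simp only [List.mem_cons, List.not_mem_nil, or_false] at hv
  rcases hv with rfl | rfl | rfl | rfl | rfl | rfl | rfl
  exacts [part_6_4_5_2, part_6_4_5_7, part_6_4_5_8, part_6_4_5_9, part_6_4_5_10, part_6_4_5_11, part_6_4_5_12]

set_option maxRecDepth 100000 in
theorem part_6_4_7_2 : dfsN 6 268435456 41181968 [5, 8, 9, 10, 11, 12] = true := by
  decide +kernel

set_option maxRecDepth 100000 in
theorem part_6_4_7_5 : dfsN 6 268435456 91513616 [2, 8, 9, 10, 11, 12] = true := by
  decide +kernel

set_option maxRecDepth 100000 in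
theorem part_6_4_7_8 : dfsN 6 268435456 141845264 [2, 5, 9, 10, 11, 12] = true := by
  decide +kernel

set_option maxRecDepth 100000 in
theorem part_6_4_7_9 : dfsN 6 268435456 158622480 [2, 5, 8, 10, 11, 12] = true := by
  decide +kernel

set_option maxRecDepth 100000 in
theorem part_6_4_7_10 : dfsN 6 268435456 175399696 [2, 5, 8, 9, 11, 12] = true := by
  decide +kernel

set_option maxRecDepth 100000 in
theorem part_6_4_7_11 : dfsN 6 268435456 192176912 [2, 5, 8, 9, 10, 12] = true := by
  decide +kernel

set_option maxRecDepth 100000 in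
theorem part_6_4_7_12 : dfsN 6 268435456 208954128 [2, 5, 8, 9, 10, 11] = true := by
  decide +kernel

theorem part_6_4_7 : dfsN 7 16777216 7627536 [2, 5, 8, 9, 10, 11, 12] = true := by
  apply dfsN_step 6 16777216 7627536 [2, 5, 8, 9, 10, 11, 12]
  intro v hv
  simp only [List.mem_cons, List.not_mem_nil, or_false] at hv
  rcases hv with rfl | rfl | rfl | rfl | rfl | rfl | rfl
  exacts [part_6_4_7_2, part_6_4_7_5, part_6_4_7_8, part_6_4_7_9, part_6_4_7_10, part_6_4_7_11, part_6_4_7_12]

set_option maxRecDepth 100000 in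
theorem part_6_4_8_2 : dfsN 6 268435456 42230544 [5, 7, 9, 10, 11, 12] = true := by
  decide +kernel

set_option maxRecDepth 100000 in
theorem part_6_4_8_5 : dfsN 6 268435456 92562192 [2, 7, 9, 10, 11, 12] = true := by
  decide +kernel

set_option maxRecDepth 100000 in
theorem part_6_4_8_7 : dfsN 6 268435456 126116624 [2, 5, 9, 10, 11, 12] = true := by
  decide +kernel

set_option maxRecDepth 100000 in
theorem part_6_4_8_9 : dfsN 6 268435456 159671056 [2, 5, 7, 10, 11, 12] = true := by
  decide +kernel

set_option maxRecDepth 100000 in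
theorem part_6_4_8_10 : dfsN 6 268435456 176448272 [2, 5, 7, 9, 11, 12] = true := by
  decide +kernel

set_option maxRecDepth 100000 in
theorem part_6_4_8_11 : dfsN 6 268435456 193225488 [2, 5, 7, 9, 10, 12] = true := by
  decide +kernel

set_option maxRecDepth 100000 in
theorem part_6_4_8_12 : dfsN 6 268435456 210002704 [2, 5, 7, 9, 10, 11] = true := by
  decide +kernel

theorem part_6_4_8 : dfsN 7 16777216 8676112 [2, 5, 7, 9, 10, 11, 12] = true := by
  apply dfsN_step 6 16777216 8676112 [2, 5, 7, 9, 10, 11, 12]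
  intro v hv
  simp only [List.mem_cons, List.not_mem_nil, or_false] at hv
  rcases hv with rfl | rfl | rfl | rfl | rfl | rfl | rfl
  exacts [part_6_4_8_2, part_6_4_8_5, part_6_4_8_7, part_6_4_8_9, part_6_4_8_10, part_6_4_8_11, part_6_4_8_12]

set_option maxRecDepth 100000 in
theorem part_6_4_9_2 : dfsN 6 268435456 43279120 [5, 7, 8, 10, 11, 12] = true := by
  decide +kernel

set_option maxRecDepth 100000 in
theorem part_6_4_9_5 : dfsN 6 268435456 93610768 [2, 7, 8, 10, 11, 12] = true := by
  decide +kernel

set_option maxRecDepth 100000 in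
theorem part_6_4_9_7 : dfsN 6 268435456 127165200 [2, 5, 8, 10, 11, 12] = true := by
  decide +kernel

set_option maxRecDepth 100000 in
theorem part_6_4_9_8 : dfsN 6 268435456 143942416 [2, 5, 7, 10, 11, 12] = true := by
  decide +kernel

set_option maxRecDepth 100000 in
theorem part_6_4_9_10 : dfsN 6 268435456 177496848 [2, 5, 7, 8, 11, 12] = true := by
  decide +kernel

set_option maxRecDepth 100000 in
theorem part_6_4_9_11 : dfsN 6 268435456 194274064 [2, 5, 7, 8, 10, 12] = true := by
  decide +kernel

set_option maxRecDepth 100000 in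
theorem part_6_4_9_12 : dfsN 6 268435456 211051280 [2, 5, 7, 8, 10, 11] = true := by
  decide +kernel

theorem part_6_4_9 : dfsN 7 16777216 9724688 [2, 5, 7, 8, 10, 11, 12] = true := by
  apply dfsN_step 6 16777216 9724688 [2, 5, 7, 8, 10, 11, 12]
  intro v hv
  simp only [List.mem_cons, List.not_mem_nil, or_false] at hv
  rcases hv with rfl | rfl | rfl | rfl | rfl | rfl | rfl
  exacts [part_6_4_9_2, part_6_4_9_5, part_6_4_9_7, part_6_4_9_8, part_6_4_9_10, part_6_4_9_11, part_6_4_9_12]

set_option maxRecDepth 100000 in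
theorem part_6_4_10_2 : dfsN 6 268435456 44327696 [5, 7, 8, 9, 11, 12] = true := by
  decide +kernel

set_option maxRecDepth 100000 in
theorem part_6_4_10_5 : dfsN 6 268435456 94659344 [2, 7, 8, 9, 11, 12] = true := by
  decide +kernel

set_option maxRecDepth 100000 in
theorem part_6_4_10_7 : dfsN 6 268435456 128213776 [2, 5, 8, 9, 11, 12] = true := by
  decide +kernel

set_option maxRecDepth 100000 in
theorem part_6_4_10_8 : dfsN 6 268435456 144990992 [2, 5, 7, 9, 11, 12] = true := by
  decide +kernel

set_option maxRecDepth 100000 in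
theorem part_6_4_10_9 : dfsN 6 268435456 161768208 [2, 5, 7, 8, 11, 12] = true := by
  decide +kernel

set_option maxRecDepth 100000 in
theorem part_6_4_10_11 : dfsN 6 268435456 195322640 [2, 5, 7, 8, 9, 12] = true := by
  decide +kernel

set_option maxRecDepth 100000 in
theorem part_6_4_10_12 : dfsN 6 268435456 212099856 [2, 5, 7, 8, 9, 11] = true := by
  decide +kernel

theorem part_6_4_10 : dfsN 7 16777216 10773264 [2, 5, 7, 8, 9, 11, 12] = true := by
  apply dfsN_step 6 16777216 10773264 [2, 5, 7, 8, 9, 11, 12]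
  intro v hv
  simp only [List.mem_cons, List.not_mem_nil, or_false] at hv
  rcases hv with rfl | rfl | rfl | rfl | rfl | rfl | rfl
  exacts [part_6_4_10_2, part_6_4_10_5, part_6_4_10_7, part_6_4_10_8, part_6_4_10_9, part_6_4_10_11, part_6_4_10_12]

set_option maxRecDepth 100000 in
theorem part_6_4_11_2 : dfsN 6 268435456 45376272 [5, 7, 8, 9, 10, 12] = true := by
  decide +kernel

set_option maxRecDepth 100000 in
theorem part_6_4_11_5 : dfsN 6 268435456 95707920 [2, 7, 8, 9, 10, 12] = true := by
  decide +kernel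

set_option maxRecDepth 100000 in
theorem part_6_4_11_7 : dfsN 6 268435456 129262352 [2, 5, 8, 9, 10, 12] = true := by
  decide +kernel

set_option maxRecDepth 100000 in
theorem part_6_4_11_8 : dfsN 6 268435456 146039568 [2, 5, 7, 9, 10, 12] = true := by
  decide +kernel

set_option maxRecDepth 100000 in
theorem part_6_4_11_9 : dfsN 6 268435456 162816784 [2, 5, 7, 8, 10, 12] = true := by
  decide +kernel

set_option maxRecDepth 100000 in
theorem part_6_4_11_10 : dfsN 6 268435456 179594000 [2, 5, 7, 8, 9, 12] = true := by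
  decide +kernel

set_option maxRecDepth 100000 in
theorem part_6_4_11_12 : dfsN 6 268435456 213148432 [2, 5, 7, 8, 9, 10] = true := by
  decide +kernel

theorem part_6_4_11 : dfsN 7 16777216 11821840 [2, 5, 7, 8, 9, 10, 12] = true := by
  apply dfsN_step 6 16777216 11821840 [2, 5, 7, 8, 9, 10, 12]
  intro v hv
  simp only [List.mem_cons, List.not_mem_nil, or_false] at hv
  rcases hv with rfl | rfl | rfl | rfl | rfl | rfl | rfl
  exacts [part_6_4_11_2, part_6_4_11_5, part_6_4_11_7, part_6_4_11_8, part_6_4_11_9, part_6_4_11_10, part_6_4_11_12]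

set_option maxRecDepth 100000 in
theorem part_6_4_12_2 : dfsN 6 268435456 46424848 [5, 7, 8, 9, 10, 11] = true := by
  decide +kernel

set_option maxRecDepth 100000 in
theorem part_6_4_12_5 : dfsN 6 268435456 96756496 [2, 7, 8, 9, 10, 11] = true := by
  decide +kernel

set_option maxRecDepth 100000 in
theorem part_6_4_12_7 : dfsN 6 268435456 130310928 [2, 5, 8, 9, 10, 11] = true := by
  decide +kernel

set_option maxRecDepth 100000 in
theorem part_6_4_12_8 : dfsN 6 268435456 147088144 [2, 5, 7, 9, 10, 11] = true := by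
  decide +kernel

set_option maxRecDepth 100000 in
theorem part_6_4_12_9 : dfsN 6 268435456 163865360 [2, 5, 7, 8, 10, 11] = true := by
  decide +kernel

set_option maxRecDepth 100000 in
theorem part_6_4_12_10 : dfsN 6 268435456 180642576 [2, 5, 7, 8, 9, 11] = true := by
  decide +kernel

set_option maxRecDepth 100000 in
theorem part_6_4_12_11 : dfsN 6 268435456 197419792 [2, 5, 7, 8, 9, 10] = true := by
  decide +kernel

theorem part_6_4_12 : dfsN 7 16777216 12870416 [2, 5, 7, 8, 9, 10, 11] = true := by
  apply dfsN_step 6 16777216 12870416 [2, 5, 7, 8, 9, 10, 11]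
  intro v hv
  simp only [List.mem_cons, List.not_mem_nil, or_false] at hv
  rcases hv with rfl | rfl | rfl | rfl | rfl | rfl | rfl
  exacts [part_6_4_12_2, part_6_4_12_5, part_6_4_12_7, part_6_4_12_8, part_6_4_12_9, part_6_4_12_10, part_6_4_12_11]

theorem part_6_4 : dfsN 8 1048576 287504 [2, 5, 7, 8, 9, 10, 11, 12] = true := by
  apply dfsN_step 7 1048576 287504 [2, 5, 7, 8, 9, 10, 11, 12]
  intro v hv
  simp only [List.mem_cons, List.not_mem_nil, or_false] at hv
  rcases hv with rfl | rfl | rfl | rfl | rfl | rfl | rfl | rfl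
  exacts [part_6_4_2, part_6_4_5, part_6_4_7, part_6_4_8, part_6_4_9, part_6_4_10, part_6_4_11, part_6_4_12]

end Cfsg.Agent.Lib.H16.AG
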