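import Cfsg.Agent.Lib.H16.AG.Step

set_option autoImplicit false

/-! Degree 13, images `0, 1, 3, 6, 5` of `0, 1, 2, 3, 4` fixed: every completion that is an
`11`-cycle has a word `(x ^ b * y ^ a) ^ k` which is a `3`-, `5`- or `7`-cycle
(small kernel computations, one per pair of images of `5, 6`). -/

namespace Cfsg.Agent.Lib.H16.AG

set_option maxRecDepth 100000 in
theorem part_6_5_2_4 : dfsN 6 268435456 69559056 [7, 8, 9, 10, 11, 12] = true := by
  decide +kernel

set_option maxRecDepth 100000 in
theorem part_6_5_2_7 : dfsN 6 268435456 119890704 [4, 8, 9, 10, 11, 12] = true := by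
  decide +kernel

set_option maxRecDepth 100000 in
theorem part_6_5_2_8 : dfsN 6 268435456 136667920 [4, 7, 9, 10, 11, 12] = true := by
  decide +kernel

set_option maxRecDepth 100000 in
theorem part_6_5_2_9 : dfsN 6 268435456 153445136 [4, 7, 8, 10, 11, 12] = true := by
  decide +kernel

set_option maxRecDepth 100000 in
theorem part_6_5_2_10 : dfsN 6 268435456 170222352 [4, 7, 8, 9, 11, 12] = true := by
  decide +kernel

set_option maxRecDepth 100000 in
theorem part_6_5_2_11 : dfsN 6 268435456 186999568 [4, 7, 8, 9, 10, 12] = true := by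
  decide +kernel

set_option maxRecDepth 100000 in
theorem part_6_5_2_12 : dfsN 6 268435456 203776784 [4, 7, 8, 9, 10, 11] = true := by
  decide +kernel

theorem part_6_5_2 : dfsN 7 16777216 2450192 [4, 7, 8, 9, 10, 11, 12] = true := by
  apply dfsN_step 6 16777216 2450192 [4, 7, 8, 9, 10, 11, 12]
  intro v hv
  simp only [List.mem_cons, List.not_mem_nil, or_false] at hv
  rcases hv with rfl | rfl | rfl | rfl | rfl | rfl | rfl
  exacts [part_6_5_2_4, part_6_5_2_7, part_6_5_2_8, part_6_5_2_9, part_6_5_2_10, part_6_5_2_11, part_6_5_2_12]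

set_option maxRecDepth 100000 in
theorem part_6_5_4_2 : dfsN 6 268435456 38101776 [7, 8, 9, 10, 11, 12] = true := by
  decide +kernel

set_option maxRecDepth 100000 in
theorem part_6_5_4_7 : dfsN 6 268435456 121987856 [2, 8, 9, 10, 11, 12] = true := by
  decide +kernel

set_option maxRecDepth 100000 in
theorem part_6_5_4_8 : dfsN 6 268435456 138765072 [2, 7, 9, 10, 11, 12] = true := by
  decide +kernel

set_option maxRecDepth 100000 in
theorem part_6_5_4_9 : dfsN 6 268435456 155542288 [2, 7, 8, 10, 11, 12] = true := by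
  decide +kernel

set_option maxRecDepth 100000 in
theorem part_6_5_4_10 : dfsN 6 268435456 172319504 [2, 7, 8, 9, 11, 12] = true := by
  decide +kernel

set_option maxRecDepth 100000 in
theorem part_6_5_4_11 : dfsN 6 268435456 189096720 [2, 7, 8, 9, 10, 12] = true := by
  decide +kernel

set_option maxRecDepth 100000 in
theorem part_6_5_4_12 : dfsN 6 268435456 205873936 [2, 7, 8, 9, 10, 11] = true := by
  decide +kernel

theorem part_6_5_4 : dfsN 7 16777216 4547344 [2, 7, 8, 9, 10, 11, 12] = true := by
  apply dfsN_step 6 16777216 4547344 [2, 7, 8, 9, 10, 11, 12]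
  intro v hv
  simp only [List.mem_cons, List.not_mem_nil, or_false] at hv
  rcases hv with rfl | rfl | rfl | rfl | rfl | rfl | rfl
  exacts [part_6_5_4_2, part_6_5_4_7, part_6_5_4_8, part_6_5_4_9, part_6_5_4_10, part_6_5_4_11, part_6_5_4_12]

set_option maxRecDepth 100000 in
theorem part_6_5_7_2 : dfsN 6 268435456 41247504 [4, 8, 9, 10, 11, 12] = true := by
  decide +kernel

set_option maxRecDepth 100000 in
theorem part_6_5_7_4 : dfsN 6 268435456 74801936 [2, 8, 9, 10, 11, 12] = true := by
  decide +kernel

set_option maxRecDepth 100000 in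
theorem part_6_5_7_8 : dfsN 6 268435456 141910800 [2, 4, 9, 10, 11, 12] = true := by
  decide +kernel

set_option maxRecDepth 100000 in
theorem part_6_5_7_9 : dfsN 6 268435456 158688016 [2, 4, 8, 10, 11, 12] = true := by
  decide +kernel

set_option maxRecDepth 100000 in
theorem part_6_5_7_10 : dfsN 6 268435456 175465232 [2, 4, 8, 9, 11, 12] = true := by
  decide +kernel

set_option maxRecDepth 100000 in
theorem part_6_5_7_11 : dfsN 6 268435456 192242448 [2, 4, 8, 9, 10, 12] = true := by
  decide +kernel

set_option maxRecDepth 100000 in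
theorem part_6_5_7_12 : dfsN 6 268435456 209019664 [2, 4, 8, 9, 10, 11] = true := by
  decide +kernel

theorem part_6_5_7 : dfsN 7 16777216 7693072 [2, 4, 8, 9, 10, 11, 12] = true := by
  apply dfsN_step 6 16777216 7693072 [2, 4, 8, 9, 10, 11, 12]
  intro v hv
  simp only [List.mem_cons, List.not_mem_nil, or_false] at hv
  rcases hv with rfl | rfl | rfl | rfl | rfl | rfl | rfl
  exacts [part_6_5_7_2, part_6_5_7_4, part_6_5_7_8, part_6_5_7_9, part_6_5_7_10, part_6_5_7_11, part_6_5_7_12]

set_option maxRecDepth 100000 in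
theorem part_6_5_8_2 : dfsN 6 268435456 42296080 [4, 7, 9, 10, 11, 12] = true := by
  decide +kernel

set_option maxRecDepth 100000 in
theorem part_6_5_8_4 : dfsN 6 268435456 75850512 [2, 7, 9, 10, 11, 12] = true := by
  decide +kernel

set_option maxRecDepth 100000 in
theorem part_6_5_8_7 : dfsN 6 268435456 126182160 [2, 4, 9, 10, 11, 12] = true := by
  decide +kernel

set_option maxRecDepth 100000 in
theorem part_6_5_8_9 : dfsN 6 268435456 159736592 [2, 4, 7, 10, 11, 12] = true := by
  decide +kernel

set_option maxRecDepth 100000 in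
theorem part_6_5_8_10 : dfsN 6 268435456 176513808 [2, 4, 7, 9, 11, 12] = true := by
  decide +kernel

set_option maxRecDepth 100000 in
theorem part_6_5_8_11 : dfsN 6 268435456 193291024 [2, 4, 7, 9, 10, 12] = true := by
  decide +kernel

set_option maxRecDepth 100000 in
theorem part_6_5_8_12 : dfsN 6 268435456 210068240 [2, 4, 7, 9, 10, 11] = true := by
  decide +kernel

theorem part_6_5_8 : dfsN 7 16777216 8741648 [2, 4, 7, 9, 10, 11, 12] = true := by
  apply dfsN_step 6 16777216 8741648 [2, 4, 7, 9, 10, 11, 12]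
  intro v hv
  simp only [List.mem_cons, List.not_mem_nil, or_false] at hv
  rcases hv with rfl | rfl | rfl | rfl | rfl | rfl | rfl
  exacts [part_6_5_8_2, part_6_5_8_4, part_6_5_8_7, part_6_5_8_9, part_6_5_8_10, part_6_5_8_11, part_6_5_8_12]

set_option maxRecDepth 100000 in
theorem part_6_5_9_2 : dfsN 6 268435456 43344656 [4, 7, 8, 10, 11, 12] = true := by
  decide +kernel

set_option maxRecDepth 100000 in
theorem part_6_5_9_4 : dfsN 6 268435456 76899088 [2, 7, 8, 10, 11, 12] = true := by
  decide +kernel

set_option maxRecDepth 100000 in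
theorem part_6_5_9_7 : dfsN 6 268435456 127230736 [2, 4, 8, 10, 11, 12] = true := by
  decide +kernel

set_option maxRecDepth 100000 in
theorem part_6_5_9_8 : dfsN 6 268435456 144007952 [2, 4, 7, 10, 11, 12] = true := by
  decide +kernel

set_option maxRecDepth 100000 in
theorem part_6_5_9_10 : dfsN 6 268435456 177562384 [2, 4, 7, 8, 11, 12] = true := by
  decide +kernel

set_option maxRecDepth 100000 in
theorem part_6_5_9_11 : dfsN 6 268435456 194339600 [2, 4, 7, 8, 10, 12] = true := by
  decide +kernel

set_option maxRecDepth 100000 in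
theorem part_6_5_9_12 : dfsN 6 268435456 211116816 [2, 4, 7, 8, 10, 11] = true := by
  decide +kernel

theorem part_6_5_9 : dfsN 7 16777216 9790224 [2, 4, 7, 8, 10, 11, 12] = true := by
  apply dfsN_step 6 16777216 9790224 [2, 4, 7, 8, 10, 11, 12]
  intro v hv
  simp only [List.mem_cons, List.not_mem_nil, or_false] at hv
  rcases hv with rfl | rfl | rfl | rfl | rfl | rfl | rfl
  exacts [part_6_5_9_2, part_6_5_9_4, part_6_5_9_7, part_6_5_9_8, part_6_5_9_10, part_6_5_9_11, part_6_5_9_12]

set_option maxRecDepth 100000 in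
theorem part_6_5_10_2 : dfsN 6 268435456 44393232 [4, 7, 8, 9, 11, 12] = true := by
  decide +kernel

set_option maxRecDepth 100000 in
theorem part_6_5_10_4 : dfsN 6 268435456 77947664 [2, 7, 8, 9, 11, 12] = true := by
  decide +kernel

set_option maxRecDepth 100000 in
theorem part_6_5_10_7 : dfsN 6 268435456 128279312 [2, 4, 8, 9, 11, 12] = true := by
  decide +kernel

set_option maxRecDepth 100000 in
theorem part_6_5_10_8 : dfsN 6 268435456 145056528 [2, 4, 7, 9, 11, 12] = true := by
  decide +kernel

set_option maxRecDepth 100000 in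
theorem part_6_5_10_9 : dfsN 6 268435456 161833744 [2, 4, 7, 8, 11, 12] = true := by
  decide +kernel

set_option maxRecDepth 100000 in
theorem part_6_5_10_11 : dfsN 6 268435456 195388176 [2, 4, 7, 8, 9, 12] = true := by
  decide +kernel

set_option maxRecDepth 100000 in
theorem part_6_5_10_12 : dfsN 6 268435456 212165392 [2, 4, 7, 8, 9, 11] = true := by
  decide +kernel

theorem part_6_5_10 : dfsN 7 16777216 10838800 [2, 4, 7, 8, 9, 11, 12] = true := by
  apply dfsN_step 6 16777216 10838800 [2, 4, 7, 8, 9, 11, 12]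
  intro v hv
  simp only [List.mem_cons, List.not_mem_nil, or_false] at hv
  rcases hv with rfl | rfl | rfl | rfl | rfl | rfl | rfl
  exacts [part_6_5_10_2, part_6_5_10_4, part_6_5_10_7, part_6_5_10_8, part_6_5_10_9, part_6_5_10_11, part_6_5_10_12]

set_option maxRecDepth 100000 in
theorem part_6_5_11_2 : dfsN 6 268435456 45441808 [4, 7, 8, 9, 10, 12] = true := by
  decide +kernel

set_option maxRecDepth 100000 in
theorem part_6_5_11_4 : dfsN 6 268435456 78996240 [2, 7, 8, 9, 10, 12] = true := by
  decide +kernel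

set_option maxRecDepth 100000 in
theorem part_6_5_11_7 : dfsN 6 268435456 129327888 [2, 4, 8, 9, 10, 12] = true := by
  decide +kernel

set_option maxRecDepth 100000 in
theorem part_6_5_11_8 : dfsN 6 268435456 146105104 [2, 4, 7, 9, 10, 12] = true := by
  decide +kernel

set_option maxRecDepth 100000 in
theorem part_6_5_11_9 : dfsN 6 268435456 162882320 [2, 4, 7, 8, 10, 12] = true := by
  decide +kernel

set_option maxRecDepth 100000 in
theorem part_6_5_11_10 : dfsN 6 268435456 179659536 [2, 4, 7, 8, 9, 12] = true := by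
  decide +kernel

set_option maxRecDepth 100000 in
theorem part_6_5_11_12 : dfsN 6 268435456 213213968 [2, 4, 7, 8, 9, 10] = true := by
  decide +kernel

theorem part_6_5_11 : dfsN 7 16777216 11887376 [2, 4, 7, 8, 9, 10, 12] = true := by
  apply dfsN_step 6 16777216 11887376 [2, 4, 7, 8, 9, 10, 12]
  intro v hv
  simp only [List.mem_cons, List.not_mem_nil, or_false] at hv
  rcases hv with rfl | rfl | rfl | rfl | rfl | rfl | rfl
  exacts [part_6_5_11_2, part_6_5_11_4, part_6_5_11_7, part_6_5_11_8, part_6_5_11_9, part_6_5_11_10, part_6_5_11_12]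

set_option maxRecDepth 100000 in
theorem part_6_5_12_2 : dfsN 6 268435456 46490384 [4, 7, 8, 9, 10, 11] = true := by
  decide +kernel

set_option maxRecDepth 100000 in
theorem part_6_5_12_4 : dfsN 6 268435456 80044816 [2, 7, 8, 9, 10, 11] = true := by
  decide +kernel

set_option maxRecDepth 100000 in
theorem part_6_5_12_7 : dfsN 6 268435456 130376464 [2, 4, 8, 9, 10, 11] = true := by
  decide +kernel

set_option maxRecDepth 100000 in
theorem part_6_5_12_8 : dfsN 6 268435456 147153680 [2, 4, 7, 9, 10, 11] = true := by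
  decide +kernel

set_option maxRecDepth 100000 in
theorem part_6_5_12_9 : dfsN 6 268435456 163930896 [2, 4, 7, 8, 10, 11] = true := by
  decide +kernel

set_option maxRecDepth 100000 in
theorem part_6_5_12_10 : dfsN 6 268435456 180708112 [2, 4, 7, 8, 9, 11] = true := by
  decide +kernel

set_option maxRecDepth 100000 in
theorem part_6_5_12_11 : dfsN 6 268435456 197485328 [2, 4, 7, 8, 9, 10] = true := by
  decide +kernel

theorem part_6_5_12 : dfsN 7 16777216 12935952 [2, 4, 7, 8, 9, 10, 11] = true := by
  apply dfsN_step 6 16777216 12935952 [2, 4, 7, 8, 9, 10, 11]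
  intro v hv
  simp only [List.mem_cons, List.not_mem_nil, or_false] at hv
  rcases hv with rfl | rfl | rfl | rfl | rfl | rfl | rfl
  exacts [part_6_5_12_2, part_6_5_12_4, part_6_5_12_7, part_6_5_12_8, part_6_5_12_9, part_6_5_12_10, part_6_5_12_11]

theorem part_6_5 : dfsN 8 1048576 353040 [2, 4, 7, 8, 9, 10, 11, 12] = true := by
  apply dfsN_step 7 1048576 353040 [2, 4, 7, 8, 9, 10, 11, 12]
  intro v hv
  simp only [List.mem_cons, List.not_mem_nil, or_false] at hv
  rcases hv with rfl | rfl | rfl | rfl | rfl | rfl | rfl | rfl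
  exacts [part_6_5_2, part_6_5_4, part_6_5_7, part_6_5_8, part_6_5_9, part_6_5_10, part_6_5_11, part_6_5_12]

end Cfsg.Agent.Lib.H16.AG
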