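import Cfsg.Agent.Lib.H16.AG.Step

set_option autoImplicit false

/-! Degree 13, images `0, 1, 3, 6, 7` of `0, 1, 2, 3, 4` fixed: every completion that is an
`11`-cycle has a word `(x ^ b * y ^ a) ^ k` which is a `3`-, `5`- or `7`-cycle
(small kernel computations, one per pair of images of `5, 6`). -/

namespace Cfsg.Agent.Lib.H16.AG

set_option maxRecDepth 100000 in
theorem part_6_7_2_4 : dfsN 6 268435456 69690128 [5, 8, 9, 10, 11, 12] = true := by
  decide +kernel

set_option maxRecDepth 100000 in
theorem part_6_7_2_5 : dfsN 6 268435456 86467344 [4, 8, 9, 10, 11, 12] = true := by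
  decide +kernel

set_option maxRecDepth 100000 in
theorem part_6_7_2_8 : dfsN 6 268435456 136798992 [4, 5, 9, 10, 11, 12] = true := by
  decide +kernel

set_option maxRecDepth 100000 in
theorem part_6_7_2_9 : dfsN 6 268435456 153576208 [4, 5, 8, 10, 11, 12] = true := by
  decide +kernel

set_option maxRecDepth 100000 in
theorem part_6_7_2_10 : dfsN 6 268435456 170353424 [4, 5, 8, 9, 11, 12] = true := by
  decide +kernel

set_option maxRecDepth 100000 in
theorem part_6_7_2_11 : dfsN 6 268435456 187130640 [4, 5, 8, 9, 10, 12] = true := by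
  decide +kernel

set_option maxRecDepth 100000 in
theorem part_6_7_2_12 : dfsN 6 268435456 203907856 [4, 5, 8, 9, 10, 11] = true := by
  decide +kernel

theorem part_6_7_2 : dfsN 7 16777216 2581264 [4, 5, 8, 9, 10, 11, 12] = true := by
  apply dfsN_step 6 16777216 2581264 [4, 5, 8, 9, 10, 11, 12]
  intro v hv
  simp only [List.mem_cons, List.not_mem_nil, or_false] at hv
  rcases hv with rfl | rfl | rfl | rfl | rfl | rfl | rfl
  exacts [part_6_7_2_4, part_6_7_2_5, part_6_7_2_8, part_6_7_2_9, part_6_7_2_10, part_6_7_2_11, part_6_7_2_12]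

set_option maxRecDepth 100000 in
theorem part_6_7_4_2 : dfsN 6 268435456 38232848 [5, 8, 9, 10, 11, 12] = true := by
  decide +kernel

set_option maxRecDepth 100000 in
theorem part_6_7_4_5 : dfsN 6 268435456 88564496 [2, 8, 9, 10, 11, 12] = true := by
  decide +kernel

set_option maxRecDepth 100000 in
theorem part_6_7_4_8 : dfsN 6 268435456 138896144 [2, 5, 9, 10, 11, 12] = true := by
  decide +kernel

set_option maxRecDepth 100000 in
theorem part_6_7_4_9 : dfsN 6 268435456 155673360 [2, 5, 8, 10, 11, 12] = true := by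
  decide +kernel

set_option maxRecDepth 100000 in
theorem part_6_7_4_10 : dfsN 6 268435456 172450576 [2, 5, 8, 9, 11, 12] = true := by
  decide +kernel

set_option maxRecDepth 100000 in
theorem part_6_7_4_11 : dfsN 6 268435456 189227792 [2, 5, 8, 9, 10, 12] = true := by
  decide +kernel

set_option maxRecDepth 100000 in
theorem part_6_7_4_12 : dfsN 6 268435456 206005008 [2, 5, 8, 9, 10, 11] = true := by
  decide +kernel

theorem part_6_7_4 : dfsN 7 16777216 4678416 [2, 5, 8, 9, 10, 11, 12] = true := by
  apply dfsN_step 6 16777216 4678416 [2, 5, 8, 9, 10, 11, 12]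
  intro v hv
  simp only [List.mem_cons, List.not_mem_nil, or_false] at hv
  rcases hv with rfl | rfl | rfl | rfl | rfl | rfl | rfl
  exacts [part_6_7_4_2, part_6_7_4_5, part_6_7_4_8, part_6_7_4_9, part_6_7_4_10, part_6_7_4_11, part_6_7_4_12]

set_option maxRecDepth 100000 in
theorem part_6_7_5_2 : dfsN 6 268435456 39281424 [4, 8, 9, 10, 11, 12] = true := by
  decide +kernel

set_option maxRecDepth 100000 in
theorem part_6_7_5_4 : dfsN 6 268435456 72835856 [2, 8, 9, 10, 11, 12] = true := by
  decide +kernel

set_option maxRecDepth 100000 in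
theorem part_6_7_5_8 : dfsN 6 268435456 139944720 [2, 4, 9, 10, 11, 12] = true := by
  decide +kernel

set_option maxRecDepth 100000 in
theorem part_6_7_5_9 : dfsN 6 268435456 156721936 [2, 4, 8, 10, 11, 12] = true := by
  decide +kernel

set_option maxRecDepth 100000 in
theorem part_6_7_5_10 : dfsN 6 268435456 173499152 [2, 4, 8, 9, 11, 12] = true := by
  decide +kernel

set_option maxRecDepth 100000 in
theorem part_6_7_5_11 : dfsN 6 268435456 190276368 [2, 4, 8, 9, 10, 12] = true := by
  decide +kernel

set_option maxRecDepth 100000 in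
theorem part_6_7_5_12 : dfsN 6 268435456 207053584 [2, 4, 8, 9, 10, 11] = true := by
  decide +kernel

theorem part_6_7_5 : dfsN 7 16777216 5726992 [2, 4, 8, 9, 10, 11, 12] = true := by
  apply dfsN_step 6 16777216 5726992 [2, 4, 8, 9, 10, 11, 12]
  intro v hv
  simp only [List.mem_cons, List.not_mem_nil, or_false] at hv
  rcases hv with rfl | rfl | rfl | rfl | rfl | rfl | rfl
  exacts [part_6_7_5_2, part_6_7_5_4, part_6_7_5_8, part_6_7_5_9, part_6_7_5_10, part_6_7_5_11, part_6_7_5_12]

set_option maxRecDepth 100000 in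
theorem part_6_7_8_2 : dfsN 6 268435456 42427152 [4, 5, 9, 10, 11, 12] = true := by
  decide +kernel

set_option maxRecDepth 100000 in
theorem part_6_7_8_4 : dfsN 6 268435456 75981584 [2, 5, 9, 10, 11, 12] = true := by
  decide +kernel

set_option maxRecDepth 100000 in
theorem part_6_7_8_5 : dfsN 6 268435456 92758800 [2, 4, 9, 10, 11, 12] = true := by
  decide +kernel

set_option maxRecDepth 100000 in
theorem part_6_7_8_9 : dfsN 6 268435456 159867664 [2, 4, 5, 10, 11, 12] = true := by
  decide +kernel

set_option maxRecDepth 100000 in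
theorem part_6_7_8_10 : dfsN 6 268435456 176644880 [2, 4, 5, 9, 11, 12] = true := by
  decide +kernel

set_option maxRecDepth 100000 in
theorem part_6_7_8_11 : dfsN 6 268435456 193422096 [2, 4, 5, 9, 10, 12] = true := by
  decide +kernel

set_option maxRecDepth 100000 in
theorem part_6_7_8_12 : dfsN 6 268435456 210199312 [2, 4, 5, 9, 10, 11] = true := by
  decide +kernel

theorem part_6_7_8 : dfsN 7 16777216 8872720 [2, 4, 5, 9, 10, 11, 12] = true := by
  apply dfsN_step 6 16777216 8872720 [2, 4, 5, 9, 10, 11, 12]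
  intro v hv
  simp only [List.mem_cons, List.not_mem_nil, or_false] at hv
  rcases hv with rfl | rfl | rfl | rfl | rfl | rfl | rfl
  exacts [part_6_7_8_2, part_6_7_8_4, part_6_7_8_5, part_6_7_8_9, part_6_7_8_10, part_6_7_8_11, part_6_7_8_12]

set_option maxRecDepth 100000 in
theorem part_6_7_9_2 : dfsN 6 268435456 43475728 [4, 5, 8, 10, 11, 12] = true := by
  decide +kernel

set_option maxRecDepth 100000 in
theorem part_6_7_9_4 : dfsN 6 268435456 77030160 [2, 5, 8, 10, 11, 12] = true := by
  decide +kernel

set_option maxRecDepth 100000 in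
theorem part_6_7_9_5 : dfsN 6 268435456 93807376 [2, 4, 8, 10, 11, 12] = true := by
  decide +kernel

set_option maxRecDepth 100000 in
theorem part_6_7_9_8 : dfsN 6 268435456 144139024 [2, 4, 5, 10, 11, 12] = true := by
  decide +kernel

set_option maxRecDepth 100000 in
theorem part_6_7_9_10 : dfsN 6 268435456 177693456 [2, 4, 5, 8, 11, 12] = true := by
  decide +kernel

set_option maxRecDepth 100000 in
theorem part_6_7_9_11 : dfsN 6 268435456 194470672 [2, 4, 5, 8, 10, 12] = true := by
  decide +kernel

set_option maxRecDepth 100000 in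
theorem part_6_7_9_12 : dfsN 6 268435456 211247888 [2, 4, 5, 8, 10, 11] = true := by
  decide +kernel

theorem part_6_7_9 : dfsN 7 16777216 9921296 [2, 4, 5, 8, 10, 11, 12] = true := by
  apply dfsN_step 6 16777216 9921296 [2, 4, 5, 8, 10, 11, 12]
  intro v hv
  simp only [List.mem_cons, List.not_mem_nil, or_false] at hv
  rcases hv with rfl | rfl | rfl | rfl | rfl | rfl | rfl
  exacts [part_6_7_9_2, part_6_7_9_4, part_6_7_9_5, part_6_7_9_8, part_6_7_9_10, part_6_7_9_11, part_6_7_9_12]

set_option maxRecDepth 100000 in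
theorem part_6_7_10_2 : dfsN 6 268435456 44524304 [4, 5, 8, 9, 11, 12] = true := by
  decide +kernel

set_option maxRecDepth 100000 in
theorem part_6_7_10_4 : dfsN 6 268435456 78078736 [2, 5, 8, 9, 11, 12] = true := by
  decide +kernel

set_option maxRecDepth 100000 in
theorem part_6_7_10_5 : dfsN 6 268435456 94855952 [2, 4, 8, 9, 11, 12] = true := by
  decide +kernel

set_option maxRecDepth 100000 in
theorem part_6_7_10_8 : dfsN 6 268435456 145187600 [2, 4, 5, 9, 11, 12] = true := by
  decide +kernel

set_option maxRecDepth 100000 in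
theorem part_6_7_10_9 : dfsN 6 268435456 161964816 [2, 4, 5, 8, 11, 12] = true := by
  decide +kernel

set_option maxRecDepth 100000 in
theorem part_6_7_10_11 : dfsN 6 268435456 195519248 [2, 4, 5, 8, 9, 12] = true := by
  decide +kernel

set_option maxRecDepth 100000 in
theorem part_6_7_10_12 : dfsN 6 268435456 212296464 [2, 4, 5, 8, 9, 11] = true := by
  decide +kernel

theorem part_6_7_10 : dfsN 7 16777216 10969872 [2, 4, 5, 8, 9, 11, 12] = true := by
  apply dfsN_step 6 16777216 10969872 [2, 4, 5, 8, 9, 11, 12]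
  intro v hv
  simp only [List.mem_cons, List.not_mem_nil, or_false] at hv
  rcases hv with rfl | rfl | rfl | rfl | rfl | rfl | rfl
  exacts [part_6_7_10_2, part_6_7_10_4, part_6_7_10_5, part_6_7_10_8, part_6_7_10_9, part_6_7_10_11, part_6_7_10_12]

set_option maxRecDepth 100000 in
theorem part_6_7_11_2 : dfsN 6 268435456 45572880 [4, 5, 8, 9, 10, 12] = true := by
  decide +kernel

set_option maxRecDepth 100000 in
theorem part_6_7_11_4 : dfsN 6 268435456 79127312 [2, 5, 8, 9, 10, 12] = true := by
  decide +kernel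

set_option maxRecDepth 100000 in
theorem part_6_7_11_5 : dfsN 6 268435456 95904528 [2, 4, 8, 9, 10, 12] = true := by
  decide +kernel

set_option maxRecDepth 100000 in
theorem part_6_7_11_8 : dfsN 6 268435456 146236176 [2, 4, 5, 9, 10, 12] = true := by
  decide +kernel

set_option maxRecDepth 100000 in
theorem part_6_7_11_9 : dfsN 6 268435456 163013392 [2, 4, 5, 8, 10, 12] = true := by
  decide +kernel

set_option maxRecDepth 100000 in
theorem part_6_7_11_10 : dfsN 6 268435456 179790608 [2, 4, 5, 8, 9, 12] = true := by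
  decide +kernel

set_option maxRecDepth 100000 in
theorem part_6_7_11_12 : dfsN 6 268435456 213345040 [2, 4, 5, 8, 9, 10] = true := by
  decide +kernel

theorem part_6_7_11 : dfsN 7 16777216 12018448 [2, 4, 5, 8, 9, 10, 12] = true := by
  apply dfsN_step 6 16777216 12018448 [2, 4, 5, 8, 9, 10, 12]
  intro v hv
  simp only [List.mem_cons, List.not_mem_nil, or_false] at hv
  rcases hv with rfl | rfl | rfl | rfl | rfl | rfl | rfl
  exacts [part_6_7_11_2, part_6_7_11_4, part_6_7_11_5, part_6_7_11_8, part_6_7_11_9, part_6_7_11_10, part_6_7_11_12]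

set_option maxRecDepth 100000 in
theorem part_6_7_12_2 : dfsN 6 268435456 46621456 [4, 5, 8, 9, 10, 11] = true := by
  decide +kernel

set_option maxRecDepth 100000 in
theorem part_6_7_12_4 : dfsN 6 268435456 80175888 [2, 5, 8, 9, 10, 11] = true := by
  decide +kernel

set_option maxRecDepth 100000 in
theorem part_6_7_12_5 : dfsN 6 268435456 96953104 [2, 4, 8, 9, 10, 11] = true := by
  decide +kernel

set_option maxRecDepth 100000 in
theorem part_6_7_12_8 : dfsN 6 268435456 147284752 [2, 4, 5, 9, 10, 11] = true := by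
  decide +kernel

set_option maxRecDepth 100000 in
theorem part_6_7_12_9 : dfsN 6 268435456 164061968 [2, 4, 5, 8, 10, 11] = true := by
  decide +kernel

set_option maxRecDepth 100000 in
theorem part_6_7_12_10 : dfsN 6 268435456 180839184 [2, 4, 5, 8, 9, 11] = true := by
  decide +kernel

set_option maxRecDepth 100000 in
theorem part_6_7_12_11 : dfsN 6 268435456 197616400 [2, 4, 5, 8, 9, 10] = true := by
  decide +kernel

theorem part_6_7_12 : dfsN 7 16777216 13067024 [2, 4, 5, 8, 9, 10, 11] = true := by
  apply dfsN_step 6 16777216 13067024 [2, 4, 5, 8, 9, 10, 11]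
  intro v hv
  simp only [List.mem_cons, List.not_mem_nil, or_false] at hv
  rcases hv with rfl | rfl | rfl | rfl | rfl | rfl | rfl
  exacts [part_6_7_12_2, part_6_7_12_4, part_6_7_12_5, part_6_7_12_8, part_6_7_12_9, part_6_7_12_10, part_6_7_12_11]

theorem part_6_7 : dfsN 8 1048576 484112 [2, 4, 5, 8, 9, 10, 11, 12] = true := by
  apply dfsN_step 7 1048576 484112 [2, 4, 5, 8, 9, 10, 11, 12]
  intro v hv
  simp only [List.mem_cons, List.not_mem_nil, or_false] at hv
  rcases hv with rfl | rfl | rfl | rfl | rfl | rfl | rfl | rfl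
  exacts [part_6_7_2, part_6_7_4, part_6_7_5, part_6_7_8, part_6_7_9, part_6_7_10, part_6_7_11, part_6_7_12]

end Cfsg.Agent.Lib.H16.AG
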