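import Cfsg.Agent.Lib.H16.AG.Step

set_option autoImplicit false

/-! Degree 13, images `0, 1, 3, 6, 8` of `0, 1, 2, 3, 4` fixed: every completion that is an
`11`-cycle has a word `(x ^ b * y ^ a) ^ k` which is a `3`-, `5`- or `7`-cycle
(small kernel computations, one per pair of images of `5, 6`). -/

namespace Cfsg.Agent.Lib.H16.AG

set_option maxRecDepth 100000 in
theorem part_6_8_2_4 : dfsN 6 268435456 69755664 [5, 7, 9, 10, 11, 12] = true := by
  decide +kernel

set_option maxRecDepth 100000 in
theorem part_6_8_2_5 : dfsN 6 268435456 86532880 [4, 7, 9, 10, 11, 12] = true := by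
  decide +kernel

set_option maxRecDepth 100000 in
theorem part_6_8_2_7 : dfsN 6 268435456 120087312 [4, 5, 9, 10, 11, 12] = true := by
  decide +kernel

set_option maxRecDepth 100000 in
theorem part_6_8_2_9 : dfsN 6 268435456 153641744 [4, 5, 7, 10, 11, 12] = true := by
  decide +kernel

set_option maxRecDepth 100000 in
theorem part_6_8_2_10 : dfsN 6 268435456 170418960 [4, 5, 7, 9, 11, 12] = true := by
  decide +kernel

set_option maxRecDepth 100000 in
theorem part_6_8_2_11 : dfsN 6 268435456 187196176 [4, 5, 7, 9, 10, 12] = true := by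
  decide +kernel

set_option maxRecDepth 100000 in
theorem part_6_8_2_12 : dfsN 6 268435456 203973392 [4, 5, 7, 9, 10, 11] = true := by
  decide +kernel

theorem part_6_8_2 : dfsN 7 16777216 2646800 [4, 5, 7, 9, 10, 11, 12] = true := by
  apply dfsN_step 6 16777216 2646800 [4, 5, 7, 9, 10, 11, 12]
  intro v hv
  simp only [List.mem_cons, List.not_mem_nil, or_false] at hv
  rcases hv with rfl | rfl | rfl | rfl | rfl | rfl | rfl
  exacts [part_6_8_2_4, part_6_8_2_5, part_6_8_2_7, part_6_8_2_9, part_6_8_2_10, part_6_8_2_11, part_6_8_2_12]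

set_option maxRecDepth 100000 in
theorem part_6_8_4_2 : dfsN 6 268435456 38298384 [5, 7, 9, 10, 11, 12] = true := by
  decide +kernel

set_option maxRecDepth 100000 in
theorem part_6_8_4_5 : dfsN 6 268435456 88630032 [2, 7, 9, 10, 11, 12] = true := by
  decide +kernel

set_option maxRecDepth 100000 in
theorem part_6_8_4_7 : dfsN 6 268435456 122184464 [2, 5, 9, 10, 11, 12] = true := by
  decide +kernel

set_option maxRecDepth 100000 in
theorem part_6_8_4_9 : dfsN 6 268435456 155738896 [2, 5, 7, 10, 11, 12] = true := by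
  decide +kernel

set_option maxRecDepth 100000 in
theorem part_6_8_4_10 : dfsN 6 268435456 172516112 [2, 5, 7, 9, 11, 12] = true := by
  decide +kernel

set_option maxRecDepth 100000 in
theorem part_6_8_4_11 : dfsN 6 268435456 189293328 [2, 5, 7, 9, 10, 12] = true := by
  decide +kernel

set_option maxRecDepth 100000 in
theorem part_6_8_4_12 : dfsN 6 268435456 206070544 [2, 5, 7, 9, 10, 11] = true := by
  decide +kernel

theorem part_6_8_4 : dfsN 7 16777216 4743952 [2, 5, 7, 9, 10, 11, 12] = true := by
  apply dfsN_step 6 16777216 4743952 [2, 5, 7, 9, 10, 11, 12]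
  intro v hv
  simp only [List.mem_cons, List.not_mem_nil, or_false] at hv
  rcases hv with rfl | rfl | rfl | rfl | rfl | rfl | rfl
  exacts [part_6_8_4_2, part_6_8_4_5, part_6_8_4_7, part_6_8_4_9, part_6_8_4_10, part_6_8_4_11, part_6_8_4_12]

set_option maxRecDepth 100000 in
theorem part_6_8_5_2 : dfsN 6 268435456 39346960 [4, 7, 9, 10, 11, 12] = true := by
  decide +kernel

set_option maxRecDepth 100000 in
theorem part_6_8_5_4 : dfsN 6 268435456 72901392 [2, 7, 9, 10, 11, 12] = true := by
  decide +kernel

set_option maxRecDepth 100000 in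
theorem part_6_8_5_7 : dfsN 6 268435456 123233040 [2, 4, 9, 10, 11, 12] = true := by
  decide +kernel

set_option maxRecDepth 100000 in
theorem part_6_8_5_9 : dfsN 6 268435456 156787472 [2, 4, 7, 10, 11, 12] = true := by
  decide +kernel

set_option maxRecDepth 100000 in
theorem part_6_8_5_10 : dfsN 6 268435456 173564688 [2, 4, 7, 9, 11, 12] = true := by
  decide +kernel

set_option maxRecDepth 100000 in
theorem part_6_8_5_11 : dfsN 6 268435456 190341904 [2, 4, 7, 9, 10, 12] = true := by
  decide +kernel

set_option maxRecDepth 100000 in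
theorem part_6_8_5_12 : dfsN 6 268435456 207119120 [2, 4, 7, 9, 10, 11] = true := by
  decide +kernel

theorem part_6_8_5 : dfsN 7 16777216 5792528 [2, 4, 7, 9, 10, 11, 12] = true := by
  apply dfsN_step 6 16777216 5792528 [2, 4, 7, 9, 10, 11, 12]
  intro v hv
  simp only [List.mem_cons, List.not_mem_nil, or_false] at hv
  rcases hv with rfl | rfl | rfl | rfl | rfl | rfl | rfl
  exacts [part_6_8_5_2, part_6_8_5_4, part_6_8_5_7, part_6_8_5_9, part_6_8_5_10, part_6_8_5_11, part_6_8_5_12]

set_option maxRecDepth 100000 in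
theorem part_6_8_7_2 : dfsN 6 268435456 41444112 [4, 5, 9, 10, 11, 12] = true := by
  decide +kernel

set_option maxRecDepth 100000 in
theorem part_6_8_7_4 : dfsN 6 268435456 74998544 [2, 5, 9, 10, 11, 12] = true := by
  decide +kernel

set_option maxRecDepth 100000 in
theorem part_6_8_7_5 : dfsN 6 268435456 91775760 [2, 4, 9, 10, 11, 12] = true := by
  decide +kernel

set_option maxRecDepth 100000 in
theorem part_6_8_7_9 : dfsN 6 268435456 158884624 [2, 4, 5, 10, 11, 12] = true := by
  decide +kernel

set_option maxRecDepth 100000 in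
theorem part_6_8_7_10 : dfsN 6 268435456 175661840 [2, 4, 5, 9, 11, 12] = true := by
  decide +kernel

set_option maxRecDepth 100000 in
theorem part_6_8_7_11 : dfsN 6 268435456 192439056 [2, 4, 5, 9, 10, 12] = true := by
  decide +kernel

set_option maxRecDepth 100000 in
theorem part_6_8_7_12 : dfsN 6 268435456 209216272 [2, 4, 5, 9, 10, 11] = true := by
  decide +kernel

theorem part_6_8_7 : dfsN 7 16777216 7889680 [2, 4, 5, 9, 10, 11, 12] = true := by
  apply dfsN_step 6 16777216 7889680 [2, 4, 5, 9, 10, 11, 12]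
  intro v hv
  simp only [List.mem_cons, List.not_mem_nil, or_false] at hv
  rcases hv with rfl | rfl | rfl | rfl | rfl | rfl | rfl
  exacts [part_6_8_7_2, part_6_8_7_4, part_6_8_7_5, part_6_8_7_9, part_6_8_7_10, part_6_8_7_11, part_6_8_7_12]

set_option maxRecDepth 100000 in
theorem part_6_8_9_2 : dfsN 6 268435456 43541264 [4, 5, 7, 10, 11, 12] = true := by
  decide +kernel

set_option maxRecDepth 100000 in
theorem part_6_8_9_4 : dfsN 6 268435456 77095696 [2, 5, 7, 10, 11, 12] = true := by
  decide +kernel

set_option maxRecDepth 100000 in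
theorem part_6_8_9_5 : dfsN 6 268435456 93872912 [2, 4, 7, 10, 11, 12] = true := by
  decide +kernel

set_option maxRecDepth 100000 in
theorem part_6_8_9_7 : dfsN 6 268435456 127427344 [2, 4, 5, 10, 11, 12] = true := by
  decide +kernel

set_option maxRecDepth 100000 in
theorem part_6_8_9_10 : dfsN 6 268435456 177758992 [2, 4, 5, 7, 11, 12] = true := by
  decide +kernel

set_option maxRecDepth 100000 in
theorem part_6_8_9_11 : dfsN 6 268435456 194536208 [2, 4, 5, 7, 10, 12] = true := by
  decide +kernel

set_option maxRecDepth 100000 in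
theorem part_6_8_9_12 : dfsN 6 268435456 211313424 [2, 4, 5, 7, 10, 11] = true := by
  decide +kernel

theorem part_6_8_9 : dfsN 7 16777216 9986832 [2, 4, 5, 7, 10, 11, 12] = true := by
  apply dfsN_step 6 16777216 9986832 [2, 4, 5, 7, 10, 11, 12]
  intro v hv
  simp only [List.mem_cons, List.not_mem_nil, or_false] at hv
  rcases hv with rfl | rfl | rfl | rfl | rfl | rfl | rfl
  exacts [part_6_8_9_2, part_6_8_9_4, part_6_8_9_5, part_6_8_9_7, part_6_8_9_10, part_6_8_9_11, part_6_8_9_12]

set_option maxRecDepth 100000 in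
theorem part_6_8_10_2 : dfsN 6 268435456 44589840 [4, 5, 7, 9, 11, 12] = true := by
  decide +kernel

set_option maxRecDepth 100000 in
theorem part_6_8_10_4 : dfsN 6 268435456 78144272 [2, 5, 7, 9, 11, 12] = true := by
  decide +kernel

set_option maxRecDepth 100000 in
theorem part_6_8_10_5 : dfsN 6 268435456 94921488 [2, 4, 7, 9, 11, 12] = true := by
  decide +kernel

set_option maxRecDepth 100000 in
theorem part_6_8_10_7 : dfsN 6 268435456 128475920 [2, 4, 5, 9, 11, 12] = true := by
  decide +kernel

set_option maxRecDepth 100000 in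
theorem part_6_8_10_9 : dfsN 6 268435456 162030352 [2, 4, 5, 7, 11, 12] = true := by
  decide +kernel

set_option maxRecDepth 100000 in
theorem part_6_8_10_11 : dfsN 6 268435456 195584784 [2, 4, 5, 7, 9, 12] = true := by
  decide +kernel

set_option maxRecDepth 100000 in
theorem part_6_8_10_12 : dfsN 6 268435456 212362000 [2, 4, 5, 7, 9, 11] = true := by
  decide +kernel

theorem part_6_8_10 : dfsN 7 16777216 11035408 [2, 4, 5, 7, 9, 11, 12] = true := by
  apply dfsN_step 6 16777216 11035408 [2, 4, 5, 7, 9, 11, 12]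
  intro v hv
  simp only [List.mem_cons, List.not_mem_nil, or_false] at hv
  rcases hv with rfl | rfl | rfl | rfl | rfl | rfl | rfl
  exacts [part_6_8_10_2, part_6_8_10_4, part_6_8_10_5, part_6_8_10_7, part_6_8_10_9, part_6_8_10_11, part_6_8_10_12]

set_option maxRecDepth 100000 in
theorem part_6_8_11_2 : dfsN 6 268435456 45638416 [4, 5, 7, 9, 10, 12] = true := by
  decide +kernel

set_option maxRecDepth 100000 in
theorem part_6_8_11_4 : dfsN 6 268435456 79192848 [2, 5, 7, 9, 10, 12] = true := by
  decide +kernel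

set_option maxRecDepth 100000 in
theorem part_6_8_11_5 : dfsN 6 268435456 95970064 [2, 4, 7, 9, 10, 12] = true := by
  decide +kernel

set_option maxRecDepth 100000 in
theorem part_6_8_11_7 : dfsN 6 268435456 129524496 [2, 4, 5, 9, 10, 12] = true := by
  decide +kernel

set_option maxRecDepth 100000 in
theorem part_6_8_11_9 : dfsN 6 268435456 163078928 [2, 4, 5, 7, 10, 12] = true := by
  decide +kernel

set_option maxRecDepth 100000 in
theorem part_6_8_11_10 : dfsN 6 268435456 179856144 [2, 4, 5, 7, 9, 12] = true := by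
  decide +kernel

set_option maxRecDepth 100000 in
theorem part_6_8_11_12 : dfsN 6 268435456 213410576 [2, 4, 5, 7, 9, 10] = true := by
  decide +kernel

theorem part_6_8_11 : dfsN 7 16777216 12083984 [2, 4, 5, 7, 9, 10, 12] = true := by
  apply dfsN_step 6 16777216 12083984 [2, 4, 5, 7, 9, 10, 12]
  intro v hv
  simp only [List.mem_cons, List.not_mem_nil, or_false] at hv
  rcases hv with rfl | rfl | rfl | rfl | rfl | rfl | rfl
  exacts [part_6_8_11_2, part_6_8_11_4, part_6_8_11_5, part_6_8_11_7, part_6_8_11_9, part_6_8_11_10, part_6_8_11_12]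

set_option maxRecDepth 100000 in
theorem part_6_8_12_2 : dfsN 6 268435456 46686992 [4, 5, 7, 9, 10, 11] = true := by
  decide +kernel

set_option maxRecDepth 100000 in
theorem part_6_8_12_4 : dfsN 6 268435456 80241424 [2, 5, 7, 9, 10, 11] = true := by
  decide +kernel

set_option maxRecDepth 100000 in
theorem part_6_8_12_5 : dfsN 6 268435456 97018640 [2, 4, 7, 9, 10, 11] = true := by
  decide +kernel

set_option maxRecDepth 100000 in
theorem part_6_8_12_7 : dfsN 6 268435456 130573072 [2, 4, 5, 9, 10, 11] = true := by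
  decide +kernel

set_option maxRecDepth 100000 in
theorem part_6_8_12_9 : dfsN 6 268435456 164127504 [2, 4, 5, 7, 10, 11] = true := by
  decide +kernel

set_option maxRecDepth 100000 in
theorem part_6_8_12_10 : dfsN 6 268435456 180904720 [2, 4, 5, 7, 9, 11] = true := by
  decide +kernel

set_option maxRecDepth 100000 in
theorem part_6_8_12_11 : dfsN 6 268435456 197681936 [2, 4, 5, 7, 9, 10] = true := by
  decide +kernel

theorem part_6_8_12 : dfsN 7 16777216 13132560 [2, 4, 5, 7, 9, 10, 11] = true := by
  apply dfsN_step 6 16777216 13132560 [2, 4, 5, 7, 9, 10, 11]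
  intro v hv
  simp only [List.mem_cons, List.not_mem_nil, or_false] at hv
  rcases hv with rfl | rfl | rfl | rfl | rfl | rfl | rfl
  exacts [part_6_8_12_2, part_6_8_12_4, part_6_8_12_5, part_6_8_12_7, part_6_8_12_9, part_6_8_12_10, part_6_8_12_11]

theorem part_6_8 : dfsN 8 1048576 549648 [2, 4, 5, 7, 9, 10, 11, 12] = true := by
  apply dfsN_step 7 1048576 549648 [2, 4, 5, 7, 9, 10, 11, 12]
  intro v hv
  simp only [List.mem_cons, List.not_mem_nil, or_false] at hv
  rcases hv with rfl | rfl | rfl | rfl | rfl | rfl | rfl | rfl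
  exacts [part_6_8_2, part_6_8_4, part_6_8_5, part_6_8_7, part_6_8_9, part_6_8_10, part_6_8_11, part_6_8_12]

end Cfsg.Agent.Lib.H16.AG
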