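import Cfsg.Agent.Lib.H16.AG.Step

set_option autoImplicit false

/-! Degree 13, images `0, 1, 3, 6, 9` of `0, 1, 2, 3, 4` fixed: every completion that is an
`11`-cycle has a word `(x ^ b * y ^ a) ^ k` which is a `3`-, `5`- or `7`-cycle
(small kernel computations, one per pair of images of `5, 6`). -/

namespace Cfsg.Agent.Lib.H16.AG

set_option maxRecDepth 100000 in
theorem part_6_9_2_4 : dfsN 6 268435456 69821200 [5, 7, 8, 10, 11, 12] = true := by
  decide +kernel

set_option maxRecDepth 100000 in
theorem part_6_9_2_5 : dfsN 6 268435456 86598416 [4, 7, 8, 10, 11, 12] = true := by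
  decide +kernel

set_option maxRecDepth 100000 in
theorem part_6_9_2_7 : dfsN 6 268435456 120152848 [4, 5, 8, 10, 11, 12] = true := by
  decide +kernel

set_option maxRecDepth 100000 in
theorem part_6_9_2_8 : dfsN 6 268435456 136930064 [4, 5, 7, 10, 11, 12] = true := by
  decide +kernel

set_option maxRecDepth 100000 in
theorem part_6_9_2_10 : dfsN 6 268435456 170484496 [4, 5, 7, 8, 11, 12] = true := by
  decide +kernel

set_option maxRecDepth 100000 in
theorem part_6_9_2_11 : dfsN 6 268435456 187261712 [4, 5, 7, 8, 10, 12] = true := by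
  decide +kernel

set_option maxRecDepth 100000 in
theorem part_6_9_2_12 : dfsN 6 268435456 204038928 [4, 5, 7, 8, 10, 11] = true := by
  decide +kernel

theorem part_6_9_2 : dfsN 7 16777216 2712336 [4, 5, 7, 8, 10, 11, 12] = true := by
  apply dfsN_step 6 16777216 2712336 [4, 5, 7, 8, 10, 11, 12]
  intro v hv
  simp only [List.mem_cons, List.not_mem_nil, or_false] at hv
  rcases hv with rfl | rfl | rfl | rfl | rfl | rfl | rfl
  exacts [part_6_9_2_4, part_6_9_2_5, part_6_9_2_7, part_6_9_2_8, part_6_9_2_10, part_6_9_2_11, part_6_9_2_12]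

set_option maxRecDepth 100000 in
theorem part_6_9_4_2 : dfsN 6 268435456 38363920 [5, 7, 8, 10, 11, 12] = true := by
  decide +kernel

set_option maxRecDepth 100000 in
theorem part_6_9_4_5 : dfsN 6 268435456 88695568 [2, 7, 8, 10, 11, 12] = true := by
  decide +kernel

set_option maxRecDepth 100000 in
theorem part_6_9_4_7 : dfsN 6 268435456 122250000 [2, 5, 8, 10, 11, 12] = true := by
  decide +kernel

set_option maxRecDepth 100000 in
theorem part_6_9_4_8 : dfsN 6 268435456 139027216 [2, 5, 7, 10, 11, 12] = true := by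
  decide +kernel

set_option maxRecDepth 100000 in
theorem part_6_9_4_10 : dfsN 6 268435456 172581648 [2, 5, 7, 8, 11, 12] = true := by
  decide +kernel

set_option maxRecDepth 100000 in
theorem part_6_9_4_11 : dfsN 6 268435456 189358864 [2, 5, 7, 8, 10, 12] = true := by
  decide +kernel

set_option maxRecDepth 100000 in
theorem part_6_9_4_12 : dfsN 6 268435456 206136080 [2, 5, 7, 8, 10, 11] = true := by
  decide +kernel

theorem part_6_9_4 : dfsN 7 16777216 4809488 [2, 5, 7, 8, 10, 11, 12] = true := by
  apply dfsN_step 6 16777216 4809488 [2, 5, 7, 8, 10, 11, 12]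
  intro v hv
  simp only [List.mem_cons, List.not_mem_nil, or_false] at hv
  rcases hv with rfl | rfl | rfl | rfl | rfl | rfl | rfl
  exacts [part_6_9_4_2, part_6_9_4_5, part_6_9_4_7, part_6_9_4_8, part_6_9_4_10, part_6_9_4_11, part_6_9_4_12]

set_option maxRecDepth 100000 in
theorem part_6_9_5_2 : dfsN 6 268435456 39412496 [4, 7, 8, 10, 11, 12] = true := by
  decide +kernel

set_option maxRecDepth 100000 in
theorem part_6_9_5_4 : dfsN 6 268435456 72966928 [2, 7, 8, 10, 11, 12] = true := by
  decide +kernel

set_option maxRecDepth 100000 in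
theorem part_6_9_5_7 : dfsN 6 268435456 123298576 [2, 4, 8, 10, 11, 12] = true := by
  decide +kernel

set_option maxRecDepth 100000 in
theorem part_6_9_5_8 : dfsN 6 268435456 140075792 [2, 4, 7, 10, 11, 12] = true := by
  decide +kernel

set_option maxRecDepth 100000 in
theorem part_6_9_5_10 : dfsN 6 268435456 173630224 [2, 4, 7, 8, 11, 12] = true := by
  decide +kernel

set_option maxRecDepth 100000 in
theorem part_6_9_5_11 : dfsN 6 268435456 190407440 [2, 4, 7, 8, 10, 12] = true := by
  decide +kernel

set_option maxRecDepth 100000 in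
theorem part_6_9_5_12 : dfsN 6 268435456 207184656 [2, 4, 7, 8, 10, 11] = true := by
  decide +kernel

theorem part_6_9_5 : dfsN 7 16777216 5858064 [2, 4, 7, 8, 10, 11, 12] = true := by
  apply dfsN_step 6 16777216 5858064 [2, 4, 7, 8, 10, 11, 12]
  intro v hv
  simp only [List.mem_cons, List.not_mem_nil, or_false] at hv
  rcases hv with rfl | rfl | rfl | rfl | rfl | rfl | rfl
  exacts [part_6_9_5_2, part_6_9_5_4, part_6_9_5_7, part_6_9_5_8, part_6_9_5_10, part_6_9_5_11, part_6_9_5_12]

set_option maxRecDepth 100000 in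
theorem part_6_9_7_2 : dfsN 6 268435456 41509648 [4, 5, 8, 10, 11, 12] = true := by
  decide +kernel

set_option maxRecDepth 100000 in
theorem part_6_9_7_4 : dfsN 6 268435456 75064080 [2, 5, 8, 10, 11, 12] = true := by
  decide +kernel

set_option maxRecDepth 100000 in
theorem part_6_9_7_5 : dfsN 6 268435456 91841296 [2, 4, 8, 10, 11, 12] = true := by
  decide +kernel

set_option maxRecDepth 100000 in
theorem part_6_9_7_8 : dfsN 6 268435456 142172944 [2, 4, 5, 10, 11, 12] = true := by
  decide +kernel

set_option maxRecDepth 100000 in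
theorem part_6_9_7_10 : dfsN 6 268435456 175727376 [2, 4, 5, 8, 11, 12] = true := by
  decide +kernel

set_option maxRecDepth 100000 in
theorem part_6_9_7_11 : dfsN 6 268435456 192504592 [2, 4, 5, 8, 10, 12] = true := by
  decide +kernel

set_option maxRecDepth 100000 in
theorem part_6_9_7_12 : dfsN 6 268435456 209281808 [2, 4, 5, 8, 10, 11] = true := by
  decide +kernel

theorem part_6_9_7 : dfsN 7 16777216 7955216 [2, 4, 5, 8, 10, 11, 12] = true := by
  apply dfsN_step 6 16777216 7955216 [2, 4, 5, 8, 10, 11, 12]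
  intro v hv
  simp only [List.mem_cons, List.not_mem_nil, or_false] at hv
  rcases hv with rfl | rfl | rfl | rfl | rfl | rfl | rfl
  exacts [part_6_9_7_2, part_6_9_7_4, part_6_9_7_5, part_6_9_7_8, part_6_9_7_10, part_6_9_7_11, part_6_9_7_12]

set_option maxRecDepth 100000 in
theorem part_6_9_8_2 : dfsN 6 268435456 42558224 [4, 5, 7, 10, 11, 12] = true := by
  decide +kernel

set_option maxRecDepth 100000 in
theorem part_6_9_8_4 : dfsN 6 268435456 76112656 [2, 5, 7, 10, 11, 12] = true := by
  decide +kernel

set_option maxRecDepth 100000 in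
theorem part_6_9_8_5 : dfsN 6 268435456 92889872 [2, 4, 7, 10, 11, 12] = true := by
  decide +kernel

set_option maxRecDepth 100000 in
theorem part_6_9_8_7 : dfsN 6 268435456 126444304 [2, 4, 5, 10, 11, 12] = true := by
  decide +kernel

set_option maxRecDepth 100000 in
theorem part_6_9_8_10 : dfsN 6 268435456 176775952 [2, 4, 5, 7, 11, 12] = true := by
  decide +kernel

set_option maxRecDepth 100000 in
theorem part_6_9_8_11 : dfsN 6 268435456 193553168 [2, 4, 5, 7, 10, 12] = true := by
  decide +kernel

set_option maxRecDepth 100000 in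
theorem part_6_9_8_12 : dfsN 6 268435456 210330384 [2, 4, 5, 7, 10, 11] = true := by
  decide +kernel

theorem part_6_9_8 : dfsN 7 16777216 9003792 [2, 4, 5, 7, 10, 11, 12] = true := by
  apply dfsN_step 6 16777216 9003792 [2, 4, 5, 7, 10, 11, 12]
  intro v hv
  simp only [List.mem_cons, List.not_mem_nil, or_false] at hv
  rcases hv with rfl | rfl | rfl | rfl | rfl | rfl | rfl
  exacts [part_6_9_8_2, part_6_9_8_4, part_6_9_8_5, part_6_9_8_7, part_6_9_8_10, part_6_9_8_11, part_6_9_8_12]

set_option maxRecDepth 100000 in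
theorem part_6_9_10_2 : dfsN 6 268435456 44655376 [4, 5, 7, 8, 11, 12] = true := by
  decide +kernel

set_option maxRecDepth 100000 in
theorem part_6_9_10_4 : dfsN 6 268435456 78209808 [2, 5, 7, 8, 11, 12] = true := by
  decide +kernel

set_option maxRecDepth 100000 in
theorem part_6_9_10_5 : dfsN 6 268435456 94987024 [2, 4, 7, 8, 11, 12] = true := by
  decide +kernel

set_option maxRecDepth 100000 in
theorem part_6_9_10_7 : dfsN 6 268435456 128541456 [2, 4, 5, 8, 11, 12] = true := by
  decide +kernel

set_option maxRecDepth 100000 in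
theorem part_6_9_10_8 : dfsN 6 268435456 145318672 [2, 4, 5, 7, 11, 12] = true := by
  decide +kernel

set_option maxRecDepth 100000 in
theorem part_6_9_10_11 : dfsN 6 268435456 195650320 [2, 4, 5, 7, 8, 12] = true := by
  decide +kernel

set_option maxRecDepth 100000 in
theorem part_6_9_10_12 : dfsN 6 268435456 212427536 [2, 4, 5, 7, 8, 11] = true := by
  decide +kernel

theorem part_6_9_10 : dfsN 7 16777216 11100944 [2, 4, 5, 7, 8, 11, 12] = true := by
  apply dfsN_step 6 16777216 11100944 [2, 4, 5, 7, 8, 11, 12]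
  intro v hv
  simp only [List.mem_cons, List.not_mem_nil, or_false] at hv
  rcases hv with rfl | rfl | rfl | rfl | rfl | rfl | rfl
  exacts [part_6_9_10_2, part_6_9_10_4, part_6_9_10_5, part_6_9_10_7, part_6_9_10_8, part_6_9_10_11, part_6_9_10_12]

set_option maxRecDepth 100000 in
theorem part_6_9_11_2 : dfsN 6 268435456 45703952 [4, 5, 7, 8, 10, 12] = true := by
  decide +kernel

set_option maxRecDepth 100000 in
theorem part_6_9_11_4 : dfsN 6 268435456 79258384 [2, 5, 7, 8, 10, 12] = true := by
  decide +kernel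

set_option maxRecDepth 100000 in
theorem part_6_9_11_5 : dfsN 6 268435456 96035600 [2, 4, 7, 8, 10, 12] = true := by
  decide +kernel

set_option maxRecDepth 100000 in
theorem part_6_9_11_7 : dfsN 6 268435456 129590032 [2, 4, 5, 8, 10, 12] = true := by
  decide +kernel

set_option maxRecDepth 100000 in
theorem part_6_9_11_8 : dfsN 6 268435456 146367248 [2, 4, 5, 7, 10, 12] = true := by
  decide +kernel

set_option maxRecDepth 100000 in
theorem part_6_9_11_10 : dfsN 6 268435456 179921680 [2, 4, 5, 7, 8, 12] = true := by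
  decide +kernel

set_option maxRecDepth 100000 in
theorem part_6_9_11_12 : dfsN 6 268435456 213476112 [2, 4, 5, 7, 8, 10] = true := by
  decide +kernel

theorem part_6_9_11 : dfsN 7 16777216 12149520 [2, 4, 5, 7, 8, 10, 12] = true := by
  apply dfsN_step 6 16777216 12149520 [2, 4, 5, 7, 8, 10, 12]
  intro v hv
  simp only [List.mem_cons, List.not_mem_nil, or_false] at hv
  rcases hv with rfl | rfl | rfl | rfl | rfl | rfl | rfl
  exacts [part_6_9_11_2, part_6_9_11_4, part_6_9_11_5, part_6_9_11_7, part_6_9_11_8, part_6_9_11_10, part_6_9_11_12]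

set_option maxRecDepth 100000 in
theorem part_6_9_12_2 : dfsN 6 268435456 46752528 [4, 5, 7, 8, 10, 11] = true := by
  decide +kernel

set_option maxRecDepth 100000 in
theorem part_6_9_12_4 : dfsN 6 268435456 80306960 [2, 5, 7, 8, 10, 11] = true := by
  decide +kernel

set_option maxRecDepth 100000 in
theorem part_6_9_12_5 : dfsN 6 268435456 97084176 [2, 4, 7, 8, 10, 11] = true := by
  decide +kernel

set_option maxRecDepth 100000 in
theorem part_6_9_12_7 : dfsN 6 268435456 130638608 [2, 4, 5, 8, 10, 11] = true := by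
  decide +kernel

set_option maxRecDepth 100000 in
theorem part_6_9_12_8 : dfsN 6 268435456 147415824 [2, 4, 5, 7, 10, 11] = true := by
  decide +kernel

set_option maxRecDepth 100000 in
theorem part_6_9_12_10 : dfsN 6 268435456 180970256 [2, 4, 5, 7, 8, 11] = true := by
  decide +kernel

set_option maxRecDepth 100000 in
theorem part_6_9_12_11 : dfsN 6 268435456 197747472 [2, 4, 5, 7, 8, 10] = true := by
  decide +kernel

theorem part_6_9_12 : dfsN 7 16777216 13198096 [2, 4, 5, 7, 8, 10, 11] = true := by
  apply dfsN_step 6 16777216 13198096 [2, 4, 5, 7, 8, 10, 11]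
  intro v hv
  simp only [List.mem_cons, List.not_mem_nil, or_false] at hv
  rcases hv with rfl | rfl | rfl | rfl | rfl | rfl | rfl
  exacts [part_6_9_12_2, part_6_9_12_4, part_6_9_12_5, part_6_9_12_7, part_6_9_12_8, part_6_9_12_10, part_6_9_12_11]

theorem part_6_9 : dfsN 8 1048576 615184 [2, 4, 5, 7, 8, 10, 11, 12] = true := by
  apply dfsN_step 7 1048576 615184 [2, 4, 5, 7, 8, 10, 11, 12]
  intro v hv
  simp only [List.mem_cons, List.not_mem_nil, or_false] at hv
  rcases hv with rfl | rfl | rfl | rfl | rfl | rfl | rfl | rfl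
  exacts [part_6_9_2, part_6_9_4, part_6_9_5, part_6_9_7, part_6_9_8, part_6_9_10, part_6_9_11, part_6_9_12]

end Cfsg.Agent.Lib.H16.AG
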