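import Cfsg.Agent.Lib.H16.AG.Step

set_option autoImplicit false

/-! Degree 13, images `0, 1, 3, 6, 10` of `0, 1, 2, 3, 4` fixed: every completion that is an
`11`-cycle has a word `(x ^ b * y ^ a) ^ k` which is a `3`-, `5`- or `7`-cycle
(small kernel computations, one per pair of images of `5, 6`). -/

namespace Cfsg.Agent.Lib.H16.AG

set_option maxRecDepth 100000 in
theorem part_6_10_2_4 : dfsN 6 268435456 69886736 [5, 7, 8, 9, 11, 12] = true := by
  decide +kernel

set_option maxRecDepth 100000 in
theorem part_6_10_2_5 : dfsN 6 268435456 86663952 [4, 7, 8, 9, 11, 12] = true := by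
  decide +kernel

set_option maxRecDepth 100000 in
theorem part_6_10_2_7 : dfsN 6 268435456 120218384 [4, 5, 8, 9, 11, 12] = true := by
  decide +kernel

set_option maxRecDepth 100000 in
theorem part_6_10_2_8 : dfsN 6 268435456 136995600 [4, 5, 7, 9, 11, 12] = true := by
  decide +kernel

set_option maxRecDepth 100000 in
theorem part_6_10_2_9 : dfsN 6 268435456 153772816 [4, 5, 7, 8, 11, 12] = true := by
  decide +kernel

set_option maxRecDepth 100000 in
theorem part_6_10_2_11 : dfsN 6 268435456 187327248 [4, 5, 7, 8, 9, 12] = true := by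
  decide +kernel

set_option maxRecDepth 100000 in
theorem part_6_10_2_12 : dfsN 6 268435456 204104464 [4, 5, 7, 8, 9, 11] = true := by
  decide +kernel

theorem part_6_10_2 : dfsN 7 16777216 2777872 [4, 5, 7, 8, 9, 11, 12] = true := by
  apply dfsN_step 6 16777216 2777872 [4, 5, 7, 8, 9, 11, 12]
  intro v hv
  simp only [List.mem_cons, List.not_mem_nil, or_false] at hv
  rcases hv with rfl | rfl | rfl | rfl | rfl | rfl | rfl
  exacts [part_6_10_2_4, part_6_10_2_5, part_6_10_2_7, part_6_10_2_8, part_6_10_2_9, part_6_10_2_11, part_6_10_2_12]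

set_option maxRecDepth 100000 in
theorem part_6_10_4_2 : dfsN 6 268435456 38429456 [5, 7, 8, 9, 11, 12] = true := by
  decide +kernel

set_option maxRecDepth 100000 in
theorem part_6_10_4_5 : dfsN 6 268435456 88761104 [2, 7, 8, 9, 11, 12] = true := by
  decide +kernel

set_option maxRecDepth 100000 in
theorem part_6_10_4_7 : dfsN 6 268435456 122315536 [2, 5, 8, 9, 11, 12] = true := by
  decide +kernel

set_option maxRecDepth 100000 in
theorem part_6_10_4_8 : dfsN 6 268435456 139092752 [2, 5, 7, 9, 11, 12] = true := by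
  decide +kernel

set_option maxRecDepth 100000 in
theorem part_6_10_4_9 : dfsN 6 268435456 155869968 [2, 5, 7, 8, 11, 12] = true := by
  decide +kernel

set_option maxRecDepth 100000 in
theorem part_6_10_4_11 : dfsN 6 268435456 189424400 [2, 5, 7, 8, 9, 12] = true := by
  decide +kernel

set_option maxRecDepth 100000 in
theorem part_6_10_4_12 : dfsN 6 268435456 206201616 [2, 5, 7, 8, 9, 11] = true := by
  decide +kernel

theorem part_6_10_4 : dfsN 7 16777216 4875024 [2, 5, 7, 8, 9, 11, 12] = true := by
  apply dfsN_step 6 16777216 4875024 [2, 5, 7, 8, 9, 11, 12]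
  intro v hv
  simp only [List.mem_cons, List.not_mem_nil, or_false] at hv
  rcases hv with rfl | rfl | rfl | rfl | rfl | rfl | rfl
  exacts [part_6_10_4_2, part_6_10_4_5, part_6_10_4_7, part_6_10_4_8, part_6_10_4_9, part_6_10_4_11, part_6_10_4_12]

set_option maxRecDepth 100000 in
theorem part_6_10_5_2 : dfsN 6 268435456 39478032 [4, 7, 8, 9, 11, 12] = true := by
  decide +kernel

set_option maxRecDepth 100000 in
theorem part_6_10_5_4 : dfsN 6 268435456 73032464 [2, 7, 8, 9, 11, 12] = true := by
  decide +kernel

set_option maxRecDepth 100000 in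
theorem part_6_10_5_7 : dfsN 6 268435456 123364112 [2, 4, 8, 9, 11, 12] = true := by
  decide +kernel

set_option maxRecDepth 100000 in
theorem part_6_10_5_8 : dfsN 6 268435456 140141328 [2, 4, 7, 9, 11, 12] = true := by
  decide +kernel

set_option maxRecDepth 100000 in
theorem part_6_10_5_9 : dfsN 6 268435456 156918544 [2, 4, 7, 8, 11, 12] = true := by
  decide +kernel

set_option maxRecDepth 100000 in
theorem part_6_10_5_11 : dfsN 6 268435456 190472976 [2, 4, 7, 8, 9, 12] = true := by
  decide +kernel

set_option maxRecDepth 100000 in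
theorem part_6_10_5_12 : dfsN 6 268435456 207250192 [2, 4, 7, 8, 9, 11] = true := by
  decide +kernel

theorem part_6_10_5 : dfsN 7 16777216 5923600 [2, 4, 7, 8, 9, 11, 12] = true := by
  apply dfsN_step 6 16777216 5923600 [2, 4, 7, 8, 9, 11, 12]
  intro v hv
  simp only [List.mem_cons, List.not_mem_nil, or_false] at hv
  rcases hv with rfl | rfl | rfl | rfl | rfl | rfl | rfl
  exacts [part_6_10_5_2, part_6_10_5_4, part_6_10_5_7, part_6_10_5_8, part_6_10_5_9, part_6_10_5_11, part_6_10_5_12]

set_option maxRecDepth 100000 in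
theorem part_6_10_7_2 : dfsN 6 268435456 41575184 [4, 5, 8, 9, 11, 12] = true := by
  decide +kernel

set_option maxRecDepth 100000 in
theorem part_6_10_7_4 : dfsN 6 268435456 75129616 [2, 5, 8, 9, 11, 12] = true := by
  decide +kernel

set_option maxRecDepth 100000 in
theorem part_6_10_7_5 : dfsN 6 268435456 91906832 [2, 4, 8, 9, 11, 12] = true := by
  decide +kernel

set_option maxRecDepth 100000 in
theorem part_6_10_7_8 : dfsN 6 268435456 142238480 [2, 4, 5, 9, 11, 12] = true := by
  decide +kernel

set_option maxRecDepth 100000 in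
theorem part_6_10_7_9 : dfsN 6 268435456 159015696 [2, 4, 5, 8, 11, 12] = true := by
  decide +kernel

set_option maxRecDepth 100000 in
theorem part_6_10_7_11 : dfsN 6 268435456 192570128 [2, 4, 5, 8, 9, 12] = true := by
  decide +kernel

set_option maxRecDepth 100000 in
theorem part_6_10_7_12 : dfsN 6 268435456 209347344 [2, 4, 5, 8, 9, 11] = true := by
  decide +kernel

theorem part_6_10_7 : dfsN 7 16777216 8020752 [2, 4, 5, 8, 9, 11, 12] = true := by
  apply dfsN_step 6 16777216 8020752 [2, 4, 5, 8, 9, 11, 12]
  intro v hv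
  simp only [List.mem_cons, List.not_mem_nil, or_false] at hv
  rcases hv with rfl | rfl | rfl | rfl | rfl | rfl | rfl
  exacts [part_6_10_7_2, part_6_10_7_4, part_6_10_7_5, part_6_10_7_8, part_6_10_7_9, part_6_10_7_11, part_6_10_7_12]

set_option maxRecDepth 100000 in
theorem part_6_10_8_2 : dfsN 6 268435456 42623760 [4, 5, 7, 9, 11, 12] = true := by
  decide +kernel

set_option maxRecDepth 100000 in
theorem part_6_10_8_4 : dfsN 6 268435456 76178192 [2, 5, 7, 9, 11, 12] = true := by
  decide +kernel

set_option maxRecDepth 100000 in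
theorem part_6_10_8_5 : dfsN 6 268435456 92955408 [2, 4, 7, 9, 11, 12] = true := by
  decide +kernel

set_option maxRecDepth 100000 in
theorem part_6_10_8_7 : dfsN 6 268435456 126509840 [2, 4, 5, 9, 11, 12] = true := by
  decide +kernel

set_option maxRecDepth 100000 in
theorem part_6_10_8_9 : dfsN 6 268435456 160064272 [2, 4, 5, 7, 11, 12] = true := by
  decide +kernel

set_option maxRecDepth 100000 in
theorem part_6_10_8_11 : dfsN 6 268435456 193618704 [2, 4, 5, 7, 9, 12] = true := by
  decide +kernel

set_option maxRecDepth 100000 in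
theorem part_6_10_8_12 : dfsN 6 268435456 210395920 [2, 4, 5, 7, 9, 11] = true := by
  decide +kernel

theorem part_6_10_8 : dfsN 7 16777216 9069328 [2, 4, 5, 7, 9, 11, 12] = true := by
  apply dfsN_step 6 16777216 9069328 [2, 4, 5, 7, 9, 11, 12]
  intro v hv
  simp only [List.mem_cons, List.not_mem_nil, or_false] at hv
  rcases hv with rfl | rfl | rfl | rfl | rfl | rfl | rfl
  exacts [part_6_10_8_2, part_6_10_8_4, part_6_10_8_5, part_6_10_8_7, part_6_10_8_9, part_6_10_8_11, part_6_10_8_12]

set_option maxRecDepth 100000 in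
theorem part_6_10_9_2 : dfsN 6 268435456 43672336 [4, 5, 7, 8, 11, 12] = true := by
  decide +kernel

set_option maxRecDepth 100000 in
theorem part_6_10_9_4 : dfsN 6 268435456 77226768 [2, 5, 7, 8, 11, 12] = true := by
  decide +kernel

set_option maxRecDepth 100000 in
theorem part_6_10_9_5 : dfsN 6 268435456 94003984 [2, 4, 7, 8, 11, 12] = true := by
  decide +kernel

set_option maxRecDepth 100000 in
theorem part_6_10_9_7 : dfsN 6 268435456 127558416 [2, 4, 5, 8, 11, 12] = true := by
  decide +kernel

set_option maxRecDepth 100000 in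
theorem part_6_10_9_8 : dfsN 6 268435456 144335632 [2, 4, 5, 7, 11, 12] = true := by
  decide +kernel

set_option maxRecDepth 100000 in
theorem part_6_10_9_11 : dfsN 6 268435456 194667280 [2, 4, 5, 7, 8, 12] = true := by
  decide +kernel

set_option maxRecDepth 100000 in
theorem part_6_10_9_12 : dfsN 6 268435456 211444496 [2, 4, 5, 7, 8, 11] = true := by
  decide +kernel

theorem part_6_10_9 : dfsN 7 16777216 10117904 [2, 4, 5, 7, 8, 11, 12] = true := by
  apply dfsN_step 6 16777216 10117904 [2, 4, 5, 7, 8, 11, 12]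
  intro v hv
  simp only [List.mem_cons, List.not_mem_nil, or_false] at hv
  rcases hv with rfl | rfl | rfl | rfl | rfl | rfl | rfl
  exacts [part_6_10_9_2, part_6_10_9_4, part_6_10_9_5, part_6_10_9_7, part_6_10_9_8, part_6_10_9_11, part_6_10_9_12]

set_option maxRecDepth 100000 in
theorem part_6_10_11_2 : dfsN 6 268435456 45769488 [4, 5, 7, 8, 9, 12] = true := by
  decide +kernel

set_option maxRecDepth 100000 in
theorem part_6_10_11_4 : dfsN 6 268435456 79323920 [2, 5, 7, 8, 9, 12] = true := by
  decide +kernel

set_option maxRecDepth 100000 in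
theorem part_6_10_11_5 : dfsN 6 268435456 96101136 [2, 4, 7, 8, 9, 12] = true := by
  decide +kernel

set_option maxRecDepth 100000 in
theorem part_6_10_11_7 : dfsN 6 268435456 129655568 [2, 4, 5, 8, 9, 12] = true := by
  decide +kernel

set_option maxRecDepth 100000 in
theorem part_6_10_11_8 : dfsN 6 268435456 146432784 [2, 4, 5, 7, 9, 12] = true := by
  decide +kernel

set_option maxRecDepth 100000 in
theorem part_6_10_11_9 : dfsN 6 268435456 163210000 [2, 4, 5, 7, 8, 12] = true := by
  decide +kernel

set_option maxRecDepth 100000 in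
theorem part_6_10_11_12 : dfsN 6 268435456 213541648 [2, 4, 5, 7, 8, 9] = true := by
  decide +kernel

theorem part_6_10_11 : dfsN 7 16777216 12215056 [2, 4, 5, 7, 8, 9, 12] = true := by
  apply dfsN_step 6 16777216 12215056 [2, 4, 5, 7, 8, 9, 12]
  intro v hv
  simp only [List.mem_cons, List.not_mem_nil, or_false] at hv
  rcases hv with rfl | rfl | rfl | rfl | rfl | rfl | rfl
  exacts [part_6_10_11_2, part_6_10_11_4, part_6_10_11_5, part_6_10_11_7, part_6_10_11_8, part_6_10_11_9, part_6_10_11_12]

set_option maxRecDepth 100000 in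
theorem part_6_10_12_2 : dfsN 6 268435456 46818064 [4, 5, 7, 8, 9, 11] = true := by
  decide +kernel

set_option maxRecDepth 100000 in
theorem part_6_10_12_4 : dfsN 6 268435456 80372496 [2, 5, 7, 8, 9, 11] = true := by
  decide +kernel

set_option maxRecDepth 100000 in
theorem part_6_10_12_5 : dfsN 6 268435456 97149712 [2, 4, 7, 8, 9, 11] = true := by
  decide +kernel

set_option maxRecDepth 100000 in
theorem part_6_10_12_7 : dfsN 6 268435456 130704144 [2, 4, 5, 8, 9, 11] = true := by
  decide +kernel

set_option maxRecDepth 100000 in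
theorem part_6_10_12_8 : dfsN 6 268435456 147481360 [2, 4, 5, 7, 9, 11] = true := by
  decide +kernel

set_option maxRecDepth 100000 in
theorem part_6_10_12_9 : dfsN 6 268435456 164258576 [2, 4, 5, 7, 8, 11] = true := by
  decide +kernel

set_option maxRecDepth 100000 in
theorem part_6_10_12_11 : dfsN 6 268435456 197813008 [2, 4, 5, 7, 8, 9] = true := by
  decide +kernel

theorem part_6_10_12 : dfsN 7 16777216 13263632 [2, 4, 5, 7, 8, 9, 11] = true := by
  apply dfsN_step 6 16777216 13263632 [2, 4, 5, 7, 8, 9, 11]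
  intro v hv
  simp only [List.mem_cons, List.not_mem_nil, or_false] at hv
  rcases hv with rfl | rfl | rfl | rfl | rfl | rfl | rfl
  exacts [part_6_10_12_2, part_6_10_12_4, part_6_10_12_5, part_6_10_12_7, part_6_10_12_8, part_6_10_12_9, part_6_10_12_11]

theorem part_6_10 : dfsN 8 1048576 680720 [2, 4, 5, 7, 8, 9, 11, 12] = true := by
  apply dfsN_step 7 1048576 680720 [2, 4, 5, 7, 8, 9, 11, 12]
  intro v hv
  simp only [List.mem_cons, List.not_mem_nil, or_false] at hv
  rcases hv with rfl | rfl | rfl | rfl | rfl | rfl | rfl | rfl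
  exacts [part_6_10_2, part_6_10_4, part_6_10_5, part_6_10_7, part_6_10_8, part_6_10_9, part_6_10_11, part_6_10_12]

end Cfsg.Agent.Lib.H16.AG
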