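import Cfsg.Agent.Lib.H16.AG.Step

set_option autoImplicit false

/-! Degree 13, images `0, 1, 3, 6, 11` of `0, 1, 2, 3, 4` fixed: every completion that is an
`11`-cycle has a word `(x ^ b * y ^ a) ^ k` which is a `3`-, `5`- or `7`-cycle
(small kernel computations, one per pair of images of `5, 6`). -/

namespace Cfsg.Agent.Lib.H16.AG

set_option maxRecDepth 100000 in
theorem part_6_11_2_4 : dfsN 6 268435456 69952272 [5, 7, 8, 9, 10, 12] = true := by
  decide +kernel

set_option maxRecDepth 100000 in
theorem part_6_11_2_5 : dfsN 6 268435456 86729488 [4, 7, 8, 9, 10, 12] = true := by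
  decide +kernel

set_option maxRecDepth 100000 in
theorem part_6_11_2_7 : dfsN 6 268435456 120283920 [4, 5, 8, 9, 10, 12] = true := by
  decide +kernel

set_option maxRecDepth 100000 in
theorem part_6_11_2_8 : dfsN 6 268435456 137061136 [4, 5, 7, 9, 10, 12] = true := by
  decide +kernel

set_option maxRecDepth 100000 in
theorem part_6_11_2_9 : dfsN 6 268435456 153838352 [4, 5, 7, 8, 10, 12] = true := by
  decide +kernel

set_option maxRecDepth 100000 in
theorem part_6_11_2_10 : dfsN 6 268435456 170615568 [4, 5, 7, 8, 9, 12] = true := by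
  decide +kernel

set_option maxRecDepth 100000 in
theorem part_6_11_2_12 : dfsN 6 268435456 204170000 [4, 5, 7, 8, 9, 10] = true := by
  decide +kernel

theorem part_6_11_2 : dfsN 7 16777216 2843408 [4, 5, 7, 8, 9, 10, 12] = true := by
  apply dfsN_step 6 16777216 2843408 [4, 5, 7, 8, 9, 10, 12]
  intro v hv
  simp only [List.mem_cons, List.not_mem_nil, or_false] at hv
  rcases hv with rfl | rfl | rfl | rfl | rfl | rfl | rfl
  exacts [part_6_11_2_4, part_6_11_2_5, part_6_11_2_7, part_6_11_2_8, part_6_11_2_9, part_6_11_2_10, part_6_11_2_12]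

set_option maxRecDepth 100000 in
theorem part_6_11_4_2 : dfsN 6 268435456 38494992 [5, 7, 8, 9, 10, 12] = true := by
  decide +kernel

set_option maxRecDepth 100000 in
theorem part_6_11_4_5 : dfsN 6 268435456 88826640 [2, 7, 8, 9, 10, 12] = true := by
  decide +kernel

set_option maxRecDepth 100000 in
theorem part_6_11_4_7 : dfsN 6 268435456 122381072 [2, 5, 8, 9, 10, 12] = true := by
  decide +kernel

set_option maxRecDepth 100000 in
theorem part_6_11_4_8 : dfsN 6 268435456 139158288 [2, 5, 7, 9, 10, 12] = true := by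
  decide +kernel

set_option maxRecDepth 100000 in
theorem part_6_11_4_9 : dfsN 6 268435456 155935504 [2, 5, 7, 8, 10, 12] = true := by
  decide +kernel

set_option maxRecDepth 100000 in
theorem part_6_11_4_10 : dfsN 6 268435456 172712720 [2, 5, 7, 8, 9, 12] = true := by
  decide +kernel

set_option maxRecDepth 100000 in
theorem part_6_11_4_12 : dfsN 6 268435456 206267152 [2, 5, 7, 8, 9, 10] = true := by
  decide +kernel

theorem part_6_11_4 : dfsN 7 16777216 4940560 [2, 5, 7, 8, 9, 10, 12] = true := by
  apply dfsN_step 6 16777216 4940560 [2, 5, 7, 8, 9, 10, 12]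
  intro v hv
  simp only [List.mem_cons, List.not_mem_nil, or_false] at hv
  rcases hv with rfl | rfl | rfl | rfl | rfl | rfl | rfl
  exacts [part_6_11_4_2, part_6_11_4_5, part_6_11_4_7, part_6_11_4_8, part_6_11_4_9, part_6_11_4_10, part_6_11_4_12]

set_option maxRecDepth 100000 in
theorem part_6_11_5_2 : dfsN 6 268435456 39543568 [4, 7, 8, 9, 10, 12] = true := by
  decide +kernel

set_option maxRecDepth 100000 in
theorem part_6_11_5_4 : dfsN 6 268435456 73098000 [2, 7, 8, 9, 10, 12] = true := by
  decide +kernel

set_option maxRecDepth 100000 in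
theorem part_6_11_5_7 : dfsN 6 268435456 123429648 [2, 4, 8, 9, 10, 12] = true := by
  decide +kernel

set_option maxRecDepth 100000 in
theorem part_6_11_5_8 : dfsN 6 268435456 140206864 [2, 4, 7, 9, 10, 12] = true := by
  decide +kernel

set_option maxRecDepth 100000 in
theorem part_6_11_5_9 : dfsN 6 268435456 156984080 [2, 4, 7, 8, 10, 12] = true := by
  decide +kernel

set_option maxRecDepth 100000 in
theorem part_6_11_5_10 : dfsN 6 268435456 173761296 [2, 4, 7, 8, 9, 12] = true := by
  decide +kernel

set_option maxRecDepth 100000 in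
theorem part_6_11_5_12 : dfsN 6 268435456 207315728 [2, 4, 7, 8, 9, 10] = true := by
  decide +kernel

theorem part_6_11_5 : dfsN 7 16777216 5989136 [2, 4, 7, 8, 9, 10, 12] = true := by
  apply dfsN_step 6 16777216 5989136 [2, 4, 7, 8, 9, 10, 12]
  intro v hv
  simp only [List.mem_cons, List.not_mem_nil, or_false] at hv
  rcases hv with rfl | rfl | rfl | rfl | rfl | rfl | rfl
  exacts [part_6_11_5_2, part_6_11_5_4, part_6_11_5_7, part_6_11_5_8, part_6_11_5_9, part_6_11_5_10, part_6_11_5_12]

set_option maxRecDepth 100000 in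
theorem part_6_11_7_2 : dfsN 6 268435456 41640720 [4, 5, 8, 9, 10, 12] = true := by
  decide +kernel

set_option maxRecDepth 100000 in
theorem part_6_11_7_4 : dfsN 6 268435456 75195152 [2, 5, 8, 9, 10, 12] = true := by
  decide +kernel

set_option maxRecDepth 100000 in
theorem part_6_11_7_5 : dfsN 6 268435456 91972368 [2, 4, 8, 9, 10, 12] = true := by
  decide +kernel

set_option maxRecDepth 100000 in
theorem part_6_11_7_8 : dfsN 6 268435456 142304016 [2, 4, 5, 9, 10, 12] = true := by
  decide +kernel

set_option maxRecDepth 100000 in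
theorem part_6_11_7_9 : dfsN 6 268435456 159081232 [2, 4, 5, 8, 10, 12] = true := by
  decide +kernel

set_option maxRecDepth 100000 in
theorem part_6_11_7_10 : dfsN 6 268435456 175858448 [2, 4, 5, 8, 9, 12] = true := by
  decide +kernel

set_option maxRecDepth 100000 in
theorem part_6_11_7_12 : dfsN 6 268435456 209412880 [2, 4, 5, 8, 9, 10] = true := by
  decide +kernel

theorem part_6_11_7 : dfsN 7 16777216 8086288 [2, 4, 5, 8, 9, 10, 12] = true := by
  apply dfsN_step 6 16777216 8086288 [2, 4, 5, 8, 9, 10, 12]
  intro v hv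
  simp only [List.mem_cons, List.not_mem_nil, or_false] at hv
  rcases hv with rfl | rfl | rfl | rfl | rfl | rfl | rfl
  exacts [part_6_11_7_2, part_6_11_7_4, part_6_11_7_5, part_6_11_7_8, part_6_11_7_9, part_6_11_7_10, part_6_11_7_12]

set_option maxRecDepth 100000 in
theorem part_6_11_8_2 : dfsN 6 268435456 42689296 [4, 5, 7, 9, 10, 12] = true := by
  decide +kernel

set_option maxRecDepth 100000 in
theorem part_6_11_8_4 : dfsN 6 268435456 76243728 [2, 5, 7, 9, 10, 12] = true := by
  decide +kernel

set_option maxRecDepth 100000 in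
theorem part_6_11_8_5 : dfsN 6 268435456 93020944 [2, 4, 7, 9, 10, 12] = true := by
  decide +kernel

set_option maxRecDepth 100000 in
theorem part_6_11_8_7 : dfsN 6 268435456 126575376 [2, 4, 5, 9, 10, 12] = true := by
  decide +kernel

set_option maxRecDepth 100000 in
theorem part_6_11_8_9 : dfsN 6 268435456 160129808 [2, 4, 5, 7, 10, 12] = true := by
  decide +kernel

set_option maxRecDepth 100000 in
theorem part_6_11_8_10 : dfsN 6 268435456 176907024 [2, 4, 5, 7, 9, 12] = true := by
  decide +kernel

set_option maxRecDepth 100000 in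
theorem part_6_11_8_12 : dfsN 6 268435456 210461456 [2, 4, 5, 7, 9, 10] = true := by
  decide +kernel

theorem part_6_11_8 : dfsN 7 16777216 9134864 [2, 4, 5, 7, 9, 10, 12] = true := by
  apply dfsN_step 6 16777216 9134864 [2, 4, 5, 7, 9, 10, 12]
  intro v hv
  simp only [List.mem_cons, List.not_mem_nil, or_false] at hv
  rcases hv with rfl | rfl | rfl | rfl | rfl | rfl | rfl
  exacts [part_6_11_8_2, part_6_11_8_4, part_6_11_8_5, part_6_11_8_7, part_6_11_8_9, part_6_11_8_10, part_6_11_8_12]

set_option maxRecDepth 100000 in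
theorem part_6_11_9_2 : dfsN 6 268435456 43737872 [4, 5, 7, 8, 10, 12] = true := by
  decide +kernel

set_option maxRecDepth 100000 in
theorem part_6_11_9_4 : dfsN 6 268435456 77292304 [2, 5, 7, 8, 10, 12] = true := by
  decide +kernel

set_option maxRecDepth 100000 in
theorem part_6_11_9_5 : dfsN 6 268435456 94069520 [2, 4, 7, 8, 10, 12] = true := by
  decide +kernel

set_option maxRecDepth 100000 in
theorem part_6_11_9_7 : dfsN 6 268435456 127623952 [2, 4, 5, 8, 10, 12] = true := by
  decide +kernel

set_option maxRecDepth 100000 in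
theorem part_6_11_9_8 : dfsN 6 268435456 144401168 [2, 4, 5, 7, 10, 12] = true := by
  decide +kernel

set_option maxRecDepth 100000 in
theorem part_6_11_9_10 : dfsN 6 268435456 177955600 [2, 4, 5, 7, 8, 12] = true := by
  decide +kernel

set_option maxRecDepth 100000 in
theorem part_6_11_9_12 : dfsN 6 268435456 211510032 [2, 4, 5, 7, 8, 10] = true := by
  decide +kernel

theorem part_6_11_9 : dfsN 7 16777216 10183440 [2, 4, 5, 7, 8, 10, 12] = true := by
  apply dfsN_step 6 16777216 10183440 [2, 4, 5, 7, 8, 10, 12]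
  intro v hv
  simp only [List.mem_cons, List.not_mem_nil, or_false] at hv
  rcases hv with rfl | rfl | rfl | rfl | rfl | rfl | rfl
  exacts [part_6_11_9_2, part_6_11_9_4, part_6_11_9_5, part_6_11_9_7, part_6_11_9_8, part_6_11_9_10, part_6_11_9_12]

set_option maxRecDepth 100000 in
theorem part_6_11_10_2 : dfsN 6 268435456 44786448 [4, 5, 7, 8, 9, 12] = true := by
  decide +kernel

set_option maxRecDepth 100000 in
theorem part_6_11_10_4 : dfsN 6 268435456 78340880 [2, 5, 7, 8, 9, 12] = true := by
  decide +kernel

set_option maxRecDepth 100000 in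
theorem part_6_11_10_5 : dfsN 6 268435456 95118096 [2, 4, 7, 8, 9, 12] = true := by
  decide +kernel

set_option maxRecDepth 100000 in
theorem part_6_11_10_7 : dfsN 6 268435456 128672528 [2, 4, 5, 8, 9, 12] = true := by
  decide +kernel

set_option maxRecDepth 100000 in
theorem part_6_11_10_8 : dfsN 6 268435456 145449744 [2, 4, 5, 7, 9, 12] = true := by
  decide +kernel

set_option maxRecDepth 100000 in
theorem part_6_11_10_9 : dfsN 6 268435456 162226960 [2, 4, 5, 7, 8, 12] = true := by
  decide +kernel

set_option maxRecDepth 100000 in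
theorem part_6_11_10_12 : dfsN 6 268435456 212558608 [2, 4, 5, 7, 8, 9] = true := by
  decide +kernel

theorem part_6_11_10 : dfsN 7 16777216 11232016 [2, 4, 5, 7, 8, 9, 12] = true := by
  apply dfsN_step 6 16777216 11232016 [2, 4, 5, 7, 8, 9, 12]
  intro v hv
  simp only [List.mem_cons, List.not_mem_nil, or_false] at hv
  rcases hv with rfl | rfl | rfl | rfl | rfl | rfl | rfl
  exacts [part_6_11_10_2, part_6_11_10_4, part_6_11_10_5, part_6_11_10_7, part_6_11_10_8, part_6_11_10_9, part_6_11_10_12]

set_option maxRecDepth 100000 in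
theorem part_6_11_12_2 : dfsN 6 268435456 46883600 [4, 5, 7, 8, 9, 10] = true := by
  decide +kernel

set_option maxRecDepth 100000 in
theorem part_6_11_12_4 : dfsN 6 268435456 80438032 [2, 5, 7, 8, 9, 10] = true := by
  decide +kernel

set_option maxRecDepth 100000 in
theorem part_6_11_12_5 : dfsN 6 268435456 97215248 [2, 4, 7, 8, 9, 10] = true := by
  decide +kernel

set_option maxRecDepth 100000 in
theorem part_6_11_12_7 : dfsN 6 268435456 130769680 [2, 4, 5, 8, 9, 10] = true := by
  decide +kernel

set_option maxRecDepth 100000 in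
theorem part_6_11_12_8 : dfsN 6 268435456 147546896 [2, 4, 5, 7, 9, 10] = true := by
  decide +kernel

set_option maxRecDepth 100000 in
theorem part_6_11_12_9 : dfsN 6 268435456 164324112 [2, 4, 5, 7, 8, 10] = true := by
  decide +kernel

set_option maxRecDepth 100000 in
theorem part_6_11_12_10 : dfsN 6 268435456 181101328 [2, 4, 5, 7, 8, 9] = true := by
  decide +kernel

theorem part_6_11_12 : dfsN 7 16777216 13329168 [2, 4, 5, 7, 8, 9, 10] = true := by
  apply dfsN_step 6 16777216 13329168 [2, 4, 5, 7, 8, 9, 10]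
  intro v hv
  simp only [List.mem_cons, List.not_mem_nil, or_false] at hv
  rcases hv with rfl | rfl | rfl | rfl | rfl | rfl | rfl
  exacts [part_6_11_12_2, part_6_11_12_4, part_6_11_12_5, part_6_11_12_7, part_6_11_12_8, part_6_11_12_9, part_6_11_12_10]

theorem part_6_11 : dfsN 8 1048576 746256 [2, 4, 5, 7, 8, 9, 10, 12] = true := by
  apply dfsN_step 7 1048576 746256 [2, 4, 5, 7, 8, 9, 10, 12]
  intro v hv
  simp only [List.mem_cons, List.not_mem_nil, or_false] at hv
  rcases hv with rfl | rfl | rfl | rfl | rfl | rfl | rfl | rfl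
  exacts [part_6_11_2, part_6_11_4, part_6_11_5, part_6_11_7, part_6_11_8, part_6_11_9, part_6_11_10, part_6_11_12]

end Cfsg.Agent.Lib.H16.AG
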