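import Cfsg.Agent.Lib.H16.AG.Step

set_option autoImplicit false

/-! Degree 13, images `0, 1, 3, 6, 12` of `0, 1, 2, 3, 4` fixed: every completion that is an
`11`-cycle has a word `(x ^ b * y ^ a) ^ k` which is a `3`-, `5`- or `7`-cycle
(small kernel computations, one per pair of images of `5, 6`). -/

namespace Cfsg.Agent.Lib.H16.AG

set_option maxRecDepth 100000 in
theorem part_6_12_2_4 : dfsN 6 268435456 70017808 [5, 7, 8, 9, 10, 11] = true := by
  decide +kernel

set_option maxRecDepth 100000 in
theorem part_6_12_2_5 : dfsN 6 268435456 86795024 [4, 7, 8, 9, 10, 11] = true := by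
  decide +kernel

set_option maxRecDepth 100000 in
theorem part_6_12_2_7 : dfsN 6 268435456 120349456 [4, 5, 8, 9, 10, 11] = true := by
  decide +kernel

set_option maxRecDepth 100000 in
theorem part_6_12_2_8 : dfsN 6 268435456 137126672 [4, 5, 7, 9, 10, 11] = true := by
  decide +kernel

set_option maxRecDepth 100000 in
theorem part_6_12_2_9 : dfsN 6 268435456 153903888 [4, 5, 7, 8, 10, 11] = true := by
  decide +kernel

set_option maxRecDepth 100000 in
theorem part_6_12_2_10 : dfsN 6 268435456 170681104 [4, 5, 7, 8, 9, 11] = true := by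
  decide +kernel

set_option maxRecDepth 100000 in
theorem part_6_12_2_11 : dfsN 6 268435456 187458320 [4, 5, 7, 8, 9, 10] = true := by
  decide +kernel

theorem part_6_12_2 : dfsN 7 16777216 2908944 [4, 5, 7, 8, 9, 10, 11] = true := by
  apply dfsN_step 6 16777216 2908944 [4, 5, 7, 8, 9, 10, 11]
  intro v hv
  simp only [List.mem_cons, List.not_mem_nil, or_false] at hv
  rcases hv with rfl | rfl | rfl | rfl | rfl | rfl | rfl
  exacts [part_6_12_2_4, part_6_12_2_5, part_6_12_2_7, part_6_12_2_8, part_6_12_2_9, part_6_12_2_10, part_6_12_2_11]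

set_option maxRecDepth 100000 in
theorem part_6_12_4_2 : dfsN 6 268435456 38560528 [5, 7, 8, 9, 10, 11] = true := by
  decide +kernel

set_option maxRecDepth 100000 in
theorem part_6_12_4_5 : dfsN 6 268435456 88892176 [2, 7, 8, 9, 10, 11] = true := by
  decide +kernel

set_option maxRecDepth 100000 in
theorem part_6_12_4_7 : dfsN 6 268435456 122446608 [2, 5, 8, 9, 10, 11] = true := by
  decide +kernel

set_option maxRecDepth 100000 in
theorem part_6_12_4_8 : dfsN 6 268435456 139223824 [2, 5, 7, 9, 10, 11] = true := by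
  decide +kernel

set_option maxRecDepth 100000 in
theorem part_6_12_4_9 : dfsN 6 268435456 156001040 [2, 5, 7, 8, 10, 11] = true := by
  decide +kernel

set_option maxRecDepth 100000 in
theorem part_6_12_4_10 : dfsN 6 268435456 172778256 [2, 5, 7, 8, 9, 11] = true := by
  decide +kernel

set_option maxRecDepth 100000 in
theorem part_6_12_4_11 : dfsN 6 268435456 189555472 [2, 5, 7, 8, 9, 10] = true := by
  decide +kernel

theorem part_6_12_4 : dfsN 7 16777216 5006096 [2, 5, 7, 8, 9, 10, 11] = true := by
  apply dfsN_step 6 16777216 5006096 [2, 5, 7, 8, 9, 10, 11]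
  intro v hv
  simp only [List.mem_cons, List.not_mem_nil, or_false] at hv
  rcases hv with rfl | rfl | rfl | rfl | rfl | rfl | rfl
  exacts [part_6_12_4_2, part_6_12_4_5, part_6_12_4_7, part_6_12_4_8, part_6_12_4_9, part_6_12_4_10, part_6_12_4_11]

set_option maxRecDepth 100000 in
theorem part_6_12_5_2 : dfsN 6 268435456 39609104 [4, 7, 8, 9, 10, 11] = true := by
  decide +kernel

set_option maxRecDepth 100000 in
theorem part_6_12_5_4 : dfsN 6 268435456 73163536 [2, 7, 8, 9, 10, 11] = true := by
  decide +kernel

set_option maxRecDepth 100000 in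
theorem part_6_12_5_7 : dfsN 6 268435456 123495184 [2, 4, 8, 9, 10, 11] = true := by
  decide +kernel

set_option maxRecDepth 100000 in
theorem part_6_12_5_8 : dfsN 6 268435456 140272400 [2, 4, 7, 9, 10, 11] = true := by
  decide +kernel

set_option maxRecDepth 100000 in
theorem part_6_12_5_9 : dfsN 6 268435456 157049616 [2, 4, 7, 8, 10, 11] = true := by
  decide +kernel

set_option maxRecDepth 100000 in
theorem part_6_12_5_10 : dfsN 6 268435456 173826832 [2, 4, 7, 8, 9, 11] = true := by
  decide +kernel

set_option maxRecDepth 100000 in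
theorem part_6_12_5_11 : dfsN 6 268435456 190604048 [2, 4, 7, 8, 9, 10] = true := by
  decide +kernel

theorem part_6_12_5 : dfsN 7 16777216 6054672 [2, 4, 7, 8, 9, 10, 11] = true := by
  apply dfsN_step 6 16777216 6054672 [2, 4, 7, 8, 9, 10, 11]
  intro v hv
  simp only [List.mem_cons, List.not_mem_nil, or_false] at hv
  rcases hv with rfl | rfl | rfl | rfl | rfl | rfl | rfl
  exacts [part_6_12_5_2, part_6_12_5_4, part_6_12_5_7, part_6_12_5_8, part_6_12_5_9, part_6_12_5_10, part_6_12_5_11]

set_option maxRecDepth 100000 in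
theorem part_6_12_7_2 : dfsN 6 268435456 41706256 [4, 5, 8, 9, 10, 11] = true := by
  decide +kernel

set_option maxRecDepth 100000 in
theorem part_6_12_7_4 : dfsN 6 268435456 75260688 [2, 5, 8, 9, 10, 11] = true := by
  decide +kernel

set_option maxRecDepth 100000 in
theorem part_6_12_7_5 : dfsN 6 268435456 92037904 [2, 4, 8, 9, 10, 11] = true := by
  decide +kernel

set_option maxRecDepth 100000 in
theorem part_6_12_7_8 : dfsN 6 268435456 142369552 [2, 4, 5, 9, 10, 11] = true := by
  decide +kernel

set_option maxRecDepth 100000 in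
theorem part_6_12_7_9 : dfsN 6 268435456 159146768 [2, 4, 5, 8, 10, 11] = true := by
  decide +kernel

set_option maxRecDepth 100000 in
theorem part_6_12_7_10 : dfsN 6 268435456 175923984 [2, 4, 5, 8, 9, 11] = true := by
  decide +kernel

set_option maxRecDepth 100000 in
theorem part_6_12_7_11 : dfsN 6 268435456 192701200 [2, 4, 5, 8, 9, 10] = true := by
  decide +kernel

theorem part_6_12_7 : dfsN 7 16777216 8151824 [2, 4, 5, 8, 9, 10, 11] = true := by
  apply dfsN_step 6 16777216 8151824 [2, 4, 5, 8, 9, 10, 11]
  intro v hv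
  simp only [List.mem_cons, List.not_mem_nil, or_false] at hv
  rcases hv with rfl | rfl | rfl | rfl | rfl | rfl | rfl
  exacts [part_6_12_7_2, part_6_12_7_4, part_6_12_7_5, part_6_12_7_8, part_6_12_7_9, part_6_12_7_10, part_6_12_7_11]

set_option maxRecDepth 100000 in
theorem part_6_12_8_2 : dfsN 6 268435456 42754832 [4, 5, 7, 9, 10, 11] = true := by
  decide +kernel

set_option maxRecDepth 100000 in
theorem part_6_12_8_4 : dfsN 6 268435456 76309264 [2, 5, 7, 9, 10, 11] = true := by
  decide +kernel

set_option maxRecDepth 100000 in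
theorem part_6_12_8_5 : dfsN 6 268435456 93086480 [2, 4, 7, 9, 10, 11] = true := by
  decide +kernel

set_option maxRecDepth 100000 in
theorem part_6_12_8_7 : dfsN 6 268435456 126640912 [2, 4, 5, 9, 10, 11] = true := by
  decide +kernel

set_option maxRecDepth 100000 in
theorem part_6_12_8_9 : dfsN 6 268435456 160195344 [2, 4, 5, 7, 10, 11] = true := by
  decide +kernel

set_option maxRecDepth 100000 in
theorem part_6_12_8_10 : dfsN 6 268435456 176972560 [2, 4, 5, 7, 9, 11] = true := by
  decide +kernel

set_option maxRecDepth 100000 in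
theorem part_6_12_8_11 : dfsN 6 268435456 193749776 [2, 4, 5, 7, 9, 10] = true := by
  decide +kernel

theorem part_6_12_8 : dfsN 7 16777216 9200400 [2, 4, 5, 7, 9, 10, 11] = true := by
  apply dfsN_step 6 16777216 9200400 [2, 4, 5, 7, 9, 10, 11]
  intro v hv
  simp only [List.mem_cons, List.not_mem_nil, or_false] at hv
  rcases hv with rfl | rfl | rfl | rfl | rfl | rfl | rfl
  exacts [part_6_12_8_2, part_6_12_8_4, part_6_12_8_5, part_6_12_8_7, part_6_12_8_9, part_6_12_8_10, part_6_12_8_11]

set_option maxRecDepth 100000 in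
theorem part_6_12_9_2 : dfsN 6 268435456 43803408 [4, 5, 7, 8, 10, 11] = true := by
  decide +kernel

set_option maxRecDepth 100000 in
theorem part_6_12_9_4 : dfsN 6 268435456 77357840 [2, 5, 7, 8, 10, 11] = true := by
  decide +kernel

set_option maxRecDepth 100000 in
theorem part_6_12_9_5 : dfsN 6 268435456 94135056 [2, 4, 7, 8, 10, 11] = true := by
  decide +kernel

set_option maxRecDepth 100000 in
theorem part_6_12_9_7 : dfsN 6 268435456 127689488 [2, 4, 5, 8, 10, 11] = true := by
  decide +kernel

set_option maxRecDepth 100000 in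
theorem part_6_12_9_8 : dfsN 6 268435456 144466704 [2, 4, 5, 7, 10, 11] = true := by
  decide +kernel

set_option maxRecDepth 100000 in
theorem part_6_12_9_10 : dfsN 6 268435456 178021136 [2, 4, 5, 7, 8, 11] = true := by
  decide +kernel

set_option maxRecDepth 100000 in
theorem part_6_12_9_11 : dfsN 6 268435456 194798352 [2, 4, 5, 7, 8, 10] = true := by
  decide +kernel

theorem part_6_12_9 : dfsN 7 16777216 10248976 [2, 4, 5, 7, 8, 10, 11] = true := by
  apply dfsN_step 6 16777216 10248976 [2, 4, 5, 7, 8, 10, 11]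
  intro v hv
  simp only [List.mem_cons, List.not_mem_nil, or_false] at hv
  rcases hv with rfl | rfl | rfl | rfl | rfl | rfl | rfl
  exacts [part_6_12_9_2, part_6_12_9_4, part_6_12_9_5, part_6_12_9_7, part_6_12_9_8, part_6_12_9_10, part_6_12_9_11]

set_option maxRecDepth 100000 in
theorem part_6_12_10_2 : dfsN 6 268435456 44851984 [4, 5, 7, 8, 9, 11] = true := by
  decide +kernel

set_option maxRecDepth 100000 in
theorem part_6_12_10_4 : dfsN 6 268435456 78406416 [2, 5, 7, 8, 9, 11] = true := by
  decide +kernel

set_option maxRecDepth 100000 in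
theorem part_6_12_10_5 : dfsN 6 268435456 95183632 [2, 4, 7, 8, 9, 11] = true := by
  decide +kernel

set_option maxRecDepth 100000 in
theorem part_6_12_10_7 : dfsN 6 268435456 128738064 [2, 4, 5, 8, 9, 11] = true := by
  decide +kernel

set_option maxRecDepth 100000 in
theorem part_6_12_10_8 : dfsN 6 268435456 145515280 [2, 4, 5, 7, 9, 11] = true := by
  decide +kernel

set_option maxRecDepth 100000 in
theorem part_6_12_10_9 : dfsN 6 268435456 162292496 [2, 4, 5, 7, 8, 11] = true := by
  decide +kernel

set_option maxRecDepth 100000 in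
theorem part_6_12_10_11 : dfsN 6 268435456 195846928 [2, 4, 5, 7, 8, 9] = true := by
  decide +kernel

theorem part_6_12_10 : dfsN 7 16777216 11297552 [2, 4, 5, 7, 8, 9, 11] = true := by
  apply dfsN_step 6 16777216 11297552 [2, 4, 5, 7, 8, 9, 11]
  intro v hv
  simp only [List.mem_cons, List.not_mem_nil, or_false] at hv
  rcases hv with rfl | rfl | rfl | rfl | rfl | rfl | rfl
  exacts [part_6_12_10_2, part_6_12_10_4, part_6_12_10_5, part_6_12_10_7, part_6_12_10_8, part_6_12_10_9, part_6_12_10_11]

set_option maxRecDepth 100000 in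
theorem part_6_12_11_2 : dfsN 6 268435456 45900560 [4, 5, 7, 8, 9, 10] = true := by
  decide +kernel

set_option maxRecDepth 100000 in
theorem part_6_12_11_4 : dfsN 6 268435456 79454992 [2, 5, 7, 8, 9, 10] = true := by
  decide +kernel

set_option maxRecDepth 100000 in
theorem part_6_12_11_5 : dfsN 6 268435456 96232208 [2, 4, 7, 8, 9, 10] = true := by
  decide +kernel

set_option maxRecDepth 100000 in
theorem part_6_12_11_7 : dfsN 6 268435456 129786640 [2, 4, 5, 8, 9, 10] = true := by
  decide +kernel

set_option maxRecDepth 100000 in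
theorem part_6_12_11_8 : dfsN 6 268435456 146563856 [2, 4, 5, 7, 9, 10] = true := by
  decide +kernel

set_option maxRecDepth 100000 in
theorem part_6_12_11_9 : dfsN 6 268435456 163341072 [2, 4, 5, 7, 8, 10] = true := by
  decide +kernel

set_option maxRecDepth 100000 in
theorem part_6_12_11_10 : dfsN 6 268435456 180118288 [2, 4, 5, 7, 8, 9] = true := by
  decide +kernel

theorem part_6_12_11 : dfsN 7 16777216 12346128 [2, 4, 5, 7, 8, 9, 10] = true := by
  apply dfsN_step 6 16777216 12346128 [2, 4, 5, 7, 8, 9, 10]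
  intro v hv
  simp only [List.mem_cons, List.not_mem_nil, or_false] at hv
  rcases hv with rfl | rfl | rfl | rfl | rfl | rfl | rfl
  exacts [part_6_12_11_2, part_6_12_11_4, part_6_12_11_5, part_6_12_11_7, part_6_12_11_8, part_6_12_11_9, part_6_12_11_10]

theorem part_6_12 : dfsN 8 1048576 811792 [2, 4, 5, 7, 8, 9, 10, 11] = true := by
  apply dfsN_step 7 1048576 811792 [2, 4, 5, 7, 8, 9, 10, 11]
  intro v hv
  simp only [List.mem_cons, List.not_mem_nil, or_false] at hv
  rcases hv with rfl | rfl | rfl | rfl | rfl | rfl | rfl | rfl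
  exacts [part_6_12_2, part_6_12_4, part_6_12_5, part_6_12_7, part_6_12_8, part_6_12_9, part_6_12_10, part_6_12_11]

end Cfsg.Agent.Lib.H16.AG
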