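import Cfsg.Agent.Lib.H16.AG.Step

set_option autoImplicit false

/-! Degree 13, images `0, 1, 3, 7, 2` of `0, 1, 2, 3, 4` fixed: every completion that is an
`11`-cycle has a word `(x ^ b * y ^ a) ^ k` which is a `3`-, `5`- or `7`-cycle
(small kernel computations, one per pair of images of `5, 6`). -/

namespace Cfsg.Agent.Lib.H16.AG

set_option maxRecDepth 100000 in
theorem part_7_2_4_5 : dfsN 6 268435456 88240912 [6, 8, 9, 10, 11, 12] = true := by
  decide +kernel

set_option maxRecDepth 100000 in
theorem part_7_2_4_6 : dfsN 6 268435456 105018128 [5, 8, 9, 10, 11, 12] = true := by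
  decide +kernel

set_option maxRecDepth 100000 in
theorem part_7_2_4_8 : dfsN 6 268435456 138572560 [5, 6, 9, 10, 11, 12] = true := by
  decide +kernel

set_option maxRecDepth 100000 in
theorem part_7_2_4_9 : dfsN 6 268435456 155349776 [5, 6, 8, 10, 11, 12] = true := by
  decide +kernel

set_option maxRecDepth 100000 in
theorem part_7_2_4_10 : dfsN 6 268435456 172126992 [5, 6, 8, 9, 11, 12] = true := by
  decide +kernel

set_option maxRecDepth 100000 in
theorem part_7_2_4_11 : dfsN 6 268435456 188904208 [5, 6, 8, 9, 10, 12] = true := by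
  decide +kernel

set_option maxRecDepth 100000 in
theorem part_7_2_4_12 : dfsN 6 268435456 205681424 [5, 6, 8, 9, 10, 11] = true := by
  decide +kernel

theorem part_7_2_4 : dfsN 7 16777216 4354832 [5, 6, 8, 9, 10, 11, 12] = true := by
  apply dfsN_step 6 16777216 4354832 [5, 6, 8, 9, 10, 11, 12]
  intro v hv
  simp only [List.mem_cons, List.not_mem_nil, or_false] at hv
  rcases hv with rfl | rfl | rfl | rfl | rfl | rfl | rfl
  exacts [part_7_2_4_5, part_7_2_4_6, part_7_2_4_8, part_7_2_4_9, part_7_2_4_10, part_7_2_4_11, part_7_2_4_12]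

set_option maxRecDepth 100000 in
theorem part_7_2_5_4 : dfsN 6 268435456 72512272 [6, 8, 9, 10, 11, 12] = true := by
  decide +kernel

set_option maxRecDepth 100000 in
theorem part_7_2_5_6 : dfsN 6 268435456 106066704 [4, 8, 9, 10, 11, 12] = true := by
  decide +kernel

set_option maxRecDepth 100000 in
theorem part_7_2_5_8 : dfsN 6 268435456 139621136 [4, 6, 9, 10, 11, 12] = true := by
  decide +kernel

set_option maxRecDepth 100000 in
theorem part_7_2_5_9 : dfsN 6 268435456 156398352 [4, 6, 8, 10, 11, 12] = true := by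
  decide +kernel

set_option maxRecDepth 100000 in
theorem part_7_2_5_10 : dfsN 6 268435456 173175568 [4, 6, 8, 9, 11, 12] = true := by
  decide +kernel

set_option maxRecDepth 100000 in
theorem part_7_2_5_11 : dfsN 6 268435456 189952784 [4, 6, 8, 9, 10, 12] = true := by
  decide +kernel

set_option maxRecDepth 100000 in
theorem part_7_2_5_12 : dfsN 6 268435456 206730000 [4, 6, 8, 9, 10, 11] = true := by
  decide +kernel

theorem part_7_2_5 : dfsN 7 16777216 5403408 [4, 6, 8, 9, 10, 11, 12] = true := by
  apply dfsN_step 6 16777216 5403408 [4, 6, 8, 9, 10, 11, 12]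
  intro v hv
  simp only [List.mem_cons, List.not_mem_nil, or_false] at hv
  rcases hv with rfl | rfl | rfl | rfl | rfl | rfl | rfl
  exacts [part_7_2_5_4, part_7_2_5_6, part_7_2_5_8, part_7_2_5_9, part_7_2_5_10, part_7_2_5_11, part_7_2_5_12]

set_option maxRecDepth 100000 in
theorem part_7_2_6_4 : dfsN 6 268435456 73560848 [5, 8, 9, 10, 11, 12] = true := by
  decide +kernel

set_option maxRecDepth 100000 in
theorem part_7_2_6_5 : dfsN 6 268435456 90338064 [4, 8, 9, 10, 11, 12] = true := by
  decide +kernel

set_option maxRecDepth 100000 in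
theorem part_7_2_6_8 : dfsN 6 268435456 140669712 [4, 5, 9, 10, 11, 12] = true := by
  decide +kernel

set_option maxRecDepth 100000 in
theorem part_7_2_6_9 : dfsN 6 268435456 157446928 [4, 5, 8, 10, 11, 12] = true := by
  decide +kernel

set_option maxRecDepth 100000 in
theorem part_7_2_6_10 : dfsN 6 268435456 174224144 [4, 5, 8, 9, 11, 12] = true := by
  decide +kernel

set_option maxRecDepth 100000 in
theorem part_7_2_6_11 : dfsN 6 268435456 191001360 [4, 5, 8, 9, 10, 12] = true := by
  decide +kernel

set_option maxRecDepth 100000 in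
theorem part_7_2_6_12 : dfsN 6 268435456 207778576 [4, 5, 8, 9, 10, 11] = true := by
  decide +kernel

theorem part_7_2_6 : dfsN 7 16777216 6451984 [4, 5, 8, 9, 10, 11, 12] = true := by
  apply dfsN_step 6 16777216 6451984 [4, 5, 8, 9, 10, 11, 12]
  intro v hv
  simp only [List.mem_cons, List.not_mem_nil, or_false] at hv
  rcases hv with rfl | rfl | rfl | rfl | rfl | rfl | rfl
  exacts [part_7_2_6_4, part_7_2_6_5, part_7_2_6_8, part_7_2_6_9, part_7_2_6_10, part_7_2_6_11, part_7_2_6_12]

set_option maxRecDepth 100000 in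
theorem part_7_2_8_4 : dfsN 6 268435456 75658000 [5, 6, 9, 10, 11, 12] = true := by
  decide +kernel

set_option maxRecDepth 100000 in
theorem part_7_2_8_5 : dfsN 6 268435456 92435216 [4, 6, 9, 10, 11, 12] = true := by
  decide +kernel

set_option maxRecDepth 100000 in
theorem part_7_2_8_6 : dfsN 6 268435456 109212432 [4, 5, 9, 10, 11, 12] = true := by
  decide +kernel

set_option maxRecDepth 100000 in
theorem part_7_2_8_9 : dfsN 6 268435456 159544080 [4, 5, 6, 10, 11, 12] = true := by
  decide +kernel

set_option maxRecDepth 100000 in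
theorem part_7_2_8_10 : dfsN 6 268435456 176321296 [4, 5, 6, 9, 11, 12] = true := by
  decide +kernel

set_option maxRecDepth 100000 in
theorem part_7_2_8_11 : dfsN 6 268435456 193098512 [4, 5, 6, 9, 10, 12] = true := by
  decide +kernel

set_option maxRecDepth 100000 in
theorem part_7_2_8_12 : dfsN 6 268435456 209875728 [4, 5, 6, 9, 10, 11] = true := by
  decide +kernel

theorem part_7_2_8 : dfsN 7 16777216 8549136 [4, 5, 6, 9, 10, 11, 12] = true := by
  apply dfsN_step 6 16777216 8549136 [4, 5, 6, 9, 10, 11, 12]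
  intro v hv
  simp only [List.mem_cons, List.not_mem_nil, or_false] at hv
  rcases hv with rfl | rfl | rfl | rfl | rfl | rfl | rfl
  exacts [part_7_2_8_4, part_7_2_8_5, part_7_2_8_6, part_7_2_8_9, part_7_2_8_10, part_7_2_8_11, part_7_2_8_12]

set_option maxRecDepth 100000 in
theorem part_7_2_9_4 : dfsN 6 268435456 76706576 [5, 6, 8, 10, 11, 12] = true := by
  decide +kernel

set_option maxRecDepth 100000 in
theorem part_7_2_9_5 : dfsN 6 268435456 93483792 [4, 6, 8, 10, 11, 12] = true := by
  decide +kernel

set_option maxRecDepth 100000 in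
theorem part_7_2_9_6 : dfsN 6 268435456 110261008 [4, 5, 8, 10, 11, 12] = true := by
  decide +kernel

set_option maxRecDepth 100000 in
theorem part_7_2_9_8 : dfsN 6 268435456 143815440 [4, 5, 6, 10, 11, 12] = true := by
  decide +kernel

set_option maxRecDepth 100000 in
theorem part_7_2_9_10 : dfsN 6 268435456 177369872 [4, 5, 6, 8, 11, 12] = true := by
  decide +kernel

set_option maxRecDepth 100000 in
theorem part_7_2_9_11 : dfsN 6 268435456 194147088 [4, 5, 6, 8, 10, 12] = true := by
  decide +kernel

set_option maxRecDepth 100000 in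
theorem part_7_2_9_12 : dfsN 6 268435456 210924304 [4, 5, 6, 8, 10, 11] = true := by
  decide +kernel

theorem part_7_2_9 : dfsN 7 16777216 9597712 [4, 5, 6, 8, 10, 11, 12] = true := by
  apply dfsN_step 6 16777216 9597712 [4, 5, 6, 8, 10, 11, 12]
  intro v hv
  simp only [List.mem_cons, List.not_mem_nil, or_false] at hv
  rcases hv with rfl | rfl | rfl | rfl | rfl | rfl | rfl
  exacts [part_7_2_9_4, part_7_2_9_5, part_7_2_9_6, part_7_2_9_8, part_7_2_9_10, part_7_2_9_11, part_7_2_9_12]

set_option maxRecDepth 100000 in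
theorem part_7_2_10_4 : dfsN 6 268435456 77755152 [5, 6, 8, 9, 11, 12] = true := by
  decide +kernel

set_option maxRecDepth 100000 in
theorem part_7_2_10_5 : dfsN 6 268435456 94532368 [4, 6, 8, 9, 11, 12] = true := by
  decide +kernel

set_option maxRecDepth 100000 in
theorem part_7_2_10_6 : dfsN 6 268435456 111309584 [4, 5, 8, 9, 11, 12] = true := by
  decide +kernel

set_option maxRecDepth 100000 in
theorem part_7_2_10_8 : dfsN 6 268435456 144864016 [4, 5, 6, 9, 11, 12] = true := by
  decide +kernel

set_option maxRecDepth 100000 in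
theorem part_7_2_10_9 : dfsN 6 268435456 161641232 [4, 5, 6, 8, 11, 12] = true := by
  decide +kernel

set_option maxRecDepth 100000 in
theorem part_7_2_10_11 : dfsN 6 268435456 195195664 [4, 5, 6, 8, 9, 12] = true := by
  decide +kernel

set_option maxRecDepth 100000 in
theorem part_7_2_10_12 : dfsN 6 268435456 211972880 [4, 5, 6, 8, 9, 11] = true := by
  decide +kernel

theorem part_7_2_10 : dfsN 7 16777216 10646288 [4, 5, 6, 8, 9, 11, 12] = true := by
  apply dfsN_step 6 16777216 10646288 [4, 5, 6, 8, 9, 11, 12]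
  intro v hv
  simp only [List.mem_cons, List.not_mem_nil, or_false] at hv
  rcases hv with rfl | rfl | rfl | rfl | rfl | rfl | rfl
  exacts [part_7_2_10_4, part_7_2_10_5, part_7_2_10_6, part_7_2_10_8, part_7_2_10_9, part_7_2_10_11, part_7_2_10_12]

set_option maxRecDepth 100000 in
theorem part_7_2_11_4 : dfsN 6 268435456 78803728 [5, 6, 8, 9, 10, 12] = true := by
  decide +kernel

set_option maxRecDepth 100000 in
theorem part_7_2_11_5 : dfsN 6 268435456 95580944 [4, 6, 8, 9, 10, 12] = true := by
  decide +kernel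

set_option maxRecDepth 100000 in
theorem part_7_2_11_6 : dfsN 6 268435456 112358160 [4, 5, 8, 9, 10, 12] = true := by
  decide +kernel

set_option maxRecDepth 100000 in
theorem part_7_2_11_8 : dfsN 6 268435456 145912592 [4, 5, 6, 9, 10, 12] = true := by
  decide +kernel

set_option maxRecDepth 100000 in
theorem part_7_2_11_9 : dfsN 6 268435456 162689808 [4, 5, 6, 8, 10, 12] = true := by
  decide +kernel

set_option maxRecDepth 100000 in
theorem part_7_2_11_10 : dfsN 6 268435456 179467024 [4, 5, 6, 8, 9, 12] = true := by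
  decide +kernel

set_option maxRecDepth 100000 in
theorem part_7_2_11_12 : dfsN 6 268435456 213021456 [4, 5, 6, 8, 9, 10] = true := by
  decide +kernel

theorem part_7_2_11 : dfsN 7 16777216 11694864 [4, 5, 6, 8, 9, 10, 12] = true := by
  apply dfsN_step 6 16777216 11694864 [4, 5, 6, 8, 9, 10, 12]
  intro v hv
  simp only [List.mem_cons, List.not_mem_nil, or_false] at hv
  rcases hv with rfl | rfl | rfl | rfl | rfl | rfl | rfl
  exacts [part_7_2_11_4, part_7_2_11_5, part_7_2_11_6, part_7_2_11_8, part_7_2_11_9, part_7_2_11_10, part_7_2_11_12]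

set_option maxRecDepth 100000 in
theorem part_7_2_12_4 : dfsN 6 268435456 79852304 [5, 6, 8, 9, 10, 11] = true := by
  decide +kernel

set_option maxRecDepth 100000 in
theorem part_7_2_12_5 : dfsN 6 268435456 96629520 [4, 6, 8, 9, 10, 11] = true := by
  decide +kernel

set_option maxRecDepth 100000 in
theorem part_7_2_12_6 : dfsN 6 268435456 113406736 [4, 5, 8, 9, 10, 11] = true := by
  decide +kernel

set_option maxRecDepth 100000 in
theorem part_7_2_12_8 : dfsN 6 268435456 146961168 [4, 5, 6, 9, 10, 11] = true := by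
  decide +kernel

set_option maxRecDepth 100000 in
theorem part_7_2_12_9 : dfsN 6 268435456 163738384 [4, 5, 6, 8, 10, 11] = true := by
  decide +kernel

set_option maxRecDepth 100000 in
theorem part_7_2_12_10 : dfsN 6 268435456 180515600 [4, 5, 6, 8, 9, 11] = true := by
  decide +kernel

set_option maxRecDepth 100000 in
theorem part_7_2_12_11 : dfsN 6 268435456 197292816 [4, 5, 6, 8, 9, 10] = true := by
  decide +kernel

theorem part_7_2_12 : dfsN 7 16777216 12743440 [4, 5, 6, 8, 9, 10, 11] = true := by
  apply dfsN_step 6 16777216 12743440 [4, 5, 6, 8, 9, 10, 11]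
  intro v hv
  simp only [List.mem_cons, List.not_mem_nil, or_false] at hv
  rcases hv with rfl | rfl | rfl | rfl | rfl | rfl | rfl
  exacts [part_7_2_12_4, part_7_2_12_5, part_7_2_12_6, part_7_2_12_8, part_7_2_12_9, part_7_2_12_10, part_7_2_12_11]

theorem part_7_2 : dfsN 8 1048576 160528 [4, 5, 6, 8, 9, 10, 11, 12] = true := by
  apply dfsN_step 7 1048576 160528 [4, 5, 6, 8, 9, 10, 11, 12]
  intro v hv
  simp only [List.mem_cons, List.not_mem_nil, or_false] at hv
  rcases hv with rfl | rfl | rfl | rfl | rfl | rfl | rfl | rfl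
  exacts [part_7_2_4, part_7_2_5, part_7_2_6, part_7_2_8, part_7_2_9, part_7_2_10, part_7_2_11, part_7_2_12]

end Cfsg.Agent.Lib.H16.AG
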