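import Cfsg.Agent.Lib.H16.AG.Step

set_option autoImplicit false

/-! Degree 13, images `0, 1, 3, 7, 4` of `0, 1, 2, 3, 4` fixed: every completion that is an
`11`-cycle has a word `(x ^ b * y ^ a) ^ k` which is a `3`-, `5`- or `7`-cycle
(small kernel computations, one per pair of images of `5, 6`). -/

namespace Cfsg.Agent.Lib.H16.AG

set_option maxRecDepth 100000 in
theorem part_7_4_2_5 : dfsN 6 268435456 86274832 [6, 8, 9, 10, 11, 12] = true := by
  decide +kernel

set_option maxRecDepth 100000 in
theorem part_7_4_2_6 : dfsN 6 268435456 103052048 [5, 8, 9, 10, 11, 12] = true := by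
  decide +kernel

set_option maxRecDepth 100000 in
theorem part_7_4_2_8 : dfsN 6 268435456 136606480 [5, 6, 9, 10, 11, 12] = true := by
  decide +kernel

set_option maxRecDepth 100000 in
theorem part_7_4_2_9 : dfsN 6 268435456 153383696 [5, 6, 8, 10, 11, 12] = true := by
  decide +kernel

set_option maxRecDepth 100000 in
theorem part_7_4_2_10 : dfsN 6 268435456 170160912 [5, 6, 8, 9, 11, 12] = true := by
  decide +kernel

set_option maxRecDepth 100000 in
theorem part_7_4_2_11 : dfsN 6 268435456 186938128 [5, 6, 8, 9, 10, 12] = true := by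
  decide +kernel

set_option maxRecDepth 100000 in
theorem part_7_4_2_12 : dfsN 6 268435456 203715344 [5, 6, 8, 9, 10, 11] = true := by
  decide +kernel

theorem part_7_4_2 : dfsN 7 16777216 2388752 [5, 6, 8, 9, 10, 11, 12] = true := by
  apply dfsN_step 6 16777216 2388752 [5, 6, 8, 9, 10, 11, 12]
  intro v hv
  simp only [List.mem_cons, List.not_mem_nil, or_false] at hv
  rcases hv with rfl | rfl | rfl | rfl | rfl | rfl | rfl
  exacts [part_7_4_2_5, part_7_4_2_6, part_7_4_2_8, part_7_4_2_9, part_7_4_2_10, part_7_4_2_11, part_7_4_2_12]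

set_option maxRecDepth 100000 in
theorem part_7_4_5_2 : dfsN 6 268435456 39088912 [6, 8, 9, 10, 11, 12] = true := by
  decide +kernel

set_option maxRecDepth 100000 in
theorem part_7_4_5_6 : dfsN 6 268435456 106197776 [2, 8, 9, 10, 11, 12] = true := by
  decide +kernel

set_option maxRecDepth 100000 in
theorem part_7_4_5_8 : dfsN 6 268435456 139752208 [2, 6, 9, 10, 11, 12] = true := by
  decide +kernel

set_option maxRecDepth 100000 in
theorem part_7_4_5_9 : dfsN 6 268435456 156529424 [2, 6, 8, 10, 11, 12] = true := by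
  decide +kernel

set_option maxRecDepth 100000 in
theorem part_7_4_5_10 : dfsN 6 268435456 173306640 [2, 6, 8, 9, 11, 12] = true := by
  decide +kernel

set_option maxRecDepth 100000 in
theorem part_7_4_5_11 : dfsN 6 268435456 190083856 [2, 6, 8, 9, 10, 12] = true := by
  decide +kernel

set_option maxRecDepth 100000 in
theorem part_7_4_5_12 : dfsN 6 268435456 206861072 [2, 6, 8, 9, 10, 11] = true := by
  decide +kernel

theorem part_7_4_5 : dfsN 7 16777216 5534480 [2, 6, 8, 9, 10, 11, 12] = true := by
  apply dfsN_step 6 16777216 5534480 [2, 6, 8, 9, 10, 11, 12]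
  intro v hv
  simp only [List.mem_cons, List.not_mem_nil, or_false] at hv
  rcases hv with rfl | rfl | rfl | rfl | rfl | rfl | rfl
  exacts [part_7_4_5_2, part_7_4_5_6, part_7_4_5_8, part_7_4_5_9, part_7_4_5_10, part_7_4_5_11, part_7_4_5_12]

set_option maxRecDepth 100000 in
theorem part_7_4_6_2 : dfsN 6 268435456 40137488 [5, 8, 9, 10, 11, 12] = true := by
  decide +kernel

set_option maxRecDepth 100000 in
theorem part_7_4_6_5 : dfsN 6 268435456 90469136 [2, 8, 9, 10, 11, 12] = true := by
  decide +kernel

set_option maxRecDepth 100000 in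
theorem part_7_4_6_8 : dfsN 6 268435456 140800784 [2, 5, 9, 10, 11, 12] = true := by
  decide +kernel

set_option maxRecDepth 100000 in
theorem part_7_4_6_9 : dfsN 6 268435456 157578000 [2, 5, 8, 10, 11, 12] = true := by
  decide +kernel

set_option maxRecDepth 100000 in
theorem part_7_4_6_10 : dfsN 6 268435456 174355216 [2, 5, 8, 9, 11, 12] = true := by
  decide +kernel

set_option maxRecDepth 100000 in
theorem part_7_4_6_11 : dfsN 6 268435456 191132432 [2, 5, 8, 9, 10, 12] = true := by
  decide +kernel

set_option maxRecDepth 100000 in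
theorem part_7_4_6_12 : dfsN 6 268435456 207909648 [2, 5, 8, 9, 10, 11] = true := by
  decide +kernel

theorem part_7_4_6 : dfsN 7 16777216 6583056 [2, 5, 8, 9, 10, 11, 12] = true := by
  apply dfsN_step 6 16777216 6583056 [2, 5, 8, 9, 10, 11, 12]
  intro v hv
  simp only [List.mem_cons, List.not_mem_nil, or_false] at hv
  rcases hv with rfl | rfl | rfl | rfl | rfl | rfl | rfl
  exacts [part_7_4_6_2, part_7_4_6_5, part_7_4_6_8, part_7_4_6_9, part_7_4_6_10, part_7_4_6_11, part_7_4_6_12]

set_option maxRecDepth 100000 in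
theorem part_7_4_8_2 : dfsN 6 268435456 42234640 [5, 6, 9, 10, 11, 12] = true := by
  decide +kernel

set_option maxRecDepth 100000 in
theorem part_7_4_8_5 : dfsN 6 268435456 92566288 [2, 6, 9, 10, 11, 12] = true := by
  decide +kernel

set_option maxRecDepth 100000 in
theorem part_7_4_8_6 : dfsN 6 268435456 109343504 [2, 5, 9, 10, 11, 12] = true := by
  decide +kernel

set_option maxRecDepth 100000 in
theorem part_7_4_8_9 : dfsN 6 268435456 159675152 [2, 5, 6, 10, 11, 12] = true := by
  decide +kernel

set_option maxRecDepth 100000 in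
theorem part_7_4_8_10 : dfsN 6 268435456 176452368 [2, 5, 6, 9, 11, 12] = true := by
  decide +kernel

set_option maxRecDepth 100000 in
theorem part_7_4_8_11 : dfsN 6 268435456 193229584 [2, 5, 6, 9, 10, 12] = true := by
  decide +kernel

set_option maxRecDepth 100000 in
theorem part_7_4_8_12 : dfsN 6 268435456 210006800 [2, 5, 6, 9, 10, 11] = true := by
  decide +kernel

theorem part_7_4_8 : dfsN 7 16777216 8680208 [2, 5, 6, 9, 10, 11, 12] = true := by
  apply dfsN_step 6 16777216 8680208 [2, 5, 6, 9, 10, 11, 12]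
  intro v hv
  simp only [List.mem_cons, List.not_mem_nil, or_false] at hv
  rcases hv with rfl | rfl | rfl | rfl | rfl | rfl | rfl
  exacts [part_7_4_8_2, part_7_4_8_5, part_7_4_8_6, part_7_4_8_9, part_7_4_8_10, part_7_4_8_11, part_7_4_8_12]

set_option maxRecDepth 100000 in
theorem part_7_4_9_2 : dfsN 6 268435456 43283216 [5, 6, 8, 10, 11, 12] = true := by
  decide +kernel

set_option maxRecDepth 100000 in
theorem part_7_4_9_5 : dfsN 6 268435456 93614864 [2, 6, 8, 10, 11, 12] = true := by
  decide +kernel

set_option maxRecDepth 100000 in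
theorem part_7_4_9_6 : dfsN 6 268435456 110392080 [2, 5, 8, 10, 11, 12] = true := by
  decide +kernel

set_option maxRecDepth 100000 in
theorem part_7_4_9_8 : dfsN 6 268435456 143946512 [2, 5, 6, 10, 11, 12] = true := by
  decide +kernel

set_option maxRecDepth 100000 in
theorem part_7_4_9_10 : dfsN 6 268435456 177500944 [2, 5, 6, 8, 11, 12] = true := by
  decide +kernel

set_option maxRecDepth 100000 in
theorem part_7_4_9_11 : dfsN 6 268435456 194278160 [2, 5, 6, 8, 10, 12] = true := by
  decide +kernel

set_option maxRecDepth 100000 in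
theorem part_7_4_9_12 : dfsN 6 268435456 211055376 [2, 5, 6, 8, 10, 11] = true := by
  decide +kernel

theorem part_7_4_9 : dfsN 7 16777216 9728784 [2, 5, 6, 8, 10, 11, 12] = true := by
  apply dfsN_step 6 16777216 9728784 [2, 5, 6, 8, 10, 11, 12]
  intro v hv
  simp only [List.mem_cons, List.not_mem_nil, or_false] at hv
  rcases hv with rfl | rfl | rfl | rfl | rfl | rfl | rfl
  exacts [part_7_4_9_2, part_7_4_9_5, part_7_4_9_6, part_7_4_9_8, part_7_4_9_10, part_7_4_9_11, part_7_4_9_12]

set_option maxRecDepth 100000 in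
theorem part_7_4_10_2 : dfsN 6 268435456 44331792 [5, 6, 8, 9, 11, 12] = true := by
  decide +kernel

set_option maxRecDepth 100000 in
theorem part_7_4_10_5 : dfsN 6 268435456 94663440 [2, 6, 8, 9, 11, 12] = true := by
  decide +kernel

set_option maxRecDepth 100000 in
theorem part_7_4_10_6 : dfsN 6 268435456 111440656 [2, 5, 8, 9, 11, 12] = true := by
  decide +kernel

set_option maxRecDepth 100000 in
theorem part_7_4_10_8 : dfsN 6 268435456 144995088 [2, 5, 6, 9, 11, 12] = true := by
  decide +kernel

set_option maxRecDepth 100000 in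
theorem part_7_4_10_9 : dfsN 6 268435456 161772304 [2, 5, 6, 8, 11, 12] = true := by
  decide +kernel

set_option maxRecDepth 100000 in
theorem part_7_4_10_11 : dfsN 6 268435456 195326736 [2, 5, 6, 8, 9, 12] = true := by
  decide +kernel

set_option maxRecDepth 100000 in
theorem part_7_4_10_12 : dfsN 6 268435456 212103952 [2, 5, 6, 8, 9, 11] = true := by
  decide +kernel

theorem part_7_4_10 : dfsN 7 16777216 10777360 [2, 5, 6, 8, 9, 11, 12] = true := by
  apply dfsN_step 6 16777216 10777360 [2, 5, 6, 8, 9, 11, 12]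
  intro v hv
  simp only [List.mem_cons, List.not_mem_nil, or_false] at hv
  rcases hv with rfl | rfl | rfl | rfl | rfl | rfl | rfl
  exacts [part_7_4_10_2, part_7_4_10_5, part_7_4_10_6, part_7_4_10_8, part_7_4_10_9, part_7_4_10_11, part_7_4_10_12]

set_option maxRecDepth 100000 in
theorem part_7_4_11_2 : dfsN 6 268435456 45380368 [5, 6, 8, 9, 10, 12] = true := by
  decide +kernel

set_option maxRecDepth 100000 in
theorem part_7_4_11_5 : dfsN 6 268435456 95712016 [2, 6, 8, 9, 10, 12] = true := by
  decide +kernel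

set_option maxRecDepth 100000 in
theorem part_7_4_11_6 : dfsN 6 268435456 112489232 [2, 5, 8, 9, 10, 12] = true := by
  decide +kernel

set_option maxRecDepth 100000 in
theorem part_7_4_11_8 : dfsN 6 268435456 146043664 [2, 5, 6, 9, 10, 12] = true := by
  decide +kernel

set_option maxRecDepth 100000 in
theorem part_7_4_11_9 : dfsN 6 268435456 162820880 [2, 5, 6, 8, 10, 12] = true := by
  decide +kernel

set_option maxRecDepth 100000 in
theorem part_7_4_11_10 : dfsN 6 268435456 179598096 [2, 5, 6, 8, 9, 12] = true := by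
  decide +kernel

set_option maxRecDepth 100000 in
theorem part_7_4_11_12 : dfsN 6 268435456 213152528 [2, 5, 6, 8, 9, 10] = true := by
  decide +kernel

theorem part_7_4_11 : dfsN 7 16777216 11825936 [2, 5, 6, 8, 9, 10, 12] = true := by
  apply dfsN_step 6 16777216 11825936 [2, 5, 6, 8, 9, 10, 12]
  intro v hv
  simp only [List.mem_cons, List.not_mem_nil, or_false] at hv
  rcases hv with rfl | rfl | rfl | rfl | rfl | rfl | rfl
  exacts [part_7_4_11_2, part_7_4_11_5, part_7_4_11_6, part_7_4_11_8, part_7_4_11_9, part_7_4_11_10, part_7_4_11_12]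

set_option maxRecDepth 100000 in
theorem part_7_4_12_2 : dfsN 6 268435456 46428944 [5, 6, 8, 9, 10, 11] = true := by
  decide +kernel

set_option maxRecDepth 100000 in
theorem part_7_4_12_5 : dfsN 6 268435456 96760592 [2, 6, 8, 9, 10, 11] = true := by
  decide +kernel

set_option maxRecDepth 100000 in
theorem part_7_4_12_6 : dfsN 6 268435456 113537808 [2, 5, 8, 9, 10, 11] = true := by
  decide +kernel

set_option maxRecDepth 100000 in
theorem part_7_4_12_8 : dfsN 6 268435456 147092240 [2, 5, 6, 9, 10, 11] = true := by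
  decide +kernel

set_option maxRecDepth 100000 in
theorem part_7_4_12_9 : dfsN 6 268435456 163869456 [2, 5, 6, 8, 10, 11] = true := by
  decide +kernel

set_option maxRecDepth 100000 in
theorem part_7_4_12_10 : dfsN 6 268435456 180646672 [2, 5, 6, 8, 9, 11] = true := by
  decide +kernel

set_option maxRecDepth 100000 in
theorem part_7_4_12_11 : dfsN 6 268435456 197423888 [2, 5, 6, 8, 9, 10] = true := by
  decide +kernel

theorem part_7_4_12 : dfsN 7 16777216 12874512 [2, 5, 6, 8, 9, 10, 11] = true := by
  apply dfsN_step 6 16777216 12874512 [2, 5, 6, 8, 9, 10, 11]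
  intro v hv
  simp only [List.mem_cons, List.not_mem_nil, or_false] at hv
  rcases hv with rfl | rfl | rfl | rfl | rfl | rfl | rfl
  exacts [part_7_4_12_2, part_7_4_12_5, part_7_4_12_6, part_7_4_12_8, part_7_4_12_9, part_7_4_12_10, part_7_4_12_11]

theorem part_7_4 : dfsN 8 1048576 291600 [2, 5, 6, 8, 9, 10, 11, 12] = true := by
  apply dfsN_step 7 1048576 291600 [2, 5, 6, 8, 9, 10, 11, 12]
  intro v hv
  simp only [List.mem_cons, List.not_mem_nil, or_false] at hv
  rcases hv with rfl | rfl | rfl | rfl | rfl | rfl | rfl | rfl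
  exacts [part_7_4_2, part_7_4_5, part_7_4_6, part_7_4_8, part_7_4_9, part_7_4_10, part_7_4_11, part_7_4_12]

end Cfsg.Agent.Lib.H16.AG
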