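import Cfsg.Agent.Lib.H16.AG.Step

set_option autoImplicit false

/-! Degree 13, images `0, 1, 3, 7, 6` of `0, 1, 2, 3, 4` fixed: every completion that is an
`11`-cycle has a word `(x ^ b * y ^ a) ^ k` which is a `3`-, `5`- or `7`-cycle
(small kernel computations, one per pair of images of `5, 6`). -/

namespace Cfsg.Agent.Lib.H16.AG

set_option maxRecDepth 100000 in
theorem part_7_6_2_4 : dfsN 6 268435456 69628688 [5, 8, 9, 10, 11, 12] = true := by
  decide +kernel

set_option maxRecDepth 100000 in
theorem part_7_6_2_5 : dfsN 6 268435456 86405904 [4, 8, 9, 10, 11, 12] = true := by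
  decide +kernel

set_option maxRecDepth 100000 in
theorem part_7_6_2_8 : dfsN 6 268435456 136737552 [4, 5, 9, 10, 11, 12] = true := by
  decide +kernel

set_option maxRecDepth 100000 in
theorem part_7_6_2_9 : dfsN 6 268435456 153514768 [4, 5, 8, 10, 11, 12] = true := by
  decide +kernel

set_option maxRecDepth 100000 in
theorem part_7_6_2_10 : dfsN 6 268435456 170291984 [4, 5, 8, 9, 11, 12] = true := by
  decide +kernel

set_option maxRecDepth 100000 in
theorem part_7_6_2_11 : dfsN 6 268435456 187069200 [4, 5, 8, 9, 10, 12] = true := by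
  decide +kernel

set_option maxRecDepth 100000 in
theorem part_7_6_2_12 : dfsN 6 268435456 203846416 [4, 5, 8, 9, 10, 11] = true := by
  decide +kernel

theorem part_7_6_2 : dfsN 7 16777216 2519824 [4, 5, 8, 9, 10, 11, 12] = true := by
  apply dfsN_step 6 16777216 2519824 [4, 5, 8, 9, 10, 11, 12]
  intro v hv
  simp only [List.mem_cons, List.not_mem_nil, or_false] at hv
  rcases hv with rfl | rfl | rfl | rfl | rfl | rfl | rfl
  exacts [part_7_6_2_4, part_7_6_2_5, part_7_6_2_8, part_7_6_2_9, part_7_6_2_10, part_7_6_2_11, part_7_6_2_12]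

set_option maxRecDepth 100000 in
theorem part_7_6_4_2 : dfsN 6 268435456 38171408 [5, 8, 9, 10, 11, 12] = true := by
  decide +kernel

set_option maxRecDepth 100000 in
theorem part_7_6_4_5 : dfsN 6 268435456 88503056 [2, 8, 9, 10, 11, 12] = true := by
  decide +kernel

set_option maxRecDepth 100000 in
theorem part_7_6_4_8 : dfsN 6 268435456 138834704 [2, 5, 9, 10, 11, 12] = true := by
  decide +kernel

set_option maxRecDepth 100000 in
theorem part_7_6_4_9 : dfsN 6 268435456 155611920 [2, 5, 8, 10, 11, 12] = true := by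
  decide +kernel

set_option maxRecDepth 100000 in
theorem part_7_6_4_10 : dfsN 6 268435456 172389136 [2, 5, 8, 9, 11, 12] = true := by
  decide +kernel

set_option maxRecDepth 100000 in
theorem part_7_6_4_11 : dfsN 6 268435456 189166352 [2, 5, 8, 9, 10, 12] = true := by
  decide +kernel

set_option maxRecDepth 100000 in
theorem part_7_6_4_12 : dfsN 6 268435456 205943568 [2, 5, 8, 9, 10, 11] = true := by
  decide +kernel

theorem part_7_6_4 : dfsN 7 16777216 4616976 [2, 5, 8, 9, 10, 11, 12] = true := by
  apply dfsN_step 6 16777216 4616976 [2, 5, 8, 9, 10, 11, 12]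
  intro v hv
  simp only [List.mem_cons, List.not_mem_nil, or_false] at hv
  rcases hv with rfl | rfl | rfl | rfl | rfl | rfl | rfl
  exacts [part_7_6_4_2, part_7_6_4_5, part_7_6_4_8, part_7_6_4_9, part_7_6_4_10, part_7_6_4_11, part_7_6_4_12]

set_option maxRecDepth 100000 in
theorem part_7_6_5_2 : dfsN 6 268435456 39219984 [4, 8, 9, 10, 11, 12] = true := by
  decide +kernel

set_option maxRecDepth 100000 in
theorem part_7_6_5_4 : dfsN 6 268435456 72774416 [2, 8, 9, 10, 11, 12] = true := by
  decide +kernel

set_option maxRecDepth 100000 in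
theorem part_7_6_5_8 : dfsN 6 268435456 139883280 [2, 4, 9, 10, 11, 12] = true := by
  decide +kernel

set_option maxRecDepth 100000 in
theorem part_7_6_5_9 : dfsN 6 268435456 156660496 [2, 4, 8, 10, 11, 12] = true := by
  decide +kernel

set_option maxRecDepth 100000 in
theorem part_7_6_5_10 : dfsN 6 268435456 173437712 [2, 4, 8, 9, 11, 12] = true := by
  decide +kernel

set_option maxRecDepth 100000 in
theorem part_7_6_5_11 : dfsN 6 268435456 190214928 [2, 4, 8, 9, 10, 12] = true := by
  decide +kernel

set_option maxRecDepth 100000 in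
theorem part_7_6_5_12 : dfsN 6 268435456 206992144 [2, 4, 8, 9, 10, 11] = true := by
  decide +kernel

theorem part_7_6_5 : dfsN 7 16777216 5665552 [2, 4, 8, 9, 10, 11, 12] = true := by
  apply dfsN_step 6 16777216 5665552 [2, 4, 8, 9, 10, 11, 12]
  intro v hv
  simp only [List.mem_cons, List.not_mem_nil, or_false] at hv
  rcases hv with rfl | rfl | rfl | rfl | rfl | rfl | rfl
  exacts [part_7_6_5_2, part_7_6_5_4, part_7_6_5_8, part_7_6_5_9, part_7_6_5_10, part_7_6_5_11, part_7_6_5_12]

set_option maxRecDepth 100000 in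
theorem part_7_6_8_2 : dfsN 6 268435456 42365712 [4, 5, 9, 10, 11, 12] = true := by
  decide +kernel

set_option maxRecDepth 100000 in
theorem part_7_6_8_4 : dfsN 6 268435456 75920144 [2, 5, 9, 10, 11, 12] = true := by
  decide +kernel

set_option maxRecDepth 100000 in
theorem part_7_6_8_5 : dfsN 6 268435456 92697360 [2, 4, 9, 10, 11, 12] = true := by
  decide +kernel

set_option maxRecDepth 100000 in
theorem part_7_6_8_9 : dfsN 6 268435456 159806224 [2, 4, 5, 10, 11, 12] = true := by
  decide +kernel

set_option maxRecDepth 100000 in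
theorem part_7_6_8_10 : dfsN 6 268435456 176583440 [2, 4, 5, 9, 11, 12] = true := by
  decide +kernel

set_option maxRecDepth 100000 in
theorem part_7_6_8_11 : dfsN 6 268435456 193360656 [2, 4, 5, 9, 10, 12] = true := by
  decide +kernel

set_option maxRecDepth 100000 in
theorem part_7_6_8_12 : dfsN 6 268435456 210137872 [2, 4, 5, 9, 10, 11] = true := by
  decide +kernel

theorem part_7_6_8 : dfsN 7 16777216 8811280 [2, 4, 5, 9, 10, 11, 12] = true := by
  apply dfsN_step 6 16777216 8811280 [2, 4, 5, 9, 10, 11, 12]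
  intro v hv
  simp only [List.mem_cons, List.not_mem_nil, or_false] at hv
  rcases hv with rfl | rfl | rfl | rfl | rfl | rfl | rfl
  exacts [part_7_6_8_2, part_7_6_8_4, part_7_6_8_5, part_7_6_8_9, part_7_6_8_10, part_7_6_8_11, part_7_6_8_12]

set_option maxRecDepth 100000 in
theorem part_7_6_9_2 : dfsN 6 268435456 43414288 [4, 5, 8, 10, 11, 12] = true := by
  decide +kernel

set_option maxRecDepth 100000 in
theorem part_7_6_9_4 : dfsN 6 268435456 76968720 [2, 5, 8, 10, 11, 12] = true := by
  decide +kernel

set_option maxRecDepth 100000 in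
theorem part_7_6_9_5 : dfsN 6 268435456 93745936 [2, 4, 8, 10, 11, 12] = true := by
  decide +kernel

set_option maxRecDepth 100000 in
theorem part_7_6_9_8 : dfsN 6 268435456 144077584 [2, 4, 5, 10, 11, 12] = true := by
  decide +kernel

set_option maxRecDepth 100000 in
theorem part_7_6_9_10 : dfsN 6 268435456 177632016 [2, 4, 5, 8, 11, 12] = true := by
  decide +kernel

set_option maxRecDepth 100000 in
theorem part_7_6_9_11 : dfsN 6 268435456 194409232 [2, 4, 5, 8, 10, 12] = true := by
  decide +kernel

set_option maxRecDepth 100000 in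
theorem part_7_6_9_12 : dfsN 6 268435456 211186448 [2, 4, 5, 8, 10, 11] = true := by
  decide +kernel

theorem part_7_6_9 : dfsN 7 16777216 9859856 [2, 4, 5, 8, 10, 11, 12] = true := by
  apply dfsN_step 6 16777216 9859856 [2, 4, 5, 8, 10, 11, 12]
  intro v hv
  simp only [List.mem_cons, List.not_mem_nil, or_false] at hv
  rcases hv with rfl | rfl | rfl | rfl | rfl | rfl | rfl
  exacts [part_7_6_9_2, part_7_6_9_4, part_7_6_9_5, part_7_6_9_8, part_7_6_9_10, part_7_6_9_11, part_7_6_9_12]

set_option maxRecDepth 100000 in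
theorem part_7_6_10_2 : dfsN 6 268435456 44462864 [4, 5, 8, 9, 11, 12] = true := by
  decide +kernel

set_option maxRecDepth 100000 in
theorem part_7_6_10_4 : dfsN 6 268435456 78017296 [2, 5, 8, 9, 11, 12] = true := by
  decide +kernel

set_option maxRecDepth 100000 in
theorem part_7_6_10_5 : dfsN 6 268435456 94794512 [2, 4, 8, 9, 11, 12] = true := by
  decide +kernel

set_option maxRecDepth 100000 in
theorem part_7_6_10_8 : dfsN 6 268435456 145126160 [2, 4, 5, 9, 11, 12] = true := by
  decide +kernel

set_option maxRecDepth 100000 in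
theorem part_7_6_10_9 : dfsN 6 268435456 161903376 [2, 4, 5, 8, 11, 12] = true := by
  decide +kernel

set_option maxRecDepth 100000 in
theorem part_7_6_10_11 : dfsN 6 268435456 195457808 [2, 4, 5, 8, 9, 12] = true := by
  decide +kernel

set_option maxRecDepth 100000 in
theorem part_7_6_10_12 : dfsN 6 268435456 212235024 [2, 4, 5, 8, 9, 11] = true := by
  decide +kernel

theorem part_7_6_10 : dfsN 7 16777216 10908432 [2, 4, 5, 8, 9, 11, 12] = true := by
  apply dfsN_step 6 16777216 10908432 [2, 4, 5, 8, 9, 11, 12]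
  intro v hv
  simp only [List.mem_cons, List.not_mem_nil, or_false] at hv
  rcases hv with rfl | rfl | rfl | rfl | rfl | rfl | rfl
  exacts [part_7_6_10_2, part_7_6_10_4, part_7_6_10_5, part_7_6_10_8, part_7_6_10_9, part_7_6_10_11, part_7_6_10_12]

set_option maxRecDepth 100000 in
theorem part_7_6_11_2 : dfsN 6 268435456 45511440 [4, 5, 8, 9, 10, 12] = true := by
  decide +kernel

set_option maxRecDepth 100000 in
theorem part_7_6_11_4 : dfsN 6 268435456 79065872 [2, 5, 8, 9, 10, 12] = true := by
  decide +kernel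

set_option maxRecDepth 100000 in
theorem part_7_6_11_5 : dfsN 6 268435456 95843088 [2, 4, 8, 9, 10, 12] = true := by
  decide +kernel

set_option maxRecDepth 100000 in
theorem part_7_6_11_8 : dfsN 6 268435456 146174736 [2, 4, 5, 9, 10, 12] = true := by
  decide +kernel

set_option maxRecDepth 100000 in
theorem part_7_6_11_9 : dfsN 6 268435456 162951952 [2, 4, 5, 8, 10, 12] = true := by
  decide +kernel

set_option maxRecDepth 100000 in
theorem part_7_6_11_10 : dfsN 6 268435456 179729168 [2, 4, 5, 8, 9, 12] = true := by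
  decide +kernel

set_option maxRecDepth 100000 in
theorem part_7_6_11_12 : dfsN 6 268435456 213283600 [2, 4, 5, 8, 9, 10] = true := by
  decide +kernel

theorem part_7_6_11 : dfsN 7 16777216 11957008 [2, 4, 5, 8, 9, 10, 12] = true := by
  apply dfsN_step 6 16777216 11957008 [2, 4, 5, 8, 9, 10, 12]
  intro v hv
  simp only [List.mem_cons, List.not_mem_nil, or_false] at hv
  rcases hv with rfl | rfl | rfl | rfl | rfl | rfl | rfl
  exacts [part_7_6_11_2, part_7_6_11_4, part_7_6_11_5, part_7_6_11_8, part_7_6_11_9, part_7_6_11_10, part_7_6_11_12]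

set_option maxRecDepth 100000 in
theorem part_7_6_12_2 : dfsN 6 268435456 46560016 [4, 5, 8, 9, 10, 11] = true := by
  decide +kernel

set_option maxRecDepth 100000 in
theorem part_7_6_12_4 : dfsN 6 268435456 80114448 [2, 5, 8, 9, 10, 11] = true := by
  decide +kernel

set_option maxRecDepth 100000 in
theorem part_7_6_12_5 : dfsN 6 268435456 96891664 [2, 4, 8, 9, 10, 11] = true := by
  decide +kernel

set_option maxRecDepth 100000 in
theorem part_7_6_12_8 : dfsN 6 268435456 147223312 [2, 4, 5, 9, 10, 11] = true := by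
  decide +kernel

set_option maxRecDepth 100000 in
theorem part_7_6_12_9 : dfsN 6 268435456 164000528 [2, 4, 5, 8, 10, 11] = true := by
  decide +kernel

set_option maxRecDepth 100000 in
theorem part_7_6_12_10 : dfsN 6 268435456 180777744 [2, 4, 5, 8, 9, 11] = true := by
  decide +kernel

set_option maxRecDepth 100000 in
theorem part_7_6_12_11 : dfsN 6 268435456 197554960 [2, 4, 5, 8, 9, 10] = true := by
  decide +kernel

theorem part_7_6_12 : dfsN 7 16777216 13005584 [2, 4, 5, 8, 9, 10, 11] = true := by
  apply dfsN_step 6 16777216 13005584 [2, 4, 5, 8, 9, 10, 11]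
  intro v hv
  simp only [List.mem_cons, List.not_mem_nil, or_false] at hv
  rcases hv with rfl | rfl | rfl | rfl | rfl | rfl | rfl
  exacts [part_7_6_12_2, part_7_6_12_4, part_7_6_12_5, part_7_6_12_8, part_7_6_12_9, part_7_6_12_10, part_7_6_12_11]

theorem part_7_6 : dfsN 8 1048576 422672 [2, 4, 5, 8, 9, 10, 11, 12] = true := by
  apply dfsN_step 7 1048576 422672 [2, 4, 5, 8, 9, 10, 11, 12]
  intro v hv
  simp only [List.mem_cons, List.not_mem_nil, or_false] at hv
  rcases hv with rfl | rfl | rfl | rfl | rfl | rfl | rfl | rfl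
  exacts [part_7_6_2, part_7_6_4, part_7_6_5, part_7_6_8, part_7_6_9, part_7_6_10, part_7_6_11, part_7_6_12]

end Cfsg.Agent.Lib.H16.AG
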