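import Cfsg.Agent.Lib.H16.AG.Step

set_option autoImplicit false

/-! Degree 13, images `0, 1, 3, 7, 8` of `0, 1, 2, 3, 4` fixed: every completion that is an
`11`-cycle has a word `(x ^ b * y ^ a) ^ k` which is a `3`-, `5`- or `7`-cycle
(small kernel computations, one per pair of images of `5, 6`). -/

namespace Cfsg.Agent.Lib.H16.AG

set_option maxRecDepth 100000 in
theorem part_7_8_2_4 : dfsN 6 268435456 69759760 [5, 6, 9, 10, 11, 12] = true := by
  decide +kernel

set_option maxRecDepth 100000 in
theorem part_7_8_2_5 : dfsN 6 268435456 86536976 [4, 6, 9, 10, 11, 12] = true := by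
  decide +kernel

set_option maxRecDepth 100000 in
theorem part_7_8_2_6 : dfsN 6 268435456 103314192 [4, 5, 9, 10, 11, 12] = true := by
  decide +kernel

set_option maxRecDepth 100000 in
theorem part_7_8_2_9 : dfsN 6 268435456 153645840 [4, 5, 6, 10, 11, 12] = true := by
  decide +kernel

set_option maxRecDepth 100000 in
theorem part_7_8_2_10 : dfsN 6 268435456 170423056 [4, 5, 6, 9, 11, 12] = true := by
  decide +kernel

set_option maxRecDepth 100000 in
theorem part_7_8_2_11 : dfsN 6 268435456 187200272 [4, 5, 6, 9, 10, 12] = true := by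
  decide +kernel

set_option maxRecDepth 100000 in
theorem part_7_8_2_12 : dfsN 6 268435456 203977488 [4, 5, 6, 9, 10, 11] = true := by
  decide +kernel

theorem part_7_8_2 : dfsN 7 16777216 2650896 [4, 5, 6, 9, 10, 11, 12] = true := by
  apply dfsN_step 6 16777216 2650896 [4, 5, 6, 9, 10, 11, 12]
  intro v hv
  simp only [List.mem_cons, List.not_mem_nil, or_false] at hv
  rcases hv with rfl | rfl | rfl | rfl | rfl | rfl | rfl
  exacts [part_7_8_2_4, part_7_8_2_5, part_7_8_2_6, part_7_8_2_9, part_7_8_2_10, part_7_8_2_11, part_7_8_2_12]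

set_option maxRecDepth 100000 in
theorem part_7_8_4_2 : dfsN 6 268435456 38302480 [5, 6, 9, 10, 11, 12] = true := by
  decide +kernel

set_option maxRecDepth 100000 in
theorem part_7_8_4_5 : dfsN 6 268435456 88634128 [2, 6, 9, 10, 11, 12] = true := by
  decide +kernel

set_option maxRecDepth 100000 in
theorem part_7_8_4_6 : dfsN 6 268435456 105411344 [2, 5, 9, 10, 11, 12] = true := by
  decide +kernel

set_option maxRecDepth 100000 in
theorem part_7_8_4_9 : dfsN 6 268435456 155742992 [2, 5, 6, 10, 11, 12] = true := by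
  decide +kernel

set_option maxRecDepth 100000 in
theorem part_7_8_4_10 : dfsN 6 268435456 172520208 [2, 5, 6, 9, 11, 12] = true := by
  decide +kernel

set_option maxRecDepth 100000 in
theorem part_7_8_4_11 : dfsN 6 268435456 189297424 [2, 5, 6, 9, 10, 12] = true := by
  decide +kernel

set_option maxRecDepth 100000 in
theorem part_7_8_4_12 : dfsN 6 268435456 206074640 [2, 5, 6, 9, 10, 11] = true := by
  decide +kernel

theorem part_7_8_4 : dfsN 7 16777216 4748048 [2, 5, 6, 9, 10, 11, 12] = true := by
  apply dfsN_step 6 16777216 4748048 [2, 5, 6, 9, 10, 11, 12]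
  intro v hv
  simp only [List.mem_cons, List.not_mem_nil, or_false] at hv
  rcases hv with rfl | rfl | rfl | rfl | rfl | rfl | rfl
  exacts [part_7_8_4_2, part_7_8_4_5, part_7_8_4_6, part_7_8_4_9, part_7_8_4_10, part_7_8_4_11, part_7_8_4_12]

set_option maxRecDepth 100000 in
theorem part_7_8_5_2 : dfsN 6 268435456 39351056 [4, 6, 9, 10, 11, 12] = true := by
  decide +kernel

set_option maxRecDepth 100000 in
theorem part_7_8_5_4 : dfsN 6 268435456 72905488 [2, 6, 9, 10, 11, 12] = true := by
  decide +kernel

set_option maxRecDepth 100000 in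
theorem part_7_8_5_6 : dfsN 6 268435456 106459920 [2, 4, 9, 10, 11, 12] = true := by
  decide +kernel

set_option maxRecDepth 100000 in
theorem part_7_8_5_9 : dfsN 6 268435456 156791568 [2, 4, 6, 10, 11, 12] = true := by
  decide +kernel

set_option maxRecDepth 100000 in
theorem part_7_8_5_10 : dfsN 6 268435456 173568784 [2, 4, 6, 9, 11, 12] = true := by
  decide +kernel

set_option maxRecDepth 100000 in
theorem part_7_8_5_11 : dfsN 6 268435456 190346000 [2, 4, 6, 9, 10, 12] = true := by
  decide +kernel

set_option maxRecDepth 100000 in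
theorem part_7_8_5_12 : dfsN 6 268435456 207123216 [2, 4, 6, 9, 10, 11] = true := by
  decide +kernel

theorem part_7_8_5 : dfsN 7 16777216 5796624 [2, 4, 6, 9, 10, 11, 12] = true := by
  apply dfsN_step 6 16777216 5796624 [2, 4, 6, 9, 10, 11, 12]
  intro v hv
  simp only [List.mem_cons, List.not_mem_nil, or_false] at hv
  rcases hv with rfl | rfl | rfl | rfl | rfl | rfl | rfl
  exacts [part_7_8_5_2, part_7_8_5_4, part_7_8_5_6, part_7_8_5_9, part_7_8_5_10, part_7_8_5_11, part_7_8_5_12]

set_option maxRecDepth 100000 in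
theorem part_7_8_6_2 : dfsN 6 268435456 40399632 [4, 5, 9, 10, 11, 12] = true := by
  decide +kernel

set_option maxRecDepth 100000 in
theorem part_7_8_6_4 : dfsN 6 268435456 73954064 [2, 5, 9, 10, 11, 12] = true := by
  decide +kernel

set_option maxRecDepth 100000 in
theorem part_7_8_6_5 : dfsN 6 268435456 90731280 [2, 4, 9, 10, 11, 12] = true := by
  decide +kernel

set_option maxRecDepth 100000 in
theorem part_7_8_6_9 : dfsN 6 268435456 157840144 [2, 4, 5, 10, 11, 12] = true := by
  decide +kernel

set_option maxRecDepth 100000 in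
theorem part_7_8_6_10 : dfsN 6 268435456 174617360 [2, 4, 5, 9, 11, 12] = true := by
  decide +kernel

set_option maxRecDepth 100000 in
theorem part_7_8_6_11 : dfsN 6 268435456 191394576 [2, 4, 5, 9, 10, 12] = true := by
  decide +kernel

set_option maxRecDepth 100000 in
theorem part_7_8_6_12 : dfsN 6 268435456 208171792 [2, 4, 5, 9, 10, 11] = true := by
  decide +kernel

theorem part_7_8_6 : dfsN 7 16777216 6845200 [2, 4, 5, 9, 10, 11, 12] = true := by
  apply dfsN_step 6 16777216 6845200 [2, 4, 5, 9, 10, 11, 12]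
  intro v hv
  simp only [List.mem_cons, List.not_mem_nil, or_false] at hv
  rcases hv with rfl | rfl | rfl | rfl | rfl | rfl | rfl
  exacts [part_7_8_6_2, part_7_8_6_4, part_7_8_6_5, part_7_8_6_9, part_7_8_6_10, part_7_8_6_11, part_7_8_6_12]

set_option maxRecDepth 100000 in
theorem part_7_8_9_2 : dfsN 6 268435456 43545360 [4, 5, 6, 10, 11, 12] = true := by
  decide +kernel

set_option maxRecDepth 100000 in
theorem part_7_8_9_4 : dfsN 6 268435456 77099792 [2, 5, 6, 10, 11, 12] = true := by
  decide +kernel

set_option maxRecDepth 100000 in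
theorem part_7_8_9_5 : dfsN 6 268435456 93877008 [2, 4, 6, 10, 11, 12] = true := by
  decide +kernel

set_option maxRecDepth 100000 in
theorem part_7_8_9_6 : dfsN 6 268435456 110654224 [2, 4, 5, 10, 11, 12] = true := by
  decide +kernel

set_option maxRecDepth 100000 in
theorem part_7_8_9_10 : dfsN 6 268435456 177763088 [2, 4, 5, 6, 11, 12] = true := by
  decide +kernel

set_option maxRecDepth 100000 in
theorem part_7_8_9_11 : dfsN 6 268435456 194540304 [2, 4, 5, 6, 10, 12] = true := by
  decide +kernel

set_option maxRecDepth 100000 in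
theorem part_7_8_9_12 : dfsN 6 268435456 211317520 [2, 4, 5, 6, 10, 11] = true := by
  decide +kernel

theorem part_7_8_9 : dfsN 7 16777216 9990928 [2, 4, 5, 6, 10, 11, 12] = true := by
  apply dfsN_step 6 16777216 9990928 [2, 4, 5, 6, 10, 11, 12]
  intro v hv
  simp only [List.mem_cons, List.not_mem_nil, or_false] at hv
  rcases hv with rfl | rfl | rfl | rfl | rfl | rfl | rfl
  exacts [part_7_8_9_2, part_7_8_9_4, part_7_8_9_5, part_7_8_9_6, part_7_8_9_10, part_7_8_9_11, part_7_8_9_12]

set_option maxRecDepth 100000 in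
theorem part_7_8_10_2 : dfsN 6 268435456 44593936 [4, 5, 6, 9, 11, 12] = true := by
  decide +kernel

set_option maxRecDepth 100000 in
theorem part_7_8_10_4 : dfsN 6 268435456 78148368 [2, 5, 6, 9, 11, 12] = true := by
  decide +kernel

set_option maxRecDepth 100000 in
theorem part_7_8_10_5 : dfsN 6 268435456 94925584 [2, 4, 6, 9, 11, 12] = true := by
  decide +kernel

set_option maxRecDepth 100000 in
theorem part_7_8_10_6 : dfsN 6 268435456 111702800 [2, 4, 5, 9, 11, 12] = true := by
  decide +kernel

set_option maxRecDepth 100000 in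
theorem part_7_8_10_9 : dfsN 6 268435456 162034448 [2, 4, 5, 6, 11, 12] = true := by
  decide +kernel

set_option maxRecDepth 100000 in
theorem part_7_8_10_11 : dfsN 6 268435456 195588880 [2, 4, 5, 6, 9, 12] = true := by
  decide +kernel

set_option maxRecDepth 100000 in
theorem part_7_8_10_12 : dfsN 6 268435456 212366096 [2, 4, 5, 6, 9, 11] = true := by
  decide +kernel

theorem part_7_8_10 : dfsN 7 16777216 11039504 [2, 4, 5, 6, 9, 11, 12] = true := by
  apply dfsN_step 6 16777216 11039504 [2, 4, 5, 6, 9, 11, 12]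
  intro v hv
  simp only [List.mem_cons, List.not_mem_nil, or_false] at hv
  rcases hv with rfl | rfl | rfl | rfl | rfl | rfl | rfl
  exacts [part_7_8_10_2, part_7_8_10_4, part_7_8_10_5, part_7_8_10_6, part_7_8_10_9, part_7_8_10_11, part_7_8_10_12]

set_option maxRecDepth 100000 in
theorem part_7_8_11_2 : dfsN 6 268435456 45642512 [4, 5, 6, 9, 10, 12] = true := by
  decide +kernel

set_option maxRecDepth 100000 in
theorem part_7_8_11_4 : dfsN 6 268435456 79196944 [2, 5, 6, 9, 10, 12] = true := by
  decide +kernel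

set_option maxRecDepth 100000 in
theorem part_7_8_11_5 : dfsN 6 268435456 95974160 [2, 4, 6, 9, 10, 12] = true := by
  decide +kernel

set_option maxRecDepth 100000 in
theorem part_7_8_11_6 : dfsN 6 268435456 112751376 [2, 4, 5, 9, 10, 12] = true := by
  decide +kernel

set_option maxRecDepth 100000 in
theorem part_7_8_11_9 : dfsN 6 268435456 163083024 [2, 4, 5, 6, 10, 12] = true := by
  decide +kernel

set_option maxRecDepth 100000 in
theorem part_7_8_11_10 : dfsN 6 268435456 179860240 [2, 4, 5, 6, 9, 12] = true := by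
  decide +kernel

set_option maxRecDepth 100000 in
theorem part_7_8_11_12 : dfsN 6 268435456 213414672 [2, 4, 5, 6, 9, 10] = true := by
  decide +kernel

theorem part_7_8_11 : dfsN 7 16777216 12088080 [2, 4, 5, 6, 9, 10, 12] = true := by
  apply dfsN_step 6 16777216 12088080 [2, 4, 5, 6, 9, 10, 12]
  intro v hv
  simp only [List.mem_cons, List.not_mem_nil, or_false] at hv
  rcases hv with rfl | rfl | rfl | rfl | rfl | rfl | rfl
  exacts [part_7_8_11_2, part_7_8_11_4, part_7_8_11_5, part_7_8_11_6, part_7_8_11_9, part_7_8_11_10, part_7_8_11_12]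

set_option maxRecDepth 100000 in
theorem part_7_8_12_2 : dfsN 6 268435456 46691088 [4, 5, 6, 9, 10, 11] = true := by
  decide +kernel

set_option maxRecDepth 100000 in
theorem part_7_8_12_4 : dfsN 6 268435456 80245520 [2, 5, 6, 9, 10, 11] = true := by
  decide +kernel

set_option maxRecDepth 100000 in
theorem part_7_8_12_5 : dfsN 6 268435456 97022736 [2, 4, 6, 9, 10, 11] = true := by
  decide +kernel

set_option maxRecDepth 100000 in
theorem part_7_8_12_6 : dfsN 6 268435456 113799952 [2, 4, 5, 9, 10, 11] = true := by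
  decide +kernel

set_option maxRecDepth 100000 in
theorem part_7_8_12_9 : dfsN 6 268435456 164131600 [2, 4, 5, 6, 10, 11] = true := by
  decide +kernel

set_option maxRecDepth 100000 in
theorem part_7_8_12_10 : dfsN 6 268435456 180908816 [2, 4, 5, 6, 9, 11] = true := by
  decide +kernel

set_option maxRecDepth 100000 in
theorem part_7_8_12_11 : dfsN 6 268435456 197686032 [2, 4, 5, 6, 9, 10] = true := by
  decide +kernel

theorem part_7_8_12 : dfsN 7 16777216 13136656 [2, 4, 5, 6, 9, 10, 11] = true := by
  apply dfsN_step 6 16777216 13136656 [2, 4, 5, 6, 9, 10, 11]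
  intro v hv
  simp only [List.mem_cons, List.not_mem_nil, or_false] at hv
  rcases hv with rfl | rfl | rfl | rfl | rfl | rfl | rfl
  exacts [part_7_8_12_2, part_7_8_12_4, part_7_8_12_5, part_7_8_12_6, part_7_8_12_9, part_7_8_12_10, part_7_8_12_11]

theorem part_7_8 : dfsN 8 1048576 553744 [2, 4, 5, 6, 9, 10, 11, 12] = true := by
  apply dfsN_step 7 1048576 553744 [2, 4, 5, 6, 9, 10, 11, 12]
  intro v hv
  simp only [List.mem_cons, List.not_mem_nil, or_false] at hv
  rcases hv with rfl | rfl | rfl | rfl | rfl | rfl | rfl | rfl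
  exacts [part_7_8_2, part_7_8_4, part_7_8_5, part_7_8_6, part_7_8_9, part_7_8_10, part_7_8_11, part_7_8_12]

end Cfsg.Agent.Lib.H16.AG
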