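import Cfsg.Agent.Lib.H16.AG.Step

set_option autoImplicit false

/-! Degree 13, images `0, 1, 3, 7, 9` of `0, 1, 2, 3, 4` fixed: every completion that is an
`11`-cycle has a word `(x ^ b * y ^ a) ^ k` which is a `3`-, `5`- or `7`-cycle
(small kernel computations, one per pair of images of `5, 6`). -/

namespace Cfsg.Agent.Lib.H16.AG

set_option maxRecDepth 100000 in
theorem part_7_9_2_4 : dfsN 6 268435456 69825296 [5, 6, 8, 10, 11, 12] = true := by
  decide +kernel

set_option maxRecDepth 100000 in
theorem part_7_9_2_5 : dfsN 6 268435456 86602512 [4, 6, 8, 10, 11, 12] = true := by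
  decide +kernel

set_option maxRecDepth 100000 in
theorem part_7_9_2_6 : dfsN 6 268435456 103379728 [4, 5, 8, 10, 11, 12] = true := by
  decide +kernel

set_option maxRecDepth 100000 in
theorem part_7_9_2_8 : dfsN 6 268435456 136934160 [4, 5, 6, 10, 11, 12] = true := by
  decide +kernel

set_option maxRecDepth 100000 in
theorem part_7_9_2_10 : dfsN 6 268435456 170488592 [4, 5, 6, 8, 11, 12] = true := by
  decide +kernel

set_option maxRecDepth 100000 in
theorem part_7_9_2_11 : dfsN 6 268435456 187265808 [4, 5, 6, 8, 10, 12] = true := by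
  decide +kernel

set_option maxRecDepth 100000 in
theorem part_7_9_2_12 : dfsN 6 268435456 204043024 [4, 5, 6, 8, 10, 11] = true := by
  decide +kernel

theorem part_7_9_2 : dfsN 7 16777216 2716432 [4, 5, 6, 8, 10, 11, 12] = true := by
  apply dfsN_step 6 16777216 2716432 [4, 5, 6, 8, 10, 11, 12]
  intro v hv
  simp only [List.mem_cons, List.not_mem_nil, or_false] at hv
  rcases hv with rfl | rfl | rfl | rfl | rfl | rfl | rfl
  exacts [part_7_9_2_4, part_7_9_2_5, part_7_9_2_6, part_7_9_2_8, part_7_9_2_10, part_7_9_2_11, part_7_9_2_12]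

set_option maxRecDepth 100000 in
theorem part_7_9_4_2 : dfsN 6 268435456 38368016 [5, 6, 8, 10, 11, 12] = true := by
  decide +kernel

set_option maxRecDepth 100000 in
theorem part_7_9_4_5 : dfsN 6 268435456 88699664 [2, 6, 8, 10, 11, 12] = true := by
  decide +kernel

set_option maxRecDepth 100000 in
theorem part_7_9_4_6 : dfsN 6 268435456 105476880 [2, 5, 8, 10, 11, 12] = true := by
  decide +kernel

set_option maxRecDepth 100000 in
theorem part_7_9_4_8 : dfsN 6 268435456 139031312 [2, 5, 6, 10, 11, 12] = true := by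
  decide +kernel

set_option maxRecDepth 100000 in
theorem part_7_9_4_10 : dfsN 6 268435456 172585744 [2, 5, 6, 8, 11, 12] = true := by
  decide +kernel

set_option maxRecDepth 100000 in
theorem part_7_9_4_11 : dfsN 6 268435456 189362960 [2, 5, 6, 8, 10, 12] = true := by
  decide +kernel

set_option maxRecDepth 100000 in
theorem part_7_9_4_12 : dfsN 6 268435456 206140176 [2, 5, 6, 8, 10, 11] = true := by
  decide +kernel

theorem part_7_9_4 : dfsN 7 16777216 4813584 [2, 5, 6, 8, 10, 11, 12] = true := by
  apply dfsN_step 6 16777216 4813584 [2, 5, 6, 8, 10, 11, 12]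
  intro v hv
  simp only [List.mem_cons, List.not_mem_nil, or_false] at hv
  rcases hv with rfl | rfl | rfl | rfl | rfl | rfl | rfl
  exacts [part_7_9_4_2, part_7_9_4_5, part_7_9_4_6, part_7_9_4_8, part_7_9_4_10, part_7_9_4_11, part_7_9_4_12]

set_option maxRecDepth 100000 in
theorem part_7_9_5_2 : dfsN 6 268435456 39416592 [4, 6, 8, 10, 11, 12] = true := by
  decide +kernel

set_option maxRecDepth 100000 in
theorem part_7_9_5_4 : dfsN 6 268435456 72971024 [2, 6, 8, 10, 11, 12] = true := by
  decide +kernel

set_option maxRecDepth 100000 in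
theorem part_7_9_5_6 : dfsN 6 268435456 106525456 [2, 4, 8, 10, 11, 12] = true := by
  decide +kernel

set_option maxRecDepth 100000 in
theorem part_7_9_5_8 : dfsN 6 268435456 140079888 [2, 4, 6, 10, 11, 12] = true := by
  decide +kernel

set_option maxRecDepth 100000 in
theorem part_7_9_5_10 : dfsN 6 268435456 173634320 [2, 4, 6, 8, 11, 12] = true := by
  decide +kernel

set_option maxRecDepth 100000 in
theorem part_7_9_5_11 : dfsN 6 268435456 190411536 [2, 4, 6, 8, 10, 12] = true := by
  decide +kernel

set_option maxRecDepth 100000 in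
theorem part_7_9_5_12 : dfsN 6 268435456 207188752 [2, 4, 6, 8, 10, 11] = true := by
  decide +kernel

theorem part_7_9_5 : dfsN 7 16777216 5862160 [2, 4, 6, 8, 10, 11, 12] = true := by
  apply dfsN_step 6 16777216 5862160 [2, 4, 6, 8, 10, 11, 12]
  intro v hv
  simp only [List.mem_cons, List.not_mem_nil, or_false] at hv
  rcases hv with rfl | rfl | rfl | rfl | rfl | rfl | rfl
  exacts [part_7_9_5_2, part_7_9_5_4, part_7_9_5_6, part_7_9_5_8, part_7_9_5_10, part_7_9_5_11, part_7_9_5_12]

set_option maxRecDepth 100000 in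
theorem part_7_9_6_2 : dfsN 6 268435456 40465168 [4, 5, 8, 10, 11, 12] = true := by
  decide +kernel

set_option maxRecDepth 100000 in
theorem part_7_9_6_4 : dfsN 6 268435456 74019600 [2, 5, 8, 10, 11, 12] = true := by
  decide +kernel

set_option maxRecDepth 100000 in
theorem part_7_9_6_5 : dfsN 6 268435456 90796816 [2, 4, 8, 10, 11, 12] = true := by
  decide +kernel

set_option maxRecDepth 100000 in
theorem part_7_9_6_8 : dfsN 6 268435456 141128464 [2, 4, 5, 10, 11, 12] = true := by
  decide +kernel

set_option maxRecDepth 100000 in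
theorem part_7_9_6_10 : dfsN 6 268435456 174682896 [2, 4, 5, 8, 11, 12] = true := by
  decide +kernel

set_option maxRecDepth 100000 in
theorem part_7_9_6_11 : dfsN 6 268435456 191460112 [2, 4, 5, 8, 10, 12] = true := by
  decide +kernel

set_option maxRecDepth 100000 in
theorem part_7_9_6_12 : dfsN 6 268435456 208237328 [2, 4, 5, 8, 10, 11] = true := by
  decide +kernel

theorem part_7_9_6 : dfsN 7 16777216 6910736 [2, 4, 5, 8, 10, 11, 12] = true := by
  apply dfsN_step 6 16777216 6910736 [2, 4, 5, 8, 10, 11, 12]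
  intro v hv
  simp only [List.mem_cons, List.not_mem_nil, or_false] at hv
  rcases hv with rfl | rfl | rfl | rfl | rfl | rfl | rfl
  exacts [part_7_9_6_2, part_7_9_6_4, part_7_9_6_5, part_7_9_6_8, part_7_9_6_10, part_7_9_6_11, part_7_9_6_12]

set_option maxRecDepth 100000 in
theorem part_7_9_8_2 : dfsN 6 268435456 42562320 [4, 5, 6, 10, 11, 12] = true := by
  decide +kernel

set_option maxRecDepth 100000 in
theorem part_7_9_8_4 : dfsN 6 268435456 76116752 [2, 5, 6, 10, 11, 12] = true := by
  decide +kernel

set_option maxRecDepth 100000 in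
theorem part_7_9_8_5 : dfsN 6 268435456 92893968 [2, 4, 6, 10, 11, 12] = true := by
  decide +kernel

set_option maxRecDepth 100000 in
theorem part_7_9_8_6 : dfsN 6 268435456 109671184 [2, 4, 5, 10, 11, 12] = true := by
  decide +kernel

set_option maxRecDepth 100000 in
theorem part_7_9_8_10 : dfsN 6 268435456 176780048 [2, 4, 5, 6, 11, 12] = true := by
  decide +kernel

set_option maxRecDepth 100000 in
theorem part_7_9_8_11 : dfsN 6 268435456 193557264 [2, 4, 5, 6, 10, 12] = true := by
  decide +kernel

set_option maxRecDepth 100000 in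
theorem part_7_9_8_12 : dfsN 6 268435456 210334480 [2, 4, 5, 6, 10, 11] = true := by
  decide +kernel

theorem part_7_9_8 : dfsN 7 16777216 9007888 [2, 4, 5, 6, 10, 11, 12] = true := by
  apply dfsN_step 6 16777216 9007888 [2, 4, 5, 6, 10, 11, 12]
  intro v hv
  simp only [List.mem_cons, List.not_mem_nil, or_false] at hv
  rcases hv with rfl | rfl | rfl | rfl | rfl | rfl | rfl
  exacts [part_7_9_8_2, part_7_9_8_4, part_7_9_8_5, part_7_9_8_6, part_7_9_8_10, part_7_9_8_11, part_7_9_8_12]

set_option maxRecDepth 100000 in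
theorem part_7_9_10_2 : dfsN 6 268435456 44659472 [4, 5, 6, 8, 11, 12] = true := by
  decide +kernel

set_option maxRecDepth 100000 in
theorem part_7_9_10_4 : dfsN 6 268435456 78213904 [2, 5, 6, 8, 11, 12] = true := by
  decide +kernel

set_option maxRecDepth 100000 in
theorem part_7_9_10_5 : dfsN 6 268435456 94991120 [2, 4, 6, 8, 11, 12] = true := by
  decide +kernel

set_option maxRecDepth 100000 in
theorem part_7_9_10_6 : dfsN 6 268435456 111768336 [2, 4, 5, 8, 11, 12] = true := by
  decide +kernel

set_option maxRecDepth 100000 in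
theorem part_7_9_10_8 : dfsN 6 268435456 145322768 [2, 4, 5, 6, 11, 12] = true := by
  decide +kernel

set_option maxRecDepth 100000 in
theorem part_7_9_10_11 : dfsN 6 268435456 195654416 [2, 4, 5, 6, 8, 12] = true := by
  decide +kernel

set_option maxRecDepth 100000 in
theorem part_7_9_10_12 : dfsN 6 268435456 212431632 [2, 4, 5, 6, 8, 11] = true := by
  decide +kernel

theorem part_7_9_10 : dfsN 7 16777216 11105040 [2, 4, 5, 6, 8, 11, 12] = true := by
  apply dfsN_step 6 16777216 11105040 [2, 4, 5, 6, 8, 11, 12]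
  intro v hv
  simp only [List.mem_cons, List.not_mem_nil, or_false] at hv
  rcases hv with rfl | rfl | rfl | rfl | rfl | rfl | rfl
  exacts [part_7_9_10_2, part_7_9_10_4, part_7_9_10_5, part_7_9_10_6, part_7_9_10_8, part_7_9_10_11, part_7_9_10_12]

set_option maxRecDepth 100000 in
theorem part_7_9_11_2 : dfsN 6 268435456 45708048 [4, 5, 6, 8, 10, 12] = true := by
  decide +kernel

set_option maxRecDepth 100000 in
theorem part_7_9_11_4 : dfsN 6 268435456 79262480 [2, 5, 6, 8, 10, 12] = true := by
  decide +kernel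

set_option maxRecDepth 100000 in
theorem part_7_9_11_5 : dfsN 6 268435456 96039696 [2, 4, 6, 8, 10, 12] = true := by
  decide +kernel

set_option maxRecDepth 100000 in
theorem part_7_9_11_6 : dfsN 6 268435456 112816912 [2, 4, 5, 8, 10, 12] = true := by
  decide +kernel

set_option maxRecDepth 100000 in
theorem part_7_9_11_8 : dfsN 6 268435456 146371344 [2, 4, 5, 6, 10, 12] = true := by
  decide +kernel

set_option maxRecDepth 100000 in
theorem part_7_9_11_10 : dfsN 6 268435456 179925776 [2, 4, 5, 6, 8, 12] = true := by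
  decide +kernel

set_option maxRecDepth 100000 in
theorem part_7_9_11_12 : dfsN 6 268435456 213480208 [2, 4, 5, 6, 8, 10] = true := by
  decide +kernel

theorem part_7_9_11 : dfsN 7 16777216 12153616 [2, 4, 5, 6, 8, 10, 12] = true := by
  apply dfsN_step 6 16777216 12153616 [2, 4, 5, 6, 8, 10, 12]
  intro v hv
  simp only [List.mem_cons, List.not_mem_nil, or_false] at hv
  rcases hv with rfl | rfl | rfl | rfl | rfl | rfl | rfl
  exacts [part_7_9_11_2, part_7_9_11_4, part_7_9_11_5, part_7_9_11_6, part_7_9_11_8, part_7_9_11_10, part_7_9_11_12]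

set_option maxRecDepth 100000 in
theorem part_7_9_12_2 : dfsN 6 268435456 46756624 [4, 5, 6, 8, 10, 11] = true := by
  decide +kernel

set_option maxRecDepth 100000 in
theorem part_7_9_12_4 : dfsN 6 268435456 80311056 [2, 5, 6, 8, 10, 11] = true := by
  decide +kernel

set_option maxRecDepth 100000 in
theorem part_7_9_12_5 : dfsN 6 268435456 97088272 [2, 4, 6, 8, 10, 11] = true := by
  decide +kernel

set_option maxRecDepth 100000 in
theorem part_7_9_12_6 : dfsN 6 268435456 113865488 [2, 4, 5, 8, 10, 11] = true := by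
  decide +kernel

set_option maxRecDepth 100000 in
theorem part_7_9_12_8 : dfsN 6 268435456 147419920 [2, 4, 5, 6, 10, 11] = true := by
  decide +kernel

set_option maxRecDepth 100000 in
theorem part_7_9_12_10 : dfsN 6 268435456 180974352 [2, 4, 5, 6, 8, 11] = true := by
  decide +kernel

set_option maxRecDepth 100000 in
theorem part_7_9_12_11 : dfsN 6 268435456 197751568 [2, 4, 5, 6, 8, 10] = true := by
  decide +kernel

theorem part_7_9_12 : dfsN 7 16777216 13202192 [2, 4, 5, 6, 8, 10, 11] = true := by
  apply dfsN_step 6 16777216 13202192 [2, 4, 5, 6, 8, 10, 11]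
  intro v hv
  simp only [List.mem_cons, List.not_mem_nil, or_false] at hv
  rcases hv with rfl | rfl | rfl | rfl | rfl | rfl | rfl
  exacts [part_7_9_12_2, part_7_9_12_4, part_7_9_12_5, part_7_9_12_6, part_7_9_12_8, part_7_9_12_10, part_7_9_12_11]

theorem part_7_9 : dfsN 8 1048576 619280 [2, 4, 5, 6, 8, 10, 11, 12] = true := by
  apply dfsN_step 7 1048576 619280 [2, 4, 5, 6, 8, 10, 11, 12]
  intro v hv
  simp only [List.mem_cons, List.not_mem_nil, or_false] at hv
  rcases hv with rfl | rfl | rfl | rfl | rfl | rfl | rfl | rfl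
  exacts [part_7_9_2, part_7_9_4, part_7_9_5, part_7_9_6, part_7_9_8, part_7_9_10, part_7_9_11, part_7_9_12]

end Cfsg.Agent.Lib.H16.AG
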