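import Cfsg.Agent.Lib.H16.AG.Step

set_option autoImplicit false

/-! Degree 13, images `0, 1, 3, 7, 10` of `0, 1, 2, 3, 4` fixed: every completion that is an
`11`-cycle has a word `(x ^ b * y ^ a) ^ k` which is a `3`-, `5`- or `7`-cycle
(small kernel computations, one per pair of images of `5, 6`). -/

namespace Cfsg.Agent.Lib.H16.AG

set_option maxRecDepth 100000 in
theorem part_7_10_2_4 : dfsN 6 268435456 69890832 [5, 6, 8, 9, 11, 12] = true := by
  decide +kernel

set_option maxRecDepth 100000 in
theorem part_7_10_2_5 : dfsN 6 268435456 86668048 [4, 6, 8, 9, 11, 12] = true := by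
  decide +kernel

set_option maxRecDepth 100000 in
theorem part_7_10_2_6 : dfsN 6 268435456 103445264 [4, 5, 8, 9, 11, 12] = true := by
  decide +kernel

set_option maxRecDepth 100000 in
theorem part_7_10_2_8 : dfsN 6 268435456 136999696 [4, 5, 6, 9, 11, 12] = true := by
  decide +kernel

set_option maxRecDepth 100000 in
theorem part_7_10_2_9 : dfsN 6 268435456 153776912 [4, 5, 6, 8, 11, 12] = true := by
  decide +kernel

set_option maxRecDepth 100000 in
theorem part_7_10_2_11 : dfsN 6 268435456 187331344 [4, 5, 6, 8, 9, 12] = true := by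
  decide +kernel

set_option maxRecDepth 100000 in
theorem part_7_10_2_12 : dfsN 6 268435456 204108560 [4, 5, 6, 8, 9, 11] = true := by
  decide +kernel

theorem part_7_10_2 : dfsN 7 16777216 2781968 [4, 5, 6, 8, 9, 11, 12] = true := by
  apply dfsN_step 6 16777216 2781968 [4, 5, 6, 8, 9, 11, 12]
  intro v hv
  simp only [List.mem_cons, List.not_mem_nil, or_false] at hv
  rcases hv with rfl | rfl | rfl | rfl | rfl | rfl | rfl
  exacts [part_7_10_2_4, part_7_10_2_5, part_7_10_2_6, part_7_10_2_8, part_7_10_2_9, part_7_10_2_11, part_7_10_2_12]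

set_option maxRecDepth 100000 in
theorem part_7_10_4_2 : dfsN 6 268435456 38433552 [5, 6, 8, 9, 11, 12] = true := by
  decide +kernel

set_option maxRecDepth 100000 in
theorem part_7_10_4_5 : dfsN 6 268435456 88765200 [2, 6, 8, 9, 11, 12] = true := by
  decide +kernel

set_option maxRecDepth 100000 in
theorem part_7_10_4_6 : dfsN 6 268435456 105542416 [2, 5, 8, 9, 11, 12] = true := by
  decide +kernel

set_option maxRecDepth 100000 in
theorem part_7_10_4_8 : dfsN 6 268435456 139096848 [2, 5, 6, 9, 11, 12] = true := by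
  decide +kernel

set_option maxRecDepth 100000 in
theorem part_7_10_4_9 : dfsN 6 268435456 155874064 [2, 5, 6, 8, 11, 12] = true := by
  decide +kernel

set_option maxRecDepth 100000 in
theorem part_7_10_4_11 : dfsN 6 268435456 189428496 [2, 5, 6, 8, 9, 12] = true := by
  decide +kernel

set_option maxRecDepth 100000 in
theorem part_7_10_4_12 : dfsN 6 268435456 206205712 [2, 5, 6, 8, 9, 11] = true := by
  decide +kernel

theorem part_7_10_4 : dfsN 7 16777216 4879120 [2, 5, 6, 8, 9, 11, 12] = true := by
  apply dfsN_step 6 16777216 4879120 [2, 5, 6, 8, 9, 11, 12]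
  intro v hv
  simp only [List.mem_cons, List.not_mem_nil, or_false] at hv
  rcases hv with rfl | rfl | rfl | rfl | rfl | rfl | rfl
  exacts [part_7_10_4_2, part_7_10_4_5, part_7_10_4_6, part_7_10_4_8, part_7_10_4_9, part_7_10_4_11, part_7_10_4_12]

set_option maxRecDepth 100000 in
theorem part_7_10_5_2 : dfsN 6 268435456 39482128 [4, 6, 8, 9, 11, 12] = true := by
  decide +kernel

set_option maxRecDepth 100000 in
theorem part_7_10_5_4 : dfsN 6 268435456 73036560 [2, 6, 8, 9, 11, 12] = true := by
  decide +kernel

set_option maxRecDepth 100000 in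
theorem part_7_10_5_6 : dfsN 6 268435456 106590992 [2, 4, 8, 9, 11, 12] = true := by
  decide +kernel

set_option maxRecDepth 100000 in
theorem part_7_10_5_8 : dfsN 6 268435456 140145424 [2, 4, 6, 9, 11, 12] = true := by
  decide +kernel

set_option maxRecDepth 100000 in
theorem part_7_10_5_9 : dfsN 6 268435456 156922640 [2, 4, 6, 8, 11, 12] = true := by
  decide +kernel

set_option maxRecDepth 100000 in
theorem part_7_10_5_11 : dfsN 6 268435456 190477072 [2, 4, 6, 8, 9, 12] = true := by
  decide +kernel

set_option maxRecDepth 100000 in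
theorem part_7_10_5_12 : dfsN 6 268435456 207254288 [2, 4, 6, 8, 9, 11] = true := by
  decide +kernel

theorem part_7_10_5 : dfsN 7 16777216 5927696 [2, 4, 6, 8, 9, 11, 12] = true := by
  apply dfsN_step 6 16777216 5927696 [2, 4, 6, 8, 9, 11, 12]
  intro v hv
  simp only [List.mem_cons, List.not_mem_nil, or_false] at hv
  rcases hv with rfl | rfl | rfl | rfl | rfl | rfl | rfl
  exacts [part_7_10_5_2, part_7_10_5_4, part_7_10_5_6, part_7_10_5_8, part_7_10_5_9, part_7_10_5_11, part_7_10_5_12]

set_option maxRecDepth 100000 in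
theorem part_7_10_6_2 : dfsN 6 268435456 40530704 [4, 5, 8, 9, 11, 12] = true := by
  decide +kernel

set_option maxRecDepth 100000 in
theorem part_7_10_6_4 : dfsN 6 268435456 74085136 [2, 5, 8, 9, 11, 12] = true := by
  decide +kernel

set_option maxRecDepth 100000 in
theorem part_7_10_6_5 : dfsN 6 268435456 90862352 [2, 4, 8, 9, 11, 12] = true := by
  decide +kernel

set_option maxRecDepth 100000 in
theorem part_7_10_6_8 : dfsN 6 268435456 141194000 [2, 4, 5, 9, 11, 12] = true := by
  decide +kernel

set_option maxRecDepth 100000 in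
theorem part_7_10_6_9 : dfsN 6 268435456 157971216 [2, 4, 5, 8, 11, 12] = true := by
  decide +kernel

set_option maxRecDepth 100000 in
theorem part_7_10_6_11 : dfsN 6 268435456 191525648 [2, 4, 5, 8, 9, 12] = true := by
  decide +kernel

set_option maxRecDepth 100000 in
theorem part_7_10_6_12 : dfsN 6 268435456 208302864 [2, 4, 5, 8, 9, 11] = true := by
  decide +kernel

theorem part_7_10_6 : dfsN 7 16777216 6976272 [2, 4, 5, 8, 9, 11, 12] = true := by
  apply dfsN_step 6 16777216 6976272 [2, 4, 5, 8, 9, 11, 12]
  intro v hv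
  simp only [List.mem_cons, List.not_mem_nil, or_false] at hv
  rcases hv with rfl | rfl | rfl | rfl | rfl | rfl | rfl
  exacts [part_7_10_6_2, part_7_10_6_4, part_7_10_6_5, part_7_10_6_8, part_7_10_6_9, part_7_10_6_11, part_7_10_6_12]

set_option maxRecDepth 100000 in
theorem part_7_10_8_2 : dfsN 6 268435456 42627856 [4, 5, 6, 9, 11, 12] = true := by
  decide +kernel

set_option maxRecDepth 100000 in
theorem part_7_10_8_4 : dfsN 6 268435456 76182288 [2, 5, 6, 9, 11, 12] = true := by
  decide +kernel

set_option maxRecDepth 100000 in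
theorem part_7_10_8_5 : dfsN 6 268435456 92959504 [2, 4, 6, 9, 11, 12] = true := by
  decide +kernel

set_option maxRecDepth 100000 in
theorem part_7_10_8_6 : dfsN 6 268435456 109736720 [2, 4, 5, 9, 11, 12] = true := by
  decide +kernel

set_option maxRecDepth 100000 in
theorem part_7_10_8_9 : dfsN 6 268435456 160068368 [2, 4, 5, 6, 11, 12] = true := by
  decide +kernel

set_option maxRecDepth 100000 in
theorem part_7_10_8_11 : dfsN 6 268435456 193622800 [2, 4, 5, 6, 9, 12] = true := by
  decide +kernel

set_option maxRecDepth 100000 in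
theorem part_7_10_8_12 : dfsN 6 268435456 210400016 [2, 4, 5, 6, 9, 11] = true := by
  decide +kernel

theorem part_7_10_8 : dfsN 7 16777216 9073424 [2, 4, 5, 6, 9, 11, 12] = true := by
  apply dfsN_step 6 16777216 9073424 [2, 4, 5, 6, 9, 11, 12]
  intro v hv
  simp only [List.mem_cons, List.not_mem_nil, or_false] at hv
  rcases hv with rfl | rfl | rfl | rfl | rfl | rfl | rfl
  exacts [part_7_10_8_2, part_7_10_8_4, part_7_10_8_5, part_7_10_8_6, part_7_10_8_9, part_7_10_8_11, part_7_10_8_12]

set_option maxRecDepth 100000 in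
theorem part_7_10_9_2 : dfsN 6 268435456 43676432 [4, 5, 6, 8, 11, 12] = true := by
  decide +kernel

set_option maxRecDepth 100000 in
theorem part_7_10_9_4 : dfsN 6 268435456 77230864 [2, 5, 6, 8, 11, 12] = true := by
  decide +kernel

set_option maxRecDepth 100000 in
theorem part_7_10_9_5 : dfsN 6 268435456 94008080 [2, 4, 6, 8, 11, 12] = true := by
  decide +kernel

set_option maxRecDepth 100000 in
theorem part_7_10_9_6 : dfsN 6 268435456 110785296 [2, 4, 5, 8, 11, 12] = true := by
  decide +kernel

set_option maxRecDepth 100000 in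
theorem part_7_10_9_8 : dfsN 6 268435456 144339728 [2, 4, 5, 6, 11, 12] = true := by
  decide +kernel

set_option maxRecDepth 100000 in
theorem part_7_10_9_11 : dfsN 6 268435456 194671376 [2, 4, 5, 6, 8, 12] = true := by
  decide +kernel

set_option maxRecDepth 100000 in
theorem part_7_10_9_12 : dfsN 6 268435456 211448592 [2, 4, 5, 6, 8, 11] = true := by
  decide +kernel

theorem part_7_10_9 : dfsN 7 16777216 10122000 [2, 4, 5, 6, 8, 11, 12] = true := by
  apply dfsN_step 6 16777216 10122000 [2, 4, 5, 6, 8, 11, 12]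
  intro v hv
  simp only [List.mem_cons, List.not_mem_nil, or_false] at hv
  rcases hv with rfl | rfl | rfl | rfl | rfl | rfl | rfl
  exacts [part_7_10_9_2, part_7_10_9_4, part_7_10_9_5, part_7_10_9_6, part_7_10_9_8, part_7_10_9_11, part_7_10_9_12]

set_option maxRecDepth 100000 in
theorem part_7_10_11_2 : dfsN 6 268435456 45773584 [4, 5, 6, 8, 9, 12] = true := by
  decide +kernel

set_option maxRecDepth 100000 in
theorem part_7_10_11_4 : dfsN 6 268435456 79328016 [2, 5, 6, 8, 9, 12] = true := by
  decide +kernel

set_option maxRecDepth 100000 in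
theorem part_7_10_11_5 : dfsN 6 268435456 96105232 [2, 4, 6, 8, 9, 12] = true := by
  decide +kernel

set_option maxRecDepth 100000 in
theorem part_7_10_11_6 : dfsN 6 268435456 112882448 [2, 4, 5, 8, 9, 12] = true := by
  decide +kernel

set_option maxRecDepth 100000 in
theorem part_7_10_11_8 : dfsN 6 268435456 146436880 [2, 4, 5, 6, 9, 12] = true := by
  decide +kernel

set_option maxRecDepth 100000 in
theorem part_7_10_11_9 : dfsN 6 268435456 163214096 [2, 4, 5, 6, 8, 12] = true := by
  decide +kernel

set_option maxRecDepth 100000 in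
theorem part_7_10_11_12 : dfsN 6 268435456 213545744 [2, 4, 5, 6, 8, 9] = true := by
  decide +kernel

theorem part_7_10_11 : dfsN 7 16777216 12219152 [2, 4, 5, 6, 8, 9, 12] = true := by
  apply dfsN_step 6 16777216 12219152 [2, 4, 5, 6, 8, 9, 12]
  intro v hv
  simp only [List.mem_cons, List.not_mem_nil, or_false] at hv
  rcases hv with rfl | rfl | rfl | rfl | rfl | rfl | rfl
  exacts [part_7_10_11_2, part_7_10_11_4, part_7_10_11_5, part_7_10_11_6, part_7_10_11_8, part_7_10_11_9, part_7_10_11_12]

set_option maxRecDepth 100000 in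
theorem part_7_10_12_2 : dfsN 6 268435456 46822160 [4, 5, 6, 8, 9, 11] = true := by
  decide +kernel

set_option maxRecDepth 100000 in
theorem part_7_10_12_4 : dfsN 6 268435456 80376592 [2, 5, 6, 8, 9, 11] = true := by
  decide +kernel

set_option maxRecDepth 100000 in
theorem part_7_10_12_5 : dfsN 6 268435456 97153808 [2, 4, 6, 8, 9, 11] = true := by
  decide +kernel

set_option maxRecDepth 100000 in
theorem part_7_10_12_6 : dfsN 6 268435456 113931024 [2, 4, 5, 8, 9, 11] = true := by
  decide +kernel

set_option maxRecDepth 100000 in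
theorem part_7_10_12_8 : dfsN 6 268435456 147485456 [2, 4, 5, 6, 9, 11] = true := by
  decide +kernel

set_option maxRecDepth 100000 in
theorem part_7_10_12_9 : dfsN 6 268435456 164262672 [2, 4, 5, 6, 8, 11] = true := by
  decide +kernel

set_option maxRecDepth 100000 in
theorem part_7_10_12_11 : dfsN 6 268435456 197817104 [2, 4, 5, 6, 8, 9] = true := by
  decide +kernel

theorem part_7_10_12 : dfsN 7 16777216 13267728 [2, 4, 5, 6, 8, 9, 11] = true := by
  apply dfsN_step 6 16777216 13267728 [2, 4, 5, 6, 8, 9, 11]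
  intro v hv
  simp only [List.mem_cons, List.not_mem_nil, or_false] at hv
  rcases hv with rfl | rfl | rfl | rfl | rfl | rfl | rfl
  exacts [part_7_10_12_2, part_7_10_12_4, part_7_10_12_5, part_7_10_12_6, part_7_10_12_8, part_7_10_12_9, part_7_10_12_11]

theorem part_7_10 : dfsN 8 1048576 684816 [2, 4, 5, 6, 8, 9, 11, 12] = true := by
  apply dfsN_step 7 1048576 684816 [2, 4, 5, 6, 8, 9, 11, 12]
  intro v hv
  simp only [List.mem_cons, List.not_mem_nil, or_false] at hv
  rcases hv with rfl | rfl | rfl | rfl | rfl | rfl | rfl | rfl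
  exacts [part_7_10_2, part_7_10_4, part_7_10_5, part_7_10_6, part_7_10_8, part_7_10_9, part_7_10_11, part_7_10_12]

end Cfsg.Agent.Lib.H16.AG
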