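import Cfsg.Agent.Lib.H16.AG.Step

set_option autoImplicit false

/-! Degree 13, images `0, 1, 3, 7, 11` of `0, 1, 2, 3, 4` fixed: every completion that is an
`11`-cycle has a word `(x ^ b * y ^ a) ^ k` which is a `3`-, `5`- or `7`-cycle
(small kernel computations, one per pair of images of `5, 6`). -/

namespace Cfsg.Agent.Lib.H16.AG

set_option maxRecDepth 100000 in
theorem part_7_11_2_4 : dfsN 6 268435456 69956368 [5, 6, 8, 9, 10, 12] = true := by
  decide +kernel

set_option maxRecDepth 100000 in
theorem part_7_11_2_5 : dfsN 6 268435456 86733584 [4, 6, 8, 9, 10, 12] = true := by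
  decide +kernel

set_option maxRecDepth 100000 in
theorem part_7_11_2_6 : dfsN 6 268435456 103510800 [4, 5, 8, 9, 10, 12] = true := by
  decide +kernel

set_option maxRecDepth 100000 in
theorem part_7_11_2_8 : dfsN 6 268435456 137065232 [4, 5, 6, 9, 10, 12] = true := by
  decide +kernel

set_option maxRecDepth 100000 in
theorem part_7_11_2_9 : dfsN 6 268435456 153842448 [4, 5, 6, 8, 10, 12] = true := by
  decide +kernel

set_option maxRecDepth 100000 in
theorem part_7_11_2_10 : dfsN 6 268435456 170619664 [4, 5, 6, 8, 9, 12] = true := by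
  decide +kernel

set_option maxRecDepth 100000 in
theorem part_7_11_2_12 : dfsN 6 268435456 204174096 [4, 5, 6, 8, 9, 10] = true := by
  decide +kernel

theorem part_7_11_2 : dfsN 7 16777216 2847504 [4, 5, 6, 8, 9, 10, 12] = true := by
  apply dfsN_step 6 16777216 2847504 [4, 5, 6, 8, 9, 10, 12]
  intro v hv
  simp only [List.mem_cons, List.not_mem_nil, or_false] at hv
  rcases hv with rfl | rfl | rfl | rfl | rfl | rfl | rfl
  exacts [part_7_11_2_4, part_7_11_2_5, part_7_11_2_6, part_7_11_2_8, part_7_11_2_9, part_7_11_2_10, part_7_11_2_12]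

set_option maxRecDepth 100000 in
theorem part_7_11_4_2 : dfsN 6 268435456 38499088 [5, 6, 8, 9, 10, 12] = true := by
  decide +kernel

set_option maxRecDepth 100000 in
theorem part_7_11_4_5 : dfsN 6 268435456 88830736 [2, 6, 8, 9, 10, 12] = true := by
  decide +kernel

set_option maxRecDepth 100000 in
theorem part_7_11_4_6 : dfsN 6 268435456 105607952 [2, 5, 8, 9, 10, 12] = true := by
  decide +kernel

set_option maxRecDepth 100000 in
theorem part_7_11_4_8 : dfsN 6 268435456 139162384 [2, 5, 6, 9, 10, 12] = true := by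
  decide +kernel

set_option maxRecDepth 100000 in
theorem part_7_11_4_9 : dfsN 6 268435456 155939600 [2, 5, 6, 8, 10, 12] = true := by
  decide +kernel

set_option maxRecDepth 100000 in
theorem part_7_11_4_10 : dfsN 6 268435456 172716816 [2, 5, 6, 8, 9, 12] = true := by
  decide +kernel

set_option maxRecDepth 100000 in
theorem part_7_11_4_12 : dfsN 6 268435456 206271248 [2, 5, 6, 8, 9, 10] = true := by
  decide +kernel

theorem part_7_11_4 : dfsN 7 16777216 4944656 [2, 5, 6, 8, 9, 10, 12] = true := by
  apply dfsN_step 6 16777216 4944656 [2, 5, 6, 8, 9, 10, 12]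
  intro v hv
  simp only [List.mem_cons, List.not_mem_nil, or_false] at hv
  rcases hv with rfl | rfl | rfl | rfl | rfl | rfl | rfl
  exacts [part_7_11_4_2, part_7_11_4_5, part_7_11_4_6, part_7_11_4_8, part_7_11_4_9, part_7_11_4_10, part_7_11_4_12]

set_option maxRecDepth 100000 in
theorem part_7_11_5_2 : dfsN 6 268435456 39547664 [4, 6, 8, 9, 10, 12] = true := by
  decide +kernel

set_option maxRecDepth 100000 in
theorem part_7_11_5_4 : dfsN 6 268435456 73102096 [2, 6, 8, 9, 10, 12] = true := by
  decide +kernel

set_option maxRecDepth 100000 in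
theorem part_7_11_5_6 : dfsN 6 268435456 106656528 [2, 4, 8, 9, 10, 12] = true := by
  decide +kernel

set_option maxRecDepth 100000 in
theorem part_7_11_5_8 : dfsN 6 268435456 140210960 [2, 4, 6, 9, 10, 12] = true := by
  decide +kernel

set_option maxRecDepth 100000 in
theorem part_7_11_5_9 : dfsN 6 268435456 156988176 [2, 4, 6, 8, 10, 12] = true := by
  decide +kernel

set_option maxRecDepth 100000 in
theorem part_7_11_5_10 : dfsN 6 268435456 173765392 [2, 4, 6, 8, 9, 12] = true := by
  decide +kernel

set_option maxRecDepth 100000 in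
theorem part_7_11_5_12 : dfsN 6 268435456 207319824 [2, 4, 6, 8, 9, 10] = true := by
  decide +kernel

theorem part_7_11_5 : dfsN 7 16777216 5993232 [2, 4, 6, 8, 9, 10, 12] = true := by
  apply dfsN_step 6 16777216 5993232 [2, 4, 6, 8, 9, 10, 12]
  intro v hv
  simp only [List.mem_cons, List.not_mem_nil, or_false] at hv
  rcases hv with rfl | rfl | rfl | rfl | rfl | rfl | rfl
  exacts [part_7_11_5_2, part_7_11_5_4, part_7_11_5_6, part_7_11_5_8, part_7_11_5_9, part_7_11_5_10, part_7_11_5_12]

set_option maxRecDepth 100000 in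
theorem part_7_11_6_2 : dfsN 6 268435456 40596240 [4, 5, 8, 9, 10, 12] = true := by
  decide +kernel

set_option maxRecDepth 100000 in
theorem part_7_11_6_4 : dfsN 6 268435456 74150672 [2, 5, 8, 9, 10, 12] = true := by
  decide +kernel

set_option maxRecDepth 100000 in
theorem part_7_11_6_5 : dfsN 6 268435456 90927888 [2, 4, 8, 9, 10, 12] = true := by
  decide +kernel

set_option maxRecDepth 100000 in
theorem part_7_11_6_8 : dfsN 6 268435456 141259536 [2, 4, 5, 9, 10, 12] = true := by
  decide +kernel

set_option maxRecDepth 100000 in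
theorem part_7_11_6_9 : dfsN 6 268435456 158036752 [2, 4, 5, 8, 10, 12] = true := by
  decide +kernel

set_option maxRecDepth 100000 in
theorem part_7_11_6_10 : dfsN 6 268435456 174813968 [2, 4, 5, 8, 9, 12] = true := by
  decide +kernel

set_option maxRecDepth 100000 in
theorem part_7_11_6_12 : dfsN 6 268435456 208368400 [2, 4, 5, 8, 9, 10] = true := by
  decide +kernel

theorem part_7_11_6 : dfsN 7 16777216 7041808 [2, 4, 5, 8, 9, 10, 12] = true := by
  apply dfsN_step 6 16777216 7041808 [2, 4, 5, 8, 9, 10, 12]
  intro v hv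
  simp only [List.mem_cons, List.not_mem_nil, or_false] at hv
  rcases hv with rfl | rfl | rfl | rfl | rfl | rfl | rfl
  exacts [part_7_11_6_2, part_7_11_6_4, part_7_11_6_5, part_7_11_6_8, part_7_11_6_9, part_7_11_6_10, part_7_11_6_12]

set_option maxRecDepth 100000 in
theorem part_7_11_8_2 : dfsN 6 268435456 42693392 [4, 5, 6, 9, 10, 12] = true := by
  decide +kernel

set_option maxRecDepth 100000 in
theorem part_7_11_8_4 : dfsN 6 268435456 76247824 [2, 5, 6, 9, 10, 12] = true := by
  decide +kernel

set_option maxRecDepth 100000 in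
theorem part_7_11_8_5 : dfsN 6 268435456 93025040 [2, 4, 6, 9, 10, 12] = true := by
  decide +kernel

set_option maxRecDepth 100000 in
theorem part_7_11_8_6 : dfsN 6 268435456 109802256 [2, 4, 5, 9, 10, 12] = true := by
  decide +kernel

set_option maxRecDepth 100000 in
theorem part_7_11_8_9 : dfsN 6 268435456 160133904 [2, 4, 5, 6, 10, 12] = true := by
  decide +kernel

set_option maxRecDepth 100000 in
theorem part_7_11_8_10 : dfsN 6 268435456 176911120 [2, 4, 5, 6, 9, 12] = true := by
  decide +kernel

set_option maxRecDepth 100000 in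
theorem part_7_11_8_12 : dfsN 6 268435456 210465552 [2, 4, 5, 6, 9, 10] = true := by
  decide +kernel

theorem part_7_11_8 : dfsN 7 16777216 9138960 [2, 4, 5, 6, 9, 10, 12] = true := by
  apply dfsN_step 6 16777216 9138960 [2, 4, 5, 6, 9, 10, 12]
  intro v hv
  simp only [List.mem_cons, List.not_mem_nil, or_false] at hv
  rcases hv with rfl | rfl | rfl | rfl | rfl | rfl | rfl
  exacts [part_7_11_8_2, part_7_11_8_4, part_7_11_8_5, part_7_11_8_6, part_7_11_8_9, part_7_11_8_10, part_7_11_8_12]

set_option maxRecDepth 100000 in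
theorem part_7_11_9_2 : dfsN 6 268435456 43741968 [4, 5, 6, 8, 10, 12] = true := by
  decide +kernel

set_option maxRecDepth 100000 in
theorem part_7_11_9_4 : dfsN 6 268435456 77296400 [2, 5, 6, 8, 10, 12] = true := by
  decide +kernel

set_option maxRecDepth 100000 in
theorem part_7_11_9_5 : dfsN 6 268435456 94073616 [2, 4, 6, 8, 10, 12] = true := by
  decide +kernel

set_option maxRecDepth 100000 in
theorem part_7_11_9_6 : dfsN 6 268435456 110850832 [2, 4, 5, 8, 10, 12] = true := by
  decide +kernel

set_option maxRecDepth 100000 in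
theorem part_7_11_9_8 : dfsN 6 268435456 144405264 [2, 4, 5, 6, 10, 12] = true := by
  decide +kernel

set_option maxRecDepth 100000 in
theorem part_7_11_9_10 : dfsN 6 268435456 177959696 [2, 4, 5, 6, 8, 12] = true := by
  decide +kernel

set_option maxRecDepth 100000 in
theorem part_7_11_9_12 : dfsN 6 268435456 211514128 [2, 4, 5, 6, 8, 10] = true := by
  decide +kernel

theorem part_7_11_9 : dfsN 7 16777216 10187536 [2, 4, 5, 6, 8, 10, 12] = true := by
  apply dfsN_step 6 16777216 10187536 [2, 4, 5, 6, 8, 10, 12]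
  intro v hv
  simp only [List.mem_cons, List.not_mem_nil, or_false] at hv
  rcases hv with rfl | rfl | rfl | rfl | rfl | rfl | rfl
  exacts [part_7_11_9_2, part_7_11_9_4, part_7_11_9_5, part_7_11_9_6, part_7_11_9_8, part_7_11_9_10, part_7_11_9_12]

set_option maxRecDepth 100000 in
theorem part_7_11_10_2 : dfsN 6 268435456 44790544 [4, 5, 6, 8, 9, 12] = true := by
  decide +kernel

set_option maxRecDepth 100000 in
theorem part_7_11_10_4 : dfsN 6 268435456 78344976 [2, 5, 6, 8, 9, 12] = true := by
  decide +kernel

set_option maxRecDepth 100000 in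
theorem part_7_11_10_5 : dfsN 6 268435456 95122192 [2, 4, 6, 8, 9, 12] = true := by
  decide +kernel

set_option maxRecDepth 100000 in
theorem part_7_11_10_6 : dfsN 6 268435456 111899408 [2, 4, 5, 8, 9, 12] = true := by
  decide +kernel

set_option maxRecDepth 100000 in
theorem part_7_11_10_8 : dfsN 6 268435456 145453840 [2, 4, 5, 6, 9, 12] = true := by
  decide +kernel

set_option maxRecDepth 100000 in
theorem part_7_11_10_9 : dfsN 6 268435456 162231056 [2, 4, 5, 6, 8, 12] = true := by
  decide +kernel

set_option maxRecDepth 100000 in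
theorem part_7_11_10_12 : dfsN 6 268435456 212562704 [2, 4, 5, 6, 8, 9] = true := by
  decide +kernel

theorem part_7_11_10 : dfsN 7 16777216 11236112 [2, 4, 5, 6, 8, 9, 12] = true := by
  apply dfsN_step 6 16777216 11236112 [2, 4, 5, 6, 8, 9, 12]
  intro v hv
  simp only [List.mem_cons, List.not_mem_nil, or_false] at hv
  rcases hv with rfl | rfl | rfl | rfl | rfl | rfl | rfl
  exacts [part_7_11_10_2, part_7_11_10_4, part_7_11_10_5, part_7_11_10_6, part_7_11_10_8, part_7_11_10_9, part_7_11_10_12]

set_option maxRecDepth 100000 in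
theorem part_7_11_12_2 : dfsN 6 268435456 46887696 [4, 5, 6, 8, 9, 10] = true := by
  decide +kernel

set_option maxRecDepth 100000 in
theorem part_7_11_12_4 : dfsN 6 268435456 80442128 [2, 5, 6, 8, 9, 10] = true := by
  decide +kernel

set_option maxRecDepth 100000 in
theorem part_7_11_12_5 : dfsN 6 268435456 97219344 [2, 4, 6, 8, 9, 10] = true := by
  decide +kernel

set_option maxRecDepth 100000 in
theorem part_7_11_12_6 : dfsN 6 268435456 113996560 [2, 4, 5, 8, 9, 10] = true := by
  decide +kernel

set_option maxRecDepth 100000 in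
theorem part_7_11_12_8 : dfsN 6 268435456 147550992 [2, 4, 5, 6, 9, 10] = true := by
  decide +kernel

set_option maxRecDepth 100000 in
theorem part_7_11_12_9 : dfsN 6 268435456 164328208 [2, 4, 5, 6, 8, 10] = true := by
  decide +kernel

set_option maxRecDepth 100000 in
theorem part_7_11_12_10 : dfsN 6 268435456 181105424 [2, 4, 5, 6, 8, 9] = true := by
  decide +kernel

theorem part_7_11_12 : dfsN 7 16777216 13333264 [2, 4, 5, 6, 8, 9, 10] = true := by
  apply dfsN_step 6 16777216 13333264 [2, 4, 5, 6, 8, 9, 10]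
  intro v hv
  simp only [List.mem_cons, List.not_mem_nil, or_false] at hv
  rcases hv with rfl | rfl | rfl | rfl | rfl | rfl | rfl
  exacts [part_7_11_12_2, part_7_11_12_4, part_7_11_12_5, part_7_11_12_6, part_7_11_12_8, part_7_11_12_9, part_7_11_12_10]

theorem part_7_11 : dfsN 8 1048576 750352 [2, 4, 5, 6, 8, 9, 10, 12] = true := by
  apply dfsN_step 7 1048576 750352 [2, 4, 5, 6, 8, 9, 10, 12]
  intro v hv
  simp only [List.mem_cons, List.not_mem_nil, or_false] at hv
  rcases hv with rfl | rfl | rfl | rfl | rfl | rfl | rfl | rfl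
  exacts [part_7_11_2, part_7_11_4, part_7_11_5, part_7_11_6, part_7_11_8, part_7_11_9, part_7_11_10, part_7_11_12]

end Cfsg.Agent.Lib.H16.AG
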