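import Cfsg.Agent.Lib.H16.AG.Step

set_option autoImplicit false

/-! Degree 13, images `0, 1, 3, 7, 12` of `0, 1, 2, 3, 4` fixed: every completion that is an
`11`-cycle has a word `(x ^ b * y ^ a) ^ k` which is a `3`-, `5`- or `7`-cycle
(small kernel computations, one per pair of images of `5, 6`). -/

namespace Cfsg.Agent.Lib.H16.AG

set_option maxRecDepth 100000 in
theorem part_7_12_2_4 : dfsN 6 268435456 70021904 [5, 6, 8, 9, 10, 11] = true := by
  decide +kernel

set_option maxRecDepth 100000 in
theorem part_7_12_2_5 : dfsN 6 268435456 86799120 [4, 6, 8, 9, 10, 11] = true := by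
  decide +kernel

set_option maxRecDepth 100000 in
theorem part_7_12_2_6 : dfsN 6 268435456 103576336 [4, 5, 8, 9, 10, 11] = true := by
  decide +kernel

set_option maxRecDepth 100000 in
theorem part_7_12_2_8 : dfsN 6 268435456 137130768 [4, 5, 6, 9, 10, 11] = true := by
  decide +kernel

set_option maxRecDepth 100000 in
theorem part_7_12_2_9 : dfsN 6 268435456 153907984 [4, 5, 6, 8, 10, 11] = true := by
  decide +kernel

set_option maxRecDepth 100000 in
theorem part_7_12_2_10 : dfsN 6 268435456 170685200 [4, 5, 6, 8, 9, 11] = true := by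
  decide +kernel

set_option maxRecDepth 100000 in
theorem part_7_12_2_11 : dfsN 6 268435456 187462416 [4, 5, 6, 8, 9, 10] = true := by
  decide +kernel

theorem part_7_12_2 : dfsN 7 16777216 2913040 [4, 5, 6, 8, 9, 10, 11] = true := by
  apply dfsN_step 6 16777216 2913040 [4, 5, 6, 8, 9, 10, 11]
  intro v hv
  simp only [List.mem_cons, List.not_mem_nil, or_false] at hv
  rcases hv with rfl | rfl | rfl | rfl | rfl | rfl | rfl
  exacts [part_7_12_2_4, part_7_12_2_5, part_7_12_2_6, part_7_12_2_8, part_7_12_2_9, part_7_12_2_10, part_7_12_2_11]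

set_option maxRecDepth 100000 in
theorem part_7_12_4_2 : dfsN 6 268435456 38564624 [5, 6, 8, 9, 10, 11] = true := by
  decide +kernel

set_option maxRecDepth 100000 in
theorem part_7_12_4_5 : dfsN 6 268435456 88896272 [2, 6, 8, 9, 10, 11] = true := by
  decide +kernel

set_option maxRecDepth 100000 in
theorem part_7_12_4_6 : dfsN 6 268435456 105673488 [2, 5, 8, 9, 10, 11] = true := by
  decide +kernel

set_option maxRecDepth 100000 in
theorem part_7_12_4_8 : dfsN 6 268435456 139227920 [2, 5, 6, 9, 10, 11] = true := by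
  decide +kernel

set_option maxRecDepth 100000 in
theorem part_7_12_4_9 : dfsN 6 268435456 156005136 [2, 5, 6, 8, 10, 11] = true := by
  decide +kernel

set_option maxRecDepth 100000 in
theorem part_7_12_4_10 : dfsN 6 268435456 172782352 [2, 5, 6, 8, 9, 11] = true := by
  decide +kernel

set_option maxRecDepth 100000 in
theorem part_7_12_4_11 : dfsN 6 268435456 189559568 [2, 5, 6, 8, 9, 10] = true := by
  decide +kernel

theorem part_7_12_4 : dfsN 7 16777216 5010192 [2, 5, 6, 8, 9, 10, 11] = true := by
  apply dfsN_step 6 16777216 5010192 [2, 5, 6, 8, 9, 10, 11]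
  intro v hv
  simp only [List.mem_cons, List.not_mem_nil, or_false] at hv
  rcases hv with rfl | rfl | rfl | rfl | rfl | rfl | rfl
  exacts [part_7_12_4_2, part_7_12_4_5, part_7_12_4_6, part_7_12_4_8, part_7_12_4_9, part_7_12_4_10, part_7_12_4_11]

set_option maxRecDepth 100000 in
theorem part_7_12_5_2 : dfsN 6 268435456 39613200 [4, 6, 8, 9, 10, 11] = true := by
  decide +kernel

set_option maxRecDepth 100000 in
theorem part_7_12_5_4 : dfsN 6 268435456 73167632 [2, 6, 8, 9, 10, 11] = true := by
  decide +kernel

set_option maxRecDepth 100000 in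
theorem part_7_12_5_6 : dfsN 6 268435456 106722064 [2, 4, 8, 9, 10, 11] = true := by
  decide +kernel

set_option maxRecDepth 100000 in
theorem part_7_12_5_8 : dfsN 6 268435456 140276496 [2, 4, 6, 9, 10, 11] = true := by
  decide +kernel

set_option maxRecDepth 100000 in
theorem part_7_12_5_9 : dfsN 6 268435456 157053712 [2, 4, 6, 8, 10, 11] = true := by
  decide +kernel

set_option maxRecDepth 100000 in
theorem part_7_12_5_10 : dfsN 6 268435456 173830928 [2, 4, 6, 8, 9, 11] = true := by
  decide +kernel

set_option maxRecDepth 100000 in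
theorem part_7_12_5_11 : dfsN 6 268435456 190608144 [2, 4, 6, 8, 9, 10] = true := by
  decide +kernel

theorem part_7_12_5 : dfsN 7 16777216 6058768 [2, 4, 6, 8, 9, 10, 11] = true := by
  apply dfsN_step 6 16777216 6058768 [2, 4, 6, 8, 9, 10, 11]
  intro v hv
  simp only [List.mem_cons, List.not_mem_nil, or_false] at hv
  rcases hv with rfl | rfl | rfl | rfl | rfl | rfl | rfl
  exacts [part_7_12_5_2, part_7_12_5_4, part_7_12_5_6, part_7_12_5_8, part_7_12_5_9, part_7_12_5_10, part_7_12_5_11]

set_option maxRecDepth 100000 in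
theorem part_7_12_6_2 : dfsN 6 268435456 40661776 [4, 5, 8, 9, 10, 11] = true := by
  decide +kernel

set_option maxRecDepth 100000 in
theorem part_7_12_6_4 : dfsN 6 268435456 74216208 [2, 5, 8, 9, 10, 11] = true := by
  decide +kernel

set_option maxRecDepth 100000 in
theorem part_7_12_6_5 : dfsN 6 268435456 90993424 [2, 4, 8, 9, 10, 11] = true := by
  decide +kernel

set_option maxRecDepth 100000 in
theorem part_7_12_6_8 : dfsN 6 268435456 141325072 [2, 4, 5, 9, 10, 11] = true := by
  decide +kernel

set_option maxRecDepth 100000 in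
theorem part_7_12_6_9 : dfsN 6 268435456 158102288 [2, 4, 5, 8, 10, 11] = true := by
  decide +kernel

set_option maxRecDepth 100000 in
theorem part_7_12_6_10 : dfsN 6 268435456 174879504 [2, 4, 5, 8, 9, 11] = true := by
  decide +kernel

set_option maxRecDepth 100000 in
theorem part_7_12_6_11 : dfsN 6 268435456 191656720 [2, 4, 5, 8, 9, 10] = true := by
  decide +kernel

theorem part_7_12_6 : dfsN 7 16777216 7107344 [2, 4, 5, 8, 9, 10, 11] = true := by
  apply dfsN_step 6 16777216 7107344 [2, 4, 5, 8, 9, 10, 11]
  intro v hv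
  simp only [List.mem_cons, List.not_mem_nil, or_false] at hv
  rcases hv with rfl | rfl | rfl | rfl | rfl | rfl | rfl
  exacts [part_7_12_6_2, part_7_12_6_4, part_7_12_6_5, part_7_12_6_8, part_7_12_6_9, part_7_12_6_10, part_7_12_6_11]

set_option maxRecDepth 100000 in
theorem part_7_12_8_2 : dfsN 6 268435456 42758928 [4, 5, 6, 9, 10, 11] = true := by
  decide +kernel

set_option maxRecDepth 100000 in
theorem part_7_12_8_4 : dfsN 6 268435456 76313360 [2, 5, 6, 9, 10, 11] = true := by
  decide +kernel

set_option maxRecDepth 100000 in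
theorem part_7_12_8_5 : dfsN 6 268435456 93090576 [2, 4, 6, 9, 10, 11] = true := by
  decide +kernel

set_option maxRecDepth 100000 in
theorem part_7_12_8_6 : dfsN 6 268435456 109867792 [2, 4, 5, 9, 10, 11] = true := by
  decide +kernel

set_option maxRecDepth 100000 in
theorem part_7_12_8_9 : dfsN 6 268435456 160199440 [2, 4, 5, 6, 10, 11] = true := by
  decide +kernel

set_option maxRecDepth 100000 in
theorem part_7_12_8_10 : dfsN 6 268435456 176976656 [2, 4, 5, 6, 9, 11] = true := by
  decide +kernel

set_option maxRecDepth 100000 in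
theorem part_7_12_8_11 : dfsN 6 268435456 193753872 [2, 4, 5, 6, 9, 10] = true := by
  decide +kernel

theorem part_7_12_8 : dfsN 7 16777216 9204496 [2, 4, 5, 6, 9, 10, 11] = true := by
  apply dfsN_step 6 16777216 9204496 [2, 4, 5, 6, 9, 10, 11]
  intro v hv
  simp only [List.mem_cons, List.not_mem_nil, or_false] at hv
  rcases hv with rfl | rfl | rfl | rfl | rfl | rfl | rfl
  exacts [part_7_12_8_2, part_7_12_8_4, part_7_12_8_5, part_7_12_8_6, part_7_12_8_9, part_7_12_8_10, part_7_12_8_11]

set_option maxRecDepth 100000 in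
theorem part_7_12_9_2 : dfsN 6 268435456 43807504 [4, 5, 6, 8, 10, 11] = true := by
  decide +kernel

set_option maxRecDepth 100000 in
theorem part_7_12_9_4 : dfsN 6 268435456 77361936 [2, 5, 6, 8, 10, 11] = true := by
  decide +kernel

set_option maxRecDepth 100000 in
theorem part_7_12_9_5 : dfsN 6 268435456 94139152 [2, 4, 6, 8, 10, 11] = true := by
  decide +kernel

set_option maxRecDepth 100000 in
theorem part_7_12_9_6 : dfsN 6 268435456 110916368 [2, 4, 5, 8, 10, 11] = true := by
  decide +kernel

set_option maxRecDepth 100000 in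
theorem part_7_12_9_8 : dfsN 6 268435456 144470800 [2, 4, 5, 6, 10, 11] = true := by
  decide +kernel

set_option maxRecDepth 100000 in
theorem part_7_12_9_10 : dfsN 6 268435456 178025232 [2, 4, 5, 6, 8, 11] = true := by
  decide +kernel

set_option maxRecDepth 100000 in
theorem part_7_12_9_11 : dfsN 6 268435456 194802448 [2, 4, 5, 6, 8, 10] = true := by
  decide +kernel

theorem part_7_12_9 : dfsN 7 16777216 10253072 [2, 4, 5, 6, 8, 10, 11] = true := by
  apply dfsN_step 6 16777216 10253072 [2, 4, 5, 6, 8, 10, 11]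
  intro v hv
  simp only [List.mem_cons, List.not_mem_nil, or_false] at hv
  rcases hv with rfl | rfl | rfl | rfl | rfl | rfl | rfl
  exacts [part_7_12_9_2, part_7_12_9_4, part_7_12_9_5, part_7_12_9_6, part_7_12_9_8, part_7_12_9_10, part_7_12_9_11]

set_option maxRecDepth 100000 in
theorem part_7_12_10_2 : dfsN 6 268435456 44856080 [4, 5, 6, 8, 9, 11] = true := by
  decide +kernel

set_option maxRecDepth 100000 in
theorem part_7_12_10_4 : dfsN 6 268435456 78410512 [2, 5, 6, 8, 9, 11] = true := by
  decide +kernel

set_option maxRecDepth 100000 in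
theorem part_7_12_10_5 : dfsN 6 268435456 95187728 [2, 4, 6, 8, 9, 11] = true := by
  decide +kernel

set_option maxRecDepth 100000 in
theorem part_7_12_10_6 : dfsN 6 268435456 111964944 [2, 4, 5, 8, 9, 11] = true := by
  decide +kernel

set_option maxRecDepth 100000 in
theorem part_7_12_10_8 : dfsN 6 268435456 145519376 [2, 4, 5, 6, 9, 11] = true := by
  decide +kernel

set_option maxRecDepth 100000 in
theorem part_7_12_10_9 : dfsN 6 268435456 162296592 [2, 4, 5, 6, 8, 11] = true := by
  decide +kernel

set_option maxRecDepth 100000 in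
theorem part_7_12_10_11 : dfsN 6 268435456 195851024 [2, 4, 5, 6, 8, 9] = true := by
  decide +kernel

theorem part_7_12_10 : dfsN 7 16777216 11301648 [2, 4, 5, 6, 8, 9, 11] = true := by
  apply dfsN_step 6 16777216 11301648 [2, 4, 5, 6, 8, 9, 11]
  intro v hv
  simp only [List.mem_cons, List.not_mem_nil, or_false] at hv
  rcases hv with rfl | rfl | rfl | rfl | rfl | rfl | rfl
  exacts [part_7_12_10_2, part_7_12_10_4, part_7_12_10_5, part_7_12_10_6, part_7_12_10_8, part_7_12_10_9, part_7_12_10_11]

set_option maxRecDepth 100000 in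
theorem part_7_12_11_2 : dfsN 6 268435456 45904656 [4, 5, 6, 8, 9, 10] = true := by
  decide +kernel

set_option maxRecDepth 100000 in
theorem part_7_12_11_4 : dfsN 6 268435456 79459088 [2, 5, 6, 8, 9, 10] = true := by
  decide +kernel

set_option maxRecDepth 100000 in
theorem part_7_12_11_5 : dfsN 6 268435456 96236304 [2, 4, 6, 8, 9, 10] = true := by
  decide +kernel

set_option maxRecDepth 100000 in
theorem part_7_12_11_6 : dfsN 6 268435456 113013520 [2, 4, 5, 8, 9, 10] = true := by
  decide +kernel

set_option maxRecDepth 100000 in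
theorem part_7_12_11_8 : dfsN 6 268435456 146567952 [2, 4, 5, 6, 9, 10] = true := by
  decide +kernel

set_option maxRecDepth 100000 in
theorem part_7_12_11_9 : dfsN 6 268435456 163345168 [2, 4, 5, 6, 8, 10] = true := by
  decide +kernel

set_option maxRecDepth 100000 in
theorem part_7_12_11_10 : dfsN 6 268435456 180122384 [2, 4, 5, 6, 8, 9] = true := by
  decide +kernel

theorem part_7_12_11 : dfsN 7 16777216 12350224 [2, 4, 5, 6, 8, 9, 10] = true := by
  apply dfsN_step 6 16777216 12350224 [2, 4, 5, 6, 8, 9, 10]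
  intro v hv
  simp only [List.mem_cons, List.not_mem_nil, or_false] at hv
  rcases hv with rfl | rfl | rfl | rfl | rfl | rfl | rfl
  exacts [part_7_12_11_2, part_7_12_11_4, part_7_12_11_5, part_7_12_11_6, part_7_12_11_8, part_7_12_11_9, part_7_12_11_10]

theorem part_7_12 : dfsN 8 1048576 815888 [2, 4, 5, 6, 8, 9, 10, 11] = true := by
  apply dfsN_step 7 1048576 815888 [2, 4, 5, 6, 8, 9, 10, 11]
  intro v hv
  simp only [List.mem_cons, List.not_mem_nil, or_false] at hv
  rcases hv with rfl | rfl | rfl | rfl | rfl | rfl | rfl | rfl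
  exacts [part_7_12_2, part_7_12_4, part_7_12_5, part_7_12_6, part_7_12_8, part_7_12_9, part_7_12_10, part_7_12_11]

end Cfsg.Agent.Lib.H16.AG
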