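import Cfsg.Agent.Lib.H16.AG.Step

set_option autoImplicit false

/-! Degree 13, images `0, 1, 3, 8, 2` of `0, 1, 2, 3, 4` fixed: every completion that is an
`11`-cycle has a word `(x ^ b * y ^ a) ^ k` which is a `3`-, `5`- or `7`-cycle
(small kernel computations, one per pair of images of `5, 6`). -/

namespace Cfsg.Agent.Lib.H16.AG

set_option maxRecDepth 100000 in
theorem part_8_2_4_5 : dfsN 6 268435456 88245008 [6, 7, 9, 10, 11, 12] = true := by
  decide +kernel

set_option maxRecDepth 100000 in
theorem part_8_2_4_6 : dfsN 6 268435456 105022224 [5, 7, 9, 10, 11, 12] = true := by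
  decide +kernel

set_option maxRecDepth 100000 in
theorem part_8_2_4_7 : dfsN 6 268435456 121799440 [5, 6, 9, 10, 11, 12] = true := by
  decide +kernel

set_option maxRecDepth 100000 in
theorem part_8_2_4_9 : dfsN 6 268435456 155353872 [5, 6, 7, 10, 11, 12] = true := by
  decide +kernel

set_option maxRecDepth 100000 in
theorem part_8_2_4_10 : dfsN 6 268435456 172131088 [5, 6, 7, 9, 11, 12] = true := by
  decide +kernel

set_option maxRecDepth 100000 in
theorem part_8_2_4_11 : dfsN 6 268435456 188908304 [5, 6, 7, 9, 10, 12] = true := by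
  decide +kernel

set_option maxRecDepth 100000 in
theorem part_8_2_4_12 : dfsN 6 268435456 205685520 [5, 6, 7, 9, 10, 11] = true := by
  decide +kernel

theorem part_8_2_4 : dfsN 7 16777216 4358928 [5, 6, 7, 9, 10, 11, 12] = true := by
  apply dfsN_step 6 16777216 4358928 [5, 6, 7, 9, 10, 11, 12]
  intro v hv
  simp only [List.mem_cons, List.not_mem_nil, or_false] at hv
  rcases hv with rfl | rfl | rfl | rfl | rfl | rfl | rfl
  exacts [part_8_2_4_5, part_8_2_4_6, part_8_2_4_7, part_8_2_4_9, part_8_2_4_10, part_8_2_4_11, part_8_2_4_12]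

set_option maxRecDepth 100000 in
theorem part_8_2_5_4 : dfsN 6 268435456 72516368 [6, 7, 9, 10, 11, 12] = true := by
  decide +kernel

set_option maxRecDepth 100000 in
theorem part_8_2_5_6 : dfsN 6 268435456 106070800 [4, 7, 9, 10, 11, 12] = true := by
  decide +kernel

set_option maxRecDepth 100000 in
theorem part_8_2_5_7 : dfsN 6 268435456 122848016 [4, 6, 9, 10, 11, 12] = true := by
  decide +kernel

set_option maxRecDepth 100000 in
theorem part_8_2_5_9 : dfsN 6 268435456 156402448 [4, 6, 7, 10, 11, 12] = true := by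
  decide +kernel

set_option maxRecDepth 100000 in
theorem part_8_2_5_10 : dfsN 6 268435456 173179664 [4, 6, 7, 9, 11, 12] = true := by
  decide +kernel

set_option maxRecDepth 100000 in
theorem part_8_2_5_11 : dfsN 6 268435456 189956880 [4, 6, 7, 9, 10, 12] = true := by
  decide +kernel

set_option maxRecDepth 100000 in
theorem part_8_2_5_12 : dfsN 6 268435456 206734096 [4, 6, 7, 9, 10, 11] = true := by
  decide +kernel

theorem part_8_2_5 : dfsN 7 16777216 5407504 [4, 6, 7, 9, 10, 11, 12] = true := by
  apply dfsN_step 6 16777216 5407504 [4, 6, 7, 9, 10, 11, 12]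
  intro v hv
  simp only [List.mem_cons, List.not_mem_nil, or_false] at hv
  rcases hv with rfl | rfl | rfl | rfl | rfl | rfl | rfl
  exacts [part_8_2_5_4, part_8_2_5_6, part_8_2_5_7, part_8_2_5_9, part_8_2_5_10, part_8_2_5_11, part_8_2_5_12]

set_option maxRecDepth 100000 in
theorem part_8_2_6_4 : dfsN 6 268435456 73564944 [5, 7, 9, 10, 11, 12] = true := by
  decide +kernel

set_option maxRecDepth 100000 in
theorem part_8_2_6_5 : dfsN 6 268435456 90342160 [4, 7, 9, 10, 11, 12] = true := by
  decide +kernel

set_option maxRecDepth 100000 in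
theorem part_8_2_6_7 : dfsN 6 268435456 123896592 [4, 5, 9, 10, 11, 12] = true := by
  decide +kernel

set_option maxRecDepth 100000 in
theorem part_8_2_6_9 : dfsN 6 268435456 157451024 [4, 5, 7, 10, 11, 12] = true := by
  decide +kernel

set_option maxRecDepth 100000 in
theorem part_8_2_6_10 : dfsN 6 268435456 174228240 [4, 5, 7, 9, 11, 12] = true := by
  decide +kernel

set_option maxRecDepth 100000 in
theorem part_8_2_6_11 : dfsN 6 268435456 191005456 [4, 5, 7, 9, 10, 12] = true := by
  decide +kernel

set_option maxRecDepth 100000 in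
theorem part_8_2_6_12 : dfsN 6 268435456 207782672 [4, 5, 7, 9, 10, 11] = true := by
  decide +kernel

theorem part_8_2_6 : dfsN 7 16777216 6456080 [4, 5, 7, 9, 10, 11, 12] = true := by
  apply dfsN_step 6 16777216 6456080 [4, 5, 7, 9, 10, 11, 12]
  intro v hv
  simp only [List.mem_cons, List.not_mem_nil, or_false] at hv
  rcases hv with rfl | rfl | rfl | rfl | rfl | rfl | rfl
  exacts [part_8_2_6_4, part_8_2_6_5, part_8_2_6_7, part_8_2_6_9, part_8_2_6_10, part_8_2_6_11, part_8_2_6_12]

set_option maxRecDepth 100000 in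
theorem part_8_2_7_4 : dfsN 6 268435456 74613520 [5, 6, 9, 10, 11, 12] = true := by
  decide +kernel

set_option maxRecDepth 100000 in
theorem part_8_2_7_5 : dfsN 6 268435456 91390736 [4, 6, 9, 10, 11, 12] = true := by
  decide +kernel

set_option maxRecDepth 100000 in
theorem part_8_2_7_6 : dfsN 6 268435456 108167952 [4, 5, 9, 10, 11, 12] = true := by
  decide +kernel

set_option maxRecDepth 100000 in
theorem part_8_2_7_9 : dfsN 6 268435456 158499600 [4, 5, 6, 10, 11, 12] = true := by
  decide +kernel

set_option maxRecDepth 100000 in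
theorem part_8_2_7_10 : dfsN 6 268435456 175276816 [4, 5, 6, 9, 11, 12] = true := by
  decide +kernel

set_option maxRecDepth 100000 in
theorem part_8_2_7_11 : dfsN 6 268435456 192054032 [4, 5, 6, 9, 10, 12] = true := by
  decide +kernel

set_option maxRecDepth 100000 in
theorem part_8_2_7_12 : dfsN 6 268435456 208831248 [4, 5, 6, 9, 10, 11] = true := by
  decide +kernel

theorem part_8_2_7 : dfsN 7 16777216 7504656 [4, 5, 6, 9, 10, 11, 12] = true := by
  apply dfsN_step 6 16777216 7504656 [4, 5, 6, 9, 10, 11, 12]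
  intro v hv
  simp only [List.mem_cons, List.not_mem_nil, or_false] at hv
  rcases hv with rfl | rfl | rfl | rfl | rfl | rfl | rfl
  exacts [part_8_2_7_4, part_8_2_7_5, part_8_2_7_6, part_8_2_7_9, part_8_2_7_10, part_8_2_7_11, part_8_2_7_12]

set_option maxRecDepth 100000 in
theorem part_8_2_9_4 : dfsN 6 268435456 76710672 [5, 6, 7, 10, 11, 12] = true := by
  decide +kernel

set_option maxRecDepth 100000 in
theorem part_8_2_9_5 : dfsN 6 268435456 93487888 [4, 6, 7, 10, 11, 12] = true := by
  decide +kernel

set_option maxRecDepth 100000 in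
theorem part_8_2_9_6 : dfsN 6 268435456 110265104 [4, 5, 7, 10, 11, 12] = true := by
  decide +kernel

set_option maxRecDepth 100000 in
theorem part_8_2_9_7 : dfsN 6 268435456 127042320 [4, 5, 6, 10, 11, 12] = true := by
  decide +kernel

set_option maxRecDepth 100000 in
theorem part_8_2_9_10 : dfsN 6 268435456 177373968 [4, 5, 6, 7, 11, 12] = true := by
  decide +kernel

set_option maxRecDepth 100000 in
theorem part_8_2_9_11 : dfsN 6 268435456 194151184 [4, 5, 6, 7, 10, 12] = true := by
  decide +kernel

set_option maxRecDepth 100000 in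
theorem part_8_2_9_12 : dfsN 6 268435456 210928400 [4, 5, 6, 7, 10, 11] = true := by
  decide +kernel

theorem part_8_2_9 : dfsN 7 16777216 9601808 [4, 5, 6, 7, 10, 11, 12] = true := by
  apply dfsN_step 6 16777216 9601808 [4, 5, 6, 7, 10, 11, 12]
  intro v hv
  simp only [List.mem_cons, List.not_mem_nil, or_false] at hv
  rcases hv with rfl | rfl | rfl | rfl | rfl | rfl | rfl
  exacts [part_8_2_9_4, part_8_2_9_5, part_8_2_9_6, part_8_2_9_7, part_8_2_9_10, part_8_2_9_11, part_8_2_9_12]

set_option maxRecDepth 100000 in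
theorem part_8_2_10_4 : dfsN 6 268435456 77759248 [5, 6, 7, 9, 11, 12] = true := by
  decide +kernel

set_option maxRecDepth 100000 in
theorem part_8_2_10_5 : dfsN 6 268435456 94536464 [4, 6, 7, 9, 11, 12] = true := by
  decide +kernel

set_option maxRecDepth 100000 in
theorem part_8_2_10_6 : dfsN 6 268435456 111313680 [4, 5, 7, 9, 11, 12] = true := by
  decide +kernel

set_option maxRecDepth 100000 in
theorem part_8_2_10_7 : dfsN 6 268435456 128090896 [4, 5, 6, 9, 11, 12] = true := by
  decide +kernel

set_option maxRecDepth 100000 in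
theorem part_8_2_10_9 : dfsN 6 268435456 161645328 [4, 5, 6, 7, 11, 12] = true := by
  decide +kernel

set_option maxRecDepth 100000 in
theorem part_8_2_10_11 : dfsN 6 268435456 195199760 [4, 5, 6, 7, 9, 12] = true := by
  decide +kernel

set_option maxRecDepth 100000 in
theorem part_8_2_10_12 : dfsN 6 268435456 211976976 [4, 5, 6, 7, 9, 11] = true := by
  decide +kernel

theorem part_8_2_10 : dfsN 7 16777216 10650384 [4, 5, 6, 7, 9, 11, 12] = true := by
  apply dfsN_step 6 16777216 10650384 [4, 5, 6, 7, 9, 11, 12]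
  intro v hv
  simp only [List.mem_cons, List.not_mem_nil, or_false] at hv
  rcases hv with rfl | rfl | rfl | rfl | rfl | rfl | rfl
  exacts [part_8_2_10_4, part_8_2_10_5, part_8_2_10_6, part_8_2_10_7, part_8_2_10_9, part_8_2_10_11, part_8_2_10_12]

set_option maxRecDepth 100000 in
theorem part_8_2_11_4 : dfsN 6 268435456 78807824 [5, 6, 7, 9, 10, 12] = true := by
  decide +kernel

set_option maxRecDepth 100000 in
theorem part_8_2_11_5 : dfsN 6 268435456 95585040 [4, 6, 7, 9, 10, 12] = true := by
  decide +kernel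

set_option maxRecDepth 100000 in
theorem part_8_2_11_6 : dfsN 6 268435456 112362256 [4, 5, 7, 9, 10, 12] = true := by
  decide +kernel

set_option maxRecDepth 100000 in
theorem part_8_2_11_7 : dfsN 6 268435456 129139472 [4, 5, 6, 9, 10, 12] = true := by
  decide +kernel

set_option maxRecDepth 100000 in
theorem part_8_2_11_9 : dfsN 6 268435456 162693904 [4, 5, 6, 7, 10, 12] = true := by
  decide +kernel

set_option maxRecDepth 100000 in
theorem part_8_2_11_10 : dfsN 6 268435456 179471120 [4, 5, 6, 7, 9, 12] = true := by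
  decide +kernel

set_option maxRecDepth 100000 in
theorem part_8_2_11_12 : dfsN 6 268435456 213025552 [4, 5, 6, 7, 9, 10] = true := by
  decide +kernel

theorem part_8_2_11 : dfsN 7 16777216 11698960 [4, 5, 6, 7, 9, 10, 12] = true := by
  apply dfsN_step 6 16777216 11698960 [4, 5, 6, 7, 9, 10, 12]
  intro v hv
  simp only [List.mem_cons, List.not_mem_nil, or_false] at hv
  rcases hv with rfl | rfl | rfl | rfl | rfl | rfl | rfl
  exacts [part_8_2_11_4, part_8_2_11_5, part_8_2_11_6, part_8_2_11_7, part_8_2_11_9, part_8_2_11_10, part_8_2_11_12]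

set_option maxRecDepth 100000 in
theorem part_8_2_12_4 : dfsN 6 268435456 79856400 [5, 6, 7, 9, 10, 11] = true := by
  decide +kernel

set_option maxRecDepth 100000 in
theorem part_8_2_12_5 : dfsN 6 268435456 96633616 [4, 6, 7, 9, 10, 11] = true := by
  decide +kernel

set_option maxRecDepth 100000 in
theorem part_8_2_12_6 : dfsN 6 268435456 113410832 [4, 5, 7, 9, 10, 11] = true := by
  decide +kernel

set_option maxRecDepth 100000 in
theorem part_8_2_12_7 : dfsN 6 268435456 130188048 [4, 5, 6, 9, 10, 11] = true := by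
  decide +kernel

set_option maxRecDepth 100000 in
theorem part_8_2_12_9 : dfsN 6 268435456 163742480 [4, 5, 6, 7, 10, 11] = true := by
  decide +kernel

set_option maxRecDepth 100000 in
theorem part_8_2_12_10 : dfsN 6 268435456 180519696 [4, 5, 6, 7, 9, 11] = true := by
  decide +kernel

set_option maxRecDepth 100000 in
theorem part_8_2_12_11 : dfsN 6 268435456 197296912 [4, 5, 6, 7, 9, 10] = true := by
  decide +kernel

theorem part_8_2_12 : dfsN 7 16777216 12747536 [4, 5, 6, 7, 9, 10, 11] = true := by
  apply dfsN_step 6 16777216 12747536 [4, 5, 6, 7, 9, 10, 11]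
  intro v hv
  simp only [List.mem_cons, List.not_mem_nil, or_false] at hv
  rcases hv with rfl | rfl | rfl | rfl | rfl | rfl | rfl
  exacts [part_8_2_12_4, part_8_2_12_5, part_8_2_12_6, part_8_2_12_7, part_8_2_12_9, part_8_2_12_10, part_8_2_12_11]

theorem part_8_2 : dfsN 8 1048576 164624 [4, 5, 6, 7, 9, 10, 11, 12] = true := by
  apply dfsN_step 7 1048576 164624 [4, 5, 6, 7, 9, 10, 11, 12]
  intro v hv
  simp only [List.mem_cons, List.not_mem_nil, or_false] at hv
  rcases hv with rfl | rfl | rfl | rfl | rfl | rfl | rfl | rfl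
  exacts [part_8_2_4, part_8_2_5, part_8_2_6, part_8_2_7, part_8_2_9, part_8_2_10, part_8_2_11, part_8_2_12]

end Cfsg.Agent.Lib.H16.AG
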