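import Cfsg.Agent.Lib.H16.AG.Step

set_option autoImplicit false

/-! Degree 13, images `0, 1, 3, 8, 4` of `0, 1, 2, 3, 4` fixed: every completion that is an
`11`-cycle has a word `(x ^ b * y ^ a) ^ k` which is a `3`-, `5`- or `7`-cycle
(small kernel computations, one per pair of images of `5, 6`). -/

namespace Cfsg.Agent.Lib.H16.AG

set_option maxRecDepth 100000 in
theorem part_8_4_2_5 : dfsN 6 268435456 86278928 [6, 7, 9, 10, 11, 12] = true := by
  decide +kernel

set_option maxRecDepth 100000 in
theorem part_8_4_2_6 : dfsN 6 268435456 103056144 [5, 7, 9, 10, 11, 12] = true := by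
  decide +kernel

set_option maxRecDepth 100000 in
theorem part_8_4_2_7 : dfsN 6 268435456 119833360 [5, 6, 9, 10, 11, 12] = true := by
  decide +kernel

set_option maxRecDepth 100000 in
theorem part_8_4_2_9 : dfsN 6 268435456 153387792 [5, 6, 7, 10, 11, 12] = true := by
  decide +kernel

set_option maxRecDepth 100000 in
theorem part_8_4_2_10 : dfsN 6 268435456 170165008 [5, 6, 7, 9, 11, 12] = true := by
  decide +kernel

set_option maxRecDepth 100000 in
theorem part_8_4_2_11 : dfsN 6 268435456 186942224 [5, 6, 7, 9, 10, 12] = true := by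
  decide +kernel

set_option maxRecDepth 100000 in
theorem part_8_4_2_12 : dfsN 6 268435456 203719440 [5, 6, 7, 9, 10, 11] = true := by
  decide +kernel

theorem part_8_4_2 : dfsN 7 16777216 2392848 [5, 6, 7, 9, 10, 11, 12] = true := by
  apply dfsN_step 6 16777216 2392848 [5, 6, 7, 9, 10, 11, 12]
  intro v hv
  simp only [List.mem_cons, List.not_mem_nil, or_false] at hv
  rcases hv with rfl | rfl | rfl | rfl | rfl | rfl | rfl
  exacts [part_8_4_2_5, part_8_4_2_6, part_8_4_2_7, part_8_4_2_9, part_8_4_2_10, part_8_4_2_11, part_8_4_2_12]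

set_option maxRecDepth 100000 in
theorem part_8_4_5_2 : dfsN 6 268435456 39093008 [6, 7, 9, 10, 11, 12] = true := by
  decide +kernel

set_option maxRecDepth 100000 in
theorem part_8_4_5_6 : dfsN 6 268435456 106201872 [2, 7, 9, 10, 11, 12] = true := by
  decide +kernel

set_option maxRecDepth 100000 in
theorem part_8_4_5_7 : dfsN 6 268435456 122979088 [2, 6, 9, 10, 11, 12] = true := by
  decide +kernel

set_option maxRecDepth 100000 in
theorem part_8_4_5_9 : dfsN 6 268435456 156533520 [2, 6, 7, 10, 11, 12] = true := by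
  decide +kernel

set_option maxRecDepth 100000 in
theorem part_8_4_5_10 : dfsN 6 268435456 173310736 [2, 6, 7, 9, 11, 12] = true := by
  decide +kernel

set_option maxRecDepth 100000 in
theorem part_8_4_5_11 : dfsN 6 268435456 190087952 [2, 6, 7, 9, 10, 12] = true := by
  decide +kernel

set_option maxRecDepth 100000 in
theorem part_8_4_5_12 : dfsN 6 268435456 206865168 [2, 6, 7, 9, 10, 11] = true := by
  decide +kernel

theorem part_8_4_5 : dfsN 7 16777216 5538576 [2, 6, 7, 9, 10, 11, 12] = true := by
  apply dfsN_step 6 16777216 5538576 [2, 6, 7, 9, 10, 11, 12]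
  intro v hv
  simp only [List.mem_cons, List.not_mem_nil, or_false] at hv
  rcases hv with rfl | rfl | rfl | rfl | rfl | rfl | rfl
  exacts [part_8_4_5_2, part_8_4_5_6, part_8_4_5_7, part_8_4_5_9, part_8_4_5_10, part_8_4_5_11, part_8_4_5_12]

set_option maxRecDepth 100000 in
theorem part_8_4_6_2 : dfsN 6 268435456 40141584 [5, 7, 9, 10, 11, 12] = true := by
  decide +kernel

set_option maxRecDepth 100000 in
theorem part_8_4_6_5 : dfsN 6 268435456 90473232 [2, 7, 9, 10, 11, 12] = true := by
  decide +kernel

set_option maxRecDepth 100000 in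
theorem part_8_4_6_7 : dfsN 6 268435456 124027664 [2, 5, 9, 10, 11, 12] = true := by
  decide +kernel

set_option maxRecDepth 100000 in
theorem part_8_4_6_9 : dfsN 6 268435456 157582096 [2, 5, 7, 10, 11, 12] = true := by
  decide +kernel

set_option maxRecDepth 100000 in
theorem part_8_4_6_10 : dfsN 6 268435456 174359312 [2, 5, 7, 9, 11, 12] = true := by
  decide +kernel

set_option maxRecDepth 100000 in
theorem part_8_4_6_11 : dfsN 6 268435456 191136528 [2, 5, 7, 9, 10, 12] = true := by
  decide +kernel

set_option maxRecDepth 100000 in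
theorem part_8_4_6_12 : dfsN 6 268435456 207913744 [2, 5, 7, 9, 10, 11] = true := by
  decide +kernel

theorem part_8_4_6 : dfsN 7 16777216 6587152 [2, 5, 7, 9, 10, 11, 12] = true := by
  apply dfsN_step 6 16777216 6587152 [2, 5, 7, 9, 10, 11, 12]
  intro v hv
  simp only [List.mem_cons, List.not_mem_nil, or_false] at hv
  rcases hv with rfl | rfl | rfl | rfl | rfl | rfl | rfl
  exacts [part_8_4_6_2, part_8_4_6_5, part_8_4_6_7, part_8_4_6_9, part_8_4_6_10, part_8_4_6_11, part_8_4_6_12]

set_option maxRecDepth 100000 in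
theorem part_8_4_7_2 : dfsN 6 268435456 41190160 [5, 6, 9, 10, 11, 12] = true := by
  decide +kernel

set_option maxRecDepth 100000 in
theorem part_8_4_7_5 : dfsN 6 268435456 91521808 [2, 6, 9, 10, 11, 12] = true := by
  decide +kernel

set_option maxRecDepth 100000 in
theorem part_8_4_7_6 : dfsN 6 268435456 108299024 [2, 5, 9, 10, 11, 12] = true := by
  decide +kernel

set_option maxRecDepth 100000 in
theorem part_8_4_7_9 : dfsN 6 268435456 158630672 [2, 5, 6, 10, 11, 12] = true := by
  decide +kernel

set_option maxRecDepth 100000 in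
theorem part_8_4_7_10 : dfsN 6 268435456 175407888 [2, 5, 6, 9, 11, 12] = true := by
  decide +kernel

set_option maxRecDepth 100000 in
theorem part_8_4_7_11 : dfsN 6 268435456 192185104 [2, 5, 6, 9, 10, 12] = true := by
  decide +kernel

set_option maxRecDepth 100000 in
theorem part_8_4_7_12 : dfsN 6 268435456 208962320 [2, 5, 6, 9, 10, 11] = true := by
  decide +kernel

theorem part_8_4_7 : dfsN 7 16777216 7635728 [2, 5, 6, 9, 10, 11, 12] = true := by
  apply dfsN_step 6 16777216 7635728 [2, 5, 6, 9, 10, 11, 12]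
  intro v hv
  simp only [List.mem_cons, List.not_mem_nil, or_false] at hv
  rcases hv with rfl | rfl | rfl | rfl | rfl | rfl | rfl
  exacts [part_8_4_7_2, part_8_4_7_5, part_8_4_7_6, part_8_4_7_9, part_8_4_7_10, part_8_4_7_11, part_8_4_7_12]

set_option maxRecDepth 100000 in
theorem part_8_4_9_2 : dfsN 6 268435456 43287312 [5, 6, 7, 10, 11, 12] = true := by
  decide +kernel

set_option maxRecDepth 100000 in
theorem part_8_4_9_5 : dfsN 6 268435456 93618960 [2, 6, 7, 10, 11, 12] = true := by
  decide +kernel

set_option maxRecDepth 100000 in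
theorem part_8_4_9_6 : dfsN 6 268435456 110396176 [2, 5, 7, 10, 11, 12] = true := by
  decide +kernel

set_option maxRecDepth 100000 in
theorem part_8_4_9_7 : dfsN 6 268435456 127173392 [2, 5, 6, 10, 11, 12] = true := by
  decide +kernel

set_option maxRecDepth 100000 in
theorem part_8_4_9_10 : dfsN 6 268435456 177505040 [2, 5, 6, 7, 11, 12] = true := by
  decide +kernel

set_option maxRecDepth 100000 in
theorem part_8_4_9_11 : dfsN 6 268435456 194282256 [2, 5, 6, 7, 10, 12] = true := by
  decide +kernel

set_option maxRecDepth 100000 in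
theorem part_8_4_9_12 : dfsN 6 268435456 211059472 [2, 5, 6, 7, 10, 11] = true := by
  decide +kernel

theorem part_8_4_9 : dfsN 7 16777216 9732880 [2, 5, 6, 7, 10, 11, 12] = true := by
  apply dfsN_step 6 16777216 9732880 [2, 5, 6, 7, 10, 11, 12]
  intro v hv
  simp only [List.mem_cons, List.not_mem_nil, or_false] at hv
  rcases hv with rfl | rfl | rfl | rfl | rfl | rfl | rfl
  exacts [part_8_4_9_2, part_8_4_9_5, part_8_4_9_6, part_8_4_9_7, part_8_4_9_10, part_8_4_9_11, part_8_4_9_12]

set_option maxRecDepth 100000 in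
theorem part_8_4_10_2 : dfsN 6 268435456 44335888 [5, 6, 7, 9, 11, 12] = true := by
  decide +kernel

set_option maxRecDepth 100000 in
theorem part_8_4_10_5 : dfsN 6 268435456 94667536 [2, 6, 7, 9, 11, 12] = true := by
  decide +kernel

set_option maxRecDepth 100000 in
theorem part_8_4_10_6 : dfsN 6 268435456 111444752 [2, 5, 7, 9, 11, 12] = true := by
  decide +kernel

set_option maxRecDepth 100000 in
theorem part_8_4_10_7 : dfsN 6 268435456 128221968 [2, 5, 6, 9, 11, 12] = true := by
  decide +kernel

set_option maxRecDepth 100000 in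
theorem part_8_4_10_9 : dfsN 6 268435456 161776400 [2, 5, 6, 7, 11, 12] = true := by
  decide +kernel

set_option maxRecDepth 100000 in
theorem part_8_4_10_11 : dfsN 6 268435456 195330832 [2, 5, 6, 7, 9, 12] = true := by
  decide +kernel

set_option maxRecDepth 100000 in
theorem part_8_4_10_12 : dfsN 6 268435456 212108048 [2, 5, 6, 7, 9, 11] = true := by
  decide +kernel

theorem part_8_4_10 : dfsN 7 16777216 10781456 [2, 5, 6, 7, 9, 11, 12] = true := by
  apply dfsN_step 6 16777216 10781456 [2, 5, 6, 7, 9, 11, 12]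
  intro v hv
  simp only [List.mem_cons, List.not_mem_nil, or_false] at hv
  rcases hv with rfl | rfl | rfl | rfl | rfl | rfl | rfl
  exacts [part_8_4_10_2, part_8_4_10_5, part_8_4_10_6, part_8_4_10_7, part_8_4_10_9, part_8_4_10_11, part_8_4_10_12]

set_option maxRecDepth 100000 in
theorem part_8_4_11_2 : dfsN 6 268435456 45384464 [5, 6, 7, 9, 10, 12] = true := by
  decide +kernel

set_option maxRecDepth 100000 in
theorem part_8_4_11_5 : dfsN 6 268435456 95716112 [2, 6, 7, 9, 10, 12] = true := by
  decide +kernel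

set_option maxRecDepth 100000 in
theorem part_8_4_11_6 : dfsN 6 268435456 112493328 [2, 5, 7, 9, 10, 12] = true := by
  decide +kernel

set_option maxRecDepth 100000 in
theorem part_8_4_11_7 : dfsN 6 268435456 129270544 [2, 5, 6, 9, 10, 12] = true := by
  decide +kernel

set_option maxRecDepth 100000 in
theorem part_8_4_11_9 : dfsN 6 268435456 162824976 [2, 5, 6, 7, 10, 12] = true := by
  decide +kernel

set_option maxRecDepth 100000 in
theorem part_8_4_11_10 : dfsN 6 268435456 179602192 [2, 5, 6, 7, 9, 12] = true := by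
  decide +kernel

set_option maxRecDepth 100000 in
theorem part_8_4_11_12 : dfsN 6 268435456 213156624 [2, 5, 6, 7, 9, 10] = true := by
  decide +kernel

theorem part_8_4_11 : dfsN 7 16777216 11830032 [2, 5, 6, 7, 9, 10, 12] = true := by
  apply dfsN_step 6 16777216 11830032 [2, 5, 6, 7, 9, 10, 12]
  intro v hv
  simp only [List.mem_cons, List.not_mem_nil, or_false] at hv
  rcases hv with rfl | rfl | rfl | rfl | rfl | rfl | rfl
  exacts [part_8_4_11_2, part_8_4_11_5, part_8_4_11_6, part_8_4_11_7, part_8_4_11_9, part_8_4_11_10, part_8_4_11_12]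

set_option maxRecDepth 100000 in
theorem part_8_4_12_2 : dfsN 6 268435456 46433040 [5, 6, 7, 9, 10, 11] = true := by
  decide +kernel

set_option maxRecDepth 100000 in
theorem part_8_4_12_5 : dfsN 6 268435456 96764688 [2, 6, 7, 9, 10, 11] = true := by
  decide +kernel

set_option maxRecDepth 100000 in
theorem part_8_4_12_6 : dfsN 6 268435456 113541904 [2, 5, 7, 9, 10, 11] = true := by
  decide +kernel

set_option maxRecDepth 100000 in
theorem part_8_4_12_7 : dfsN 6 268435456 130319120 [2, 5, 6, 9, 10, 11] = true := by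
  decide +kernel

set_option maxRecDepth 100000 in
theorem part_8_4_12_9 : dfsN 6 268435456 163873552 [2, 5, 6, 7, 10, 11] = true := by
  decide +kernel

set_option maxRecDepth 100000 in
theorem part_8_4_12_10 : dfsN 6 268435456 180650768 [2, 5, 6, 7, 9, 11] = true := by
  decide +kernel

set_option maxRecDepth 100000 in
theorem part_8_4_12_11 : dfsN 6 268435456 197427984 [2, 5, 6, 7, 9, 10] = true := by
  decide +kernel

theorem part_8_4_12 : dfsN 7 16777216 12878608 [2, 5, 6, 7, 9, 10, 11] = true := by
  apply dfsN_step 6 16777216 12878608 [2, 5, 6, 7, 9, 10, 11]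
  intro v hv
  simp only [List.mem_cons, List.not_mem_nil, or_false] at hv
  rcases hv with rfl | rfl | rfl | rfl | rfl | rfl | rfl
  exacts [part_8_4_12_2, part_8_4_12_5, part_8_4_12_6, part_8_4_12_7, part_8_4_12_9, part_8_4_12_10, part_8_4_12_11]

theorem part_8_4 : dfsN 8 1048576 295696 [2, 5, 6, 7, 9, 10, 11, 12] = true := by
  apply dfsN_step 7 1048576 295696 [2, 5, 6, 7, 9, 10, 11, 12]
  intro v hv
  simp only [List.mem_cons, List.not_mem_nil, or_false] at hv
  rcases hv with rfl | rfl | rfl | rfl | rfl | rfl | rfl | rfl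
  exacts [part_8_4_2, part_8_4_5, part_8_4_6, part_8_4_7, part_8_4_9, part_8_4_10, part_8_4_11, part_8_4_12]

end Cfsg.Agent.Lib.H16.AG
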