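import Cfsg.Agent.Lib.H16.AG.Step

set_option autoImplicit false

/-! Degree 13, images `0, 1, 3, 8, 5` of `0, 1, 2, 3, 4` fixed: every completion that is an
`11`-cycle has a word `(x ^ b * y ^ a) ^ k` which is a `3`-, `5`- or `7`-cycle
(small kernel computations, one per pair of images of `5, 6`). -/

namespace Cfsg.Agent.Lib.H16.AG

set_option maxRecDepth 100000 in
theorem part_8_5_2_4 : dfsN 6 268435456 69567248 [6, 7, 9, 10, 11, 12] = true := by
  decide +kernel

set_option maxRecDepth 100000 in
theorem part_8_5_2_6 : dfsN 6 268435456 103121680 [4, 7, 9, 10, 11, 12] = true := by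
  decide +kernel

set_option maxRecDepth 100000 in
theorem part_8_5_2_7 : dfsN 6 268435456 119898896 [4, 6, 9, 10, 11, 12] = true := by
  decide +kernel

set_option maxRecDepth 100000 in
theorem part_8_5_2_9 : dfsN 6 268435456 153453328 [4, 6, 7, 10, 11, 12] = true := by
  decide +kernel

set_option maxRecDepth 100000 in
theorem part_8_5_2_10 : dfsN 6 268435456 170230544 [4, 6, 7, 9, 11, 12] = true := by
  decide +kernel

set_option maxRecDepth 100000 in
theorem part_8_5_2_11 : dfsN 6 268435456 187007760 [4, 6, 7, 9, 10, 12] = true := by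
  decide +kernel

set_option maxRecDepth 100000 in
theorem part_8_5_2_12 : dfsN 6 268435456 203784976 [4, 6, 7, 9, 10, 11] = true := by
  decide +kernel

theorem part_8_5_2 : dfsN 7 16777216 2458384 [4, 6, 7, 9, 10, 11, 12] = true := by
  apply dfsN_step 6 16777216 2458384 [4, 6, 7, 9, 10, 11, 12]
  intro v hv
  simp only [List.mem_cons, List.not_mem_nil, or_false] at hv
  rcases hv with rfl | rfl | rfl | rfl | rfl | rfl | rfl
  exacts [part_8_5_2_4, part_8_5_2_6, part_8_5_2_7, part_8_5_2_9, part_8_5_2_10, part_8_5_2_11, part_8_5_2_12]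

set_option maxRecDepth 100000 in
theorem part_8_5_4_2 : dfsN 6 268435456 38109968 [6, 7, 9, 10, 11, 12] = true := by
  decide +kernel

set_option maxRecDepth 100000 in
theorem part_8_5_4_6 : dfsN 6 268435456 105218832 [2, 7, 9, 10, 11, 12] = true := by
  decide +kernel

set_option maxRecDepth 100000 in
theorem part_8_5_4_7 : dfsN 6 268435456 121996048 [2, 6, 9, 10, 11, 12] = true := by
  decide +kernel

set_option maxRecDepth 100000 in
theorem part_8_5_4_9 : dfsN 6 268435456 155550480 [2, 6, 7, 10, 11, 12] = true := by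
  decide +kernel

set_option maxRecDepth 100000 in
theorem part_8_5_4_10 : dfsN 6 268435456 172327696 [2, 6, 7, 9, 11, 12] = true := by
  decide +kernel

set_option maxRecDepth 100000 in
theorem part_8_5_4_11 : dfsN 6 268435456 189104912 [2, 6, 7, 9, 10, 12] = true := by
  decide +kernel

set_option maxRecDepth 100000 in
theorem part_8_5_4_12 : dfsN 6 268435456 205882128 [2, 6, 7, 9, 10, 11] = true := by
  decide +kernel

theorem part_8_5_4 : dfsN 7 16777216 4555536 [2, 6, 7, 9, 10, 11, 12] = true := by
  apply dfsN_step 6 16777216 4555536 [2, 6, 7, 9, 10, 11, 12]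
  intro v hv
  simp only [List.mem_cons, List.not_mem_nil, or_false] at hv
  rcases hv with rfl | rfl | rfl | rfl | rfl | rfl | rfl
  exacts [part_8_5_4_2, part_8_5_4_6, part_8_5_4_7, part_8_5_4_9, part_8_5_4_10, part_8_5_4_11, part_8_5_4_12]

set_option maxRecDepth 100000 in
theorem part_8_5_6_2 : dfsN 6 268435456 40207120 [4, 7, 9, 10, 11, 12] = true := by
  decide +kernel

set_option maxRecDepth 100000 in
theorem part_8_5_6_4 : dfsN 6 268435456 73761552 [2, 7, 9, 10, 11, 12] = true := by
  decide +kernel

set_option maxRecDepth 100000 in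
theorem part_8_5_6_7 : dfsN 6 268435456 124093200 [2, 4, 9, 10, 11, 12] = true := by
  decide +kernel

set_option maxRecDepth 100000 in
theorem part_8_5_6_9 : dfsN 6 268435456 157647632 [2, 4, 7, 10, 11, 12] = true := by
  decide +kernel

set_option maxRecDepth 100000 in
theorem part_8_5_6_10 : dfsN 6 268435456 174424848 [2, 4, 7, 9, 11, 12] = true := by
  decide +kernel

set_option maxRecDepth 100000 in
theorem part_8_5_6_11 : dfsN 6 268435456 191202064 [2, 4, 7, 9, 10, 12] = true := by
  decide +kernel

set_option maxRecDepth 100000 in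
theorem part_8_5_6_12 : dfsN 6 268435456 207979280 [2, 4, 7, 9, 10, 11] = true := by
  decide +kernel

theorem part_8_5_6 : dfsN 7 16777216 6652688 [2, 4, 7, 9, 10, 11, 12] = true := by
  apply dfsN_step 6 16777216 6652688 [2, 4, 7, 9, 10, 11, 12]
  intro v hv
  simp only [List.mem_cons, List.not_mem_nil, or_false] at hv
  rcases hv with rfl | rfl | rfl | rfl | rfl | rfl | rfl
  exacts [part_8_5_6_2, part_8_5_6_4, part_8_5_6_7, part_8_5_6_9, part_8_5_6_10, part_8_5_6_11, part_8_5_6_12]

set_option maxRecDepth 100000 in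
theorem part_8_5_7_2 : dfsN 6 268435456 41255696 [4, 6, 9, 10, 11, 12] = true := by
  decide +kernel

set_option maxRecDepth 100000 in
theorem part_8_5_7_4 : dfsN 6 268435456 74810128 [2, 6, 9, 10, 11, 12] = true := by
  decide +kernel

set_option maxRecDepth 100000 in
theorem part_8_5_7_6 : dfsN 6 268435456 108364560 [2, 4, 9, 10, 11, 12] = true := by
  decide +kernel

set_option maxRecDepth 100000 in
theorem part_8_5_7_9 : dfsN 6 268435456 158696208 [2, 4, 6, 10, 11, 12] = true := by
  decide +kernel

set_option maxRecDepth 100000 in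
theorem part_8_5_7_10 : dfsN 6 268435456 175473424 [2, 4, 6, 9, 11, 12] = true := by
  decide +kernel

set_option maxRecDepth 100000 in
theorem part_8_5_7_11 : dfsN 6 268435456 192250640 [2, 4, 6, 9, 10, 12] = true := by
  decide +kernel

set_option maxRecDepth 100000 in
theorem part_8_5_7_12 : dfsN 6 268435456 209027856 [2, 4, 6, 9, 10, 11] = true := by
  decide +kernel

theorem part_8_5_7 : dfsN 7 16777216 7701264 [2, 4, 6, 9, 10, 11, 12] = true := by
  apply dfsN_step 6 16777216 7701264 [2, 4, 6, 9, 10, 11, 12]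
  intro v hv
  simp only [List.mem_cons, List.not_mem_nil, or_false] at hv
  rcases hv with rfl | rfl | rfl | rfl | rfl | rfl | rfl
  exacts [part_8_5_7_2, part_8_5_7_4, part_8_5_7_6, part_8_5_7_9, part_8_5_7_10, part_8_5_7_11, part_8_5_7_12]

set_option maxRecDepth 100000 in
theorem part_8_5_9_2 : dfsN 6 268435456 43352848 [4, 6, 7, 10, 11, 12] = true := by
  decide +kernel

set_option maxRecDepth 100000 in
theorem part_8_5_9_4 : dfsN 6 268435456 76907280 [2, 6, 7, 10, 11, 12] = true := by
  decide +kernel

set_option maxRecDepth 100000 in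
theorem part_8_5_9_6 : dfsN 6 268435456 110461712 [2, 4, 7, 10, 11, 12] = true := by
  decide +kernel

set_option maxRecDepth 100000 in
theorem part_8_5_9_7 : dfsN 6 268435456 127238928 [2, 4, 6, 10, 11, 12] = true := by
  decide +kernel

set_option maxRecDepth 100000 in
theorem part_8_5_9_10 : dfsN 6 268435456 177570576 [2, 4, 6, 7, 11, 12] = true := by
  decide +kernel

set_option maxRecDepth 100000 in
theorem part_8_5_9_11 : dfsN 6 268435456 194347792 [2, 4, 6, 7, 10, 12] = true := by
  decide +kernel

set_option maxRecDepth 100000 in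
theorem part_8_5_9_12 : dfsN 6 268435456 211125008 [2, 4, 6, 7, 10, 11] = true := by
  decide +kernel

theorem part_8_5_9 : dfsN 7 16777216 9798416 [2, 4, 6, 7, 10, 11, 12] = true := by
  apply dfsN_step 6 16777216 9798416 [2, 4, 6, 7, 10, 11, 12]
  intro v hv
  simp only [List.mem_cons, List.not_mem_nil, or_false] at hv
  rcases hv with rfl | rfl | rfl | rfl | rfl | rfl | rfl
  exacts [part_8_5_9_2, part_8_5_9_4, part_8_5_9_6, part_8_5_9_7, part_8_5_9_10, part_8_5_9_11, part_8_5_9_12]

set_option maxRecDepth 100000 in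
theorem part_8_5_10_2 : dfsN 6 268435456 44401424 [4, 6, 7, 9, 11, 12] = true := by
  decide +kernel

set_option maxRecDepth 100000 in
theorem part_8_5_10_4 : dfsN 6 268435456 77955856 [2, 6, 7, 9, 11, 12] = true := by
  decide +kernel

set_option maxRecDepth 100000 in
theorem part_8_5_10_6 : dfsN 6 268435456 111510288 [2, 4, 7, 9, 11, 12] = true := by
  decide +kernel

set_option maxRecDepth 100000 in
theorem part_8_5_10_7 : dfsN 6 268435456 128287504 [2, 4, 6, 9, 11, 12] = true := by
  decide +kernel

set_option maxRecDepth 100000 in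
theorem part_8_5_10_9 : dfsN 6 268435456 161841936 [2, 4, 6, 7, 11, 12] = true := by
  decide +kernel

set_option maxRecDepth 100000 in
theorem part_8_5_10_11 : dfsN 6 268435456 195396368 [2, 4, 6, 7, 9, 12] = true := by
  decide +kernel

set_option maxRecDepth 100000 in
theorem part_8_5_10_12 : dfsN 6 268435456 212173584 [2, 4, 6, 7, 9, 11] = true := by
  decide +kernel

theorem part_8_5_10 : dfsN 7 16777216 10846992 [2, 4, 6, 7, 9, 11, 12] = true := by
  apply dfsN_step 6 16777216 10846992 [2, 4, 6, 7, 9, 11, 12]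
  intro v hv
  simp only [List.mem_cons, List.not_mem_nil, or_false] at hv
  rcases hv with rfl | rfl | rfl | rfl | rfl | rfl | rfl
  exacts [part_8_5_10_2, part_8_5_10_4, part_8_5_10_6, part_8_5_10_7, part_8_5_10_9, part_8_5_10_11, part_8_5_10_12]

set_option maxRecDepth 100000 in
theorem part_8_5_11_2 : dfsN 6 268435456 45450000 [4, 6, 7, 9, 10, 12] = true := by
  decide +kernel

set_option maxRecDepth 100000 in
theorem part_8_5_11_4 : dfsN 6 268435456 79004432 [2, 6, 7, 9, 10, 12] = true := by
  decide +kernel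

set_option maxRecDepth 100000 in
theorem part_8_5_11_6 : dfsN 6 268435456 112558864 [2, 4, 7, 9, 10, 12] = true := by
  decide +kernel

set_option maxRecDepth 100000 in
theorem part_8_5_11_7 : dfsN 6 268435456 129336080 [2, 4, 6, 9, 10, 12] = true := by
  decide +kernel

set_option maxRecDepth 100000 in
theorem part_8_5_11_9 : dfsN 6 268435456 162890512 [2, 4, 6, 7, 10, 12] = true := by
  decide +kernel

set_option maxRecDepth 100000 in
theorem part_8_5_11_10 : dfsN 6 268435456 179667728 [2, 4, 6, 7, 9, 12] = true := by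
  decide +kernel

set_option maxRecDepth 100000 in
theorem part_8_5_11_12 : dfsN 6 268435456 213222160 [2, 4, 6, 7, 9, 10] = true := by
  decide +kernel

theorem part_8_5_11 : dfsN 7 16777216 11895568 [2, 4, 6, 7, 9, 10, 12] = true := by
  apply dfsN_step 6 16777216 11895568 [2, 4, 6, 7, 9, 10, 12]
  intro v hv
  simp only [List.mem_cons, List.not_mem_nil, or_false] at hv
  rcases hv with rfl | rfl | rfl | rfl | rfl | rfl | rfl
  exacts [part_8_5_11_2, part_8_5_11_4, part_8_5_11_6, part_8_5_11_7, part_8_5_11_9, part_8_5_11_10, part_8_5_11_12]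

set_option maxRecDepth 100000 in
theorem part_8_5_12_2 : dfsN 6 268435456 46498576 [4, 6, 7, 9, 10, 11] = true := by
  decide +kernel

set_option maxRecDepth 100000 in
theorem part_8_5_12_4 : dfsN 6 268435456 80053008 [2, 6, 7, 9, 10, 11] = true := by
  decide +kernel

set_option maxRecDepth 100000 in
theorem part_8_5_12_6 : dfsN 6 268435456 113607440 [2, 4, 7, 9, 10, 11] = true := by
  decide +kernel

set_option maxRecDepth 100000 in
theorem part_8_5_12_7 : dfsN 6 268435456 130384656 [2, 4, 6, 9, 10, 11] = true := by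
  decide +kernel

set_option maxRecDepth 100000 in
theorem part_8_5_12_9 : dfsN 6 268435456 163939088 [2, 4, 6, 7, 10, 11] = true := by
  decide +kernel

set_option maxRecDepth 100000 in
theorem part_8_5_12_10 : dfsN 6 268435456 180716304 [2, 4, 6, 7, 9, 11] = true := by
  decide +kernel

set_option maxRecDepth 100000 in
theorem part_8_5_12_11 : dfsN 6 268435456 197493520 [2, 4, 6, 7, 9, 10] = true := by
  decide +kernel

theorem part_8_5_12 : dfsN 7 16777216 12944144 [2, 4, 6, 7, 9, 10, 11] = true := by
  apply dfsN_step 6 16777216 12944144 [2, 4, 6, 7, 9, 10, 11]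
  intro v hv
  simp only [List.mem_cons, List.not_mem_nil, or_false] at hv
  rcases hv with rfl | rfl | rfl | rfl | rfl | rfl | rfl
  exacts [part_8_5_12_2, part_8_5_12_4, part_8_5_12_6, part_8_5_12_7, part_8_5_12_9, part_8_5_12_10, part_8_5_12_11]

theorem part_8_5 : dfsN 8 1048576 361232 [2, 4, 6, 7, 9, 10, 11, 12] = true := by
  apply dfsN_step 7 1048576 361232 [2, 4, 6, 7, 9, 10, 11, 12]
  intro v hv
  simp only [List.mem_cons, List.not_mem_nil, or_false] at hv
  rcases hv with rfl | rfl | rfl | rfl | rfl | rfl | rfl | rfl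
  exacts [part_8_5_2, part_8_5_4, part_8_5_6, part_8_5_7, part_8_5_9, part_8_5_10, part_8_5_11, part_8_5_12]

end Cfsg.Agent.Lib.H16.AG
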