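import Cfsg.Agent.Lib.H16.AG.Step

set_option autoImplicit false

/-! Degree 13, images `0, 1, 3, 8, 6` of `0, 1, 2, 3, 4` fixed: every completion that is an
`11`-cycle has a word `(x ^ b * y ^ a) ^ k` which is a `3`-, `5`- or `7`-cycle
(small kernel computations, one per pair of images of `5, 6`). -/

namespace Cfsg.Agent.Lib.H16.AG

set_option maxRecDepth 100000 in
theorem part_8_6_2_4 : dfsN 6 268435456 69632784 [5, 7, 9, 10, 11, 12] = true := by
  decide +kernel

set_option maxRecDepth 100000 in
theorem part_8_6_2_5 : dfsN 6 268435456 86410000 [4, 7, 9, 10, 11, 12] = true := by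
  decide +kernel

set_option maxRecDepth 100000 in
theorem part_8_6_2_7 : dfsN 6 268435456 119964432 [4, 5, 9, 10, 11, 12] = true := by
  decide +kernel

set_option maxRecDepth 100000 in
theorem part_8_6_2_9 : dfsN 6 268435456 153518864 [4, 5, 7, 10, 11, 12] = true := by
  decide +kernel

set_option maxRecDepth 100000 in
theorem part_8_6_2_10 : dfsN 6 268435456 170296080 [4, 5, 7, 9, 11, 12] = true := by
  decide +kernel

set_option maxRecDepth 100000 in
theorem part_8_6_2_11 : dfsN 6 268435456 187073296 [4, 5, 7, 9, 10, 12] = true := by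
  decide +kernel

set_option maxRecDepth 100000 in
theorem part_8_6_2_12 : dfsN 6 268435456 203850512 [4, 5, 7, 9, 10, 11] = true := by
  decide +kernel

theorem part_8_6_2 : dfsN 7 16777216 2523920 [4, 5, 7, 9, 10, 11, 12] = true := by
  apply dfsN_step 6 16777216 2523920 [4, 5, 7, 9, 10, 11, 12]
  intro v hv
  simp only [List.mem_cons, List.not_mem_nil, or_false] at hv
  rcases hv with rfl | rfl | rfl | rfl | rfl | rfl | rfl
  exacts [part_8_6_2_4, part_8_6_2_5, part_8_6_2_7, part_8_6_2_9, part_8_6_2_10, part_8_6_2_11, part_8_6_2_12]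

set_option maxRecDepth 100000 in
theorem part_8_6_4_2 : dfsN 6 268435456 38175504 [5, 7, 9, 10, 11, 12] = true := by
  decide +kernel

set_option maxRecDepth 100000 in
theorem part_8_6_4_5 : dfsN 6 268435456 88507152 [2, 7, 9, 10, 11, 12] = true := by
  decide +kernel

set_option maxRecDepth 100000 in
theorem part_8_6_4_7 : dfsN 6 268435456 122061584 [2, 5, 9, 10, 11, 12] = true := by
  decide +kernel

set_option maxRecDepth 100000 in
theorem part_8_6_4_9 : dfsN 6 268435456 155616016 [2, 5, 7, 10, 11, 12] = true := by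
  decide +kernel

set_option maxRecDepth 100000 in
theorem part_8_6_4_10 : dfsN 6 268435456 172393232 [2, 5, 7, 9, 11, 12] = true := by
  decide +kernel

set_option maxRecDepth 100000 in
theorem part_8_6_4_11 : dfsN 6 268435456 189170448 [2, 5, 7, 9, 10, 12] = true := by
  decide +kernel

set_option maxRecDepth 100000 in
theorem part_8_6_4_12 : dfsN 6 268435456 205947664 [2, 5, 7, 9, 10, 11] = true := by
  decide +kernel

theorem part_8_6_4 : dfsN 7 16777216 4621072 [2, 5, 7, 9, 10, 11, 12] = true := by
  apply dfsN_step 6 16777216 4621072 [2, 5, 7, 9, 10, 11, 12]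
  intro v hv
  simp only [List.mem_cons, List.not_mem_nil, or_false] at hv
  rcases hv with rfl | rfl | rfl | rfl | rfl | rfl | rfl
  exacts [part_8_6_4_2, part_8_6_4_5, part_8_6_4_7, part_8_6_4_9, part_8_6_4_10, part_8_6_4_11, part_8_6_4_12]

set_option maxRecDepth 100000 in
theorem part_8_6_5_2 : dfsN 6 268435456 39224080 [4, 7, 9, 10, 11, 12] = true := by
  decide +kernel

set_option maxRecDepth 100000 in
theorem part_8_6_5_4 : dfsN 6 268435456 72778512 [2, 7, 9, 10, 11, 12] = true := by
  decide +kernel

set_option maxRecDepth 100000 in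
theorem part_8_6_5_7 : dfsN 6 268435456 123110160 [2, 4, 9, 10, 11, 12] = true := by
  decide +kernel

set_option maxRecDepth 100000 in
theorem part_8_6_5_9 : dfsN 6 268435456 156664592 [2, 4, 7, 10, 11, 12] = true := by
  decide +kernel

set_option maxRecDepth 100000 in
theorem part_8_6_5_10 : dfsN 6 268435456 173441808 [2, 4, 7, 9, 11, 12] = true := by
  decide +kernel

set_option maxRecDepth 100000 in
theorem part_8_6_5_11 : dfsN 6 268435456 190219024 [2, 4, 7, 9, 10, 12] = true := by
  decide +kernel

set_option maxRecDepth 100000 in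
theorem part_8_6_5_12 : dfsN 6 268435456 206996240 [2, 4, 7, 9, 10, 11] = true := by
  decide +kernel

theorem part_8_6_5 : dfsN 7 16777216 5669648 [2, 4, 7, 9, 10, 11, 12] = true := by
  apply dfsN_step 6 16777216 5669648 [2, 4, 7, 9, 10, 11, 12]
  intro v hv
  simp only [List.mem_cons, List.not_mem_nil, or_false] at hv
  rcases hv with rfl | rfl | rfl | rfl | rfl | rfl | rfl
  exacts [part_8_6_5_2, part_8_6_5_4, part_8_6_5_7, part_8_6_5_9, part_8_6_5_10, part_8_6_5_11, part_8_6_5_12]

set_option maxRecDepth 100000 in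
theorem part_8_6_7_2 : dfsN 6 268435456 41321232 [4, 5, 9, 10, 11, 12] = true := by
  decide +kernel

set_option maxRecDepth 100000 in
theorem part_8_6_7_4 : dfsN 6 268435456 74875664 [2, 5, 9, 10, 11, 12] = true := by
  decide +kernel

set_option maxRecDepth 100000 in
theorem part_8_6_7_5 : dfsN 6 268435456 91652880 [2, 4, 9, 10, 11, 12] = true := by
  decide +kernel

set_option maxRecDepth 100000 in
theorem part_8_6_7_9 : dfsN 6 268435456 158761744 [2, 4, 5, 10, 11, 12] = true := by
  decide +kernel

set_option maxRecDepth 100000 in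
theorem part_8_6_7_10 : dfsN 6 268435456 175538960 [2, 4, 5, 9, 11, 12] = true := by
  decide +kernel

set_option maxRecDepth 100000 in
theorem part_8_6_7_11 : dfsN 6 268435456 192316176 [2, 4, 5, 9, 10, 12] = true := by
  decide +kernel

set_option maxRecDepth 100000 in
theorem part_8_6_7_12 : dfsN 6 268435456 209093392 [2, 4, 5, 9, 10, 11] = true := by
  decide +kernel

theorem part_8_6_7 : dfsN 7 16777216 7766800 [2, 4, 5, 9, 10, 11, 12] = true := by
  apply dfsN_step 6 16777216 7766800 [2, 4, 5, 9, 10, 11, 12]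
  intro v hv
  simp only [List.mem_cons, List.not_mem_nil, or_false] at hv
  rcases hv with rfl | rfl | rfl | rfl | rfl | rfl | rfl
  exacts [part_8_6_7_2, part_8_6_7_4, part_8_6_7_5, part_8_6_7_9, part_8_6_7_10, part_8_6_7_11, part_8_6_7_12]

set_option maxRecDepth 100000 in
theorem part_8_6_9_2 : dfsN 6 268435456 43418384 [4, 5, 7, 10, 11, 12] = true := by
  decide +kernel

set_option maxRecDepth 100000 in
theorem part_8_6_9_4 : dfsN 6 268435456 76972816 [2, 5, 7, 10, 11, 12] = true := by
  decide +kernel

set_option maxRecDepth 100000 in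
theorem part_8_6_9_5 : dfsN 6 268435456 93750032 [2, 4, 7, 10, 11, 12] = true := by
  decide +kernel

set_option maxRecDepth 100000 in
theorem part_8_6_9_7 : dfsN 6 268435456 127304464 [2, 4, 5, 10, 11, 12] = true := by
  decide +kernel

set_option maxRecDepth 100000 in
theorem part_8_6_9_10 : dfsN 6 268435456 177636112 [2, 4, 5, 7, 11, 12] = true := by
  decide +kernel

set_option maxRecDepth 100000 in
theorem part_8_6_9_11 : dfsN 6 268435456 194413328 [2, 4, 5, 7, 10, 12] = true := by
  decide +kernel

set_option maxRecDepth 100000 in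
theorem part_8_6_9_12 : dfsN 6 268435456 211190544 [2, 4, 5, 7, 10, 11] = true := by
  decide +kernel

theorem part_8_6_9 : dfsN 7 16777216 9863952 [2, 4, 5, 7, 10, 11, 12] = true := by
  apply dfsN_step 6 16777216 9863952 [2, 4, 5, 7, 10, 11, 12]
  intro v hv
  simp only [List.mem_cons, List.not_mem_nil, or_false] at hv
  rcases hv with rfl | rfl | rfl | rfl | rfl | rfl | rfl
  exacts [part_8_6_9_2, part_8_6_9_4, part_8_6_9_5, part_8_6_9_7, part_8_6_9_10, part_8_6_9_11, part_8_6_9_12]

set_option maxRecDepth 100000 in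
theorem part_8_6_10_2 : dfsN 6 268435456 44466960 [4, 5, 7, 9, 11, 12] = true := by
  decide +kernel

set_option maxRecDepth 100000 in
theorem part_8_6_10_4 : dfsN 6 268435456 78021392 [2, 5, 7, 9, 11, 12] = true := by
  decide +kernel

set_option maxRecDepth 100000 in
theorem part_8_6_10_5 : dfsN 6 268435456 94798608 [2, 4, 7, 9, 11, 12] = true := by
  decide +kernel

set_option maxRecDepth 100000 in
theorem part_8_6_10_7 : dfsN 6 268435456 128353040 [2, 4, 5, 9, 11, 12] = true := by
  decide +kernel

set_option maxRecDepth 100000 in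
theorem part_8_6_10_9 : dfsN 6 268435456 161907472 [2, 4, 5, 7, 11, 12] = true := by
  decide +kernel

set_option maxRecDepth 100000 in
theorem part_8_6_10_11 : dfsN 6 268435456 195461904 [2, 4, 5, 7, 9, 12] = true := by
  decide +kernel

set_option maxRecDepth 100000 in
theorem part_8_6_10_12 : dfsN 6 268435456 212239120 [2, 4, 5, 7, 9, 11] = true := by
  decide +kernel

theorem part_8_6_10 : dfsN 7 16777216 10912528 [2, 4, 5, 7, 9, 11, 12] = true := by
  apply dfsN_step 6 16777216 10912528 [2, 4, 5, 7, 9, 11, 12]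
  intro v hv
  simp only [List.mem_cons, List.not_mem_nil, or_false] at hv
  rcases hv with rfl | rfl | rfl | rfl | rfl | rfl | rfl
  exacts [part_8_6_10_2, part_8_6_10_4, part_8_6_10_5, part_8_6_10_7, part_8_6_10_9, part_8_6_10_11, part_8_6_10_12]

set_option maxRecDepth 100000 in
theorem part_8_6_11_2 : dfsN 6 268435456 45515536 [4, 5, 7, 9, 10, 12] = true := by
  decide +kernel

set_option maxRecDepth 100000 in
theorem part_8_6_11_4 : dfsN 6 268435456 79069968 [2, 5, 7, 9, 10, 12] = true := by
  decide +kernel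

set_option maxRecDepth 100000 in
theorem part_8_6_11_5 : dfsN 6 268435456 95847184 [2, 4, 7, 9, 10, 12] = true := by
  decide +kernel

set_option maxRecDepth 100000 in
theorem part_8_6_11_7 : dfsN 6 268435456 129401616 [2, 4, 5, 9, 10, 12] = true := by
  decide +kernel

set_option maxRecDepth 100000 in
theorem part_8_6_11_9 : dfsN 6 268435456 162956048 [2, 4, 5, 7, 10, 12] = true := by
  decide +kernel

set_option maxRecDepth 100000 in
theorem part_8_6_11_10 : dfsN 6 268435456 179733264 [2, 4, 5, 7, 9, 12] = true := by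
  decide +kernel

set_option maxRecDepth 100000 in
theorem part_8_6_11_12 : dfsN 6 268435456 213287696 [2, 4, 5, 7, 9, 10] = true := by
  decide +kernel

theorem part_8_6_11 : dfsN 7 16777216 11961104 [2, 4, 5, 7, 9, 10, 12] = true := by
  apply dfsN_step 6 16777216 11961104 [2, 4, 5, 7, 9, 10, 12]
  intro v hv
  simp only [List.mem_cons, List.not_mem_nil, or_false] at hv
  rcases hv with rfl | rfl | rfl | rfl | rfl | rfl | rfl
  exacts [part_8_6_11_2, part_8_6_11_4, part_8_6_11_5, part_8_6_11_7, part_8_6_11_9, part_8_6_11_10, part_8_6_11_12]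

set_option maxRecDepth 100000 in
theorem part_8_6_12_2 : dfsN 6 268435456 46564112 [4, 5, 7, 9, 10, 11] = true := by
  decide +kernel

set_option maxRecDepth 100000 in
theorem part_8_6_12_4 : dfsN 6 268435456 80118544 [2, 5, 7, 9, 10, 11] = true := by
  decide +kernel

set_option maxRecDepth 100000 in
theorem part_8_6_12_5 : dfsN 6 268435456 96895760 [2, 4, 7, 9, 10, 11] = true := by
  decide +kernel

set_option maxRecDepth 100000 in
theorem part_8_6_12_7 : dfsN 6 268435456 130450192 [2, 4, 5, 9, 10, 11] = true := by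
  decide +kernel

set_option maxRecDepth 100000 in
theorem part_8_6_12_9 : dfsN 6 268435456 164004624 [2, 4, 5, 7, 10, 11] = true := by
  decide +kernel

set_option maxRecDepth 100000 in
theorem part_8_6_12_10 : dfsN 6 268435456 180781840 [2, 4, 5, 7, 9, 11] = true := by
  decide +kernel

set_option maxRecDepth 100000 in
theorem part_8_6_12_11 : dfsN 6 268435456 197559056 [2, 4, 5, 7, 9, 10] = true := by
  decide +kernel

theorem part_8_6_12 : dfsN 7 16777216 13009680 [2, 4, 5, 7, 9, 10, 11] = true := by
  apply dfsN_step 6 16777216 13009680 [2, 4, 5, 7, 9, 10, 11]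
  intro v hv
  simp only [List.mem_cons, List.not_mem_nil, or_false] at hv
  rcases hv with rfl | rfl | rfl | rfl | rfl | rfl | rfl
  exacts [part_8_6_12_2, part_8_6_12_4, part_8_6_12_5, part_8_6_12_7, part_8_6_12_9, part_8_6_12_10, part_8_6_12_11]

theorem part_8_6 : dfsN 8 1048576 426768 [2, 4, 5, 7, 9, 10, 11, 12] = true := by
  apply dfsN_step 7 1048576 426768 [2, 4, 5, 7, 9, 10, 11, 12]
  intro v hv
  simp only [List.mem_cons, List.not_mem_nil, or_false] at hv
  rcases hv with rfl | rfl | rfl | rfl | rfl | rfl | rfl | rfl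
  exacts [part_8_6_2, part_8_6_4, part_8_6_5, part_8_6_7, part_8_6_9, part_8_6_10, part_8_6_11, part_8_6_12]

end Cfsg.Agent.Lib.H16.AG
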