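import Cfsg.Agent.Lib.H16.AG.Step

set_option autoImplicit false

/-! Degree 13, images `0, 1, 3, 8, 7` of `0, 1, 2, 3, 4` fixed: every completion that is an
`11`-cycle has a word `(x ^ b * y ^ a) ^ k` which is a `3`-, `5`- or `7`-cycle
(small kernel computations, one per pair of images of `5, 6`). -/

namespace Cfsg.Agent.Lib.H16.AG

set_option maxRecDepth 100000 in
theorem part_8_7_2_4 : dfsN 6 268435456 69698320 [5, 6, 9, 10, 11, 12] = true := by
  decide +kernel

set_option maxRecDepth 100000 in
theorem part_8_7_2_5 : dfsN 6 268435456 86475536 [4, 6, 9, 10, 11, 12] = true := by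
  decide +kernel

set_option maxRecDepth 100000 in
theorem part_8_7_2_6 : dfsN 6 268435456 103252752 [4, 5, 9, 10, 11, 12] = true := by
  decide +kernel

set_option maxRecDepth 100000 in
theorem part_8_7_2_9 : dfsN 6 268435456 153584400 [4, 5, 6, 10, 11, 12] = true := by
  decide +kernel

set_option maxRecDepth 100000 in
theorem part_8_7_2_10 : dfsN 6 268435456 170361616 [4, 5, 6, 9, 11, 12] = true := by
  decide +kernel

set_option maxRecDepth 100000 in
theorem part_8_7_2_11 : dfsN 6 268435456 187138832 [4, 5, 6, 9, 10, 12] = true := by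
  decide +kernel

set_option maxRecDepth 100000 in
theorem part_8_7_2_12 : dfsN 6 268435456 203916048 [4, 5, 6, 9, 10, 11] = true := by
  decide +kernel

theorem part_8_7_2 : dfsN 7 16777216 2589456 [4, 5, 6, 9, 10, 11, 12] = true := by
  apply dfsN_step 6 16777216 2589456 [4, 5, 6, 9, 10, 11, 12]
  intro v hv
  simp only [List.mem_cons, List.not_mem_nil, or_false] at hv
  rcases hv with rfl | rfl | rfl | rfl | rfl | rfl | rfl
  exacts [part_8_7_2_4, part_8_7_2_5, part_8_7_2_6, part_8_7_2_9, part_8_7_2_10, part_8_7_2_11, part_8_7_2_12]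

set_option maxRecDepth 100000 in
theorem part_8_7_4_2 : dfsN 6 268435456 38241040 [5, 6, 9, 10, 11, 12] = true := by
  decide +kernel

set_option maxRecDepth 100000 in
theorem part_8_7_4_5 : dfsN 6 268435456 88572688 [2, 6, 9, 10, 11, 12] = true := by
  decide +kernel

set_option maxRecDepth 100000 in
theorem part_8_7_4_6 : dfsN 6 268435456 105349904 [2, 5, 9, 10, 11, 12] = true := by
  decide +kernel

set_option maxRecDepth 100000 in
theorem part_8_7_4_9 : dfsN 6 268435456 155681552 [2, 5, 6, 10, 11, 12] = true := by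
  decide +kernel

set_option maxRecDepth 100000 in
theorem part_8_7_4_10 : dfsN 6 268435456 172458768 [2, 5, 6, 9, 11, 12] = true := by
  decide +kernel

set_option maxRecDepth 100000 in
theorem part_8_7_4_11 : dfsN 6 268435456 189235984 [2, 5, 6, 9, 10, 12] = true := by
  decide +kernel

set_option maxRecDepth 100000 in
theorem part_8_7_4_12 : dfsN 6 268435456 206013200 [2, 5, 6, 9, 10, 11] = true := by
  decide +kernel

theorem part_8_7_4 : dfsN 7 16777216 4686608 [2, 5, 6, 9, 10, 11, 12] = true := by
  apply dfsN_step 6 16777216 4686608 [2, 5, 6, 9, 10, 11, 12]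
  intro v hv
  simp only [List.mem_cons, List.not_mem_nil, or_false] at hv
  rcases hv with rfl | rfl | rfl | rfl | rfl | rfl | rfl
  exacts [part_8_7_4_2, part_8_7_4_5, part_8_7_4_6, part_8_7_4_9, part_8_7_4_10, part_8_7_4_11, part_8_7_4_12]

set_option maxRecDepth 100000 in
theorem part_8_7_5_2 : dfsN 6 268435456 39289616 [4, 6, 9, 10, 11, 12] = true := by
  decide +kernel

set_option maxRecDepth 100000 in
theorem part_8_7_5_4 : dfsN 6 268435456 72844048 [2, 6, 9, 10, 11, 12] = true := by
  decide +kernel

set_option maxRecDepth 100000 in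
theorem part_8_7_5_6 : dfsN 6 268435456 106398480 [2, 4, 9, 10, 11, 12] = true := by
  decide +kernel

set_option maxRecDepth 100000 in
theorem part_8_7_5_9 : dfsN 6 268435456 156730128 [2, 4, 6, 10, 11, 12] = true := by
  decide +kernel

set_option maxRecDepth 100000 in
theorem part_8_7_5_10 : dfsN 6 268435456 173507344 [2, 4, 6, 9, 11, 12] = true := by
  decide +kernel

set_option maxRecDepth 100000 in
theorem part_8_7_5_11 : dfsN 6 268435456 190284560 [2, 4, 6, 9, 10, 12] = true := by
  decide +kernel

set_option maxRecDepth 100000 in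
theorem part_8_7_5_12 : dfsN 6 268435456 207061776 [2, 4, 6, 9, 10, 11] = true := by
  decide +kernel

theorem part_8_7_5 : dfsN 7 16777216 5735184 [2, 4, 6, 9, 10, 11, 12] = true := by
  apply dfsN_step 6 16777216 5735184 [2, 4, 6, 9, 10, 11, 12]
  intro v hv
  simp only [List.mem_cons, List.not_mem_nil, or_false] at hv
  rcases hv with rfl | rfl | rfl | rfl | rfl | rfl | rfl
  exacts [part_8_7_5_2, part_8_7_5_4, part_8_7_5_6, part_8_7_5_9, part_8_7_5_10, part_8_7_5_11, part_8_7_5_12]

set_option maxRecDepth 100000 in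
theorem part_8_7_6_2 : dfsN 6 268435456 40338192 [4, 5, 9, 10, 11, 12] = true := by
  decide +kernel

set_option maxRecDepth 100000 in
theorem part_8_7_6_4 : dfsN 6 268435456 73892624 [2, 5, 9, 10, 11, 12] = true := by
  decide +kernel

set_option maxRecDepth 100000 in
theorem part_8_7_6_5 : dfsN 6 268435456 90669840 [2, 4, 9, 10, 11, 12] = true := by
  decide +kernel

set_option maxRecDepth 100000 in
theorem part_8_7_6_9 : dfsN 6 268435456 157778704 [2, 4, 5, 10, 11, 12] = true := by
  decide +kernel

set_option maxRecDepth 100000 in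
theorem part_8_7_6_10 : dfsN 6 268435456 174555920 [2, 4, 5, 9, 11, 12] = true := by
  decide +kernel

set_option maxRecDepth 100000 in
theorem part_8_7_6_11 : dfsN 6 268435456 191333136 [2, 4, 5, 9, 10, 12] = true := by
  decide +kernel

set_option maxRecDepth 100000 in
theorem part_8_7_6_12 : dfsN 6 268435456 208110352 [2, 4, 5, 9, 10, 11] = true := by
  decide +kernel

theorem part_8_7_6 : dfsN 7 16777216 6783760 [2, 4, 5, 9, 10, 11, 12] = true := by
  apply dfsN_step 6 16777216 6783760 [2, 4, 5, 9, 10, 11, 12]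
  intro v hv
  simp only [List.mem_cons, List.not_mem_nil, or_false] at hv
  rcases hv with rfl | rfl | rfl | rfl | rfl | rfl | rfl
  exacts [part_8_7_6_2, part_8_7_6_4, part_8_7_6_5, part_8_7_6_9, part_8_7_6_10, part_8_7_6_11, part_8_7_6_12]

set_option maxRecDepth 100000 in
theorem part_8_7_9_2 : dfsN 6 268435456 43483920 [4, 5, 6, 10, 11, 12] = true := by
  decide +kernel

set_option maxRecDepth 100000 in
theorem part_8_7_9_4 : dfsN 6 268435456 77038352 [2, 5, 6, 10, 11, 12] = true := by
  decide +kernel

set_option maxRecDepth 100000 in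
theorem part_8_7_9_5 : dfsN 6 268435456 93815568 [2, 4, 6, 10, 11, 12] = true := by
  decide +kernel

set_option maxRecDepth 100000 in
theorem part_8_7_9_6 : dfsN 6 268435456 110592784 [2, 4, 5, 10, 11, 12] = true := by
  decide +kernel

set_option maxRecDepth 100000 in
theorem part_8_7_9_10 : dfsN 6 268435456 177701648 [2, 4, 5, 6, 11, 12] = true := by
  decide +kernel

set_option maxRecDepth 100000 in
theorem part_8_7_9_11 : dfsN 6 268435456 194478864 [2, 4, 5, 6, 10, 12] = true := by
  decide +kernel

set_option maxRecDepth 100000 in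
theorem part_8_7_9_12 : dfsN 6 268435456 211256080 [2, 4, 5, 6, 10, 11] = true := by
  decide +kernel

theorem part_8_7_9 : dfsN 7 16777216 9929488 [2, 4, 5, 6, 10, 11, 12] = true := by
  apply dfsN_step 6 16777216 9929488 [2, 4, 5, 6, 10, 11, 12]
  intro v hv
  simp only [List.mem_cons, List.not_mem_nil, or_false] at hv
  rcases hv with rfl | rfl | rfl | rfl | rfl | rfl | rfl
  exacts [part_8_7_9_2, part_8_7_9_4, part_8_7_9_5, part_8_7_9_6, part_8_7_9_10, part_8_7_9_11, part_8_7_9_12]

set_option maxRecDepth 100000 in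
theorem part_8_7_10_2 : dfsN 6 268435456 44532496 [4, 5, 6, 9, 11, 12] = true := by
  decide +kernel

set_option maxRecDepth 100000 in
theorem part_8_7_10_4 : dfsN 6 268435456 78086928 [2, 5, 6, 9, 11, 12] = true := by
  decide +kernel

set_option maxRecDepth 100000 in
theorem part_8_7_10_5 : dfsN 6 268435456 94864144 [2, 4, 6, 9, 11, 12] = true := by
  decide +kernel

set_option maxRecDepth 100000 in
theorem part_8_7_10_6 : dfsN 6 268435456 111641360 [2, 4, 5, 9, 11, 12] = true := by
  decide +kernel

set_option maxRecDepth 100000 in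
theorem part_8_7_10_9 : dfsN 6 268435456 161973008 [2, 4, 5, 6, 11, 12] = true := by
  decide +kernel

set_option maxRecDepth 100000 in
theorem part_8_7_10_11 : dfsN 6 268435456 195527440 [2, 4, 5, 6, 9, 12] = true := by
  decide +kernel

set_option maxRecDepth 100000 in
theorem part_8_7_10_12 : dfsN 6 268435456 212304656 [2, 4, 5, 6, 9, 11] = true := by
  decide +kernel

theorem part_8_7_10 : dfsN 7 16777216 10978064 [2, 4, 5, 6, 9, 11, 12] = true := by
  apply dfsN_step 6 16777216 10978064 [2, 4, 5, 6, 9, 11, 12]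
  intro v hv
  simp only [List.mem_cons, List.not_mem_nil, or_false] at hv
  rcases hv with rfl | rfl | rfl | rfl | rfl | rfl | rfl
  exacts [part_8_7_10_2, part_8_7_10_4, part_8_7_10_5, part_8_7_10_6, part_8_7_10_9, part_8_7_10_11, part_8_7_10_12]

set_option maxRecDepth 100000 in
theorem part_8_7_11_2 : dfsN 6 268435456 45581072 [4, 5, 6, 9, 10, 12] = true := by
  decide +kernel

set_option maxRecDepth 100000 in
theorem part_8_7_11_4 : dfsN 6 268435456 79135504 [2, 5, 6, 9, 10, 12] = true := by
  decide +kernel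

set_option maxRecDepth 100000 in
theorem part_8_7_11_5 : dfsN 6 268435456 95912720 [2, 4, 6, 9, 10, 12] = true := by
  decide +kernel

set_option maxRecDepth 100000 in
theorem part_8_7_11_6 : dfsN 6 268435456 112689936 [2, 4, 5, 9, 10, 12] = true := by
  decide +kernel

set_option maxRecDepth 100000 in
theorem part_8_7_11_9 : dfsN 6 268435456 163021584 [2, 4, 5, 6, 10, 12] = true := by
  decide +kernel

set_option maxRecDepth 100000 in
theorem part_8_7_11_10 : dfsN 6 268435456 179798800 [2, 4, 5, 6, 9, 12] = true := by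
  decide +kernel

set_option maxRecDepth 100000 in
theorem part_8_7_11_12 : dfsN 6 268435456 213353232 [2, 4, 5, 6, 9, 10] = true := by
  decide +kernel

theorem part_8_7_11 : dfsN 7 16777216 12026640 [2, 4, 5, 6, 9, 10, 12] = true := by
  apply dfsN_step 6 16777216 12026640 [2, 4, 5, 6, 9, 10, 12]
  intro v hv
  simp only [List.mem_cons, List.not_mem_nil, or_false] at hv
  rcases hv with rfl | rfl | rfl | rfl | rfl | rfl | rfl
  exacts [part_8_7_11_2, part_8_7_11_4, part_8_7_11_5, part_8_7_11_6, part_8_7_11_9, part_8_7_11_10, part_8_7_11_12]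

set_option maxRecDepth 100000 in
theorem part_8_7_12_2 : dfsN 6 268435456 46629648 [4, 5, 6, 9, 10, 11] = true := by
  decide +kernel

set_option maxRecDepth 100000 in
theorem part_8_7_12_4 : dfsN 6 268435456 80184080 [2, 5, 6, 9, 10, 11] = true := by
  decide +kernel

set_option maxRecDepth 100000 in
theorem part_8_7_12_5 : dfsN 6 268435456 96961296 [2, 4, 6, 9, 10, 11] = true := by
  decide +kernel

set_option maxRecDepth 100000 in
theorem part_8_7_12_6 : dfsN 6 268435456 113738512 [2, 4, 5, 9, 10, 11] = true := by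
  decide +kernel

set_option maxRecDepth 100000 in
theorem part_8_7_12_9 : dfsN 6 268435456 164070160 [2, 4, 5, 6, 10, 11] = true := by
  decide +kernel

set_option maxRecDepth 100000 in
theorem part_8_7_12_10 : dfsN 6 268435456 180847376 [2, 4, 5, 6, 9, 11] = true := by
  decide +kernel

set_option maxRecDepth 100000 in
theorem part_8_7_12_11 : dfsN 6 268435456 197624592 [2, 4, 5, 6, 9, 10] = true := by
  decide +kernel

theorem part_8_7_12 : dfsN 7 16777216 13075216 [2, 4, 5, 6, 9, 10, 11] = true := by
  apply dfsN_step 6 16777216 13075216 [2, 4, 5, 6, 9, 10, 11]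
  intro v hv
  simp only [List.mem_cons, List.not_mem_nil, or_false] at hv
  rcases hv with rfl | rfl | rfl | rfl | rfl | rfl | rfl
  exacts [part_8_7_12_2, part_8_7_12_4, part_8_7_12_5, part_8_7_12_6, part_8_7_12_9, part_8_7_12_10, part_8_7_12_11]

theorem part_8_7 : dfsN 8 1048576 492304 [2, 4, 5, 6, 9, 10, 11, 12] = true := by
  apply dfsN_step 7 1048576 492304 [2, 4, 5, 6, 9, 10, 11, 12]
  intro v hv
  simp only [List.mem_cons, List.not_mem_nil, or_false] at hv
  rcases hv with rfl | rfl | rfl | rfl | rfl | rfl | rfl | rfl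
  exacts [part_8_7_2, part_8_7_4, part_8_7_5, part_8_7_6, part_8_7_9, part_8_7_10, part_8_7_11, part_8_7_12]

end Cfsg.Agent.Lib.H16.AG
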