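import Cfsg.Agent.Lib.H16.AG.Step

set_option autoImplicit false

/-! Degree 13, images `0, 1, 3, 8, 9` of `0, 1, 2, 3, 4` fixed: every completion that is an
`11`-cycle has a word `(x ^ b * y ^ a) ^ k` which is a `3`-, `5`- or `7`-cycle
(small kernel computations, one per pair of images of `5, 6`). -/

namespace Cfsg.Agent.Lib.H16.AG

set_option maxRecDepth 100000 in
theorem part_8_9_2_4 : dfsN 6 268435456 69829392 [5, 6, 7, 10, 11, 12] = true := by
  decide +kernel

set_option maxRecDepth 100000 in
theorem part_8_9_2_5 : dfsN 6 268435456 86606608 [4, 6, 7, 10, 11, 12] = true := by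
  decide +kernel

set_option maxRecDepth 100000 in
theorem part_8_9_2_6 : dfsN 6 268435456 103383824 [4, 5, 7, 10, 11, 12] = true := by
  decide +kernel

set_option maxRecDepth 100000 in
theorem part_8_9_2_7 : dfsN 6 268435456 120161040 [4, 5, 6, 10, 11, 12] = true := by
  decide +kernel

set_option maxRecDepth 100000 in
theorem part_8_9_2_10 : dfsN 6 268435456 170492688 [4, 5, 6, 7, 11, 12] = true := by
  decide +kernel

set_option maxRecDepth 100000 in
theorem part_8_9_2_11 : dfsN 6 268435456 187269904 [4, 5, 6, 7, 10, 12] = true := by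
  decide +kernel

set_option maxRecDepth 100000 in
theorem part_8_9_2_12 : dfsN 6 268435456 204047120 [4, 5, 6, 7, 10, 11] = true := by
  decide +kernel

theorem part_8_9_2 : dfsN 7 16777216 2720528 [4, 5, 6, 7, 10, 11, 12] = true := by
  apply dfsN_step 6 16777216 2720528 [4, 5, 6, 7, 10, 11, 12]
  intro v hv
  simp only [List.mem_cons, List.not_mem_nil, or_false] at hv
  rcases hv with rfl | rfl | rfl | rfl | rfl | rfl | rfl
  exacts [part_8_9_2_4, part_8_9_2_5, part_8_9_2_6, part_8_9_2_7, part_8_9_2_10, part_8_9_2_11, part_8_9_2_12]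

set_option maxRecDepth 100000 in
theorem part_8_9_4_2 : dfsN 6 268435456 38372112 [5, 6, 7, 10, 11, 12] = true := by
  decide +kernel

set_option maxRecDepth 100000 in
theorem part_8_9_4_5 : dfsN 6 268435456 88703760 [2, 6, 7, 10, 11, 12] = true := by
  decide +kernel

set_option maxRecDepth 100000 in
theorem part_8_9_4_6 : dfsN 6 268435456 105480976 [2, 5, 7, 10, 11, 12] = true := by
  decide +kernel

set_option maxRecDepth 100000 in
theorem part_8_9_4_7 : dfsN 6 268435456 122258192 [2, 5, 6, 10, 11, 12] = true := by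
  decide +kernel

set_option maxRecDepth 100000 in
theorem part_8_9_4_10 : dfsN 6 268435456 172589840 [2, 5, 6, 7, 11, 12] = true := by
  decide +kernel

set_option maxRecDepth 100000 in
theorem part_8_9_4_11 : dfsN 6 268435456 189367056 [2, 5, 6, 7, 10, 12] = true := by
  decide +kernel

set_option maxRecDepth 100000 in
theorem part_8_9_4_12 : dfsN 6 268435456 206144272 [2, 5, 6, 7, 10, 11] = true := by
  decide +kernel

theorem part_8_9_4 : dfsN 7 16777216 4817680 [2, 5, 6, 7, 10, 11, 12] = true := by
  apply dfsN_step 6 16777216 4817680 [2, 5, 6, 7, 10, 11, 12]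
  intro v hv
  simp only [List.mem_cons, List.not_mem_nil, or_false] at hv
  rcases hv with rfl | rfl | rfl | rfl | rfl | rfl | rfl
  exacts [part_8_9_4_2, part_8_9_4_5, part_8_9_4_6, part_8_9_4_7, part_8_9_4_10, part_8_9_4_11, part_8_9_4_12]

set_option maxRecDepth 100000 in
theorem part_8_9_5_2 : dfsN 6 268435456 39420688 [4, 6, 7, 10, 11, 12] = true := by
  decide +kernel

set_option maxRecDepth 100000 in
theorem part_8_9_5_4 : dfsN 6 268435456 72975120 [2, 6, 7, 10, 11, 12] = true := by
  decide +kernel

set_option maxRecDepth 100000 in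
theorem part_8_9_5_6 : dfsN 6 268435456 106529552 [2, 4, 7, 10, 11, 12] = true := by
  decide +kernel

set_option maxRecDepth 100000 in
theorem part_8_9_5_7 : dfsN 6 268435456 123306768 [2, 4, 6, 10, 11, 12] = true := by
  decide +kernel

set_option maxRecDepth 100000 in
theorem part_8_9_5_10 : dfsN 6 268435456 173638416 [2, 4, 6, 7, 11, 12] = true := by
  decide +kernel

set_option maxRecDepth 100000 in
theorem part_8_9_5_11 : dfsN 6 268435456 190415632 [2, 4, 6, 7, 10, 12] = true := by
  decide +kernel

set_option maxRecDepth 100000 in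
theorem part_8_9_5_12 : dfsN 6 268435456 207192848 [2, 4, 6, 7, 10, 11] = true := by
  decide +kernel

theorem part_8_9_5 : dfsN 7 16777216 5866256 [2, 4, 6, 7, 10, 11, 12] = true := by
  apply dfsN_step 6 16777216 5866256 [2, 4, 6, 7, 10, 11, 12]
  intro v hv
  simp only [List.mem_cons, List.not_mem_nil, or_false] at hv
  rcases hv with rfl | rfl | rfl | rfl | rfl | rfl | rfl
  exacts [part_8_9_5_2, part_8_9_5_4, part_8_9_5_6, part_8_9_5_7, part_8_9_5_10, part_8_9_5_11, part_8_9_5_12]

set_option maxRecDepth 100000 in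
theorem part_8_9_6_2 : dfsN 6 268435456 40469264 [4, 5, 7, 10, 11, 12] = true := by
  decide +kernel

set_option maxRecDepth 100000 in
theorem part_8_9_6_4 : dfsN 6 268435456 74023696 [2, 5, 7, 10, 11, 12] = true := by
  decide +kernel

set_option maxRecDepth 100000 in
theorem part_8_9_6_5 : dfsN 6 268435456 90800912 [2, 4, 7, 10, 11, 12] = true := by
  decide +kernel

set_option maxRecDepth 100000 in
theorem part_8_9_6_7 : dfsN 6 268435456 124355344 [2, 4, 5, 10, 11, 12] = true := by
  decide +kernel

set_option maxRecDepth 100000 in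
theorem part_8_9_6_10 : dfsN 6 268435456 174686992 [2, 4, 5, 7, 11, 12] = true := by
  decide +kernel

set_option maxRecDepth 100000 in
theorem part_8_9_6_11 : dfsN 6 268435456 191464208 [2, 4, 5, 7, 10, 12] = true := by
  decide +kernel

set_option maxRecDepth 100000 in
theorem part_8_9_6_12 : dfsN 6 268435456 208241424 [2, 4, 5, 7, 10, 11] = true := by
  decide +kernel

theorem part_8_9_6 : dfsN 7 16777216 6914832 [2, 4, 5, 7, 10, 11, 12] = true := by
  apply dfsN_step 6 16777216 6914832 [2, 4, 5, 7, 10, 11, 12]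
  intro v hv
  simp only [List.mem_cons, List.not_mem_nil, or_false] at hv
  rcases hv with rfl | rfl | rfl | rfl | rfl | rfl | rfl
  exacts [part_8_9_6_2, part_8_9_6_4, part_8_9_6_5, part_8_9_6_7, part_8_9_6_10, part_8_9_6_11, part_8_9_6_12]

set_option maxRecDepth 100000 in
theorem part_8_9_7_2 : dfsN 6 268435456 41517840 [4, 5, 6, 10, 11, 12] = true := by
  decide +kernel

set_option maxRecDepth 100000 in
theorem part_8_9_7_4 : dfsN 6 268435456 75072272 [2, 5, 6, 10, 11, 12] = true := by
  decide +kernel

set_option maxRecDepth 100000 in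
theorem part_8_9_7_5 : dfsN 6 268435456 91849488 [2, 4, 6, 10, 11, 12] = true := by
  decide +kernel

set_option maxRecDepth 100000 in
theorem part_8_9_7_6 : dfsN 6 268435456 108626704 [2, 4, 5, 10, 11, 12] = true := by
  decide +kernel

set_option maxRecDepth 100000 in
theorem part_8_9_7_10 : dfsN 6 268435456 175735568 [2, 4, 5, 6, 11, 12] = true := by
  decide +kernel

set_option maxRecDepth 100000 in
theorem part_8_9_7_11 : dfsN 6 268435456 192512784 [2, 4, 5, 6, 10, 12] = true := by
  decide +kernel

set_option maxRecDepth 100000 in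
theorem part_8_9_7_12 : dfsN 6 268435456 209290000 [2, 4, 5, 6, 10, 11] = true := by
  decide +kernel

theorem part_8_9_7 : dfsN 7 16777216 7963408 [2, 4, 5, 6, 10, 11, 12] = true := by
  apply dfsN_step 6 16777216 7963408 [2, 4, 5, 6, 10, 11, 12]
  intro v hv
  simp only [List.mem_cons, List.not_mem_nil, or_false] at hv
  rcases hv with rfl | rfl | rfl | rfl | rfl | rfl | rfl
  exacts [part_8_9_7_2, part_8_9_7_4, part_8_9_7_5, part_8_9_7_6, part_8_9_7_10, part_8_9_7_11, part_8_9_7_12]

set_option maxRecDepth 100000 in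
theorem part_8_9_10_2 : dfsN 6 268435456 44663568 [4, 5, 6, 7, 11, 12] = true := by
  decide +kernel

set_option maxRecDepth 100000 in
theorem part_8_9_10_4 : dfsN 6 268435456 78218000 [2, 5, 6, 7, 11, 12] = true := by
  decide +kernel

set_option maxRecDepth 100000 in
theorem part_8_9_10_5 : dfsN 6 268435456 94995216 [2, 4, 6, 7, 11, 12] = true := by
  decide +kernel

set_option maxRecDepth 100000 in
theorem part_8_9_10_6 : dfsN 6 268435456 111772432 [2, 4, 5, 7, 11, 12] = true := by
  decide +kernel

set_option maxRecDepth 100000 in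
theorem part_8_9_10_7 : dfsN 6 268435456 128549648 [2, 4, 5, 6, 11, 12] = true := by
  decide +kernel

set_option maxRecDepth 100000 in
theorem part_8_9_10_11 : dfsN 6 268435456 195658512 [2, 4, 5, 6, 7, 12] = true := by
  decide +kernel

set_option maxRecDepth 100000 in
theorem part_8_9_10_12 : dfsN 6 268435456 212435728 [2, 4, 5, 6, 7, 11] = true := by
  decide +kernel

theorem part_8_9_10 : dfsN 7 16777216 11109136 [2, 4, 5, 6, 7, 11, 12] = true := by
  apply dfsN_step 6 16777216 11109136 [2, 4, 5, 6, 7, 11, 12]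
  intro v hv
  simp only [List.mem_cons, List.not_mem_nil, or_false] at hv
  rcases hv with rfl | rfl | rfl | rfl | rfl | rfl | rfl
  exacts [part_8_9_10_2, part_8_9_10_4, part_8_9_10_5, part_8_9_10_6, part_8_9_10_7, part_8_9_10_11, part_8_9_10_12]

set_option maxRecDepth 100000 in
theorem part_8_9_11_2 : dfsN 6 268435456 45712144 [4, 5, 6, 7, 10, 12] = true := by
  decide +kernel

set_option maxRecDepth 100000 in
theorem part_8_9_11_4 : dfsN 6 268435456 79266576 [2, 5, 6, 7, 10, 12] = true := by
  decide +kernel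

set_option maxRecDepth 100000 in
theorem part_8_9_11_5 : dfsN 6 268435456 96043792 [2, 4, 6, 7, 10, 12] = true := by
  decide +kernel

set_option maxRecDepth 100000 in
theorem part_8_9_11_6 : dfsN 6 268435456 112821008 [2, 4, 5, 7, 10, 12] = true := by
  decide +kernel

set_option maxRecDepth 100000 in
theorem part_8_9_11_7 : dfsN 6 268435456 129598224 [2, 4, 5, 6, 10, 12] = true := by
  decide +kernel

set_option maxRecDepth 100000 in
theorem part_8_9_11_10 : dfsN 6 268435456 179929872 [2, 4, 5, 6, 7, 12] = true := by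
  decide +kernel

set_option maxRecDepth 100000 in
theorem part_8_9_11_12 : dfsN 6 268435456 213484304 [2, 4, 5, 6, 7, 10] = true := by
  decide +kernel

theorem part_8_9_11 : dfsN 7 16777216 12157712 [2, 4, 5, 6, 7, 10, 12] = true := by
  apply dfsN_step 6 16777216 12157712 [2, 4, 5, 6, 7, 10, 12]
  intro v hv
  simp only [List.mem_cons, List.not_mem_nil, or_false] at hv
  rcases hv with rfl | rfl | rfl | rfl | rfl | rfl | rfl
  exacts [part_8_9_11_2, part_8_9_11_4, part_8_9_11_5, part_8_9_11_6, part_8_9_11_7, part_8_9_11_10, part_8_9_11_12]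

set_option maxRecDepth 100000 in
theorem part_8_9_12_2 : dfsN 6 268435456 46760720 [4, 5, 6, 7, 10, 11] = true := by
  decide +kernel

set_option maxRecDepth 100000 in
theorem part_8_9_12_4 : dfsN 6 268435456 80315152 [2, 5, 6, 7, 10, 11] = true := by
  decide +kernel

set_option maxRecDepth 100000 in
theorem part_8_9_12_5 : dfsN 6 268435456 97092368 [2, 4, 6, 7, 10, 11] = true := by
  decide +kernel

set_option maxRecDepth 100000 in
theorem part_8_9_12_6 : dfsN 6 268435456 113869584 [2, 4, 5, 7, 10, 11] = true := by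
  decide +kernel

set_option maxRecDepth 100000 in
theorem part_8_9_12_7 : dfsN 6 268435456 130646800 [2, 4, 5, 6, 10, 11] = true := by
  decide +kernel

set_option maxRecDepth 100000 in
theorem part_8_9_12_10 : dfsN 6 268435456 180978448 [2, 4, 5, 6, 7, 11] = true := by
  decide +kernel

set_option maxRecDepth 100000 in
theorem part_8_9_12_11 : dfsN 6 268435456 197755664 [2, 4, 5, 6, 7, 10] = true := by
  decide +kernel

theorem part_8_9_12 : dfsN 7 16777216 13206288 [2, 4, 5, 6, 7, 10, 11] = true := by
  apply dfsN_step 6 16777216 13206288 [2, 4, 5, 6, 7, 10, 11]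
  intro v hv
  simp only [List.mem_cons, List.not_mem_nil, or_false] at hv
  rcases hv with rfl | rfl | rfl | rfl | rfl | rfl | rfl
  exacts [part_8_9_12_2, part_8_9_12_4, part_8_9_12_5, part_8_9_12_6, part_8_9_12_7, part_8_9_12_10, part_8_9_12_11]

theorem part_8_9 : dfsN 8 1048576 623376 [2, 4, 5, 6, 7, 10, 11, 12] = true := by
  apply dfsN_step 7 1048576 623376 [2, 4, 5, 6, 7, 10, 11, 12]
  intro v hv
  simp only [List.mem_cons, List.not_mem_nil, or_false] at hv
  rcases hv with rfl | rfl | rfl | rfl | rfl | rfl | rfl | rfl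
  exacts [part_8_9_2, part_8_9_4, part_8_9_5, part_8_9_6, part_8_9_7, part_8_9_10, part_8_9_11, part_8_9_12]

end Cfsg.Agent.Lib.H16.AG
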