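import Cfsg.Agent.Lib.H16.AG.Step

set_option autoImplicit false

/-! Degree 13, images `0, 1, 3, 8, 11` of `0, 1, 2, 3, 4` fixed: every completion that is an
`11`-cycle has a word `(x ^ b * y ^ a) ^ k` which is a `3`-, `5`- or `7`-cycle
(small kernel computations, one per pair of images of `5, 6`). -/

namespace Cfsg.Agent.Lib.H16.AG

set_option maxRecDepth 100000 in
theorem part_8_11_2_4 : dfsN 6 268435456 69960464 [5, 6, 7, 9, 10, 12] = true := by
  decide +kernel

set_option maxRecDepth 100000 in
theorem part_8_11_2_5 : dfsN 6 268435456 86737680 [4, 6, 7, 9, 10, 12] = true := by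
  decide +kernel

set_option maxRecDepth 100000 in
theorem part_8_11_2_6 : dfsN 6 268435456 103514896 [4, 5, 7, 9, 10, 12] = true := by
  decide +kernel

set_option maxRecDepth 100000 in
theorem part_8_11_2_7 : dfsN 6 268435456 120292112 [4, 5, 6, 9, 10, 12] = true := by
  decide +kernel

set_option maxRecDepth 100000 in
theorem part_8_11_2_9 : dfsN 6 268435456 153846544 [4, 5, 6, 7, 10, 12] = true := by
  decide +kernel

set_option maxRecDepth 100000 in
theorem part_8_11_2_10 : dfsN 6 268435456 170623760 [4, 5, 6, 7, 9, 12] = true := by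
  decide +kernel

set_option maxRecDepth 100000 in
theorem part_8_11_2_12 : dfsN 6 268435456 204178192 [4, 5, 6, 7, 9, 10] = true := by
  decide +kernel

theorem part_8_11_2 : dfsN 7 16777216 2851600 [4, 5, 6, 7, 9, 10, 12] = true := by
  apply dfsN_step 6 16777216 2851600 [4, 5, 6, 7, 9, 10, 12]
  intro v hv
  simp only [List.mem_cons, List.not_mem_nil, or_false] at hv
  rcases hv with rfl | rfl | rfl | rfl | rfl | rfl | rfl
  exacts [part_8_11_2_4, part_8_11_2_5, part_8_11_2_6, part_8_11_2_7, part_8_11_2_9, part_8_11_2_10, part_8_11_2_12]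

set_option maxRecDepth 100000 in
theorem part_8_11_4_2 : dfsN 6 268435456 38503184 [5, 6, 7, 9, 10, 12] = true := by
  decide +kernel

set_option maxRecDepth 100000 in
theorem part_8_11_4_5 : dfsN 6 268435456 88834832 [2, 6, 7, 9, 10, 12] = true := by
  decide +kernel

set_option maxRecDepth 100000 in
theorem part_8_11_4_6 : dfsN 6 268435456 105612048 [2, 5, 7, 9, 10, 12] = true := by
  decide +kernel

set_option maxRecDepth 100000 in
theorem part_8_11_4_7 : dfsN 6 268435456 122389264 [2, 5, 6, 9, 10, 12] = true := by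
  decide +kernel

set_option maxRecDepth 100000 in
theorem part_8_11_4_9 : dfsN 6 268435456 155943696 [2, 5, 6, 7, 10, 12] = true := by
  decide +kernel

set_option maxRecDepth 100000 in
theorem part_8_11_4_10 : dfsN 6 268435456 172720912 [2, 5, 6, 7, 9, 12] = true := by
  decide +kernel

set_option maxRecDepth 100000 in
theorem part_8_11_4_12 : dfsN 6 268435456 206275344 [2, 5, 6, 7, 9, 10] = true := by
  decide +kernel

theorem part_8_11_4 : dfsN 7 16777216 4948752 [2, 5, 6, 7, 9, 10, 12] = true := by
  apply dfsN_step 6 16777216 4948752 [2, 5, 6, 7, 9, 10, 12]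
  intro v hv
  simp only [List.mem_cons, List.not_mem_nil, or_false] at hv
  rcases hv with rfl | rfl | rfl | rfl | rfl | rfl | rfl
  exacts [part_8_11_4_2, part_8_11_4_5, part_8_11_4_6, part_8_11_4_7, part_8_11_4_9, part_8_11_4_10, part_8_11_4_12]

set_option maxRecDepth 100000 in
theorem part_8_11_5_2 : dfsN 6 268435456 39551760 [4, 6, 7, 9, 10, 12] = true := by
  decide +kernel

set_option maxRecDepth 100000 in
theorem part_8_11_5_4 : dfsN 6 268435456 73106192 [2, 6, 7, 9, 10, 12] = true := by
  decide +kernel

set_option maxRecDepth 100000 in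
theorem part_8_11_5_6 : dfsN 6 268435456 106660624 [2, 4, 7, 9, 10, 12] = true := by
  decide +kernel

set_option maxRecDepth 100000 in
theorem part_8_11_5_7 : dfsN 6 268435456 123437840 [2, 4, 6, 9, 10, 12] = true := by
  decide +kernel

set_option maxRecDepth 100000 in
theorem part_8_11_5_9 : dfsN 6 268435456 156992272 [2, 4, 6, 7, 10, 12] = true := by
  decide +kernel

set_option maxRecDepth 100000 in
theorem part_8_11_5_10 : dfsN 6 268435456 173769488 [2, 4, 6, 7, 9, 12] = true := by
  decide +kernel

set_option maxRecDepth 100000 in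
theorem part_8_11_5_12 : dfsN 6 268435456 207323920 [2, 4, 6, 7, 9, 10] = true := by
  decide +kernel

theorem part_8_11_5 : dfsN 7 16777216 5997328 [2, 4, 6, 7, 9, 10, 12] = true := by
  apply dfsN_step 6 16777216 5997328 [2, 4, 6, 7, 9, 10, 12]
  intro v hv
  simp only [List.mem_cons, List.not_mem_nil, or_false] at hv
  rcases hv with rfl | rfl | rfl | rfl | rfl | rfl | rfl
  exacts [part_8_11_5_2, part_8_11_5_4, part_8_11_5_6, part_8_11_5_7, part_8_11_5_9, part_8_11_5_10, part_8_11_5_12]

set_option maxRecDepth 100000 in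
theorem part_8_11_6_2 : dfsN 6 268435456 40600336 [4, 5, 7, 9, 10, 12] = true := by
  decide +kernel

set_option maxRecDepth 100000 in
theorem part_8_11_6_4 : dfsN 6 268435456 74154768 [2, 5, 7, 9, 10, 12] = true := by
  decide +kernel

set_option maxRecDepth 100000 in
theorem part_8_11_6_5 : dfsN 6 268435456 90931984 [2, 4, 7, 9, 10, 12] = true := by
  decide +kernel

set_option maxRecDepth 100000 in
theorem part_8_11_6_7 : dfsN 6 268435456 124486416 [2, 4, 5, 9, 10, 12] = true := by
  decide +kernel

set_option maxRecDepth 100000 in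
theorem part_8_11_6_9 : dfsN 6 268435456 158040848 [2, 4, 5, 7, 10, 12] = true := by
  decide +kernel

set_option maxRecDepth 100000 in
theorem part_8_11_6_10 : dfsN 6 268435456 174818064 [2, 4, 5, 7, 9, 12] = true := by
  decide +kernel

set_option maxRecDepth 100000 in
theorem part_8_11_6_12 : dfsN 6 268435456 208372496 [2, 4, 5, 7, 9, 10] = true := by
  decide +kernel

theorem part_8_11_6 : dfsN 7 16777216 7045904 [2, 4, 5, 7, 9, 10, 12] = true := by
  apply dfsN_step 6 16777216 7045904 [2, 4, 5, 7, 9, 10, 12]
  intro v hv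
  simp only [List.mem_cons, List.not_mem_nil, or_false] at hv
  rcases hv with rfl | rfl | rfl | rfl | rfl | rfl | rfl
  exacts [part_8_11_6_2, part_8_11_6_4, part_8_11_6_5, part_8_11_6_7, part_8_11_6_9, part_8_11_6_10, part_8_11_6_12]

set_option maxRecDepth 100000 in
theorem part_8_11_7_2 : dfsN 6 268435456 41648912 [4, 5, 6, 9, 10, 12] = true := by
  decide +kernel

set_option maxRecDepth 100000 in
theorem part_8_11_7_4 : dfsN 6 268435456 75203344 [2, 5, 6, 9, 10, 12] = true := by
  decide +kernel

set_option maxRecDepth 100000 in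
theorem part_8_11_7_5 : dfsN 6 268435456 91980560 [2, 4, 6, 9, 10, 12] = true := by
  decide +kernel

set_option maxRecDepth 100000 in
theorem part_8_11_7_6 : dfsN 6 268435456 108757776 [2, 4, 5, 9, 10, 12] = true := by
  decide +kernel

set_option maxRecDepth 100000 in
theorem part_8_11_7_9 : dfsN 6 268435456 159089424 [2, 4, 5, 6, 10, 12] = true := by
  decide +kernel

set_option maxRecDepth 100000 in
theorem part_8_11_7_10 : dfsN 6 268435456 175866640 [2, 4, 5, 6, 9, 12] = true := by
  decide +kernel

set_option maxRecDepth 100000 in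
theorem part_8_11_7_12 : dfsN 6 268435456 209421072 [2, 4, 5, 6, 9, 10] = true := by
  decide +kernel

theorem part_8_11_7 : dfsN 7 16777216 8094480 [2, 4, 5, 6, 9, 10, 12] = true := by
  apply dfsN_step 6 16777216 8094480 [2, 4, 5, 6, 9, 10, 12]
  intro v hv
  simp only [List.mem_cons, List.not_mem_nil, or_false] at hv
  rcases hv with rfl | rfl | rfl | rfl | rfl | rfl | rfl
  exacts [part_8_11_7_2, part_8_11_7_4, part_8_11_7_5, part_8_11_7_6, part_8_11_7_9, part_8_11_7_10, part_8_11_7_12]

set_option maxRecDepth 100000 in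
theorem part_8_11_9_2 : dfsN 6 268435456 43746064 [4, 5, 6, 7, 10, 12] = true := by
  decide +kernel

set_option maxRecDepth 100000 in
theorem part_8_11_9_4 : dfsN 6 268435456 77300496 [2, 5, 6, 7, 10, 12] = true := by
  decide +kernel

set_option maxRecDepth 100000 in
theorem part_8_11_9_5 : dfsN 6 268435456 94077712 [2, 4, 6, 7, 10, 12] = true := by
  decide +kernel

set_option maxRecDepth 100000 in
theorem part_8_11_9_6 : dfsN 6 268435456 110854928 [2, 4, 5, 7, 10, 12] = true := by
  decide +kernel

set_option maxRecDepth 100000 in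
theorem part_8_11_9_7 : dfsN 6 268435456 127632144 [2, 4, 5, 6, 10, 12] = true := by
  decide +kernel

set_option maxRecDepth 100000 in
theorem part_8_11_9_10 : dfsN 6 268435456 177963792 [2, 4, 5, 6, 7, 12] = true := by
  decide +kernel

set_option maxRecDepth 100000 in
theorem part_8_11_9_12 : dfsN 6 268435456 211518224 [2, 4, 5, 6, 7, 10] = true := by
  decide +kernel

theorem part_8_11_9 : dfsN 7 16777216 10191632 [2, 4, 5, 6, 7, 10, 12] = true := by
  apply dfsN_step 6 16777216 10191632 [2, 4, 5, 6, 7, 10, 12]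
  intro v hv
  simp only [List.mem_cons, List.not_mem_nil, or_false] at hv
  rcases hv with rfl | rfl | rfl | rfl | rfl | rfl | rfl
  exacts [part_8_11_9_2, part_8_11_9_4, part_8_11_9_5, part_8_11_9_6, part_8_11_9_7, part_8_11_9_10, part_8_11_9_12]

set_option maxRecDepth 100000 in
theorem part_8_11_10_2 : dfsN 6 268435456 44794640 [4, 5, 6, 7, 9, 12] = true := by
  decide +kernel

set_option maxRecDepth 100000 in
theorem part_8_11_10_4 : dfsN 6 268435456 78349072 [2, 5, 6, 7, 9, 12] = true := by
  decide +kernel

set_option maxRecDepth 100000 in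
theorem part_8_11_10_5 : dfsN 6 268435456 95126288 [2, 4, 6, 7, 9, 12] = true := by
  decide +kernel

set_option maxRecDepth 100000 in
theorem part_8_11_10_6 : dfsN 6 268435456 111903504 [2, 4, 5, 7, 9, 12] = true := by
  decide +kernel

set_option maxRecDepth 100000 in
theorem part_8_11_10_7 : dfsN 6 268435456 128680720 [2, 4, 5, 6, 9, 12] = true := by
  decide +kernel

set_option maxRecDepth 100000 in
theorem part_8_11_10_9 : dfsN 6 268435456 162235152 [2, 4, 5, 6, 7, 12] = true := by
  decide +kernel

set_option maxRecDepth 100000 in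
theorem part_8_11_10_12 : dfsN 6 268435456 212566800 [2, 4, 5, 6, 7, 9] = true := by
  decide +kernel

theorem part_8_11_10 : dfsN 7 16777216 11240208 [2, 4, 5, 6, 7, 9, 12] = true := by
  apply dfsN_step 6 16777216 11240208 [2, 4, 5, 6, 7, 9, 12]
  intro v hv
  simp only [List.mem_cons, List.not_mem_nil, or_false] at hv
  rcases hv with rfl | rfl | rfl | rfl | rfl | rfl | rfl
  exacts [part_8_11_10_2, part_8_11_10_4, part_8_11_10_5, part_8_11_10_6, part_8_11_10_7, part_8_11_10_9, part_8_11_10_12]

set_option maxRecDepth 100000 in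
theorem part_8_11_12_2 : dfsN 6 268435456 46891792 [4, 5, 6, 7, 9, 10] = true := by
  decide +kernel

set_option maxRecDepth 100000 in
theorem part_8_11_12_4 : dfsN 6 268435456 80446224 [2, 5, 6, 7, 9, 10] = true := by
  decide +kernel

set_option maxRecDepth 100000 in
theorem part_8_11_12_5 : dfsN 6 268435456 97223440 [2, 4, 6, 7, 9, 10] = true := by
  decide +kernel

set_option maxRecDepth 100000 in
theorem part_8_11_12_6 : dfsN 6 268435456 114000656 [2, 4, 5, 7, 9, 10] = true := by
  decide +kernel

set_option maxRecDepth 100000 in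
theorem part_8_11_12_7 : dfsN 6 268435456 130777872 [2, 4, 5, 6, 9, 10] = true := by
  decide +kernel

set_option maxRecDepth 100000 in
theorem part_8_11_12_9 : dfsN 6 268435456 164332304 [2, 4, 5, 6, 7, 10] = true := by
  decide +kernel

set_option maxRecDepth 100000 in
theorem part_8_11_12_10 : dfsN 6 268435456 181109520 [2, 4, 5, 6, 7, 9] = true := by
  decide +kernel

theorem part_8_11_12 : dfsN 7 16777216 13337360 [2, 4, 5, 6, 7, 9, 10] = true := by
  apply dfsN_step 6 16777216 13337360 [2, 4, 5, 6, 7, 9, 10]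
  intro v hv
  simp only [List.mem_cons, List.not_mem_nil, or_false] at hv
  rcases hv with rfl | rfl | rfl | rfl | rfl | rfl | rfl
  exacts [part_8_11_12_2, part_8_11_12_4, part_8_11_12_5, part_8_11_12_6, part_8_11_12_7, part_8_11_12_9, part_8_11_12_10]

theorem part_8_11 : dfsN 8 1048576 754448 [2, 4, 5, 6, 7, 9, 10, 12] = true := by
  apply dfsN_step 7 1048576 754448 [2, 4, 5, 6, 7, 9, 10, 12]
  intro v hv
  simp only [List.mem_cons, List.not_mem_nil, or_false] at hv
  rcases hv with rfl | rfl | rfl | rfl | rfl | rfl | rfl | rfl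
  exacts [part_8_11_2, part_8_11_4, part_8_11_5, part_8_11_6, part_8_11_7, part_8_11_9, part_8_11_10, part_8_11_12]

end Cfsg.Agent.Lib.H16.AG
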