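import Cfsg.Agent.Lib.H16.AG.Step

set_option autoImplicit false

/-! Degree 13, images `0, 1, 3, 8, 12` of `0, 1, 2, 3, 4` fixed: every completion that is an
`11`-cycle has a word `(x ^ b * y ^ a) ^ k` which is a `3`-, `5`- or `7`-cycle
(small kernel computations, one per pair of images of `5, 6`). -/

namespace Cfsg.Agent.Lib.H16.AG

set_option maxRecDepth 100000 in
theorem part_8_12_2_4 : dfsN 6 268435456 70026000 [5, 6, 7, 9, 10, 11] = true := by
  decide +kernel

set_option maxRecDepth 100000 in
theorem part_8_12_2_5 : dfsN 6 268435456 86803216 [4, 6, 7, 9, 10, 11] = true := by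
  decide +kernel

set_option maxRecDepth 100000 in
theorem part_8_12_2_6 : dfsN 6 268435456 103580432 [4, 5, 7, 9, 10, 11] = true := by
  decide +kernel

set_option maxRecDepth 100000 in
theorem part_8_12_2_7 : dfsN 6 268435456 120357648 [4, 5, 6, 9, 10, 11] = true := by
  decide +kernel

set_option maxRecDepth 100000 in
theorem part_8_12_2_9 : dfsN 6 268435456 153912080 [4, 5, 6, 7, 10, 11] = true := by
  decide +kernel

set_option maxRecDepth 100000 in
theorem part_8_12_2_10 : dfsN 6 268435456 170689296 [4, 5, 6, 7, 9, 11] = true := by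
  decide +kernel

set_option maxRecDepth 100000 in
theorem part_8_12_2_11 : dfsN 6 268435456 187466512 [4, 5, 6, 7, 9, 10] = true := by
  decide +kernel

theorem part_8_12_2 : dfsN 7 16777216 2917136 [4, 5, 6, 7, 9, 10, 11] = true := by
  apply dfsN_step 6 16777216 2917136 [4, 5, 6, 7, 9, 10, 11]
  intro v hv
  simp only [List.mem_cons, List.not_mem_nil, or_false] at hv
  rcases hv with rfl | rfl | rfl | rfl | rfl | rfl | rfl
  exacts [part_8_12_2_4, part_8_12_2_5, part_8_12_2_6, part_8_12_2_7, part_8_12_2_9, part_8_12_2_10, part_8_12_2_11]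

set_option maxRecDepth 100000 in
theorem part_8_12_4_2 : dfsN 6 268435456 38568720 [5, 6, 7, 9, 10, 11] = true := by
  decide +kernel

set_option maxRecDepth 100000 in
theorem part_8_12_4_5 : dfsN 6 268435456 88900368 [2, 6, 7, 9, 10, 11] = true := by
  decide +kernel

set_option maxRecDepth 100000 in
theorem part_8_12_4_6 : dfsN 6 268435456 105677584 [2, 5, 7, 9, 10, 11] = true := by
  decide +kernel

set_option maxRecDepth 100000 in
theorem part_8_12_4_7 : dfsN 6 268435456 122454800 [2, 5, 6, 9, 10, 11] = true := by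
  decide +kernel

set_option maxRecDepth 100000 in
theorem part_8_12_4_9 : dfsN 6 268435456 156009232 [2, 5, 6, 7, 10, 11] = true := by
  decide +kernel

set_option maxRecDepth 100000 in
theorem part_8_12_4_10 : dfsN 6 268435456 172786448 [2, 5, 6, 7, 9, 11] = true := by
  decide +kernel

set_option maxRecDepth 100000 in
theorem part_8_12_4_11 : dfsN 6 268435456 189563664 [2, 5, 6, 7, 9, 10] = true := by
  decide +kernel

theorem part_8_12_4 : dfsN 7 16777216 5014288 [2, 5, 6, 7, 9, 10, 11] = true := by
  apply dfsN_step 6 16777216 5014288 [2, 5, 6, 7, 9, 10, 11]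
  intro v hv
  simp only [List.mem_cons, List.not_mem_nil, or_false] at hv
  rcases hv with rfl | rfl | rfl | rfl | rfl | rfl | rfl
  exacts [part_8_12_4_2, part_8_12_4_5, part_8_12_4_6, part_8_12_4_7, part_8_12_4_9, part_8_12_4_10, part_8_12_4_11]

set_option maxRecDepth 100000 in
theorem part_8_12_5_2 : dfsN 6 268435456 39617296 [4, 6, 7, 9, 10, 11] = true := by
  decide +kernel

set_option maxRecDepth 100000 in
theorem part_8_12_5_4 : dfsN 6 268435456 73171728 [2, 6, 7, 9, 10, 11] = true := by
  decide +kernel

set_option maxRecDepth 100000 in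
theorem part_8_12_5_6 : dfsN 6 268435456 106726160 [2, 4, 7, 9, 10, 11] = true := by
  decide +kernel

set_option maxRecDepth 100000 in
theorem part_8_12_5_7 : dfsN 6 268435456 123503376 [2, 4, 6, 9, 10, 11] = true := by
  decide +kernel

set_option maxRecDepth 100000 in
theorem part_8_12_5_9 : dfsN 6 268435456 157057808 [2, 4, 6, 7, 10, 11] = true := by
  decide +kernel

set_option maxRecDepth 100000 in
theorem part_8_12_5_10 : dfsN 6 268435456 173835024 [2, 4, 6, 7, 9, 11] = true := by
  decide +kernel

set_option maxRecDepth 100000 in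
theorem part_8_12_5_11 : dfsN 6 268435456 190612240 [2, 4, 6, 7, 9, 10] = true := by
  decide +kernel

theorem part_8_12_5 : dfsN 7 16777216 6062864 [2, 4, 6, 7, 9, 10, 11] = true := by
  apply dfsN_step 6 16777216 6062864 [2, 4, 6, 7, 9, 10, 11]
  intro v hv
  simp only [List.mem_cons, List.not_mem_nil, or_false] at hv
  rcases hv with rfl | rfl | rfl | rfl | rfl | rfl | rfl
  exacts [part_8_12_5_2, part_8_12_5_4, part_8_12_5_6, part_8_12_5_7, part_8_12_5_9, part_8_12_5_10, part_8_12_5_11]

set_option maxRecDepth 100000 in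
theorem part_8_12_6_2 : dfsN 6 268435456 40665872 [4, 5, 7, 9, 10, 11] = true := by
  decide +kernel

set_option maxRecDepth 100000 in
theorem part_8_12_6_4 : dfsN 6 268435456 74220304 [2, 5, 7, 9, 10, 11] = true := by
  decide +kernel

set_option maxRecDepth 100000 in
theorem part_8_12_6_5 : dfsN 6 268435456 90997520 [2, 4, 7, 9, 10, 11] = true := by
  decide +kernel

set_option maxRecDepth 100000 in
theorem part_8_12_6_7 : dfsN 6 268435456 124551952 [2, 4, 5, 9, 10, 11] = true := by
  decide +kernel

set_option maxRecDepth 100000 in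
theorem part_8_12_6_9 : dfsN 6 268435456 158106384 [2, 4, 5, 7, 10, 11] = true := by
  decide +kernel

set_option maxRecDepth 100000 in
theorem part_8_12_6_10 : dfsN 6 268435456 174883600 [2, 4, 5, 7, 9, 11] = true := by
  decide +kernel

set_option maxRecDepth 100000 in
theorem part_8_12_6_11 : dfsN 6 268435456 191660816 [2, 4, 5, 7, 9, 10] = true := by
  decide +kernel

theorem part_8_12_6 : dfsN 7 16777216 7111440 [2, 4, 5, 7, 9, 10, 11] = true := by
  apply dfsN_step 6 16777216 7111440 [2, 4, 5, 7, 9, 10, 11]
  intro v hv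
  simp only [List.mem_cons, List.not_mem_nil, or_false] at hv
  rcases hv with rfl | rfl | rfl | rfl | rfl | rfl | rfl
  exacts [part_8_12_6_2, part_8_12_6_4, part_8_12_6_5, part_8_12_6_7, part_8_12_6_9, part_8_12_6_10, part_8_12_6_11]

set_option maxRecDepth 100000 in
theorem part_8_12_7_2 : dfsN 6 268435456 41714448 [4, 5, 6, 9, 10, 11] = true := by
  decide +kernel

set_option maxRecDepth 100000 in
theorem part_8_12_7_4 : dfsN 6 268435456 75268880 [2, 5, 6, 9, 10, 11] = true := by
  decide +kernel

set_option maxRecDepth 100000 in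
theorem part_8_12_7_5 : dfsN 6 268435456 92046096 [2, 4, 6, 9, 10, 11] = true := by
  decide +kernel

set_option maxRecDepth 100000 in
theorem part_8_12_7_6 : dfsN 6 268435456 108823312 [2, 4, 5, 9, 10, 11] = true := by
  decide +kernel

set_option maxRecDepth 100000 in
theorem part_8_12_7_9 : dfsN 6 268435456 159154960 [2, 4, 5, 6, 10, 11] = true := by
  decide +kernel

set_option maxRecDepth 100000 in
theorem part_8_12_7_10 : dfsN 6 268435456 175932176 [2, 4, 5, 6, 9, 11] = true := by
  decide +kernel

set_option maxRecDepth 100000 in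
theorem part_8_12_7_11 : dfsN 6 268435456 192709392 [2, 4, 5, 6, 9, 10] = true := by
  decide +kernel

theorem part_8_12_7 : dfsN 7 16777216 8160016 [2, 4, 5, 6, 9, 10, 11] = true := by
  apply dfsN_step 6 16777216 8160016 [2, 4, 5, 6, 9, 10, 11]
  intro v hv
  simp only [List.mem_cons, List.not_mem_nil, or_false] at hv
  rcases hv with rfl | rfl | rfl | rfl | rfl | rfl | rfl
  exacts [part_8_12_7_2, part_8_12_7_4, part_8_12_7_5, part_8_12_7_6, part_8_12_7_9, part_8_12_7_10, part_8_12_7_11]

set_option maxRecDepth 100000 in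
theorem part_8_12_9_2 : dfsN 6 268435456 43811600 [4, 5, 6, 7, 10, 11] = true := by
  decide +kernel

set_option maxRecDepth 100000 in
theorem part_8_12_9_4 : dfsN 6 268435456 77366032 [2, 5, 6, 7, 10, 11] = true := by
  decide +kernel

set_option maxRecDepth 100000 in
theorem part_8_12_9_5 : dfsN 6 268435456 94143248 [2, 4, 6, 7, 10, 11] = true := by
  decide +kernel

set_option maxRecDepth 100000 in
theorem part_8_12_9_6 : dfsN 6 268435456 110920464 [2, 4, 5, 7, 10, 11] = true := by
  decide +kernel

set_option maxRecDepth 100000 in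
theorem part_8_12_9_7 : dfsN 6 268435456 127697680 [2, 4, 5, 6, 10, 11] = true := by
  decide +kernel

set_option maxRecDepth 100000 in
theorem part_8_12_9_10 : dfsN 6 268435456 178029328 [2, 4, 5, 6, 7, 11] = true := by
  decide +kernel

set_option maxRecDepth 100000 in
theorem part_8_12_9_11 : dfsN 6 268435456 194806544 [2, 4, 5, 6, 7, 10] = true := by
  decide +kernel

theorem part_8_12_9 : dfsN 7 16777216 10257168 [2, 4, 5, 6, 7, 10, 11] = true := by
  apply dfsN_step 6 16777216 10257168 [2, 4, 5, 6, 7, 10, 11]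
  intro v hv
  simp only [List.mem_cons, List.not_mem_nil, or_false] at hv
  rcases hv with rfl | rfl | rfl | rfl | rfl | rfl | rfl
  exacts [part_8_12_9_2, part_8_12_9_4, part_8_12_9_5, part_8_12_9_6, part_8_12_9_7, part_8_12_9_10, part_8_12_9_11]

set_option maxRecDepth 100000 in
theorem part_8_12_10_2 : dfsN 6 268435456 44860176 [4, 5, 6, 7, 9, 11] = true := by
  decide +kernel

set_option maxRecDepth 100000 in
theorem part_8_12_10_4 : dfsN 6 268435456 78414608 [2, 5, 6, 7, 9, 11] = true := by
  decide +kernel

set_option maxRecDepth 100000 in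
theorem part_8_12_10_5 : dfsN 6 268435456 95191824 [2, 4, 6, 7, 9, 11] = true := by
  decide +kernel

set_option maxRecDepth 100000 in
theorem part_8_12_10_6 : dfsN 6 268435456 111969040 [2, 4, 5, 7, 9, 11] = true := by
  decide +kernel

set_option maxRecDepth 100000 in
theorem part_8_12_10_7 : dfsN 6 268435456 128746256 [2, 4, 5, 6, 9, 11] = true := by
  decide +kernel

set_option maxRecDepth 100000 in
theorem part_8_12_10_9 : dfsN 6 268435456 162300688 [2, 4, 5, 6, 7, 11] = true := by
  decide +kernel

set_option maxRecDepth 100000 in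
theorem part_8_12_10_11 : dfsN 6 268435456 195855120 [2, 4, 5, 6, 7, 9] = true := by
  decide +kernel

theorem part_8_12_10 : dfsN 7 16777216 11305744 [2, 4, 5, 6, 7, 9, 11] = true := by
  apply dfsN_step 6 16777216 11305744 [2, 4, 5, 6, 7, 9, 11]
  intro v hv
  simp only [List.mem_cons, List.not_mem_nil, or_false] at hv
  rcases hv with rfl | rfl | rfl | rfl | rfl | rfl | rfl
  exacts [part_8_12_10_2, part_8_12_10_4, part_8_12_10_5, part_8_12_10_6, part_8_12_10_7, part_8_12_10_9, part_8_12_10_11]

set_option maxRecDepth 100000 in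
theorem part_8_12_11_2 : dfsN 6 268435456 45908752 [4, 5, 6, 7, 9, 10] = true := by
  decide +kernel

set_option maxRecDepth 100000 in
theorem part_8_12_11_4 : dfsN 6 268435456 79463184 [2, 5, 6, 7, 9, 10] = true := by
  decide +kernel

set_option maxRecDepth 100000 in
theorem part_8_12_11_5 : dfsN 6 268435456 96240400 [2, 4, 6, 7, 9, 10] = true := by
  decide +kernel

set_option maxRecDepth 100000 in
theorem part_8_12_11_6 : dfsN 6 268435456 113017616 [2, 4, 5, 7, 9, 10] = true := by
  decide +kernel

set_option maxRecDepth 100000 in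
theorem part_8_12_11_7 : dfsN 6 268435456 129794832 [2, 4, 5, 6, 9, 10] = true := by
  decide +kernel

set_option maxRecDepth 100000 in
theorem part_8_12_11_9 : dfsN 6 268435456 163349264 [2, 4, 5, 6, 7, 10] = true := by
  decide +kernel

set_option maxRecDepth 100000 in
theorem part_8_12_11_10 : dfsN 6 268435456 180126480 [2, 4, 5, 6, 7, 9] = true := by
  decide +kernel

theorem part_8_12_11 : dfsN 7 16777216 12354320 [2, 4, 5, 6, 7, 9, 10] = true := by
  apply dfsN_step 6 16777216 12354320 [2, 4, 5, 6, 7, 9, 10]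
  intro v hv
  simp only [List.mem_cons, List.not_mem_nil, or_false] at hv
  rcases hv with rfl | rfl | rfl | rfl | rfl | rfl | rfl
  exacts [part_8_12_11_2, part_8_12_11_4, part_8_12_11_5, part_8_12_11_6, part_8_12_11_7, part_8_12_11_9, part_8_12_11_10]

theorem part_8_12 : dfsN 8 1048576 819984 [2, 4, 5, 6, 7, 9, 10, 11] = true := by
  apply dfsN_step 7 1048576 819984 [2, 4, 5, 6, 7, 9, 10, 11]
  intro v hv
  simp only [List.mem_cons, List.not_mem_nil, or_false] at hv
  rcases hv with rfl | rfl | rfl | rfl | rfl | rfl | rfl | rfl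
  exacts [part_8_12_2, part_8_12_4, part_8_12_5, part_8_12_6, part_8_12_7, part_8_12_9, part_8_12_10, part_8_12_11]

end Cfsg.Agent.Lib.H16.AG
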