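import Cfsg.Agent.Lib.H16.AG.Step

set_option autoImplicit false

/-! Degree 13, images `0, 1, 3, 9, 2` of `0, 1, 2, 3, 4` fixed: every completion that is an
`11`-cycle has a word `(x ^ b * y ^ a) ^ k` which is a `3`-, `5`- or `7`-cycle
(small kernel computations, one per pair of images of `5, 6`). -/

namespace Cfsg.Agent.Lib.H16.AG

set_option maxRecDepth 100000 in
theorem part_9_2_4_5 : dfsN 6 268435456 88249104 [6, 7, 8, 10, 11, 12] = true := by
  decide +kernel

set_option maxRecDepth 100000 in
theorem part_9_2_4_6 : dfsN 6 268435456 105026320 [5, 7, 8, 10, 11, 12] = true := by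
  decide +kernel

set_option maxRecDepth 100000 in
theorem part_9_2_4_7 : dfsN 6 268435456 121803536 [5, 6, 8, 10, 11, 12] = true := by
  decide +kernel

set_option maxRecDepth 100000 in
theorem part_9_2_4_8 : dfsN 6 268435456 138580752 [5, 6, 7, 10, 11, 12] = true := by
  decide +kernel

set_option maxRecDepth 100000 in
theorem part_9_2_4_10 : dfsN 6 268435456 172135184 [5, 6, 7, 8, 11, 12] = true := by
  decide +kernel

set_option maxRecDepth 100000 in
theorem part_9_2_4_11 : dfsN 6 268435456 188912400 [5, 6, 7, 8, 10, 12] = true := by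
  decide +kernel

set_option maxRecDepth 100000 in
theorem part_9_2_4_12 : dfsN 6 268435456 205689616 [5, 6, 7, 8, 10, 11] = true := by
  decide +kernel

theorem part_9_2_4 : dfsN 7 16777216 4363024 [5, 6, 7, 8, 10, 11, 12] = true := by
  apply dfsN_step 6 16777216 4363024 [5, 6, 7, 8, 10, 11, 12]
  intro v hv
  simp only [List.mem_cons, List.not_mem_nil, or_false] at hv
  rcases hv with rfl | rfl | rfl | rfl | rfl | rfl | rfl
  exacts [part_9_2_4_5, part_9_2_4_6, part_9_2_4_7, part_9_2_4_8, part_9_2_4_10, part_9_2_4_11, part_9_2_4_12]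

set_option maxRecDepth 100000 in
theorem part_9_2_5_4 : dfsN 6 268435456 72520464 [6, 7, 8, 10, 11, 12] = true := by
  decide +kernel

set_option maxRecDepth 100000 in
theorem part_9_2_5_6 : dfsN 6 268435456 106074896 [4, 7, 8, 10, 11, 12] = true := by
  decide +kernel

set_option maxRecDepth 100000 in
theorem part_9_2_5_7 : dfsN 6 268435456 122852112 [4, 6, 8, 10, 11, 12] = true := by
  decide +kernel

set_option maxRecDepth 100000 in
theorem part_9_2_5_8 : dfsN 6 268435456 139629328 [4, 6, 7, 10, 11, 12] = true := by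
  decide +kernel

set_option maxRecDepth 100000 in
theorem part_9_2_5_10 : dfsN 6 268435456 173183760 [4, 6, 7, 8, 11, 12] = true := by
  decide +kernel

set_option maxRecDepth 100000 in
theorem part_9_2_5_11 : dfsN 6 268435456 189960976 [4, 6, 7, 8, 10, 12] = true := by
  decide +kernel

set_option maxRecDepth 100000 in
theorem part_9_2_5_12 : dfsN 6 268435456 206738192 [4, 6, 7, 8, 10, 11] = true := by
  decide +kernel

theorem part_9_2_5 : dfsN 7 16777216 5411600 [4, 6, 7, 8, 10, 11, 12] = true := by
  apply dfsN_step 6 16777216 5411600 [4, 6, 7, 8, 10, 11, 12]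
  intro v hv
  simp only [List.mem_cons, List.not_mem_nil, or_false] at hv
  rcases hv with rfl | rfl | rfl | rfl | rfl | rfl | rfl
  exacts [part_9_2_5_4, part_9_2_5_6, part_9_2_5_7, part_9_2_5_8, part_9_2_5_10, part_9_2_5_11, part_9_2_5_12]

set_option maxRecDepth 100000 in
theorem part_9_2_6_4 : dfsN 6 268435456 73569040 [5, 7, 8, 10, 11, 12] = true := by
  decide +kernel

set_option maxRecDepth 100000 in
theorem part_9_2_6_5 : dfsN 6 268435456 90346256 [4, 7, 8, 10, 11, 12] = true := by
  decide +kernel

set_option maxRecDepth 100000 in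
theorem part_9_2_6_7 : dfsN 6 268435456 123900688 [4, 5, 8, 10, 11, 12] = true := by
  decide +kernel

set_option maxRecDepth 100000 in
theorem part_9_2_6_8 : dfsN 6 268435456 140677904 [4, 5, 7, 10, 11, 12] = true := by
  decide +kernel

set_option maxRecDepth 100000 in
theorem part_9_2_6_10 : dfsN 6 268435456 174232336 [4, 5, 7, 8, 11, 12] = true := by
  decide +kernel

set_option maxRecDepth 100000 in
theorem part_9_2_6_11 : dfsN 6 268435456 191009552 [4, 5, 7, 8, 10, 12] = true := by
  decide +kernel

set_option maxRecDepth 100000 in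
theorem part_9_2_6_12 : dfsN 6 268435456 207786768 [4, 5, 7, 8, 10, 11] = true := by
  decide +kernel

theorem part_9_2_6 : dfsN 7 16777216 6460176 [4, 5, 7, 8, 10, 11, 12] = true := by
  apply dfsN_step 6 16777216 6460176 [4, 5, 7, 8, 10, 11, 12]
  intro v hv
  simp only [List.mem_cons, List.not_mem_nil, or_false] at hv
  rcases hv with rfl | rfl | rfl | rfl | rfl | rfl | rfl
  exacts [part_9_2_6_4, part_9_2_6_5, part_9_2_6_7, part_9_2_6_8, part_9_2_6_10, part_9_2_6_11, part_9_2_6_12]

set_option maxRecDepth 100000 in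
theorem part_9_2_7_4 : dfsN 6 268435456 74617616 [5, 6, 8, 10, 11, 12] = true := by
  decide +kernel

set_option maxRecDepth 100000 in
theorem part_9_2_7_5 : dfsN 6 268435456 91394832 [4, 6, 8, 10, 11, 12] = true := by
  decide +kernel

set_option maxRecDepth 100000 in
theorem part_9_2_7_6 : dfsN 6 268435456 108172048 [4, 5, 8, 10, 11, 12] = true := by
  decide +kernel

set_option maxRecDepth 100000 in
theorem part_9_2_7_8 : dfsN 6 268435456 141726480 [4, 5, 6, 10, 11, 12] = true := by
  decide +kernel

set_option maxRecDepth 100000 in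
theorem part_9_2_7_10 : dfsN 6 268435456 175280912 [4, 5, 6, 8, 11, 12] = true := by
  decide +kernel

set_option maxRecDepth 100000 in
theorem part_9_2_7_11 : dfsN 6 268435456 192058128 [4, 5, 6, 8, 10, 12] = true := by
  decide +kernel

set_option maxRecDepth 100000 in
theorem part_9_2_7_12 : dfsN 6 268435456 208835344 [4, 5, 6, 8, 10, 11] = true := by
  decide +kernel

theorem part_9_2_7 : dfsN 7 16777216 7508752 [4, 5, 6, 8, 10, 11, 12] = true := by
  apply dfsN_step 6 16777216 7508752 [4, 5, 6, 8, 10, 11, 12]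
  intro v hv
  simp only [List.mem_cons, List.not_mem_nil, or_false] at hv
  rcases hv with rfl | rfl | rfl | rfl | rfl | rfl | rfl
  exacts [part_9_2_7_4, part_9_2_7_5, part_9_2_7_6, part_9_2_7_8, part_9_2_7_10, part_9_2_7_11, part_9_2_7_12]

set_option maxRecDepth 100000 in
theorem part_9_2_8_4 : dfsN 6 268435456 75666192 [5, 6, 7, 10, 11, 12] = true := by
  decide +kernel

set_option maxRecDepth 100000 in
theorem part_9_2_8_5 : dfsN 6 268435456 92443408 [4, 6, 7, 10, 11, 12] = true := by
  decide +kernel

set_option maxRecDepth 100000 in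
theorem part_9_2_8_6 : dfsN 6 268435456 109220624 [4, 5, 7, 10, 11, 12] = true := by
  decide +kernel

set_option maxRecDepth 100000 in
theorem part_9_2_8_7 : dfsN 6 268435456 125997840 [4, 5, 6, 10, 11, 12] = true := by
  decide +kernel

set_option maxRecDepth 100000 in
theorem part_9_2_8_10 : dfsN 6 268435456 176329488 [4, 5, 6, 7, 11, 12] = true := by
  decide +kernel

set_option maxRecDepth 100000 in
theorem part_9_2_8_11 : dfsN 6 268435456 193106704 [4, 5, 6, 7, 10, 12] = true := by
  decide +kernel

set_option maxRecDepth 100000 in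
theorem part_9_2_8_12 : dfsN 6 268435456 209883920 [4, 5, 6, 7, 10, 11] = true := by
  decide +kernel

theorem part_9_2_8 : dfsN 7 16777216 8557328 [4, 5, 6, 7, 10, 11, 12] = true := by
  apply dfsN_step 6 16777216 8557328 [4, 5, 6, 7, 10, 11, 12]
  intro v hv
  simp only [List.mem_cons, List.not_mem_nil, or_false] at hv
  rcases hv with rfl | rfl | rfl | rfl | rfl | rfl | rfl
  exacts [part_9_2_8_4, part_9_2_8_5, part_9_2_8_6, part_9_2_8_7, part_9_2_8_10, part_9_2_8_11, part_9_2_8_12]

set_option maxRecDepth 100000 in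
theorem part_9_2_10_4 : dfsN 6 268435456 77763344 [5, 6, 7, 8, 11, 12] = true := by
  decide +kernel

set_option maxRecDepth 100000 in
theorem part_9_2_10_5 : dfsN 6 268435456 94540560 [4, 6, 7, 8, 11, 12] = true := by
  decide +kernel

set_option maxRecDepth 100000 in
theorem part_9_2_10_6 : dfsN 6 268435456 111317776 [4, 5, 7, 8, 11, 12] = true := by
  decide +kernel

set_option maxRecDepth 100000 in
theorem part_9_2_10_7 : dfsN 6 268435456 128094992 [4, 5, 6, 8, 11, 12] = true := by
  decide +kernel

set_option maxRecDepth 100000 in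
theorem part_9_2_10_8 : dfsN 6 268435456 144872208 [4, 5, 6, 7, 11, 12] = true := by
  decide +kernel

set_option maxRecDepth 100000 in
theorem part_9_2_10_11 : dfsN 6 268435456 195203856 [4, 5, 6, 7, 8, 12] = true := by
  decide +kernel

set_option maxRecDepth 100000 in
theorem part_9_2_10_12 : dfsN 6 268435456 211981072 [4, 5, 6, 7, 8, 11] = true := by
  decide +kernel

theorem part_9_2_10 : dfsN 7 16777216 10654480 [4, 5, 6, 7, 8, 11, 12] = true := by
  apply dfsN_step 6 16777216 10654480 [4, 5, 6, 7, 8, 11, 12]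
  intro v hv
  simp only [List.mem_cons, List.not_mem_nil, or_false] at hv
  rcases hv with rfl | rfl | rfl | rfl | rfl | rfl | rfl
  exacts [part_9_2_10_4, part_9_2_10_5, part_9_2_10_6, part_9_2_10_7, part_9_2_10_8, part_9_2_10_11, part_9_2_10_12]

set_option maxRecDepth 100000 in
theorem part_9_2_11_4 : dfsN 6 268435456 78811920 [5, 6, 7, 8, 10, 12] = true := by
  decide +kernel

set_option maxRecDepth 100000 in
theorem part_9_2_11_5 : dfsN 6 268435456 95589136 [4, 6, 7, 8, 10, 12] = true := by
  decide +kernel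

set_option maxRecDepth 100000 in
theorem part_9_2_11_6 : dfsN 6 268435456 112366352 [4, 5, 7, 8, 10, 12] = true := by
  decide +kernel

set_option maxRecDepth 100000 in
theorem part_9_2_11_7 : dfsN 6 268435456 129143568 [4, 5, 6, 8, 10, 12] = true := by
  decide +kernel

set_option maxRecDepth 100000 in
theorem part_9_2_11_8 : dfsN 6 268435456 145920784 [4, 5, 6, 7, 10, 12] = true := by
  decide +kernel

set_option maxRecDepth 100000 in
theorem part_9_2_11_10 : dfsN 6 268435456 179475216 [4, 5, 6, 7, 8, 12] = true := by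
  decide +kernel

set_option maxRecDepth 100000 in
theorem part_9_2_11_12 : dfsN 6 268435456 213029648 [4, 5, 6, 7, 8, 10] = true := by
  decide +kernel

theorem part_9_2_11 : dfsN 7 16777216 11703056 [4, 5, 6, 7, 8, 10, 12] = true := by
  apply dfsN_step 6 16777216 11703056 [4, 5, 6, 7, 8, 10, 12]
  intro v hv
  simp only [List.mem_cons, List.not_mem_nil, or_false] at hv
  rcases hv with rfl | rfl | rfl | rfl | rfl | rfl | rfl
  exacts [part_9_2_11_4, part_9_2_11_5, part_9_2_11_6, part_9_2_11_7, part_9_2_11_8, part_9_2_11_10, part_9_2_11_12]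

set_option maxRecDepth 100000 in
theorem part_9_2_12_4 : dfsN 6 268435456 79860496 [5, 6, 7, 8, 10, 11] = true := by
  decide +kernel

set_option maxRecDepth 100000 in
theorem part_9_2_12_5 : dfsN 6 268435456 96637712 [4, 6, 7, 8, 10, 11] = true := by
  decide +kernel

set_option maxRecDepth 100000 in
theorem part_9_2_12_6 : dfsN 6 268435456 113414928 [4, 5, 7, 8, 10, 11] = true := by
  decide +kernel

set_option maxRecDepth 100000 in
theorem part_9_2_12_7 : dfsN 6 268435456 130192144 [4, 5, 6, 8, 10, 11] = true := by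
  decide +kernel

set_option maxRecDepth 100000 in
theorem part_9_2_12_8 : dfsN 6 268435456 146969360 [4, 5, 6, 7, 10, 11] = true := by
  decide +kernel

set_option maxRecDepth 100000 in
theorem part_9_2_12_10 : dfsN 6 268435456 180523792 [4, 5, 6, 7, 8, 11] = true := by
  decide +kernel

set_option maxRecDepth 100000 in
theorem part_9_2_12_11 : dfsN 6 268435456 197301008 [4, 5, 6, 7, 8, 10] = true := by
  decide +kernel

theorem part_9_2_12 : dfsN 7 16777216 12751632 [4, 5, 6, 7, 8, 10, 11] = true := by
  apply dfsN_step 6 16777216 12751632 [4, 5, 6, 7, 8, 10, 11]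
  intro v hv
  simp only [List.mem_cons, List.not_mem_nil, or_false] at hv
  rcases hv with rfl | rfl | rfl | rfl | rfl | rfl | rfl
  exacts [part_9_2_12_4, part_9_2_12_5, part_9_2_12_6, part_9_2_12_7, part_9_2_12_8, part_9_2_12_10, part_9_2_12_11]

theorem part_9_2 : dfsN 8 1048576 168720 [4, 5, 6, 7, 8, 10, 11, 12] = true := by
  apply dfsN_step 7 1048576 168720 [4, 5, 6, 7, 8, 10, 11, 12]
  intro v hv
  simp only [List.mem_cons, List.not_mem_nil, or_false] at hv
  rcases hv with rfl | rfl | rfl | rfl | rfl | rfl | rfl | rfl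
  exacts [part_9_2_4, part_9_2_5, part_9_2_6, part_9_2_7, part_9_2_8, part_9_2_10, part_9_2_11, part_9_2_12]

end Cfsg.Agent.Lib.H16.AG
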