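import Cfsg.Agent.Lib.H16.AG.Step

set_option autoImplicit false

/-! Degree 13, images `0, 1, 3, 9, 4` of `0, 1, 2, 3, 4` fixed: every completion that is an
`11`-cycle has a word `(x ^ b * y ^ a) ^ k` which is a `3`-, `5`- or `7`-cycle
(small kernel computations, one per pair of images of `5, 6`). -/

namespace Cfsg.Agent.Lib.H16.AG

set_option maxRecDepth 100000 in
theorem part_9_4_2_5 : dfsN 6 268435456 86283024 [6, 7, 8, 10, 11, 12] = true := by
  decide +kernel

set_option maxRecDepth 100000 in
theorem part_9_4_2_6 : dfsN 6 268435456 103060240 [5, 7, 8, 10, 11, 12] = true := by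
  decide +kernel

set_option maxRecDepth 100000 in
theorem part_9_4_2_7 : dfsN 6 268435456 119837456 [5, 6, 8, 10, 11, 12] = true := by
  decide +kernel

set_option maxRecDepth 100000 in
theorem part_9_4_2_8 : dfsN 6 268435456 136614672 [5, 6, 7, 10, 11, 12] = true := by
  decide +kernel

set_option maxRecDepth 100000 in
theorem part_9_4_2_10 : dfsN 6 268435456 170169104 [5, 6, 7, 8, 11, 12] = true := by
  decide +kernel

set_option maxRecDepth 100000 in
theorem part_9_4_2_11 : dfsN 6 268435456 186946320 [5, 6, 7, 8, 10, 12] = true := by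
  decide +kernel

set_option maxRecDepth 100000 in
theorem part_9_4_2_12 : dfsN 6 268435456 203723536 [5, 6, 7, 8, 10, 11] = true := by
  decide +kernel

theorem part_9_4_2 : dfsN 7 16777216 2396944 [5, 6, 7, 8, 10, 11, 12] = true := by
  apply dfsN_step 6 16777216 2396944 [5, 6, 7, 8, 10, 11, 12]
  intro v hv
  simp only [List.mem_cons, List.not_mem_nil, or_false] at hv
  rcases hv with rfl | rfl | rfl | rfl | rfl | rfl | rfl
  exacts [part_9_4_2_5, part_9_4_2_6, part_9_4_2_7, part_9_4_2_8, part_9_4_2_10, part_9_4_2_11, part_9_4_2_12]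

set_option maxRecDepth 100000 in
theorem part_9_4_5_2 : dfsN 6 268435456 39097104 [6, 7, 8, 10, 11, 12] = true := by
  decide +kernel

set_option maxRecDepth 100000 in
theorem part_9_4_5_6 : dfsN 6 268435456 106205968 [2, 7, 8, 10, 11, 12] = true := by
  decide +kernel

set_option maxRecDepth 100000 in
theorem part_9_4_5_7 : dfsN 6 268435456 122983184 [2, 6, 8, 10, 11, 12] = true := by
  decide +kernel

set_option maxRecDepth 100000 in
theorem part_9_4_5_8 : dfsN 6 268435456 139760400 [2, 6, 7, 10, 11, 12] = true := by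
  decide +kernel

set_option maxRecDepth 100000 in
theorem part_9_4_5_10 : dfsN 6 268435456 173314832 [2, 6, 7, 8, 11, 12] = true := by
  decide +kernel

set_option maxRecDepth 100000 in
theorem part_9_4_5_11 : dfsN 6 268435456 190092048 [2, 6, 7, 8, 10, 12] = true := by
  decide +kernel

set_option maxRecDepth 100000 in
theorem part_9_4_5_12 : dfsN 6 268435456 206869264 [2, 6, 7, 8, 10, 11] = true := by
  decide +kernel

theorem part_9_4_5 : dfsN 7 16777216 5542672 [2, 6, 7, 8, 10, 11, 12] = true := by
  apply dfsN_step 6 16777216 5542672 [2, 6, 7, 8, 10, 11, 12]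
  intro v hv
  simp only [List.mem_cons, List.not_mem_nil, or_false] at hv
  rcases hv with rfl | rfl | rfl | rfl | rfl | rfl | rfl
  exacts [part_9_4_5_2, part_9_4_5_6, part_9_4_5_7, part_9_4_5_8, part_9_4_5_10, part_9_4_5_11, part_9_4_5_12]

set_option maxRecDepth 100000 in
theorem part_9_4_6_2 : dfsN 6 268435456 40145680 [5, 7, 8, 10, 11, 12] = true := by
  decide +kernel

set_option maxRecDepth 100000 in
theorem part_9_4_6_5 : dfsN 6 268435456 90477328 [2, 7, 8, 10, 11, 12] = true := by
  decide +kernel

set_option maxRecDepth 100000 in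
theorem part_9_4_6_7 : dfsN 6 268435456 124031760 [2, 5, 8, 10, 11, 12] = true := by
  decide +kernel

set_option maxRecDepth 100000 in
theorem part_9_4_6_8 : dfsN 6 268435456 140808976 [2, 5, 7, 10, 11, 12] = true := by
  decide +kernel

set_option maxRecDepth 100000 in
theorem part_9_4_6_10 : dfsN 6 268435456 174363408 [2, 5, 7, 8, 11, 12] = true := by
  decide +kernel

set_option maxRecDepth 100000 in
theorem part_9_4_6_11 : dfsN 6 268435456 191140624 [2, 5, 7, 8, 10, 12] = true := by
  decide +kernel

set_option maxRecDepth 100000 in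
theorem part_9_4_6_12 : dfsN 6 268435456 207917840 [2, 5, 7, 8, 10, 11] = true := by
  decide +kernel

theorem part_9_4_6 : dfsN 7 16777216 6591248 [2, 5, 7, 8, 10, 11, 12] = true := by
  apply dfsN_step 6 16777216 6591248 [2, 5, 7, 8, 10, 11, 12]
  intro v hv
  simp only [List.mem_cons, List.not_mem_nil, or_false] at hv
  rcases hv with rfl | rfl | rfl | rfl | rfl | rfl | rfl
  exacts [part_9_4_6_2, part_9_4_6_5, part_9_4_6_7, part_9_4_6_8, part_9_4_6_10, part_9_4_6_11, part_9_4_6_12]

set_option maxRecDepth 100000 in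
theorem part_9_4_7_2 : dfsN 6 268435456 41194256 [5, 6, 8, 10, 11, 12] = true := by
  decide +kernel

set_option maxRecDepth 100000 in
theorem part_9_4_7_5 : dfsN 6 268435456 91525904 [2, 6, 8, 10, 11, 12] = true := by
  decide +kernel

set_option maxRecDepth 100000 in
theorem part_9_4_7_6 : dfsN 6 268435456 108303120 [2, 5, 8, 10, 11, 12] = true := by
  decide +kernel

set_option maxRecDepth 100000 in
theorem part_9_4_7_8 : dfsN 6 268435456 141857552 [2, 5, 6, 10, 11, 12] = true := by
  decide +kernel

set_option maxRecDepth 100000 in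
theorem part_9_4_7_10 : dfsN 6 268435456 175411984 [2, 5, 6, 8, 11, 12] = true := by
  decide +kernel

set_option maxRecDepth 100000 in
theorem part_9_4_7_11 : dfsN 6 268435456 192189200 [2, 5, 6, 8, 10, 12] = true := by
  decide +kernel

set_option maxRecDepth 100000 in
theorem part_9_4_7_12 : dfsN 6 268435456 208966416 [2, 5, 6, 8, 10, 11] = true := by
  decide +kernel

theorem part_9_4_7 : dfsN 7 16777216 7639824 [2, 5, 6, 8, 10, 11, 12] = true := by
  apply dfsN_step 6 16777216 7639824 [2, 5, 6, 8, 10, 11, 12]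
  intro v hv
  simp only [List.mem_cons, List.not_mem_nil, or_false] at hv
  rcases hv with rfl | rfl | rfl | rfl | rfl | rfl | rfl
  exacts [part_9_4_7_2, part_9_4_7_5, part_9_4_7_6, part_9_4_7_8, part_9_4_7_10, part_9_4_7_11, part_9_4_7_12]

set_option maxRecDepth 100000 in
theorem part_9_4_8_2 : dfsN 6 268435456 42242832 [5, 6, 7, 10, 11, 12] = true := by
  decide +kernel

set_option maxRecDepth 100000 in
theorem part_9_4_8_5 : dfsN 6 268435456 92574480 [2, 6, 7, 10, 11, 12] = true := by
  decide +kernel

set_option maxRecDepth 100000 in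
theorem part_9_4_8_6 : dfsN 6 268435456 109351696 [2, 5, 7, 10, 11, 12] = true := by
  decide +kernel

set_option maxRecDepth 100000 in
theorem part_9_4_8_7 : dfsN 6 268435456 126128912 [2, 5, 6, 10, 11, 12] = true := by
  decide +kernel

set_option maxRecDepth 100000 in
theorem part_9_4_8_10 : dfsN 6 268435456 176460560 [2, 5, 6, 7, 11, 12] = true := by
  decide +kernel

set_option maxRecDepth 100000 in
theorem part_9_4_8_11 : dfsN 6 268435456 193237776 [2, 5, 6, 7, 10, 12] = true := by
  decide +kernel

set_option maxRecDepth 100000 in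
theorem part_9_4_8_12 : dfsN 6 268435456 210014992 [2, 5, 6, 7, 10, 11] = true := by
  decide +kernel

theorem part_9_4_8 : dfsN 7 16777216 8688400 [2, 5, 6, 7, 10, 11, 12] = true := by
  apply dfsN_step 6 16777216 8688400 [2, 5, 6, 7, 10, 11, 12]
  intro v hv
  simp only [List.mem_cons, List.not_mem_nil, or_false] at hv
  rcases hv with rfl | rfl | rfl | rfl | rfl | rfl | rfl
  exacts [part_9_4_8_2, part_9_4_8_5, part_9_4_8_6, part_9_4_8_7, part_9_4_8_10, part_9_4_8_11, part_9_4_8_12]

set_option maxRecDepth 100000 in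
theorem part_9_4_10_2 : dfsN 6 268435456 44339984 [5, 6, 7, 8, 11, 12] = true := by
  decide +kernel

set_option maxRecDepth 100000 in
theorem part_9_4_10_5 : dfsN 6 268435456 94671632 [2, 6, 7, 8, 11, 12] = true := by
  decide +kernel

set_option maxRecDepth 100000 in
theorem part_9_4_10_6 : dfsN 6 268435456 111448848 [2, 5, 7, 8, 11, 12] = true := by
  decide +kernel

set_option maxRecDepth 100000 in
theorem part_9_4_10_7 : dfsN 6 268435456 128226064 [2, 5, 6, 8, 11, 12] = true := by
  decide +kernel

set_option maxRecDepth 100000 in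
theorem part_9_4_10_8 : dfsN 6 268435456 145003280 [2, 5, 6, 7, 11, 12] = true := by
  decide +kernel

set_option maxRecDepth 100000 in
theorem part_9_4_10_11 : dfsN 6 268435456 195334928 [2, 5, 6, 7, 8, 12] = true := by
  decide +kernel

set_option maxRecDepth 100000 in
theorem part_9_4_10_12 : dfsN 6 268435456 212112144 [2, 5, 6, 7, 8, 11] = true := by
  decide +kernel

theorem part_9_4_10 : dfsN 7 16777216 10785552 [2, 5, 6, 7, 8, 11, 12] = true := by
  apply dfsN_step 6 16777216 10785552 [2, 5, 6, 7, 8, 11, 12]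
  intro v hv
  simp only [List.mem_cons, List.not_mem_nil, or_false] at hv
  rcases hv with rfl | rfl | rfl | rfl | rfl | rfl | rfl
  exacts [part_9_4_10_2, part_9_4_10_5, part_9_4_10_6, part_9_4_10_7, part_9_4_10_8, part_9_4_10_11, part_9_4_10_12]

set_option maxRecDepth 100000 in
theorem part_9_4_11_2 : dfsN 6 268435456 45388560 [5, 6, 7, 8, 10, 12] = true := by
  decide +kernel

set_option maxRecDepth 100000 in
theorem part_9_4_11_5 : dfsN 6 268435456 95720208 [2, 6, 7, 8, 10, 12] = true := by
  decide +kernel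

set_option maxRecDepth 100000 in
theorem part_9_4_11_6 : dfsN 6 268435456 112497424 [2, 5, 7, 8, 10, 12] = true := by
  decide +kernel

set_option maxRecDepth 100000 in
theorem part_9_4_11_7 : dfsN 6 268435456 129274640 [2, 5, 6, 8, 10, 12] = true := by
  decide +kernel

set_option maxRecDepth 100000 in
theorem part_9_4_11_8 : dfsN 6 268435456 146051856 [2, 5, 6, 7, 10, 12] = true := by
  decide +kernel

set_option maxRecDepth 100000 in
theorem part_9_4_11_10 : dfsN 6 268435456 179606288 [2, 5, 6, 7, 8, 12] = true := by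
  decide +kernel

set_option maxRecDepth 100000 in
theorem part_9_4_11_12 : dfsN 6 268435456 213160720 [2, 5, 6, 7, 8, 10] = true := by
  decide +kernel

theorem part_9_4_11 : dfsN 7 16777216 11834128 [2, 5, 6, 7, 8, 10, 12] = true := by
  apply dfsN_step 6 16777216 11834128 [2, 5, 6, 7, 8, 10, 12]
  intro v hv
  simp only [List.mem_cons, List.not_mem_nil, or_false] at hv
  rcases hv with rfl | rfl | rfl | rfl | rfl | rfl | rfl
  exacts [part_9_4_11_2, part_9_4_11_5, part_9_4_11_6, part_9_4_11_7, part_9_4_11_8, part_9_4_11_10, part_9_4_11_12]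

set_option maxRecDepth 100000 in
theorem part_9_4_12_2 : dfsN 6 268435456 46437136 [5, 6, 7, 8, 10, 11] = true := by
  decide +kernel

set_option maxRecDepth 100000 in
theorem part_9_4_12_5 : dfsN 6 268435456 96768784 [2, 6, 7, 8, 10, 11] = true := by
  decide +kernel

set_option maxRecDepth 100000 in
theorem part_9_4_12_6 : dfsN 6 268435456 113546000 [2, 5, 7, 8, 10, 11] = true := by
  decide +kernel

set_option maxRecDepth 100000 in
theorem part_9_4_12_7 : dfsN 6 268435456 130323216 [2, 5, 6, 8, 10, 11] = true := by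
  decide +kernel

set_option maxRecDepth 100000 in
theorem part_9_4_12_8 : dfsN 6 268435456 147100432 [2, 5, 6, 7, 10, 11] = true := by
  decide +kernel

set_option maxRecDepth 100000 in
theorem part_9_4_12_10 : dfsN 6 268435456 180654864 [2, 5, 6, 7, 8, 11] = true := by
  decide +kernel

set_option maxRecDepth 100000 in
theorem part_9_4_12_11 : dfsN 6 268435456 197432080 [2, 5, 6, 7, 8, 10] = true := by
  decide +kernel

theorem part_9_4_12 : dfsN 7 16777216 12882704 [2, 5, 6, 7, 8, 10, 11] = true := by
  apply dfsN_step 6 16777216 12882704 [2, 5, 6, 7, 8, 10, 11]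
  intro v hv
  simp only [List.mem_cons, List.not_mem_nil, or_false] at hv
  rcases hv with rfl | rfl | rfl | rfl | rfl | rfl | rfl
  exacts [part_9_4_12_2, part_9_4_12_5, part_9_4_12_6, part_9_4_12_7, part_9_4_12_8, part_9_4_12_10, part_9_4_12_11]

theorem part_9_4 : dfsN 8 1048576 299792 [2, 5, 6, 7, 8, 10, 11, 12] = true := by
  apply dfsN_step 7 1048576 299792 [2, 5, 6, 7, 8, 10, 11, 12]
  intro v hv
  simp only [List.mem_cons, List.not_mem_nil, or_false] at hv
  rcases hv with rfl | rfl | rfl | rfl | rfl | rfl | rfl | rfl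
  exacts [part_9_4_2, part_9_4_5, part_9_4_6, part_9_4_7, part_9_4_8, part_9_4_10, part_9_4_11, part_9_4_12]

end Cfsg.Agent.Lib.H16.AG
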