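import Cfsg.Agent.Lib.H16.AG.Step

set_option autoImplicit false

/-! Degree 13, images `0, 1, 3, 9, 5` of `0, 1, 2, 3, 4` fixed: every completion that is an
`11`-cycle has a word `(x ^ b * y ^ a) ^ k` which is a `3`-, `5`- or `7`-cycle
(small kernel computations, one per pair of images of `5, 6`). -/

namespace Cfsg.Agent.Lib.H16.AG

set_option maxRecDepth 100000 in
theorem part_9_5_2_4 : dfsN 6 268435456 69571344 [6, 7, 8, 10, 11, 12] = true := by
  decide +kernel

set_option maxRecDepth 100000 in
theorem part_9_5_2_6 : dfsN 6 268435456 103125776 [4, 7, 8, 10, 11, 12] = true := by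
  decide +kernel

set_option maxRecDepth 100000 in
theorem part_9_5_2_7 : dfsN 6 268435456 119902992 [4, 6, 8, 10, 11, 12] = true := by
  decide +kernel

set_option maxRecDepth 100000 in
theorem part_9_5_2_8 : dfsN 6 268435456 136680208 [4, 6, 7, 10, 11, 12] = true := by
  decide +kernel

set_option maxRecDepth 100000 in
theorem part_9_5_2_10 : dfsN 6 268435456 170234640 [4, 6, 7, 8, 11, 12] = true := by
  decide +kernel

set_option maxRecDepth 100000 in
theorem part_9_5_2_11 : dfsN 6 268435456 187011856 [4, 6, 7, 8, 10, 12] = true := by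
  decide +kernel

set_option maxRecDepth 100000 in
theorem part_9_5_2_12 : dfsN 6 268435456 203789072 [4, 6, 7, 8, 10, 11] = true := by
  decide +kernel

theorem part_9_5_2 : dfsN 7 16777216 2462480 [4, 6, 7, 8, 10, 11, 12] = true := by
  apply dfsN_step 6 16777216 2462480 [4, 6, 7, 8, 10, 11, 12]
  intro v hv
  simp only [List.mem_cons, List.not_mem_nil, or_false] at hv
  rcases hv with rfl | rfl | rfl | rfl | rfl | rfl | rfl
  exacts [part_9_5_2_4, part_9_5_2_6, part_9_5_2_7, part_9_5_2_8, part_9_5_2_10, part_9_5_2_11, part_9_5_2_12]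

set_option maxRecDepth 100000 in
theorem part_9_5_4_2 : dfsN 6 268435456 38114064 [6, 7, 8, 10, 11, 12] = true := by
  decide +kernel

set_option maxRecDepth 100000 in
theorem part_9_5_4_6 : dfsN 6 268435456 105222928 [2, 7, 8, 10, 11, 12] = true := by
  decide +kernel

set_option maxRecDepth 100000 in
theorem part_9_5_4_7 : dfsN 6 268435456 122000144 [2, 6, 8, 10, 11, 12] = true := by
  decide +kernel

set_option maxRecDepth 100000 in
theorem part_9_5_4_8 : dfsN 6 268435456 138777360 [2, 6, 7, 10, 11, 12] = true := by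
  decide +kernel

set_option maxRecDepth 100000 in
theorem part_9_5_4_10 : dfsN 6 268435456 172331792 [2, 6, 7, 8, 11, 12] = true := by
  decide +kernel

set_option maxRecDepth 100000 in
theorem part_9_5_4_11 : dfsN 6 268435456 189109008 [2, 6, 7, 8, 10, 12] = true := by
  decide +kernel

set_option maxRecDepth 100000 in
theorem part_9_5_4_12 : dfsN 6 268435456 205886224 [2, 6, 7, 8, 10, 11] = true := by
  decide +kernel

theorem part_9_5_4 : dfsN 7 16777216 4559632 [2, 6, 7, 8, 10, 11, 12] = true := by
  apply dfsN_step 6 16777216 4559632 [2, 6, 7, 8, 10, 11, 12]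
  intro v hv
  simp only [List.mem_cons, List.not_mem_nil, or_false] at hv
  rcases hv with rfl | rfl | rfl | rfl | rfl | rfl | rfl
  exacts [part_9_5_4_2, part_9_5_4_6, part_9_5_4_7, part_9_5_4_8, part_9_5_4_10, part_9_5_4_11, part_9_5_4_12]

set_option maxRecDepth 100000 in
theorem part_9_5_6_2 : dfsN 6 268435456 40211216 [4, 7, 8, 10, 11, 12] = true := by
  decide +kernel

set_option maxRecDepth 100000 in
theorem part_9_5_6_4 : dfsN 6 268435456 73765648 [2, 7, 8, 10, 11, 12] = true := by
  decide +kernel

set_option maxRecDepth 100000 in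
theorem part_9_5_6_7 : dfsN 6 268435456 124097296 [2, 4, 8, 10, 11, 12] = true := by
  decide +kernel

set_option maxRecDepth 100000 in
theorem part_9_5_6_8 : dfsN 6 268435456 140874512 [2, 4, 7, 10, 11, 12] = true := by
  decide +kernel

set_option maxRecDepth 100000 in
theorem part_9_5_6_10 : dfsN 6 268435456 174428944 [2, 4, 7, 8, 11, 12] = true := by
  decide +kernel

set_option maxRecDepth 100000 in
theorem part_9_5_6_11 : dfsN 6 268435456 191206160 [2, 4, 7, 8, 10, 12] = true := by
  decide +kernel

set_option maxRecDepth 100000 in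
theorem part_9_5_6_12 : dfsN 6 268435456 207983376 [2, 4, 7, 8, 10, 11] = true := by
  decide +kernel

theorem part_9_5_6 : dfsN 7 16777216 6656784 [2, 4, 7, 8, 10, 11, 12] = true := by
  apply dfsN_step 6 16777216 6656784 [2, 4, 7, 8, 10, 11, 12]
  intro v hv
  simp only [List.mem_cons, List.not_mem_nil, or_false] at hv
  rcases hv with rfl | rfl | rfl | rfl | rfl | rfl | rfl
  exacts [part_9_5_6_2, part_9_5_6_4, part_9_5_6_7, part_9_5_6_8, part_9_5_6_10, part_9_5_6_11, part_9_5_6_12]

set_option maxRecDepth 100000 in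
theorem part_9_5_7_2 : dfsN 6 268435456 41259792 [4, 6, 8, 10, 11, 12] = true := by
  decide +kernel

set_option maxRecDepth 100000 in
theorem part_9_5_7_4 : dfsN 6 268435456 74814224 [2, 6, 8, 10, 11, 12] = true := by
  decide +kernel

set_option maxRecDepth 100000 in
theorem part_9_5_7_6 : dfsN 6 268435456 108368656 [2, 4, 8, 10, 11, 12] = true := by
  decide +kernel

set_option maxRecDepth 100000 in
theorem part_9_5_7_8 : dfsN 6 268435456 141923088 [2, 4, 6, 10, 11, 12] = true := by
  decide +kernel

set_option maxRecDepth 100000 in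
theorem part_9_5_7_10 : dfsN 6 268435456 175477520 [2, 4, 6, 8, 11, 12] = true := by
  decide +kernel

set_option maxRecDepth 100000 in
theorem part_9_5_7_11 : dfsN 6 268435456 192254736 [2, 4, 6, 8, 10, 12] = true := by
  decide +kernel

set_option maxRecDepth 100000 in
theorem part_9_5_7_12 : dfsN 6 268435456 209031952 [2, 4, 6, 8, 10, 11] = true := by
  decide +kernel

theorem part_9_5_7 : dfsN 7 16777216 7705360 [2, 4, 6, 8, 10, 11, 12] = true := by
  apply dfsN_step 6 16777216 7705360 [2, 4, 6, 8, 10, 11, 12]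
  intro v hv
  simp only [List.mem_cons, List.not_mem_nil, or_false] at hv
  rcases hv with rfl | rfl | rfl | rfl | rfl | rfl | rfl
  exacts [part_9_5_7_2, part_9_5_7_4, part_9_5_7_6, part_9_5_7_8, part_9_5_7_10, part_9_5_7_11, part_9_5_7_12]

set_option maxRecDepth 100000 in
theorem part_9_5_8_2 : dfsN 6 268435456 42308368 [4, 6, 7, 10, 11, 12] = true := by
  decide +kernel

set_option maxRecDepth 100000 in
theorem part_9_5_8_4 : dfsN 6 268435456 75862800 [2, 6, 7, 10, 11, 12] = true := by
  decide +kernel

set_option maxRecDepth 100000 in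
theorem part_9_5_8_6 : dfsN 6 268435456 109417232 [2, 4, 7, 10, 11, 12] = true := by
  decide +kernel

set_option maxRecDepth 100000 in
theorem part_9_5_8_7 : dfsN 6 268435456 126194448 [2, 4, 6, 10, 11, 12] = true := by
  decide +kernel

set_option maxRecDepth 100000 in
theorem part_9_5_8_10 : dfsN 6 268435456 176526096 [2, 4, 6, 7, 11, 12] = true := by
  decide +kernel

set_option maxRecDepth 100000 in
theorem part_9_5_8_11 : dfsN 6 268435456 193303312 [2, 4, 6, 7, 10, 12] = true := by
  decide +kernel

set_option maxRecDepth 100000 in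
theorem part_9_5_8_12 : dfsN 6 268435456 210080528 [2, 4, 6, 7, 10, 11] = true := by
  decide +kernel

theorem part_9_5_8 : dfsN 7 16777216 8753936 [2, 4, 6, 7, 10, 11, 12] = true := by
  apply dfsN_step 6 16777216 8753936 [2, 4, 6, 7, 10, 11, 12]
  intro v hv
  simp only [List.mem_cons, List.not_mem_nil, or_false] at hv
  rcases hv with rfl | rfl | rfl | rfl | rfl | rfl | rfl
  exacts [part_9_5_8_2, part_9_5_8_4, part_9_5_8_6, part_9_5_8_7, part_9_5_8_10, part_9_5_8_11, part_9_5_8_12]

set_option maxRecDepth 100000 in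
theorem part_9_5_10_2 : dfsN 6 268435456 44405520 [4, 6, 7, 8, 11, 12] = true := by
  decide +kernel

set_option maxRecDepth 100000 in
theorem part_9_5_10_4 : dfsN 6 268435456 77959952 [2, 6, 7, 8, 11, 12] = true := by
  decide +kernel

set_option maxRecDepth 100000 in
theorem part_9_5_10_6 : dfsN 6 268435456 111514384 [2, 4, 7, 8, 11, 12] = true := by
  decide +kernel

set_option maxRecDepth 100000 in
theorem part_9_5_10_7 : dfsN 6 268435456 128291600 [2, 4, 6, 8, 11, 12] = true := by
  decide +kernel

set_option maxRecDepth 100000 in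
theorem part_9_5_10_8 : dfsN 6 268435456 145068816 [2, 4, 6, 7, 11, 12] = true := by
  decide +kernel

set_option maxRecDepth 100000 in
theorem part_9_5_10_11 : dfsN 6 268435456 195400464 [2, 4, 6, 7, 8, 12] = true := by
  decide +kernel

set_option maxRecDepth 100000 in
theorem part_9_5_10_12 : dfsN 6 268435456 212177680 [2, 4, 6, 7, 8, 11] = true := by
  decide +kernel

theorem part_9_5_10 : dfsN 7 16777216 10851088 [2, 4, 6, 7, 8, 11, 12] = true := by
  apply dfsN_step 6 16777216 10851088 [2, 4, 6, 7, 8, 11, 12]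
  intro v hv
  simp only [List.mem_cons, List.not_mem_nil, or_false] at hv
  rcases hv with rfl | rfl | rfl | rfl | rfl | rfl | rfl
  exacts [part_9_5_10_2, part_9_5_10_4, part_9_5_10_6, part_9_5_10_7, part_9_5_10_8, part_9_5_10_11, part_9_5_10_12]

set_option maxRecDepth 100000 in
theorem part_9_5_11_2 : dfsN 6 268435456 45454096 [4, 6, 7, 8, 10, 12] = true := by
  decide +kernel

set_option maxRecDepth 100000 in
theorem part_9_5_11_4 : dfsN 6 268435456 79008528 [2, 6, 7, 8, 10, 12] = true := by
  decide +kernel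

set_option maxRecDepth 100000 in
theorem part_9_5_11_6 : dfsN 6 268435456 112562960 [2, 4, 7, 8, 10, 12] = true := by
  decide +kernel

set_option maxRecDepth 100000 in
theorem part_9_5_11_7 : dfsN 6 268435456 129340176 [2, 4, 6, 8, 10, 12] = true := by
  decide +kernel

set_option maxRecDepth 100000 in
theorem part_9_5_11_8 : dfsN 6 268435456 146117392 [2, 4, 6, 7, 10, 12] = true := by
  decide +kernel

set_option maxRecDepth 100000 in
theorem part_9_5_11_10 : dfsN 6 268435456 179671824 [2, 4, 6, 7, 8, 12] = true := by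
  decide +kernel

set_option maxRecDepth 100000 in
theorem part_9_5_11_12 : dfsN 6 268435456 213226256 [2, 4, 6, 7, 8, 10] = true := by
  decide +kernel

theorem part_9_5_11 : dfsN 7 16777216 11899664 [2, 4, 6, 7, 8, 10, 12] = true := by
  apply dfsN_step 6 16777216 11899664 [2, 4, 6, 7, 8, 10, 12]
  intro v hv
  simp only [List.mem_cons, List.not_mem_nil, or_false] at hv
  rcases hv with rfl | rfl | rfl | rfl | rfl | rfl | rfl
  exacts [part_9_5_11_2, part_9_5_11_4, part_9_5_11_6, part_9_5_11_7, part_9_5_11_8, part_9_5_11_10, part_9_5_11_12]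

set_option maxRecDepth 100000 in
theorem part_9_5_12_2 : dfsN 6 268435456 46502672 [4, 6, 7, 8, 10, 11] = true := by
  decide +kernel

set_option maxRecDepth 100000 in
theorem part_9_5_12_4 : dfsN 6 268435456 80057104 [2, 6, 7, 8, 10, 11] = true := by
  decide +kernel

set_option maxRecDepth 100000 in
theorem part_9_5_12_6 : dfsN 6 268435456 113611536 [2, 4, 7, 8, 10, 11] = true := by
  decide +kernel

set_option maxRecDepth 100000 in
theorem part_9_5_12_7 : dfsN 6 268435456 130388752 [2, 4, 6, 8, 10, 11] = true := by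
  decide +kernel

set_option maxRecDepth 100000 in
theorem part_9_5_12_8 : dfsN 6 268435456 147165968 [2, 4, 6, 7, 10, 11] = true := by
  decide +kernel

set_option maxRecDepth 100000 in
theorem part_9_5_12_10 : dfsN 6 268435456 180720400 [2, 4, 6, 7, 8, 11] = true := by
  decide +kernel

set_option maxRecDepth 100000 in
theorem part_9_5_12_11 : dfsN 6 268435456 197497616 [2, 4, 6, 7, 8, 10] = true := by
  decide +kernel

theorem part_9_5_12 : dfsN 7 16777216 12948240 [2, 4, 6, 7, 8, 10, 11] = true := by
  apply dfsN_step 6 16777216 12948240 [2, 4, 6, 7, 8, 10, 11]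
  intro v hv
  simp only [List.mem_cons, List.not_mem_nil, or_false] at hv
  rcases hv with rfl | rfl | rfl | rfl | rfl | rfl | rfl
  exacts [part_9_5_12_2, part_9_5_12_4, part_9_5_12_6, part_9_5_12_7, part_9_5_12_8, part_9_5_12_10, part_9_5_12_11]

theorem part_9_5 : dfsN 8 1048576 365328 [2, 4, 6, 7, 8, 10, 11, 12] = true := by
  apply dfsN_step 7 1048576 365328 [2, 4, 6, 7, 8, 10, 11, 12]
  intro v hv
  simp only [List.mem_cons, List.not_mem_nil, or_false] at hv
  rcases hv with rfl | rfl | rfl | rfl | rfl | rfl | rfl | rfl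
  exacts [part_9_5_2, part_9_5_4, part_9_5_6, part_9_5_7, part_9_5_8, part_9_5_10, part_9_5_11, part_9_5_12]

end Cfsg.Agent.Lib.H16.AG
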