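import Cfsg.Agent.Lib.H16.AG.Step

set_option autoImplicit false

/-! Degree 13, images `0, 1, 3, 9, 6` of `0, 1, 2, 3, 4` fixed: every completion that is an
`11`-cycle has a word `(x ^ b * y ^ a) ^ k` which is a `3`-, `5`- or `7`-cycle
(small kernel computations, one per pair of images of `5, 6`). -/

namespace Cfsg.Agent.Lib.H16.AG

set_option maxRecDepth 100000 in
theorem part_9_6_2_4 : dfsN 6 268435456 69636880 [5, 7, 8, 10, 11, 12] = true := by
  decide +kernel

set_option maxRecDepth 100000 in
theorem part_9_6_2_5 : dfsN 6 268435456 86414096 [4, 7, 8, 10, 11, 12] = true := by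
  decide +kernel

set_option maxRecDepth 100000 in
theorem part_9_6_2_7 : dfsN 6 268435456 119968528 [4, 5, 8, 10, 11, 12] = true := by
  decide +kernel

set_option maxRecDepth 100000 in
theorem part_9_6_2_8 : dfsN 6 268435456 136745744 [4, 5, 7, 10, 11, 12] = true := by
  decide +kernel

set_option maxRecDepth 100000 in
theorem part_9_6_2_10 : dfsN 6 268435456 170300176 [4, 5, 7, 8, 11, 12] = true := by
  decide +kernel

set_option maxRecDepth 100000 in
theorem part_9_6_2_11 : dfsN 6 268435456 187077392 [4, 5, 7, 8, 10, 12] = true := by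
  decide +kernel

set_option maxRecDepth 100000 in
theorem part_9_6_2_12 : dfsN 6 268435456 203854608 [4, 5, 7, 8, 10, 11] = true := by
  decide +kernel

theorem part_9_6_2 : dfsN 7 16777216 2528016 [4, 5, 7, 8, 10, 11, 12] = true := by
  apply dfsN_step 6 16777216 2528016 [4, 5, 7, 8, 10, 11, 12]
  intro v hv
  simp only [List.mem_cons, List.not_mem_nil, or_false] at hv
  rcases hv with rfl | rfl | rfl | rfl | rfl | rfl | rfl
  exacts [part_9_6_2_4, part_9_6_2_5, part_9_6_2_7, part_9_6_2_8, part_9_6_2_10, part_9_6_2_11, part_9_6_2_12]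

set_option maxRecDepth 100000 in
theorem part_9_6_4_2 : dfsN 6 268435456 38179600 [5, 7, 8, 10, 11, 12] = true := by
  decide +kernel

set_option maxRecDepth 100000 in
theorem part_9_6_4_5 : dfsN 6 268435456 88511248 [2, 7, 8, 10, 11, 12] = true := by
  decide +kernel

set_option maxRecDepth 100000 in
theorem part_9_6_4_7 : dfsN 6 268435456 122065680 [2, 5, 8, 10, 11, 12] = true := by
  decide +kernel

set_option maxRecDepth 100000 in
theorem part_9_6_4_8 : dfsN 6 268435456 138842896 [2, 5, 7, 10, 11, 12] = true := by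
  decide +kernel

set_option maxRecDepth 100000 in
theorem part_9_6_4_10 : dfsN 6 268435456 172397328 [2, 5, 7, 8, 11, 12] = true := by
  decide +kernel

set_option maxRecDepth 100000 in
theorem part_9_6_4_11 : dfsN 6 268435456 189174544 [2, 5, 7, 8, 10, 12] = true := by
  decide +kernel

set_option maxRecDepth 100000 in
theorem part_9_6_4_12 : dfsN 6 268435456 205951760 [2, 5, 7, 8, 10, 11] = true := by
  decide +kernel

theorem part_9_6_4 : dfsN 7 16777216 4625168 [2, 5, 7, 8, 10, 11, 12] = true := by
  apply dfsN_step 6 16777216 4625168 [2, 5, 7, 8, 10, 11, 12]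
  intro v hv
  simp only [List.mem_cons, List.not_mem_nil, or_false] at hv
  rcases hv with rfl | rfl | rfl | rfl | rfl | rfl | rfl
  exacts [part_9_6_4_2, part_9_6_4_5, part_9_6_4_7, part_9_6_4_8, part_9_6_4_10, part_9_6_4_11, part_9_6_4_12]

set_option maxRecDepth 100000 in
theorem part_9_6_5_2 : dfsN 6 268435456 39228176 [4, 7, 8, 10, 11, 12] = true := by
  decide +kernel

set_option maxRecDepth 100000 in
theorem part_9_6_5_4 : dfsN 6 268435456 72782608 [2, 7, 8, 10, 11, 12] = true := by
  decide +kernel

set_option maxRecDepth 100000 in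
theorem part_9_6_5_7 : dfsN 6 268435456 123114256 [2, 4, 8, 10, 11, 12] = true := by
  decide +kernel

set_option maxRecDepth 100000 in
theorem part_9_6_5_8 : dfsN 6 268435456 139891472 [2, 4, 7, 10, 11, 12] = true := by
  decide +kernel

set_option maxRecDepth 100000 in
theorem part_9_6_5_10 : dfsN 6 268435456 173445904 [2, 4, 7, 8, 11, 12] = true := by
  decide +kernel

set_option maxRecDepth 100000 in
theorem part_9_6_5_11 : dfsN 6 268435456 190223120 [2, 4, 7, 8, 10, 12] = true := by
  decide +kernel

set_option maxRecDepth 100000 in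
theorem part_9_6_5_12 : dfsN 6 268435456 207000336 [2, 4, 7, 8, 10, 11] = true := by
  decide +kernel

theorem part_9_6_5 : dfsN 7 16777216 5673744 [2, 4, 7, 8, 10, 11, 12] = true := by
  apply dfsN_step 6 16777216 5673744 [2, 4, 7, 8, 10, 11, 12]
  intro v hv
  simp only [List.mem_cons, List.not_mem_nil, or_false] at hv
  rcases hv with rfl | rfl | rfl | rfl | rfl | rfl | rfl
  exacts [part_9_6_5_2, part_9_6_5_4, part_9_6_5_7, part_9_6_5_8, part_9_6_5_10, part_9_6_5_11, part_9_6_5_12]

set_option maxRecDepth 100000 in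
theorem part_9_6_7_2 : dfsN 6 268435456 41325328 [4, 5, 8, 10, 11, 12] = true := by
  decide +kernel

set_option maxRecDepth 100000 in
theorem part_9_6_7_4 : dfsN 6 268435456 74879760 [2, 5, 8, 10, 11, 12] = true := by
  decide +kernel

set_option maxRecDepth 100000 in
theorem part_9_6_7_5 : dfsN 6 268435456 91656976 [2, 4, 8, 10, 11, 12] = true := by
  decide +kernel

set_option maxRecDepth 100000 in
theorem part_9_6_7_8 : dfsN 6 268435456 141988624 [2, 4, 5, 10, 11, 12] = true := by
  decide +kernel

set_option maxRecDepth 100000 in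
theorem part_9_6_7_10 : dfsN 6 268435456 175543056 [2, 4, 5, 8, 11, 12] = true := by
  decide +kernel

set_option maxRecDepth 100000 in
theorem part_9_6_7_11 : dfsN 6 268435456 192320272 [2, 4, 5, 8, 10, 12] = true := by
  decide +kernel

set_option maxRecDepth 100000 in
theorem part_9_6_7_12 : dfsN 6 268435456 209097488 [2, 4, 5, 8, 10, 11] = true := by
  decide +kernel

theorem part_9_6_7 : dfsN 7 16777216 7770896 [2, 4, 5, 8, 10, 11, 12] = true := by
  apply dfsN_step 6 16777216 7770896 [2, 4, 5, 8, 10, 11, 12]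
  intro v hv
  simp only [List.mem_cons, List.not_mem_nil, or_false] at hv
  rcases hv with rfl | rfl | rfl | rfl | rfl | rfl | rfl
  exacts [part_9_6_7_2, part_9_6_7_4, part_9_6_7_5, part_9_6_7_8, part_9_6_7_10, part_9_6_7_11, part_9_6_7_12]

set_option maxRecDepth 100000 in
theorem part_9_6_8_2 : dfsN 6 268435456 42373904 [4, 5, 7, 10, 11, 12] = true := by
  decide +kernel

set_option maxRecDepth 100000 in
theorem part_9_6_8_4 : dfsN 6 268435456 75928336 [2, 5, 7, 10, 11, 12] = true := by
  decide +kernel

set_option maxRecDepth 100000 in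
theorem part_9_6_8_5 : dfsN 6 268435456 92705552 [2, 4, 7, 10, 11, 12] = true := by
  decide +kernel

set_option maxRecDepth 100000 in
theorem part_9_6_8_7 : dfsN 6 268435456 126259984 [2, 4, 5, 10, 11, 12] = true := by
  decide +kernel

set_option maxRecDepth 100000 in
theorem part_9_6_8_10 : dfsN 6 268435456 176591632 [2, 4, 5, 7, 11, 12] = true := by
  decide +kernel

set_option maxRecDepth 100000 in
theorem part_9_6_8_11 : dfsN 6 268435456 193368848 [2, 4, 5, 7, 10, 12] = true := by
  decide +kernel

set_option maxRecDepth 100000 in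
theorem part_9_6_8_12 : dfsN 6 268435456 210146064 [2, 4, 5, 7, 10, 11] = true := by
  decide +kernel

theorem part_9_6_8 : dfsN 7 16777216 8819472 [2, 4, 5, 7, 10, 11, 12] = true := by
  apply dfsN_step 6 16777216 8819472 [2, 4, 5, 7, 10, 11, 12]
  intro v hv
  simp only [List.mem_cons, List.not_mem_nil, or_false] at hv
  rcases hv with rfl | rfl | rfl | rfl | rfl | rfl | rfl
  exacts [part_9_6_8_2, part_9_6_8_4, part_9_6_8_5, part_9_6_8_7, part_9_6_8_10, part_9_6_8_11, part_9_6_8_12]

set_option maxRecDepth 100000 in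
theorem part_9_6_10_2 : dfsN 6 268435456 44471056 [4, 5, 7, 8, 11, 12] = true := by
  decide +kernel

set_option maxRecDepth 100000 in
theorem part_9_6_10_4 : dfsN 6 268435456 78025488 [2, 5, 7, 8, 11, 12] = true := by
  decide +kernel

set_option maxRecDepth 100000 in
theorem part_9_6_10_5 : dfsN 6 268435456 94802704 [2, 4, 7, 8, 11, 12] = true := by
  decide +kernel

set_option maxRecDepth 100000 in
theorem part_9_6_10_7 : dfsN 6 268435456 128357136 [2, 4, 5, 8, 11, 12] = true := by
  decide +kernel

set_option maxRecDepth 100000 in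
theorem part_9_6_10_8 : dfsN 6 268435456 145134352 [2, 4, 5, 7, 11, 12] = true := by
  decide +kernel

set_option maxRecDepth 100000 in
theorem part_9_6_10_11 : dfsN 6 268435456 195466000 [2, 4, 5, 7, 8, 12] = true := by
  decide +kernel

set_option maxRecDepth 100000 in
theorem part_9_6_10_12 : dfsN 6 268435456 212243216 [2, 4, 5, 7, 8, 11] = true := by
  decide +kernel

theorem part_9_6_10 : dfsN 7 16777216 10916624 [2, 4, 5, 7, 8, 11, 12] = true := by
  apply dfsN_step 6 16777216 10916624 [2, 4, 5, 7, 8, 11, 12]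
  intro v hv
  simp only [List.mem_cons, List.not_mem_nil, or_false] at hv
  rcases hv with rfl | rfl | rfl | rfl | rfl | rfl | rfl
  exacts [part_9_6_10_2, part_9_6_10_4, part_9_6_10_5, part_9_6_10_7, part_9_6_10_8, part_9_6_10_11, part_9_6_10_12]

set_option maxRecDepth 100000 in
theorem part_9_6_11_2 : dfsN 6 268435456 45519632 [4, 5, 7, 8, 10, 12] = true := by
  decide +kernel

set_option maxRecDepth 100000 in
theorem part_9_6_11_4 : dfsN 6 268435456 79074064 [2, 5, 7, 8, 10, 12] = true := by
  decide +kernel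

set_option maxRecDepth 100000 in
theorem part_9_6_11_5 : dfsN 6 268435456 95851280 [2, 4, 7, 8, 10, 12] = true := by
  decide +kernel

set_option maxRecDepth 100000 in
theorem part_9_6_11_7 : dfsN 6 268435456 129405712 [2, 4, 5, 8, 10, 12] = true := by
  decide +kernel

set_option maxRecDepth 100000 in
theorem part_9_6_11_8 : dfsN 6 268435456 146182928 [2, 4, 5, 7, 10, 12] = true := by
  decide +kernel

set_option maxRecDepth 100000 in
theorem part_9_6_11_10 : dfsN 6 268435456 179737360 [2, 4, 5, 7, 8, 12] = true := by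
  decide +kernel

set_option maxRecDepth 100000 in
theorem part_9_6_11_12 : dfsN 6 268435456 213291792 [2, 4, 5, 7, 8, 10] = true := by
  decide +kernel

theorem part_9_6_11 : dfsN 7 16777216 11965200 [2, 4, 5, 7, 8, 10, 12] = true := by
  apply dfsN_step 6 16777216 11965200 [2, 4, 5, 7, 8, 10, 12]
  intro v hv
  simp only [List.mem_cons, List.not_mem_nil, or_false] at hv
  rcases hv with rfl | rfl | rfl | rfl | rfl | rfl | rfl
  exacts [part_9_6_11_2, part_9_6_11_4, part_9_6_11_5, part_9_6_11_7, part_9_6_11_8, part_9_6_11_10, part_9_6_11_12]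

set_option maxRecDepth 100000 in
theorem part_9_6_12_2 : dfsN 6 268435456 46568208 [4, 5, 7, 8, 10, 11] = true := by
  decide +kernel

set_option maxRecDepth 100000 in
theorem part_9_6_12_4 : dfsN 6 268435456 80122640 [2, 5, 7, 8, 10, 11] = true := by
  decide +kernel

set_option maxRecDepth 100000 in
theorem part_9_6_12_5 : dfsN 6 268435456 96899856 [2, 4, 7, 8, 10, 11] = true := by
  decide +kernel

set_option maxRecDepth 100000 in
theorem part_9_6_12_7 : dfsN 6 268435456 130454288 [2, 4, 5, 8, 10, 11] = true := by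
  decide +kernel

set_option maxRecDepth 100000 in
theorem part_9_6_12_8 : dfsN 6 268435456 147231504 [2, 4, 5, 7, 10, 11] = true := by
  decide +kernel

set_option maxRecDepth 100000 in
theorem part_9_6_12_10 : dfsN 6 268435456 180785936 [2, 4, 5, 7, 8, 11] = true := by
  decide +kernel

set_option maxRecDepth 100000 in
theorem part_9_6_12_11 : dfsN 6 268435456 197563152 [2, 4, 5, 7, 8, 10] = true := by
  decide +kernel

theorem part_9_6_12 : dfsN 7 16777216 13013776 [2, 4, 5, 7, 8, 10, 11] = true := by
  apply dfsN_step 6 16777216 13013776 [2, 4, 5, 7, 8, 10, 11]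
  intro v hv
  simp only [List.mem_cons, List.not_mem_nil, or_false] at hv
  rcases hv with rfl | rfl | rfl | rfl | rfl | rfl | rfl
  exacts [part_9_6_12_2, part_9_6_12_4, part_9_6_12_5, part_9_6_12_7, part_9_6_12_8, part_9_6_12_10, part_9_6_12_11]

theorem part_9_6 : dfsN 8 1048576 430864 [2, 4, 5, 7, 8, 10, 11, 12] = true := by
  apply dfsN_step 7 1048576 430864 [2, 4, 5, 7, 8, 10, 11, 12]
  intro v hv
  simp only [List.mem_cons, List.not_mem_nil, or_false] at hv
  rcases hv with rfl | rfl | rfl | rfl | rfl | rfl | rfl | rfl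
  exacts [part_9_6_2, part_9_6_4, part_9_6_5, part_9_6_7, part_9_6_8, part_9_6_10, part_9_6_11, part_9_6_12]

end Cfsg.Agent.Lib.H16.AG
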