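import Cfsg.Agent.Lib.H16.AG.Step

set_option autoImplicit false

/-! Degree 13, images `0, 1, 3, 9, 7` of `0, 1, 2, 3, 4` fixed: every completion that is an
`11`-cycle has a word `(x ^ b * y ^ a) ^ k` which is a `3`-, `5`- or `7`-cycle
(small kernel computations, one per pair of images of `5, 6`). -/

namespace Cfsg.Agent.Lib.H16.AG

set_option maxRecDepth 100000 in
theorem part_9_7_2_4 : dfsN 6 268435456 69702416 [5, 6, 8, 10, 11, 12] = true := by
  decide +kernel

set_option maxRecDepth 100000 in
theorem part_9_7_2_5 : dfsN 6 268435456 86479632 [4, 6, 8, 10, 11, 12] = true := by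
  decide +kernel

set_option maxRecDepth 100000 in
theorem part_9_7_2_6 : dfsN 6 268435456 103256848 [4, 5, 8, 10, 11, 12] = true := by
  decide +kernel

set_option maxRecDepth 100000 in
theorem part_9_7_2_8 : dfsN 6 268435456 136811280 [4, 5, 6, 10, 11, 12] = true := by
  decide +kernel

set_option maxRecDepth 100000 in
theorem part_9_7_2_10 : dfsN 6 268435456 170365712 [4, 5, 6, 8, 11, 12] = true := by
  decide +kernel

set_option maxRecDepth 100000 in
theorem part_9_7_2_11 : dfsN 6 268435456 187142928 [4, 5, 6, 8, 10, 12] = true := by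
  decide +kernel

set_option maxRecDepth 100000 in
theorem part_9_7_2_12 : dfsN 6 268435456 203920144 [4, 5, 6, 8, 10, 11] = true := by
  decide +kernel

theorem part_9_7_2 : dfsN 7 16777216 2593552 [4, 5, 6, 8, 10, 11, 12] = true := by
  apply dfsN_step 6 16777216 2593552 [4, 5, 6, 8, 10, 11, 12]
  intro v hv
  simp only [List.mem_cons, List.not_mem_nil, or_false] at hv
  rcases hv with rfl | rfl | rfl | rfl | rfl | rfl | rfl
  exacts [part_9_7_2_4, part_9_7_2_5, part_9_7_2_6, part_9_7_2_8, part_9_7_2_10, part_9_7_2_11, part_9_7_2_12]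

set_option maxRecDepth 100000 in
theorem part_9_7_4_2 : dfsN 6 268435456 38245136 [5, 6, 8, 10, 11, 12] = true := by
  decide +kernel

set_option maxRecDepth 100000 in
theorem part_9_7_4_5 : dfsN 6 268435456 88576784 [2, 6, 8, 10, 11, 12] = true := by
  decide +kernel

set_option maxRecDepth 100000 in
theorem part_9_7_4_6 : dfsN 6 268435456 105354000 [2, 5, 8, 10, 11, 12] = true := by
  decide +kernel

set_option maxRecDepth 100000 in
theorem part_9_7_4_8 : dfsN 6 268435456 138908432 [2, 5, 6, 10, 11, 12] = true := by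
  decide +kernel

set_option maxRecDepth 100000 in
theorem part_9_7_4_10 : dfsN 6 268435456 172462864 [2, 5, 6, 8, 11, 12] = true := by
  decide +kernel

set_option maxRecDepth 100000 in
theorem part_9_7_4_11 : dfsN 6 268435456 189240080 [2, 5, 6, 8, 10, 12] = true := by
  decide +kernel

set_option maxRecDepth 100000 in
theorem part_9_7_4_12 : dfsN 6 268435456 206017296 [2, 5, 6, 8, 10, 11] = true := by
  decide +kernel

theorem part_9_7_4 : dfsN 7 16777216 4690704 [2, 5, 6, 8, 10, 11, 12] = true := by
  apply dfsN_step 6 16777216 4690704 [2, 5, 6, 8, 10, 11, 12]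
  intro v hv
  simp only [List.mem_cons, List.not_mem_nil, or_false] at hv
  rcases hv with rfl | rfl | rfl | rfl | rfl | rfl | rfl
  exacts [part_9_7_4_2, part_9_7_4_5, part_9_7_4_6, part_9_7_4_8, part_9_7_4_10, part_9_7_4_11, part_9_7_4_12]

set_option maxRecDepth 100000 in
theorem part_9_7_5_2 : dfsN 6 268435456 39293712 [4, 6, 8, 10, 11, 12] = true := by
  decide +kernel

set_option maxRecDepth 100000 in
theorem part_9_7_5_4 : dfsN 6 268435456 72848144 [2, 6, 8, 10, 11, 12] = true := by
  decide +kernel

set_option maxRecDepth 100000 in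
theorem part_9_7_5_6 : dfsN 6 268435456 106402576 [2, 4, 8, 10, 11, 12] = true := by
  decide +kernel

set_option maxRecDepth 100000 in
theorem part_9_7_5_8 : dfsN 6 268435456 139957008 [2, 4, 6, 10, 11, 12] = true := by
  decide +kernel

set_option maxRecDepth 100000 in
theorem part_9_7_5_10 : dfsN 6 268435456 173511440 [2, 4, 6, 8, 11, 12] = true := by
  decide +kernel

set_option maxRecDepth 100000 in
theorem part_9_7_5_11 : dfsN 6 268435456 190288656 [2, 4, 6, 8, 10, 12] = true := by
  decide +kernel

set_option maxRecDepth 100000 in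
theorem part_9_7_5_12 : dfsN 6 268435456 207065872 [2, 4, 6, 8, 10, 11] = true := by
  decide +kernel

theorem part_9_7_5 : dfsN 7 16777216 5739280 [2, 4, 6, 8, 10, 11, 12] = true := by
  apply dfsN_step 6 16777216 5739280 [2, 4, 6, 8, 10, 11, 12]
  intro v hv
  simp only [List.mem_cons, List.not_mem_nil, or_false] at hv
  rcases hv with rfl | rfl | rfl | rfl | rfl | rfl | rfl
  exacts [part_9_7_5_2, part_9_7_5_4, part_9_7_5_6, part_9_7_5_8, part_9_7_5_10, part_9_7_5_11, part_9_7_5_12]

set_option maxRecDepth 100000 in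
theorem part_9_7_6_2 : dfsN 6 268435456 40342288 [4, 5, 8, 10, 11, 12] = true := by
  decide +kernel

set_option maxRecDepth 100000 in
theorem part_9_7_6_4 : dfsN 6 268435456 73896720 [2, 5, 8, 10, 11, 12] = true := by
  decide +kernel

set_option maxRecDepth 100000 in
theorem part_9_7_6_5 : dfsN 6 268435456 90673936 [2, 4, 8, 10, 11, 12] = true := by
  decide +kernel

set_option maxRecDepth 100000 in
theorem part_9_7_6_8 : dfsN 6 268435456 141005584 [2, 4, 5, 10, 11, 12] = true := by
  decide +kernel

set_option maxRecDepth 100000 in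
theorem part_9_7_6_10 : dfsN 6 268435456 174560016 [2, 4, 5, 8, 11, 12] = true := by
  decide +kernel

set_option maxRecDepth 100000 in
theorem part_9_7_6_11 : dfsN 6 268435456 191337232 [2, 4, 5, 8, 10, 12] = true := by
  decide +kernel

set_option maxRecDepth 100000 in
theorem part_9_7_6_12 : dfsN 6 268435456 208114448 [2, 4, 5, 8, 10, 11] = true := by
  decide +kernel

theorem part_9_7_6 : dfsN 7 16777216 6787856 [2, 4, 5, 8, 10, 11, 12] = true := by
  apply dfsN_step 6 16777216 6787856 [2, 4, 5, 8, 10, 11, 12]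
  intro v hv
  simp only [List.mem_cons, List.not_mem_nil, or_false] at hv
  rcases hv with rfl | rfl | rfl | rfl | rfl | rfl | rfl
  exacts [part_9_7_6_2, part_9_7_6_4, part_9_7_6_5, part_9_7_6_8, part_9_7_6_10, part_9_7_6_11, part_9_7_6_12]

set_option maxRecDepth 100000 in
theorem part_9_7_8_2 : dfsN 6 268435456 42439440 [4, 5, 6, 10, 11, 12] = true := by
  decide +kernel

set_option maxRecDepth 100000 in
theorem part_9_7_8_4 : dfsN 6 268435456 75993872 [2, 5, 6, 10, 11, 12] = true := by
  decide +kernel

set_option maxRecDepth 100000 in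
theorem part_9_7_8_5 : dfsN 6 268435456 92771088 [2, 4, 6, 10, 11, 12] = true := by
  decide +kernel

set_option maxRecDepth 100000 in
theorem part_9_7_8_6 : dfsN 6 268435456 109548304 [2, 4, 5, 10, 11, 12] = true := by
  decide +kernel

set_option maxRecDepth 100000 in
theorem part_9_7_8_10 : dfsN 6 268435456 176657168 [2, 4, 5, 6, 11, 12] = true := by
  decide +kernel

set_option maxRecDepth 100000 in
theorem part_9_7_8_11 : dfsN 6 268435456 193434384 [2, 4, 5, 6, 10, 12] = true := by
  decide +kernel

set_option maxRecDepth 100000 in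
theorem part_9_7_8_12 : dfsN 6 268435456 210211600 [2, 4, 5, 6, 10, 11] = true := by
  decide +kernel

theorem part_9_7_8 : dfsN 7 16777216 8885008 [2, 4, 5, 6, 10, 11, 12] = true := by
  apply dfsN_step 6 16777216 8885008 [2, 4, 5, 6, 10, 11, 12]
  intro v hv
  simp only [List.mem_cons, List.not_mem_nil, or_false] at hv
  rcases hv with rfl | rfl | rfl | rfl | rfl | rfl | rfl
  exacts [part_9_7_8_2, part_9_7_8_4, part_9_7_8_5, part_9_7_8_6, part_9_7_8_10, part_9_7_8_11, part_9_7_8_12]

set_option maxRecDepth 100000 in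
theorem part_9_7_10_2 : dfsN 6 268435456 44536592 [4, 5, 6, 8, 11, 12] = true := by
  decide +kernel

set_option maxRecDepth 100000 in
theorem part_9_7_10_4 : dfsN 6 268435456 78091024 [2, 5, 6, 8, 11, 12] = true := by
  decide +kernel

set_option maxRecDepth 100000 in
theorem part_9_7_10_5 : dfsN 6 268435456 94868240 [2, 4, 6, 8, 11, 12] = true := by
  decide +kernel

set_option maxRecDepth 100000 in
theorem part_9_7_10_6 : dfsN 6 268435456 111645456 [2, 4, 5, 8, 11, 12] = true := by
  decide +kernel

set_option maxRecDepth 100000 in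
theorem part_9_7_10_8 : dfsN 6 268435456 145199888 [2, 4, 5, 6, 11, 12] = true := by
  decide +kernel

set_option maxRecDepth 100000 in
theorem part_9_7_10_11 : dfsN 6 268435456 195531536 [2, 4, 5, 6, 8, 12] = true := by
  decide +kernel

set_option maxRecDepth 100000 in
theorem part_9_7_10_12 : dfsN 6 268435456 212308752 [2, 4, 5, 6, 8, 11] = true := by
  decide +kernel

theorem part_9_7_10 : dfsN 7 16777216 10982160 [2, 4, 5, 6, 8, 11, 12] = true := by
  apply dfsN_step 6 16777216 10982160 [2, 4, 5, 6, 8, 11, 12]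
  intro v hv
  simp only [List.mem_cons, List.not_mem_nil, or_false] at hv
  rcases hv with rfl | rfl | rfl | rfl | rfl | rfl | rfl
  exacts [part_9_7_10_2, part_9_7_10_4, part_9_7_10_5, part_9_7_10_6, part_9_7_10_8, part_9_7_10_11, part_9_7_10_12]

set_option maxRecDepth 100000 in
theorem part_9_7_11_2 : dfsN 6 268435456 45585168 [4, 5, 6, 8, 10, 12] = true := by
  decide +kernel

set_option maxRecDepth 100000 in
theorem part_9_7_11_4 : dfsN 6 268435456 79139600 [2, 5, 6, 8, 10, 12] = true := by
  decide +kernel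

set_option maxRecDepth 100000 in
theorem part_9_7_11_5 : dfsN 6 268435456 95916816 [2, 4, 6, 8, 10, 12] = true := by
  decide +kernel

set_option maxRecDepth 100000 in
theorem part_9_7_11_6 : dfsN 6 268435456 112694032 [2, 4, 5, 8, 10, 12] = true := by
  decide +kernel

set_option maxRecDepth 100000 in
theorem part_9_7_11_8 : dfsN 6 268435456 146248464 [2, 4, 5, 6, 10, 12] = true := by
  decide +kernel

set_option maxRecDepth 100000 in
theorem part_9_7_11_10 : dfsN 6 268435456 179802896 [2, 4, 5, 6, 8, 12] = true := by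
  decide +kernel

set_option maxRecDepth 100000 in
theorem part_9_7_11_12 : dfsN 6 268435456 213357328 [2, 4, 5, 6, 8, 10] = true := by
  decide +kernel

theorem part_9_7_11 : dfsN 7 16777216 12030736 [2, 4, 5, 6, 8, 10, 12] = true := by
  apply dfsN_step 6 16777216 12030736 [2, 4, 5, 6, 8, 10, 12]
  intro v hv
  simp only [List.mem_cons, List.not_mem_nil, or_false] at hv
  rcases hv with rfl | rfl | rfl | rfl | rfl | rfl | rfl
  exacts [part_9_7_11_2, part_9_7_11_4, part_9_7_11_5, part_9_7_11_6, part_9_7_11_8, part_9_7_11_10, part_9_7_11_12]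

set_option maxRecDepth 100000 in
theorem part_9_7_12_2 : dfsN 6 268435456 46633744 [4, 5, 6, 8, 10, 11] = true := by
  decide +kernel

set_option maxRecDepth 100000 in
theorem part_9_7_12_4 : dfsN 6 268435456 80188176 [2, 5, 6, 8, 10, 11] = true := by
  decide +kernel

set_option maxRecDepth 100000 in
theorem part_9_7_12_5 : dfsN 6 268435456 96965392 [2, 4, 6, 8, 10, 11] = true := by
  decide +kernel

set_option maxRecDepth 100000 in
theorem part_9_7_12_6 : dfsN 6 268435456 113742608 [2, 4, 5, 8, 10, 11] = true := by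
  decide +kernel

set_option maxRecDepth 100000 in
theorem part_9_7_12_8 : dfsN 6 268435456 147297040 [2, 4, 5, 6, 10, 11] = true := by
  decide +kernel

set_option maxRecDepth 100000 in
theorem part_9_7_12_10 : dfsN 6 268435456 180851472 [2, 4, 5, 6, 8, 11] = true := by
  decide +kernel

set_option maxRecDepth 100000 in
theorem part_9_7_12_11 : dfsN 6 268435456 197628688 [2, 4, 5, 6, 8, 10] = true := by
  decide +kernel

theorem part_9_7_12 : dfsN 7 16777216 13079312 [2, 4, 5, 6, 8, 10, 11] = true := by
  apply dfsN_step 6 16777216 13079312 [2, 4, 5, 6, 8, 10, 11]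
  intro v hv
  simp only [List.mem_cons, List.not_mem_nil, or_false] at hv
  rcases hv with rfl | rfl | rfl | rfl | rfl | rfl | rfl
  exacts [part_9_7_12_2, part_9_7_12_4, part_9_7_12_5, part_9_7_12_6, part_9_7_12_8, part_9_7_12_10, part_9_7_12_11]

theorem part_9_7 : dfsN 8 1048576 496400 [2, 4, 5, 6, 8, 10, 11, 12] = true := by
  apply dfsN_step 7 1048576 496400 [2, 4, 5, 6, 8, 10, 11, 12]
  intro v hv
  simp only [List.mem_cons, List.not_mem_nil, or_false] at hv
  rcases hv with rfl | rfl | rfl | rfl | rfl | rfl | rfl | rfl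
  exacts [part_9_7_2, part_9_7_4, part_9_7_5, part_9_7_6, part_9_7_8, part_9_7_10, part_9_7_11, part_9_7_12]

end Cfsg.Agent.Lib.H16.AG
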