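import Cfsg.Agent.Lib.H16.AG.Step

set_option autoImplicit false

/-! Degree 13, images `0, 1, 3, 9, 8` of `0, 1, 2, 3, 4` fixed: every completion that is an
`11`-cycle has a word `(x ^ b * y ^ a) ^ k` which is a `3`-, `5`- or `7`-cycle
(small kernel computations, one per pair of images of `5, 6`). -/

namespace Cfsg.Agent.Lib.H16.AG

set_option maxRecDepth 100000 in
theorem part_9_8_2_4 : dfsN 6 268435456 69767952 [5, 6, 7, 10, 11, 12] = true := by
  decide +kernel

set_option maxRecDepth 100000 in
theorem part_9_8_2_5 : dfsN 6 268435456 86545168 [4, 6, 7, 10, 11, 12] = true := by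
  decide +kernel

set_option maxRecDepth 100000 in
theorem part_9_8_2_6 : dfsN 6 268435456 103322384 [4, 5, 7, 10, 11, 12] = true := by
  decide +kernel

set_option maxRecDepth 100000 in
theorem part_9_8_2_7 : dfsN 6 268435456 120099600 [4, 5, 6, 10, 11, 12] = true := by
  decide +kernel

set_option maxRecDepth 100000 in
theorem part_9_8_2_10 : dfsN 6 268435456 170431248 [4, 5, 6, 7, 11, 12] = true := by
  decide +kernel

set_option maxRecDepth 100000 in
theorem part_9_8_2_11 : dfsN 6 268435456 187208464 [4, 5, 6, 7, 10, 12] = true := by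
  decide +kernel

set_option maxRecDepth 100000 in
theorem part_9_8_2_12 : dfsN 6 268435456 203985680 [4, 5, 6, 7, 10, 11] = true := by
  decide +kernel

theorem part_9_8_2 : dfsN 7 16777216 2659088 [4, 5, 6, 7, 10, 11, 12] = true := by
  apply dfsN_step 6 16777216 2659088 [4, 5, 6, 7, 10, 11, 12]
  intro v hv
  simp only [List.mem_cons, List.not_mem_nil, or_false] at hv
  rcases hv with rfl | rfl | rfl | rfl | rfl | rfl | rfl
  exacts [part_9_8_2_4, part_9_8_2_5, part_9_8_2_6, part_9_8_2_7, part_9_8_2_10, part_9_8_2_11, part_9_8_2_12]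

set_option maxRecDepth 100000 in
theorem part_9_8_4_2 : dfsN 6 268435456 38310672 [5, 6, 7, 10, 11, 12] = true := by
  decide +kernel

set_option maxRecDepth 100000 in
theorem part_9_8_4_5 : dfsN 6 268435456 88642320 [2, 6, 7, 10, 11, 12] = true := by
  decide +kernel

set_option maxRecDepth 100000 in
theorem part_9_8_4_6 : dfsN 6 268435456 105419536 [2, 5, 7, 10, 11, 12] = true := by
  decide +kernel

set_option maxRecDepth 100000 in
theorem part_9_8_4_7 : dfsN 6 268435456 122196752 [2, 5, 6, 10, 11, 12] = true := by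
  decide +kernel

set_option maxRecDepth 100000 in
theorem part_9_8_4_10 : dfsN 6 268435456 172528400 [2, 5, 6, 7, 11, 12] = true := by
  decide +kernel

set_option maxRecDepth 100000 in
theorem part_9_8_4_11 : dfsN 6 268435456 189305616 [2, 5, 6, 7, 10, 12] = true := by
  decide +kernel

set_option maxRecDepth 100000 in
theorem part_9_8_4_12 : dfsN 6 268435456 206082832 [2, 5, 6, 7, 10, 11] = true := by
  decide +kernel

theorem part_9_8_4 : dfsN 7 16777216 4756240 [2, 5, 6, 7, 10, 11, 12] = true := by
  apply dfsN_step 6 16777216 4756240 [2, 5, 6, 7, 10, 11, 12]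
  intro v hv
  simp only [List.mem_cons, List.not_mem_nil, or_false] at hv
  rcases hv with rfl | rfl | rfl | rfl | rfl | rfl | rfl
  exacts [part_9_8_4_2, part_9_8_4_5, part_9_8_4_6, part_9_8_4_7, part_9_8_4_10, part_9_8_4_11, part_9_8_4_12]

set_option maxRecDepth 100000 in
theorem part_9_8_5_2 : dfsN 6 268435456 39359248 [4, 6, 7, 10, 11, 12] = true := by
  decide +kernel

set_option maxRecDepth 100000 in
theorem part_9_8_5_4 : dfsN 6 268435456 72913680 [2, 6, 7, 10, 11, 12] = true := by
  decide +kernel

set_option maxRecDepth 100000 in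
theorem part_9_8_5_6 : dfsN 6 268435456 106468112 [2, 4, 7, 10, 11, 12] = true := by
  decide +kernel

set_option maxRecDepth 100000 in
theorem part_9_8_5_7 : dfsN 6 268435456 123245328 [2, 4, 6, 10, 11, 12] = true := by
  decide +kernel

set_option maxRecDepth 100000 in
theorem part_9_8_5_10 : dfsN 6 268435456 173576976 [2, 4, 6, 7, 11, 12] = true := by
  decide +kernel

set_option maxRecDepth 100000 in
theorem part_9_8_5_11 : dfsN 6 268435456 190354192 [2, 4, 6, 7, 10, 12] = true := by
  decide +kernel

set_option maxRecDepth 100000 in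
theorem part_9_8_5_12 : dfsN 6 268435456 207131408 [2, 4, 6, 7, 10, 11] = true := by
  decide +kernel

theorem part_9_8_5 : dfsN 7 16777216 5804816 [2, 4, 6, 7, 10, 11, 12] = true := by
  apply dfsN_step 6 16777216 5804816 [2, 4, 6, 7, 10, 11, 12]
  intro v hv
  simp only [List.mem_cons, List.not_mem_nil, or_false] at hv
  rcases hv with rfl | rfl | rfl | rfl | rfl | rfl | rfl
  exacts [part_9_8_5_2, part_9_8_5_4, part_9_8_5_6, part_9_8_5_7, part_9_8_5_10, part_9_8_5_11, part_9_8_5_12]

set_option maxRecDepth 100000 in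
theorem part_9_8_6_2 : dfsN 6 268435456 40407824 [4, 5, 7, 10, 11, 12] = true := by
  decide +kernel

set_option maxRecDepth 100000 in
theorem part_9_8_6_4 : dfsN 6 268435456 73962256 [2, 5, 7, 10, 11, 12] = true := by
  decide +kernel

set_option maxRecDepth 100000 in
theorem part_9_8_6_5 : dfsN 6 268435456 90739472 [2, 4, 7, 10, 11, 12] = true := by
  decide +kernel

set_option maxRecDepth 100000 in
theorem part_9_8_6_7 : dfsN 6 268435456 124293904 [2, 4, 5, 10, 11, 12] = true := by
  decide +kernel

set_option maxRecDepth 100000 in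
theorem part_9_8_6_10 : dfsN 6 268435456 174625552 [2, 4, 5, 7, 11, 12] = true := by
  decide +kernel

set_option maxRecDepth 100000 in
theorem part_9_8_6_11 : dfsN 6 268435456 191402768 [2, 4, 5, 7, 10, 12] = true := by
  decide +kernel

set_option maxRecDepth 100000 in
theorem part_9_8_6_12 : dfsN 6 268435456 208179984 [2, 4, 5, 7, 10, 11] = true := by
  decide +kernel

theorem part_9_8_6 : dfsN 7 16777216 6853392 [2, 4, 5, 7, 10, 11, 12] = true := by
  apply dfsN_step 6 16777216 6853392 [2, 4, 5, 7, 10, 11, 12]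
  intro v hv
  simp only [List.mem_cons, List.not_mem_nil, or_false] at hv
  rcases hv with rfl | rfl | rfl | rfl | rfl | rfl | rfl
  exacts [part_9_8_6_2, part_9_8_6_4, part_9_8_6_5, part_9_8_6_7, part_9_8_6_10, part_9_8_6_11, part_9_8_6_12]

set_option maxRecDepth 100000 in
theorem part_9_8_7_2 : dfsN 6 268435456 41456400 [4, 5, 6, 10, 11, 12] = true := by
  decide +kernel

set_option maxRecDepth 100000 in
theorem part_9_8_7_4 : dfsN 6 268435456 75010832 [2, 5, 6, 10, 11, 12] = true := by
  decide +kernel

set_option maxRecDepth 100000 in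
theorem part_9_8_7_5 : dfsN 6 268435456 91788048 [2, 4, 6, 10, 11, 12] = true := by
  decide +kernel

set_option maxRecDepth 100000 in
theorem part_9_8_7_6 : dfsN 6 268435456 108565264 [2, 4, 5, 10, 11, 12] = true := by
  decide +kernel

set_option maxRecDepth 100000 in
theorem part_9_8_7_10 : dfsN 6 268435456 175674128 [2, 4, 5, 6, 11, 12] = true := by
  decide +kernel

set_option maxRecDepth 100000 in
theorem part_9_8_7_11 : dfsN 6 268435456 192451344 [2, 4, 5, 6, 10, 12] = true := by
  decide +kernel

set_option maxRecDepth 100000 in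
theorem part_9_8_7_12 : dfsN 6 268435456 209228560 [2, 4, 5, 6, 10, 11] = true := by
  decide +kernel

theorem part_9_8_7 : dfsN 7 16777216 7901968 [2, 4, 5, 6, 10, 11, 12] = true := by
  apply dfsN_step 6 16777216 7901968 [2, 4, 5, 6, 10, 11, 12]
  intro v hv
  simp only [List.mem_cons, List.not_mem_nil, or_false] at hv
  rcases hv with rfl | rfl | rfl | rfl | rfl | rfl | rfl
  exacts [part_9_8_7_2, part_9_8_7_4, part_9_8_7_5, part_9_8_7_6, part_9_8_7_10, part_9_8_7_11, part_9_8_7_12]

set_option maxRecDepth 100000 in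
theorem part_9_8_10_2 : dfsN 6 268435456 44602128 [4, 5, 6, 7, 11, 12] = true := by
  decide +kernel

set_option maxRecDepth 100000 in
theorem part_9_8_10_4 : dfsN 6 268435456 78156560 [2, 5, 6, 7, 11, 12] = true := by
  decide +kernel

set_option maxRecDepth 100000 in
theorem part_9_8_10_5 : dfsN 6 268435456 94933776 [2, 4, 6, 7, 11, 12] = true := by
  decide +kernel

set_option maxRecDepth 100000 in
theorem part_9_8_10_6 : dfsN 6 268435456 111710992 [2, 4, 5, 7, 11, 12] = true := by
  decide +kernel

set_option maxRecDepth 100000 in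
theorem part_9_8_10_7 : dfsN 6 268435456 128488208 [2, 4, 5, 6, 11, 12] = true := by
  decide +kernel

set_option maxRecDepth 100000 in
theorem part_9_8_10_11 : dfsN 6 268435456 195597072 [2, 4, 5, 6, 7, 12] = true := by
  decide +kernel

set_option maxRecDepth 100000 in
theorem part_9_8_10_12 : dfsN 6 268435456 212374288 [2, 4, 5, 6, 7, 11] = true := by
  decide +kernel

theorem part_9_8_10 : dfsN 7 16777216 11047696 [2, 4, 5, 6, 7, 11, 12] = true := by
  apply dfsN_step 6 16777216 11047696 [2, 4, 5, 6, 7, 11, 12]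
  intro v hv
  simp only [List.mem_cons, List.not_mem_nil, or_false] at hv
  rcases hv with rfl | rfl | rfl | rfl | rfl | rfl | rfl
  exacts [part_9_8_10_2, part_9_8_10_4, part_9_8_10_5, part_9_8_10_6, part_9_8_10_7, part_9_8_10_11, part_9_8_10_12]

set_option maxRecDepth 100000 in
theorem part_9_8_11_2 : dfsN 6 268435456 45650704 [4, 5, 6, 7, 10, 12] = true := by
  decide +kernel

set_option maxRecDepth 100000 in
theorem part_9_8_11_4 : dfsN 6 268435456 79205136 [2, 5, 6, 7, 10, 12] = true := by
  decide +kernel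

set_option maxRecDepth 100000 in
theorem part_9_8_11_5 : dfsN 6 268435456 95982352 [2, 4, 6, 7, 10, 12] = true := by
  decide +kernel

set_option maxRecDepth 100000 in
theorem part_9_8_11_6 : dfsN 6 268435456 112759568 [2, 4, 5, 7, 10, 12] = true := by
  decide +kernel

set_option maxRecDepth 100000 in
theorem part_9_8_11_7 : dfsN 6 268435456 129536784 [2, 4, 5, 6, 10, 12] = true := by
  decide +kernel

set_option maxRecDepth 100000 in
theorem part_9_8_11_10 : dfsN 6 268435456 179868432 [2, 4, 5, 6, 7, 12] = true := by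
  decide +kernel

set_option maxRecDepth 100000 in
theorem part_9_8_11_12 : dfsN 6 268435456 213422864 [2, 4, 5, 6, 7, 10] = true := by
  decide +kernel

theorem part_9_8_11 : dfsN 7 16777216 12096272 [2, 4, 5, 6, 7, 10, 12] = true := by
  apply dfsN_step 6 16777216 12096272 [2, 4, 5, 6, 7, 10, 12]
  intro v hv
  simp only [List.mem_cons, List.not_mem_nil, or_false] at hv
  rcases hv with rfl | rfl | rfl | rfl | rfl | rfl | rfl
  exacts [part_9_8_11_2, part_9_8_11_4, part_9_8_11_5, part_9_8_11_6, part_9_8_11_7, part_9_8_11_10, part_9_8_11_12]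

set_option maxRecDepth 100000 in
theorem part_9_8_12_2 : dfsN 6 268435456 46699280 [4, 5, 6, 7, 10, 11] = true := by
  decide +kernel

set_option maxRecDepth 100000 in
theorem part_9_8_12_4 : dfsN 6 268435456 80253712 [2, 5, 6, 7, 10, 11] = true := by
  decide +kernel

set_option maxRecDepth 100000 in
theorem part_9_8_12_5 : dfsN 6 268435456 97030928 [2, 4, 6, 7, 10, 11] = true := by
  decide +kernel

set_option maxRecDepth 100000 in
theorem part_9_8_12_6 : dfsN 6 268435456 113808144 [2, 4, 5, 7, 10, 11] = true := by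
  decide +kernel

set_option maxRecDepth 100000 in
theorem part_9_8_12_7 : dfsN 6 268435456 130585360 [2, 4, 5, 6, 10, 11] = true := by
  decide +kernel

set_option maxRecDepth 100000 in
theorem part_9_8_12_10 : dfsN 6 268435456 180917008 [2, 4, 5, 6, 7, 11] = true := by
  decide +kernel

set_option maxRecDepth 100000 in
theorem part_9_8_12_11 : dfsN 6 268435456 197694224 [2, 4, 5, 6, 7, 10] = true := by
  decide +kernel

theorem part_9_8_12 : dfsN 7 16777216 13144848 [2, 4, 5, 6, 7, 10, 11] = true := by
  apply dfsN_step 6 16777216 13144848 [2, 4, 5, 6, 7, 10, 11]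
  intro v hv
  simp only [List.mem_cons, List.not_mem_nil, or_false] at hv
  rcases hv with rfl | rfl | rfl | rfl | rfl | rfl | rfl
  exacts [part_9_8_12_2, part_9_8_12_4, part_9_8_12_5, part_9_8_12_6, part_9_8_12_7, part_9_8_12_10, part_9_8_12_11]

theorem part_9_8 : dfsN 8 1048576 561936 [2, 4, 5, 6, 7, 10, 11, 12] = true := by
  apply dfsN_step 7 1048576 561936 [2, 4, 5, 6, 7, 10, 11, 12]
  intro v hv
  simp only [List.mem_cons, List.not_mem_nil, or_false] at hv
  rcases hv with rfl | rfl | rfl | rfl | rfl | rfl | rfl | rfl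
  exacts [part_9_8_2, part_9_8_4, part_9_8_5, part_9_8_6, part_9_8_7, part_9_8_10, part_9_8_11, part_9_8_12]

end Cfsg.Agent.Lib.H16.AG
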