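import Cfsg.Agent.Lib.H16.AG.Step

set_option autoImplicit false

/-! Degree 13, images `0, 1, 3, 9, 10` of `0, 1, 2, 3, 4` fixed: every completion that is an
`11`-cycle has a word `(x ^ b * y ^ a) ^ k` which is a `3`-, `5`- or `7`-cycle
(small kernel computations, one per pair of images of `5, 6`). -/

namespace Cfsg.Agent.Lib.H16.AG

set_option maxRecDepth 100000 in
theorem part_9_10_2_4 : dfsN 6 268435456 69899024 [5, 6, 7, 8, 11, 12] = true := by
  decide +kernel

set_option maxRecDepth 100000 in
theorem part_9_10_2_5 : dfsN 6 268435456 86676240 [4, 6, 7, 8, 11, 12] = true := by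
  decide +kernel

set_option maxRecDepth 100000 in
theorem part_9_10_2_6 : dfsN 6 268435456 103453456 [4, 5, 7, 8, 11, 12] = true := by
  decide +kernel

set_option maxRecDepth 100000 in
theorem part_9_10_2_7 : dfsN 6 268435456 120230672 [4, 5, 6, 8, 11, 12] = true := by
  decide +kernel

set_option maxRecDepth 100000 in
theorem part_9_10_2_8 : dfsN 6 268435456 137007888 [4, 5, 6, 7, 11, 12] = true := by
  decide +kernel

set_option maxRecDepth 100000 in
theorem part_9_10_2_11 : dfsN 6 268435456 187339536 [4, 5, 6, 7, 8, 12] = true := by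
  decide +kernel

set_option maxRecDepth 100000 in
theorem part_9_10_2_12 : dfsN 6 268435456 204116752 [4, 5, 6, 7, 8, 11] = true := by
  decide +kernel

theorem part_9_10_2 : dfsN 7 16777216 2790160 [4, 5, 6, 7, 8, 11, 12] = true := by
  apply dfsN_step 6 16777216 2790160 [4, 5, 6, 7, 8, 11, 12]
  intro v hv
  simp only [List.mem_cons, List.not_mem_nil, or_false] at hv
  rcases hv with rfl | rfl | rfl | rfl | rfl | rfl | rfl
  exacts [part_9_10_2_4, part_9_10_2_5, part_9_10_2_6, part_9_10_2_7, part_9_10_2_8, part_9_10_2_11, part_9_10_2_12]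

set_option maxRecDepth 100000 in
theorem part_9_10_4_2 : dfsN 6 268435456 38441744 [5, 6, 7, 8, 11, 12] = true := by
  decide +kernel

set_option maxRecDepth 100000 in
theorem part_9_10_4_5 : dfsN 6 268435456 88773392 [2, 6, 7, 8, 11, 12] = true := by
  decide +kernel

set_option maxRecDepth 100000 in
theorem part_9_10_4_6 : dfsN 6 268435456 105550608 [2, 5, 7, 8, 11, 12] = true := by
  decide +kernel

set_option maxRecDepth 100000 in
theorem part_9_10_4_7 : dfsN 6 268435456 122327824 [2, 5, 6, 8, 11, 12] = true := by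
  decide +kernel

set_option maxRecDepth 100000 in
theorem part_9_10_4_8 : dfsN 6 268435456 139105040 [2, 5, 6, 7, 11, 12] = true := by
  decide +kernel

set_option maxRecDepth 100000 in
theorem part_9_10_4_11 : dfsN 6 268435456 189436688 [2, 5, 6, 7, 8, 12] = true := by
  decide +kernel

set_option maxRecDepth 100000 in
theorem part_9_10_4_12 : dfsN 6 268435456 206213904 [2, 5, 6, 7, 8, 11] = true := by
  decide +kernel

theorem part_9_10_4 : dfsN 7 16777216 4887312 [2, 5, 6, 7, 8, 11, 12] = true := by
  apply dfsN_step 6 16777216 4887312 [2, 5, 6, 7, 8, 11, 12]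
  intro v hv
  simp only [List.mem_cons, List.not_mem_nil, or_false] at hv
  rcases hv with rfl | rfl | rfl | rfl | rfl | rfl | rfl
  exacts [part_9_10_4_2, part_9_10_4_5, part_9_10_4_6, part_9_10_4_7, part_9_10_4_8, part_9_10_4_11, part_9_10_4_12]

set_option maxRecDepth 100000 in
theorem part_9_10_5_2 : dfsN 6 268435456 39490320 [4, 6, 7, 8, 11, 12] = true := by
  decide +kernel

set_option maxRecDepth 100000 in
theorem part_9_10_5_4 : dfsN 6 268435456 73044752 [2, 6, 7, 8, 11, 12] = true := by
  decide +kernel

set_option maxRecDepth 100000 in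
theorem part_9_10_5_6 : dfsN 6 268435456 106599184 [2, 4, 7, 8, 11, 12] = true := by
  decide +kernel

set_option maxRecDepth 100000 in
theorem part_9_10_5_7 : dfsN 6 268435456 123376400 [2, 4, 6, 8, 11, 12] = true := by
  decide +kernel

set_option maxRecDepth 100000 in
theorem part_9_10_5_8 : dfsN 6 268435456 140153616 [2, 4, 6, 7, 11, 12] = true := by
  decide +kernel

set_option maxRecDepth 100000 in
theorem part_9_10_5_11 : dfsN 6 268435456 190485264 [2, 4, 6, 7, 8, 12] = true := by
  decide +kernel

set_option maxRecDepth 100000 in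
theorem part_9_10_5_12 : dfsN 6 268435456 207262480 [2, 4, 6, 7, 8, 11] = true := by
  decide +kernel

theorem part_9_10_5 : dfsN 7 16777216 5935888 [2, 4, 6, 7, 8, 11, 12] = true := by
  apply dfsN_step 6 16777216 5935888 [2, 4, 6, 7, 8, 11, 12]
  intro v hv
  simp only [List.mem_cons, List.not_mem_nil, or_false] at hv
  rcases hv with rfl | rfl | rfl | rfl | rfl | rfl | rfl
  exacts [part_9_10_5_2, part_9_10_5_4, part_9_10_5_6, part_9_10_5_7, part_9_10_5_8, part_9_10_5_11, part_9_10_5_12]

set_option maxRecDepth 100000 in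
theorem part_9_10_6_2 : dfsN 6 268435456 40538896 [4, 5, 7, 8, 11, 12] = true := by
  decide +kernel

set_option maxRecDepth 100000 in
theorem part_9_10_6_4 : dfsN 6 268435456 74093328 [2, 5, 7, 8, 11, 12] = true := by
  decide +kernel

set_option maxRecDepth 100000 in
theorem part_9_10_6_5 : dfsN 6 268435456 90870544 [2, 4, 7, 8, 11, 12] = true := by
  decide +kernel

set_option maxRecDepth 100000 in
theorem part_9_10_6_7 : dfsN 6 268435456 124424976 [2, 4, 5, 8, 11, 12] = true := by
  decide +kernel

set_option maxRecDepth 100000 in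
theorem part_9_10_6_8 : dfsN 6 268435456 141202192 [2, 4, 5, 7, 11, 12] = true := by
  decide +kernel

set_option maxRecDepth 100000 in
theorem part_9_10_6_11 : dfsN 6 268435456 191533840 [2, 4, 5, 7, 8, 12] = true := by
  decide +kernel

set_option maxRecDepth 100000 in
theorem part_9_10_6_12 : dfsN 6 268435456 208311056 [2, 4, 5, 7, 8, 11] = true := by
  decide +kernel

theorem part_9_10_6 : dfsN 7 16777216 6984464 [2, 4, 5, 7, 8, 11, 12] = true := by
  apply dfsN_step 6 16777216 6984464 [2, 4, 5, 7, 8, 11, 12]
  intro v hv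
  simp only [List.mem_cons, List.not_mem_nil, or_false] at hv
  rcases hv with rfl | rfl | rfl | rfl | rfl | rfl | rfl
  exacts [part_9_10_6_2, part_9_10_6_4, part_9_10_6_5, part_9_10_6_7, part_9_10_6_8, part_9_10_6_11, part_9_10_6_12]

set_option maxRecDepth 100000 in
theorem part_9_10_7_2 : dfsN 6 268435456 41587472 [4, 5, 6, 8, 11, 12] = true := by
  decide +kernel

set_option maxRecDepth 100000 in
theorem part_9_10_7_4 : dfsN 6 268435456 75141904 [2, 5, 6, 8, 11, 12] = true := by
  decide +kernel

set_option maxRecDepth 100000 in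
theorem part_9_10_7_5 : dfsN 6 268435456 91919120 [2, 4, 6, 8, 11, 12] = true := by
  decide +kernel

set_option maxRecDepth 100000 in
theorem part_9_10_7_6 : dfsN 6 268435456 108696336 [2, 4, 5, 8, 11, 12] = true := by
  decide +kernel

set_option maxRecDepth 100000 in
theorem part_9_10_7_8 : dfsN 6 268435456 142250768 [2, 4, 5, 6, 11, 12] = true := by
  decide +kernel

set_option maxRecDepth 100000 in
theorem part_9_10_7_11 : dfsN 6 268435456 192582416 [2, 4, 5, 6, 8, 12] = true := by
  decide +kernel

set_option maxRecDepth 100000 in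
theorem part_9_10_7_12 : dfsN 6 268435456 209359632 [2, 4, 5, 6, 8, 11] = true := by
  decide +kernel

theorem part_9_10_7 : dfsN 7 16777216 8033040 [2, 4, 5, 6, 8, 11, 12] = true := by
  apply dfsN_step 6 16777216 8033040 [2, 4, 5, 6, 8, 11, 12]
  intro v hv
  simp only [List.mem_cons, List.not_mem_nil, or_false] at hv
  rcases hv with rfl | rfl | rfl | rfl | rfl | rfl | rfl
  exacts [part_9_10_7_2, part_9_10_7_4, part_9_10_7_5, part_9_10_7_6, part_9_10_7_8, part_9_10_7_11, part_9_10_7_12]

set_option maxRecDepth 100000 in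
theorem part_9_10_8_2 : dfsN 6 268435456 42636048 [4, 5, 6, 7, 11, 12] = true := by
  decide +kernel

set_option maxRecDepth 100000 in
theorem part_9_10_8_4 : dfsN 6 268435456 76190480 [2, 5, 6, 7, 11, 12] = true := by
  decide +kernel

set_option maxRecDepth 100000 in
theorem part_9_10_8_5 : dfsN 6 268435456 92967696 [2, 4, 6, 7, 11, 12] = true := by
  decide +kernel

set_option maxRecDepth 100000 in
theorem part_9_10_8_6 : dfsN 6 268435456 109744912 [2, 4, 5, 7, 11, 12] = true := by
  decide +kernel

set_option maxRecDepth 100000 in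
theorem part_9_10_8_7 : dfsN 6 268435456 126522128 [2, 4, 5, 6, 11, 12] = true := by
  decide +kernel

set_option maxRecDepth 100000 in
theorem part_9_10_8_11 : dfsN 6 268435456 193630992 [2, 4, 5, 6, 7, 12] = true := by
  decide +kernel

set_option maxRecDepth 100000 in
theorem part_9_10_8_12 : dfsN 6 268435456 210408208 [2, 4, 5, 6, 7, 11] = true := by
  decide +kernel

theorem part_9_10_8 : dfsN 7 16777216 9081616 [2, 4, 5, 6, 7, 11, 12] = true := by
  apply dfsN_step 6 16777216 9081616 [2, 4, 5, 6, 7, 11, 12]
  intro v hv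
  simp only [List.mem_cons, List.not_mem_nil, or_false] at hv
  rcases hv with rfl | rfl | rfl | rfl | rfl | rfl | rfl
  exacts [part_9_10_8_2, part_9_10_8_4, part_9_10_8_5, part_9_10_8_6, part_9_10_8_7, part_9_10_8_11, part_9_10_8_12]

set_option maxRecDepth 100000 in
theorem part_9_10_11_2 : dfsN 6 268435456 45781776 [4, 5, 6, 7, 8, 12] = true := by
  decide +kernel

set_option maxRecDepth 100000 in
theorem part_9_10_11_4 : dfsN 6 268435456 79336208 [2, 5, 6, 7, 8, 12] = true := by
  decide +kernel

set_option maxRecDepth 100000 in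
theorem part_9_10_11_5 : dfsN 6 268435456 96113424 [2, 4, 6, 7, 8, 12] = true := by
  decide +kernel

set_option maxRecDepth 100000 in
theorem part_9_10_11_6 : dfsN 6 268435456 112890640 [2, 4, 5, 7, 8, 12] = true := by
  decide +kernel

set_option maxRecDepth 100000 in
theorem part_9_10_11_7 : dfsN 6 268435456 129667856 [2, 4, 5, 6, 8, 12] = true := by
  decide +kernel

set_option maxRecDepth 100000 in
theorem part_9_10_11_8 : dfsN 6 268435456 146445072 [2, 4, 5, 6, 7, 12] = true := by
  decide +kernel

set_option maxRecDepth 100000 in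
theorem part_9_10_11_12 : dfsN 6 268435456 213553936 [2, 4, 5, 6, 7, 8] = true := by
  decide +kernel

theorem part_9_10_11 : dfsN 7 16777216 12227344 [2, 4, 5, 6, 7, 8, 12] = true := by
  apply dfsN_step 6 16777216 12227344 [2, 4, 5, 6, 7, 8, 12]
  intro v hv
  simp only [List.mem_cons, List.not_mem_nil, or_false] at hv
  rcases hv with rfl | rfl | rfl | rfl | rfl | rfl | rfl
  exacts [part_9_10_11_2, part_9_10_11_4, part_9_10_11_5, part_9_10_11_6, part_9_10_11_7, part_9_10_11_8, part_9_10_11_12]

set_option maxRecDepth 100000 in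
theorem part_9_10_12_2 : dfsN 6 268435456 46830352 [4, 5, 6, 7, 8, 11] = true := by
  decide +kernel

set_option maxRecDepth 100000 in
theorem part_9_10_12_4 : dfsN 6 268435456 80384784 [2, 5, 6, 7, 8, 11] = true := by
  decide +kernel

set_option maxRecDepth 100000 in
theorem part_9_10_12_5 : dfsN 6 268435456 97162000 [2, 4, 6, 7, 8, 11] = true := by
  decide +kernel

set_option maxRecDepth 100000 in
theorem part_9_10_12_6 : dfsN 6 268435456 113939216 [2, 4, 5, 7, 8, 11] = true := by
  decide +kernel

set_option maxRecDepth 100000 in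
theorem part_9_10_12_7 : dfsN 6 268435456 130716432 [2, 4, 5, 6, 8, 11] = true := by
  decide +kernel

set_option maxRecDepth 100000 in
theorem part_9_10_12_8 : dfsN 6 268435456 147493648 [2, 4, 5, 6, 7, 11] = true := by
  decide +kernel

set_option maxRecDepth 100000 in
theorem part_9_10_12_11 : dfsN 6 268435456 197825296 [2, 4, 5, 6, 7, 8] = true := by
  decide +kernel

theorem part_9_10_12 : dfsN 7 16777216 13275920 [2, 4, 5, 6, 7, 8, 11] = true := by
  apply dfsN_step 6 16777216 13275920 [2, 4, 5, 6, 7, 8, 11]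
  intro v hv
  simp only [List.mem_cons, List.not_mem_nil, or_false] at hv
  rcases hv with rfl | rfl | rfl | rfl | rfl | rfl | rfl
  exacts [part_9_10_12_2, part_9_10_12_4, part_9_10_12_5, part_9_10_12_6, part_9_10_12_7, part_9_10_12_8, part_9_10_12_11]

theorem part_9_10 : dfsN 8 1048576 693008 [2, 4, 5, 6, 7, 8, 11, 12] = true := by
  apply dfsN_step 7 1048576 693008 [2, 4, 5, 6, 7, 8, 11, 12]
  intro v hv
  simp only [List.mem_cons, List.not_mem_nil, or_false] at hv
  rcases hv with rfl | rfl | rfl | rfl | rfl | rfl | rfl | rfl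
  exacts [part_9_10_2, part_9_10_4, part_9_10_5, part_9_10_6, part_9_10_7, part_9_10_8, part_9_10_11, part_9_10_12]

end Cfsg.Agent.Lib.H16.AG
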