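import Cfsg.Agent.Lib.H16.AG.Step

set_option autoImplicit false

/-! Degree 13, images `0, 1, 3, 9, 11` of `0, 1, 2, 3, 4` fixed: every completion that is an
`11`-cycle has a word `(x ^ b * y ^ a) ^ k` which is a `3`-, `5`- or `7`-cycle
(small kernel computations, one per pair of images of `5, 6`). -/

namespace Cfsg.Agent.Lib.H16.AG

set_option maxRecDepth 100000 in
theorem part_9_11_2_4 : dfsN 6 268435456 69964560 [5, 6, 7, 8, 10, 12] = true := by
  decide +kernel

set_option maxRecDepth 100000 in
theorem part_9_11_2_5 : dfsN 6 268435456 86741776 [4, 6, 7, 8, 10, 12] = true := by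
  decide +kernel

set_option maxRecDepth 100000 in
theorem part_9_11_2_6 : dfsN 6 268435456 103518992 [4, 5, 7, 8, 10, 12] = true := by
  decide +kernel

set_option maxRecDepth 100000 in
theorem part_9_11_2_7 : dfsN 6 268435456 120296208 [4, 5, 6, 8, 10, 12] = true := by
  decide +kernel

set_option maxRecDepth 100000 in
theorem part_9_11_2_8 : dfsN 6 268435456 137073424 [4, 5, 6, 7, 10, 12] = true := by
  decide +kernel

set_option maxRecDepth 100000 in
theorem part_9_11_2_10 : dfsN 6 268435456 170627856 [4, 5, 6, 7, 8, 12] = true := by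
  decide +kernel

set_option maxRecDepth 100000 in
theorem part_9_11_2_12 : dfsN 6 268435456 204182288 [4, 5, 6, 7, 8, 10] = true := by
  decide +kernel

theorem part_9_11_2 : dfsN 7 16777216 2855696 [4, 5, 6, 7, 8, 10, 12] = true := by
  apply dfsN_step 6 16777216 2855696 [4, 5, 6, 7, 8, 10, 12]
  intro v hv
  simp only [List.mem_cons, List.not_mem_nil, or_false] at hv
  rcases hv with rfl | rfl | rfl | rfl | rfl | rfl | rfl
  exacts [part_9_11_2_4, part_9_11_2_5, part_9_11_2_6, part_9_11_2_7, part_9_11_2_8, part_9_11_2_10, part_9_11_2_12]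

set_option maxRecDepth 100000 in
theorem part_9_11_4_2 : dfsN 6 268435456 38507280 [5, 6, 7, 8, 10, 12] = true := by
  decide +kernel

set_option maxRecDepth 100000 in
theorem part_9_11_4_5 : dfsN 6 268435456 88838928 [2, 6, 7, 8, 10, 12] = true := by
  decide +kernel

set_option maxRecDepth 100000 in
theorem part_9_11_4_6 : dfsN 6 268435456 105616144 [2, 5, 7, 8, 10, 12] = true := by
  decide +kernel

set_option maxRecDepth 100000 in
theorem part_9_11_4_7 : dfsN 6 268435456 122393360 [2, 5, 6, 8, 10, 12] = true := by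
  decide +kernel

set_option maxRecDepth 100000 in
theorem part_9_11_4_8 : dfsN 6 268435456 139170576 [2, 5, 6, 7, 10, 12] = true := by
  decide +kernel

set_option maxRecDepth 100000 in
theorem part_9_11_4_10 : dfsN 6 268435456 172725008 [2, 5, 6, 7, 8, 12] = true := by
  decide +kernel

set_option maxRecDepth 100000 in
theorem part_9_11_4_12 : dfsN 6 268435456 206279440 [2, 5, 6, 7, 8, 10] = true := by
  decide +kernel

theorem part_9_11_4 : dfsN 7 16777216 4952848 [2, 5, 6, 7, 8, 10, 12] = true := by
  apply dfsN_step 6 16777216 4952848 [2, 5, 6, 7, 8, 10, 12]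
  intro v hv
  simp only [List.mem_cons, List.not_mem_nil, or_false] at hv
  rcases hv with rfl | rfl | rfl | rfl | rfl | rfl | rfl
  exacts [part_9_11_4_2, part_9_11_4_5, part_9_11_4_6, part_9_11_4_7, part_9_11_4_8, part_9_11_4_10, part_9_11_4_12]

set_option maxRecDepth 100000 in
theorem part_9_11_5_2 : dfsN 6 268435456 39555856 [4, 6, 7, 8, 10, 12] = true := by
  decide +kernel

set_option maxRecDepth 100000 in
theorem part_9_11_5_4 : dfsN 6 268435456 73110288 [2, 6, 7, 8, 10, 12] = true := by
  decide +kernel

set_option maxRecDepth 100000 in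
theorem part_9_11_5_6 : dfsN 6 268435456 106664720 [2, 4, 7, 8, 10, 12] = true := by
  decide +kernel

set_option maxRecDepth 100000 in
theorem part_9_11_5_7 : dfsN 6 268435456 123441936 [2, 4, 6, 8, 10, 12] = true := by
  decide +kernel

set_option maxRecDepth 100000 in
theorem part_9_11_5_8 : dfsN 6 268435456 140219152 [2, 4, 6, 7, 10, 12] = true := by
  decide +kernel

set_option maxRecDepth 100000 in
theorem part_9_11_5_10 : dfsN 6 268435456 173773584 [2, 4, 6, 7, 8, 12] = true := by
  decide +kernel

set_option maxRecDepth 100000 in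
theorem part_9_11_5_12 : dfsN 6 268435456 207328016 [2, 4, 6, 7, 8, 10] = true := by
  decide +kernel

theorem part_9_11_5 : dfsN 7 16777216 6001424 [2, 4, 6, 7, 8, 10, 12] = true := by
  apply dfsN_step 6 16777216 6001424 [2, 4, 6, 7, 8, 10, 12]
  intro v hv
  simp only [List.mem_cons, List.not_mem_nil, or_false] at hv
  rcases hv with rfl | rfl | rfl | rfl | rfl | rfl | rfl
  exacts [part_9_11_5_2, part_9_11_5_4, part_9_11_5_6, part_9_11_5_7, part_9_11_5_8, part_9_11_5_10, part_9_11_5_12]

set_option maxRecDepth 100000 in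
theorem part_9_11_6_2 : dfsN 6 268435456 40604432 [4, 5, 7, 8, 10, 12] = true := by
  decide +kernel

set_option maxRecDepth 100000 in
theorem part_9_11_6_4 : dfsN 6 268435456 74158864 [2, 5, 7, 8, 10, 12] = true := by
  decide +kernel

set_option maxRecDepth 100000 in
theorem part_9_11_6_5 : dfsN 6 268435456 90936080 [2, 4, 7, 8, 10, 12] = true := by
  decide +kernel

set_option maxRecDepth 100000 in
theorem part_9_11_6_7 : dfsN 6 268435456 124490512 [2, 4, 5, 8, 10, 12] = true := by
  decide +kernel

set_option maxRecDepth 100000 in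
theorem part_9_11_6_8 : dfsN 6 268435456 141267728 [2, 4, 5, 7, 10, 12] = true := by
  decide +kernel

set_option maxRecDepth 100000 in
theorem part_9_11_6_10 : dfsN 6 268435456 174822160 [2, 4, 5, 7, 8, 12] = true := by
  decide +kernel

set_option maxRecDepth 100000 in
theorem part_9_11_6_12 : dfsN 6 268435456 208376592 [2, 4, 5, 7, 8, 10] = true := by
  decide +kernel

theorem part_9_11_6 : dfsN 7 16777216 7050000 [2, 4, 5, 7, 8, 10, 12] = true := by
  apply dfsN_step 6 16777216 7050000 [2, 4, 5, 7, 8, 10, 12]
  intro v hv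
  simp only [List.mem_cons, List.not_mem_nil, or_false] at hv
  rcases hv with rfl | rfl | rfl | rfl | rfl | rfl | rfl
  exacts [part_9_11_6_2, part_9_11_6_4, part_9_11_6_5, part_9_11_6_7, part_9_11_6_8, part_9_11_6_10, part_9_11_6_12]

set_option maxRecDepth 100000 in
theorem part_9_11_7_2 : dfsN 6 268435456 41653008 [4, 5, 6, 8, 10, 12] = true := by
  decide +kernel

set_option maxRecDepth 100000 in
theorem part_9_11_7_4 : dfsN 6 268435456 75207440 [2, 5, 6, 8, 10, 12] = true := by
  decide +kernel

set_option maxRecDepth 100000 in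
theorem part_9_11_7_5 : dfsN 6 268435456 91984656 [2, 4, 6, 8, 10, 12] = true := by
  decide +kernel

set_option maxRecDepth 100000 in
theorem part_9_11_7_6 : dfsN 6 268435456 108761872 [2, 4, 5, 8, 10, 12] = true := by
  decide +kernel

set_option maxRecDepth 100000 in
theorem part_9_11_7_8 : dfsN 6 268435456 142316304 [2, 4, 5, 6, 10, 12] = true := by
  decide +kernel

set_option maxRecDepth 100000 in
theorem part_9_11_7_10 : dfsN 6 268435456 175870736 [2, 4, 5, 6, 8, 12] = true := by
  decide +kernel

set_option maxRecDepth 100000 in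
theorem part_9_11_7_12 : dfsN 6 268435456 209425168 [2, 4, 5, 6, 8, 10] = true := by
  decide +kernel

theorem part_9_11_7 : dfsN 7 16777216 8098576 [2, 4, 5, 6, 8, 10, 12] = true := by
  apply dfsN_step 6 16777216 8098576 [2, 4, 5, 6, 8, 10, 12]
  intro v hv
  simp only [List.mem_cons, List.not_mem_nil, or_false] at hv
  rcases hv with rfl | rfl | rfl | rfl | rfl | rfl | rfl
  exacts [part_9_11_7_2, part_9_11_7_4, part_9_11_7_5, part_9_11_7_6, part_9_11_7_8, part_9_11_7_10, part_9_11_7_12]

set_option maxRecDepth 100000 in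
theorem part_9_11_8_2 : dfsN 6 268435456 42701584 [4, 5, 6, 7, 10, 12] = true := by
  decide +kernel

set_option maxRecDepth 100000 in
theorem part_9_11_8_4 : dfsN 6 268435456 76256016 [2, 5, 6, 7, 10, 12] = true := by
  decide +kernel

set_option maxRecDepth 100000 in
theorem part_9_11_8_5 : dfsN 6 268435456 93033232 [2, 4, 6, 7, 10, 12] = true := by
  decide +kernel

set_option maxRecDepth 100000 in
theorem part_9_11_8_6 : dfsN 6 268435456 109810448 [2, 4, 5, 7, 10, 12] = true := by
  decide +kernel

set_option maxRecDepth 100000 in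
theorem part_9_11_8_7 : dfsN 6 268435456 126587664 [2, 4, 5, 6, 10, 12] = true := by
  decide +kernel

set_option maxRecDepth 100000 in
theorem part_9_11_8_10 : dfsN 6 268435456 176919312 [2, 4, 5, 6, 7, 12] = true := by
  decide +kernel

set_option maxRecDepth 100000 in
theorem part_9_11_8_12 : dfsN 6 268435456 210473744 [2, 4, 5, 6, 7, 10] = true := by
  decide +kernel

theorem part_9_11_8 : dfsN 7 16777216 9147152 [2, 4, 5, 6, 7, 10, 12] = true := by
  apply dfsN_step 6 16777216 9147152 [2, 4, 5, 6, 7, 10, 12]
  intro v hv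
  simp only [List.mem_cons, List.not_mem_nil, or_false] at hv
  rcases hv with rfl | rfl | rfl | rfl | rfl | rfl | rfl
  exacts [part_9_11_8_2, part_9_11_8_4, part_9_11_8_5, part_9_11_8_6, part_9_11_8_7, part_9_11_8_10, part_9_11_8_12]

set_option maxRecDepth 100000 in
theorem part_9_11_10_2 : dfsN 6 268435456 44798736 [4, 5, 6, 7, 8, 12] = true := by
  decide +kernel

set_option maxRecDepth 100000 in
theorem part_9_11_10_4 : dfsN 6 268435456 78353168 [2, 5, 6, 7, 8, 12] = true := by
  decide +kernel

set_option maxRecDepth 100000 in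
theorem part_9_11_10_5 : dfsN 6 268435456 95130384 [2, 4, 6, 7, 8, 12] = true := by
  decide +kernel

set_option maxRecDepth 100000 in
theorem part_9_11_10_6 : dfsN 6 268435456 111907600 [2, 4, 5, 7, 8, 12] = true := by
  decide +kernel

set_option maxRecDepth 100000 in
theorem part_9_11_10_7 : dfsN 6 268435456 128684816 [2, 4, 5, 6, 8, 12] = true := by
  decide +kernel

set_option maxRecDepth 100000 in
theorem part_9_11_10_8 : dfsN 6 268435456 145462032 [2, 4, 5, 6, 7, 12] = true := by
  decide +kernel

set_option maxRecDepth 100000 in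
theorem part_9_11_10_12 : dfsN 6 268435456 212570896 [2, 4, 5, 6, 7, 8] = true := by
  decide +kernel

theorem part_9_11_10 : dfsN 7 16777216 11244304 [2, 4, 5, 6, 7, 8, 12] = true := by
  apply dfsN_step 6 16777216 11244304 [2, 4, 5, 6, 7, 8, 12]
  intro v hv
  simp only [List.mem_cons, List.not_mem_nil, or_false] at hv
  rcases hv with rfl | rfl | rfl | rfl | rfl | rfl | rfl
  exacts [part_9_11_10_2, part_9_11_10_4, part_9_11_10_5, part_9_11_10_6, part_9_11_10_7, part_9_11_10_8, part_9_11_10_12]

set_option maxRecDepth 100000 in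
theorem part_9_11_12_2 : dfsN 6 268435456 46895888 [4, 5, 6, 7, 8, 10] = true := by
  decide +kernel

set_option maxRecDepth 100000 in
theorem part_9_11_12_4 : dfsN 6 268435456 80450320 [2, 5, 6, 7, 8, 10] = true := by
  decide +kernel

set_option maxRecDepth 100000 in
theorem part_9_11_12_5 : dfsN 6 268435456 97227536 [2, 4, 6, 7, 8, 10] = true := by
  decide +kernel

set_option maxRecDepth 100000 in
theorem part_9_11_12_6 : dfsN 6 268435456 114004752 [2, 4, 5, 7, 8, 10] = true := by
  decide +kernel

set_option maxRecDepth 100000 in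
theorem part_9_11_12_7 : dfsN 6 268435456 130781968 [2, 4, 5, 6, 8, 10] = true := by
  decide +kernel

set_option maxRecDepth 100000 in
theorem part_9_11_12_8 : dfsN 6 268435456 147559184 [2, 4, 5, 6, 7, 10] = true := by
  decide +kernel

set_option maxRecDepth 100000 in
theorem part_9_11_12_10 : dfsN 6 268435456 181113616 [2, 4, 5, 6, 7, 8] = true := by
  decide +kernel

theorem part_9_11_12 : dfsN 7 16777216 13341456 [2, 4, 5, 6, 7, 8, 10] = true := by
  apply dfsN_step 6 16777216 13341456 [2, 4, 5, 6, 7, 8, 10]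
  intro v hv
  simp only [List.mem_cons, List.not_mem_nil, or_false] at hv
  rcases hv with rfl | rfl | rfl | rfl | rfl | rfl | rfl
  exacts [part_9_11_12_2, part_9_11_12_4, part_9_11_12_5, part_9_11_12_6, part_9_11_12_7, part_9_11_12_8, part_9_11_12_10]

theorem part_9_11 : dfsN 8 1048576 758544 [2, 4, 5, 6, 7, 8, 10, 12] = true := by
  apply dfsN_step 7 1048576 758544 [2, 4, 5, 6, 7, 8, 10, 12]
  intro v hv
  simp only [List.mem_cons, List.not_mem_nil, or_false] at hv
  rcases hv with rfl | rfl | rfl | rfl | rfl | rfl | rfl | rfl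
  exacts [part_9_11_2, part_9_11_4, part_9_11_5, part_9_11_6, part_9_11_7, part_9_11_8, part_9_11_10, part_9_11_12]

end Cfsg.Agent.Lib.H16.AG
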