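import Cfsg.Agent.Lib.H16.AG.Step

set_option autoImplicit false

/-! Degree 13, images `0, 1, 3, 9, 12` of `0, 1, 2, 3, 4` fixed: every completion that is an
`11`-cycle has a word `(x ^ b * y ^ a) ^ k` which is a `3`-, `5`- or `7`-cycle
(small kernel computations, one per pair of images of `5, 6`). -/

namespace Cfsg.Agent.Lib.H16.AG

set_option maxRecDepth 100000 in
theorem part_9_12_2_4 : dfsN 6 268435456 70030096 [5, 6, 7, 8, 10, 11] = true := by
  decide +kernel

set_option maxRecDepth 100000 in
theorem part_9_12_2_5 : dfsN 6 268435456 86807312 [4, 6, 7, 8, 10, 11] = true := by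
  decide +kernel

set_option maxRecDepth 100000 in
theorem part_9_12_2_6 : dfsN 6 268435456 103584528 [4, 5, 7, 8, 10, 11] = true := by
  decide +kernel

set_option maxRecDepth 100000 in
theorem part_9_12_2_7 : dfsN 6 268435456 120361744 [4, 5, 6, 8, 10, 11] = true := by
  decide +kernel

set_option maxRecDepth 100000 in
theorem part_9_12_2_8 : dfsN 6 268435456 137138960 [4, 5, 6, 7, 10, 11] = true := by
  decide +kernel

set_option maxRecDepth 100000 in
theorem part_9_12_2_10 : dfsN 6 268435456 170693392 [4, 5, 6, 7, 8, 11] = true := by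
  decide +kernel

set_option maxRecDepth 100000 in
theorem part_9_12_2_11 : dfsN 6 268435456 187470608 [4, 5, 6, 7, 8, 10] = true := by
  decide +kernel

theorem part_9_12_2 : dfsN 7 16777216 2921232 [4, 5, 6, 7, 8, 10, 11] = true := by
  apply dfsN_step 6 16777216 2921232 [4, 5, 6, 7, 8, 10, 11]
  intro v hv
  simp only [List.mem_cons, List.not_mem_nil, or_false] at hv
  rcases hv with rfl | rfl | rfl | rfl | rfl | rfl | rfl
  exacts [part_9_12_2_4, part_9_12_2_5, part_9_12_2_6, part_9_12_2_7, part_9_12_2_8, part_9_12_2_10, part_9_12_2_11]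

set_option maxRecDepth 100000 in
theorem part_9_12_4_2 : dfsN 6 268435456 38572816 [5, 6, 7, 8, 10, 11] = true := by
  decide +kernel

set_option maxRecDepth 100000 in
theorem part_9_12_4_5 : dfsN 6 268435456 88904464 [2, 6, 7, 8, 10, 11] = true := by
  decide +kernel

set_option maxRecDepth 100000 in
theorem part_9_12_4_6 : dfsN 6 268435456 105681680 [2, 5, 7, 8, 10, 11] = true := by
  decide +kernel

set_option maxRecDepth 100000 in
theorem part_9_12_4_7 : dfsN 6 268435456 122458896 [2, 5, 6, 8, 10, 11] = true := by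
  decide +kernel

set_option maxRecDepth 100000 in
theorem part_9_12_4_8 : dfsN 6 268435456 139236112 [2, 5, 6, 7, 10, 11] = true := by
  decide +kernel

set_option maxRecDepth 100000 in
theorem part_9_12_4_10 : dfsN 6 268435456 172790544 [2, 5, 6, 7, 8, 11] = true := by
  decide +kernel

set_option maxRecDepth 100000 in
theorem part_9_12_4_11 : dfsN 6 268435456 189567760 [2, 5, 6, 7, 8, 10] = true := by
  decide +kernel

theorem part_9_12_4 : dfsN 7 16777216 5018384 [2, 5, 6, 7, 8, 10, 11] = true := by
  apply dfsN_step 6 16777216 5018384 [2, 5, 6, 7, 8, 10, 11]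
  intro v hv
  simp only [List.mem_cons, List.not_mem_nil, or_false] at hv
  rcases hv with rfl | rfl | rfl | rfl | rfl | rfl | rfl
  exacts [part_9_12_4_2, part_9_12_4_5, part_9_12_4_6, part_9_12_4_7, part_9_12_4_8, part_9_12_4_10, part_9_12_4_11]

set_option maxRecDepth 100000 in
theorem part_9_12_5_2 : dfsN 6 268435456 39621392 [4, 6, 7, 8, 10, 11] = true := by
  decide +kernel

set_option maxRecDepth 100000 in
theorem part_9_12_5_4 : dfsN 6 268435456 73175824 [2, 6, 7, 8, 10, 11] = true := by
  decide +kernel

set_option maxRecDepth 100000 in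
theorem part_9_12_5_6 : dfsN 6 268435456 106730256 [2, 4, 7, 8, 10, 11] = true := by
  decide +kernel

set_option maxRecDepth 100000 in
theorem part_9_12_5_7 : dfsN 6 268435456 123507472 [2, 4, 6, 8, 10, 11] = true := by
  decide +kernel

set_option maxRecDepth 100000 in
theorem part_9_12_5_8 : dfsN 6 268435456 140284688 [2, 4, 6, 7, 10, 11] = true := by
  decide +kernel

set_option maxRecDepth 100000 in
theorem part_9_12_5_10 : dfsN 6 268435456 173839120 [2, 4, 6, 7, 8, 11] = true := by
  decide +kernel

set_option maxRecDepth 100000 in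
theorem part_9_12_5_11 : dfsN 6 268435456 190616336 [2, 4, 6, 7, 8, 10] = true := by
  decide +kernel

theorem part_9_12_5 : dfsN 7 16777216 6066960 [2, 4, 6, 7, 8, 10, 11] = true := by
  apply dfsN_step 6 16777216 6066960 [2, 4, 6, 7, 8, 10, 11]
  intro v hv
  simp only [List.mem_cons, List.not_mem_nil, or_false] at hv
  rcases hv with rfl | rfl | rfl | rfl | rfl | rfl | rfl
  exacts [part_9_12_5_2, part_9_12_5_4, part_9_12_5_6, part_9_12_5_7, part_9_12_5_8, part_9_12_5_10, part_9_12_5_11]

set_option maxRecDepth 100000 in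
theorem part_9_12_6_2 : dfsN 6 268435456 40669968 [4, 5, 7, 8, 10, 11] = true := by
  decide +kernel

set_option maxRecDepth 100000 in
theorem part_9_12_6_4 : dfsN 6 268435456 74224400 [2, 5, 7, 8, 10, 11] = true := by
  decide +kernel

set_option maxRecDepth 100000 in
theorem part_9_12_6_5 : dfsN 6 268435456 91001616 [2, 4, 7, 8, 10, 11] = true := by
  decide +kernel

set_option maxRecDepth 100000 in
theorem part_9_12_6_7 : dfsN 6 268435456 124556048 [2, 4, 5, 8, 10, 11] = true := by
  decide +kernel

set_option maxRecDepth 100000 in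
theorem part_9_12_6_8 : dfsN 6 268435456 141333264 [2, 4, 5, 7, 10, 11] = true := by
  decide +kernel

set_option maxRecDepth 100000 in
theorem part_9_12_6_10 : dfsN 6 268435456 174887696 [2, 4, 5, 7, 8, 11] = true := by
  decide +kernel

set_option maxRecDepth 100000 in
theorem part_9_12_6_11 : dfsN 6 268435456 191664912 [2, 4, 5, 7, 8, 10] = true := by
  decide +kernel

theorem part_9_12_6 : dfsN 7 16777216 7115536 [2, 4, 5, 7, 8, 10, 11] = true := by
  apply dfsN_step 6 16777216 7115536 [2, 4, 5, 7, 8, 10, 11]
  intro v hv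
  simp only [List.mem_cons, List.not_mem_nil, or_false] at hv
  rcases hv with rfl | rfl | rfl | rfl | rfl | rfl | rfl
  exacts [part_9_12_6_2, part_9_12_6_4, part_9_12_6_5, part_9_12_6_7, part_9_12_6_8, part_9_12_6_10, part_9_12_6_11]

set_option maxRecDepth 100000 in
theorem part_9_12_7_2 : dfsN 6 268435456 41718544 [4, 5, 6, 8, 10, 11] = true := by
  decide +kernel

set_option maxRecDepth 100000 in
theorem part_9_12_7_4 : dfsN 6 268435456 75272976 [2, 5, 6, 8, 10, 11] = true := by
  decide +kernel

set_option maxRecDepth 100000 in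
theorem part_9_12_7_5 : dfsN 6 268435456 92050192 [2, 4, 6, 8, 10, 11] = true := by
  decide +kernel

set_option maxRecDepth 100000 in
theorem part_9_12_7_6 : dfsN 6 268435456 108827408 [2, 4, 5, 8, 10, 11] = true := by
  decide +kernel

set_option maxRecDepth 100000 in
theorem part_9_12_7_8 : dfsN 6 268435456 142381840 [2, 4, 5, 6, 10, 11] = true := by
  decide +kernel

set_option maxRecDepth 100000 in
theorem part_9_12_7_10 : dfsN 6 268435456 175936272 [2, 4, 5, 6, 8, 11] = true := by
  decide +kernel

set_option maxRecDepth 100000 in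
theorem part_9_12_7_11 : dfsN 6 268435456 192713488 [2, 4, 5, 6, 8, 10] = true := by
  decide +kernel

theorem part_9_12_7 : dfsN 7 16777216 8164112 [2, 4, 5, 6, 8, 10, 11] = true := by
  apply dfsN_step 6 16777216 8164112 [2, 4, 5, 6, 8, 10, 11]
  intro v hv
  simp only [List.mem_cons, List.not_mem_nil, or_false] at hv
  rcases hv with rfl | rfl | rfl | rfl | rfl | rfl | rfl
  exacts [part_9_12_7_2, part_9_12_7_4, part_9_12_7_5, part_9_12_7_6, part_9_12_7_8, part_9_12_7_10, part_9_12_7_11]

set_option maxRecDepth 100000 in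
theorem part_9_12_8_2 : dfsN 6 268435456 42767120 [4, 5, 6, 7, 10, 11] = true := by
  decide +kernel

set_option maxRecDepth 100000 in
theorem part_9_12_8_4 : dfsN 6 268435456 76321552 [2, 5, 6, 7, 10, 11] = true := by
  decide +kernel

set_option maxRecDepth 100000 in
theorem part_9_12_8_5 : dfsN 6 268435456 93098768 [2, 4, 6, 7, 10, 11] = true := by
  decide +kernel

set_option maxRecDepth 100000 in
theorem part_9_12_8_6 : dfsN 6 268435456 109875984 [2, 4, 5, 7, 10, 11] = true := by
  decide +kernel

set_option maxRecDepth 100000 in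
theorem part_9_12_8_7 : dfsN 6 268435456 126653200 [2, 4, 5, 6, 10, 11] = true := by
  decide +kernel

set_option maxRecDepth 100000 in
theorem part_9_12_8_10 : dfsN 6 268435456 176984848 [2, 4, 5, 6, 7, 11] = true := by
  decide +kernel

set_option maxRecDepth 100000 in
theorem part_9_12_8_11 : dfsN 6 268435456 193762064 [2, 4, 5, 6, 7, 10] = true := by
  decide +kernel

theorem part_9_12_8 : dfsN 7 16777216 9212688 [2, 4, 5, 6, 7, 10, 11] = true := by
  apply dfsN_step 6 16777216 9212688 [2, 4, 5, 6, 7, 10, 11]
  intro v hv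
  simp only [List.mem_cons, List.not_mem_nil, or_false] at hv
  rcases hv with rfl | rfl | rfl | rfl | rfl | rfl | rfl
  exacts [part_9_12_8_2, part_9_12_8_4, part_9_12_8_5, part_9_12_8_6, part_9_12_8_7, part_9_12_8_10, part_9_12_8_11]

set_option maxRecDepth 100000 in
theorem part_9_12_10_2 : dfsN 6 268435456 44864272 [4, 5, 6, 7, 8, 11] = true := by
  decide +kernel

set_option maxRecDepth 100000 in
theorem part_9_12_10_4 : dfsN 6 268435456 78418704 [2, 5, 6, 7, 8, 11] = true := by
  decide +kernel

set_option maxRecDepth 100000 in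
theorem part_9_12_10_5 : dfsN 6 268435456 95195920 [2, 4, 6, 7, 8, 11] = true := by
  decide +kernel

set_option maxRecDepth 100000 in
theorem part_9_12_10_6 : dfsN 6 268435456 111973136 [2, 4, 5, 7, 8, 11] = true := by
  decide +kernel

set_option maxRecDepth 100000 in
theorem part_9_12_10_7 : dfsN 6 268435456 128750352 [2, 4, 5, 6, 8, 11] = true := by
  decide +kernel

set_option maxRecDepth 100000 in
theorem part_9_12_10_8 : dfsN 6 268435456 145527568 [2, 4, 5, 6, 7, 11] = true := by
  decide +kernel

set_option maxRecDepth 100000 in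
theorem part_9_12_10_11 : dfsN 6 268435456 195859216 [2, 4, 5, 6, 7, 8] = true := by
  decide +kernel

theorem part_9_12_10 : dfsN 7 16777216 11309840 [2, 4, 5, 6, 7, 8, 11] = true := by
  apply dfsN_step 6 16777216 11309840 [2, 4, 5, 6, 7, 8, 11]
  intro v hv
  simp only [List.mem_cons, List.not_mem_nil, or_false] at hv
  rcases hv with rfl | rfl | rfl | rfl | rfl | rfl | rfl
  exacts [part_9_12_10_2, part_9_12_10_4, part_9_12_10_5, part_9_12_10_6, part_9_12_10_7, part_9_12_10_8, part_9_12_10_11]

set_option maxRecDepth 100000 in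
theorem part_9_12_11_2 : dfsN 6 268435456 45912848 [4, 5, 6, 7, 8, 10] = true := by
  decide +kernel

set_option maxRecDepth 100000 in
theorem part_9_12_11_4 : dfsN 6 268435456 79467280 [2, 5, 6, 7, 8, 10] = true := by
  decide +kernel

set_option maxRecDepth 100000 in
theorem part_9_12_11_5 : dfsN 6 268435456 96244496 [2, 4, 6, 7, 8, 10] = true := by
  decide +kernel

set_option maxRecDepth 100000 in
theorem part_9_12_11_6 : dfsN 6 268435456 113021712 [2, 4, 5, 7, 8, 10] = true := by
  decide +kernel

set_option maxRecDepth 100000 in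
theorem part_9_12_11_7 : dfsN 6 268435456 129798928 [2, 4, 5, 6, 8, 10] = true := by
  decide +kernel

set_option maxRecDepth 100000 in
theorem part_9_12_11_8 : dfsN 6 268435456 146576144 [2, 4, 5, 6, 7, 10] = true := by
  decide +kernel

set_option maxRecDepth 100000 in
theorem part_9_12_11_10 : dfsN 6 268435456 180130576 [2, 4, 5, 6, 7, 8] = true := by
  decide +kernel

theorem part_9_12_11 : dfsN 7 16777216 12358416 [2, 4, 5, 6, 7, 8, 10] = true := by
  apply dfsN_step 6 16777216 12358416 [2, 4, 5, 6, 7, 8, 10]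
  intro v hv
  simp only [List.mem_cons, List.not_mem_nil, or_false] at hv
  rcases hv with rfl | rfl | rfl | rfl | rfl | rfl | rfl
  exacts [part_9_12_11_2, part_9_12_11_4, part_9_12_11_5, part_9_12_11_6, part_9_12_11_7, part_9_12_11_8, part_9_12_11_10]

theorem part_9_12 : dfsN 8 1048576 824080 [2, 4, 5, 6, 7, 8, 10, 11] = true := by
  apply dfsN_step 7 1048576 824080 [2, 4, 5, 6, 7, 8, 10, 11]
  intro v hv
  simp only [List.mem_cons, List.not_mem_nil, or_false] at hv
  rcases hv with rfl | rfl | rfl | rfl | rfl | rfl | rfl | rfl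
  exacts [part_9_12_2, part_9_12_4, part_9_12_5, part_9_12_6, part_9_12_7, part_9_12_8, part_9_12_10, part_9_12_11]

end Cfsg.Agent.Lib.H16.AG
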