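import Cfsg.Agent.Lib.H16.AG.Step

set_option autoImplicit false

/-! Degree 13, images `0, 1, 3, 10, 2` of `0, 1, 2, 3, 4` fixed: every completion that is an
`11`-cycle has a word `(x ^ b * y ^ a) ^ k` which is a `3`-, `5`- or `7`-cycle
(small kernel computations, one per pair of images of `5, 6`). -/

namespace Cfsg.Agent.Lib.H16.AG

set_option maxRecDepth 100000 in
theorem part_10_2_4_5 : dfsN 6 268435456 88253200 [6, 7, 8, 9, 11, 12] = true := by
  decide +kernel

set_option maxRecDepth 100000 in
theorem part_10_2_4_6 : dfsN 6 268435456 105030416 [5, 7, 8, 9, 11, 12] = true := by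
  decide +kernel

set_option maxRecDepth 100000 in
theorem part_10_2_4_7 : dfsN 6 268435456 121807632 [5, 6, 8, 9, 11, 12] = true := by
  decide +kernel

set_option maxRecDepth 100000 in
theorem part_10_2_4_8 : dfsN 6 268435456 138584848 [5, 6, 7, 9, 11, 12] = true := by
  decide +kernel

set_option maxRecDepth 100000 in
theorem part_10_2_4_9 : dfsN 6 268435456 155362064 [5, 6, 7, 8, 11, 12] = true := by
  decide +kernel

set_option maxRecDepth 100000 in
theorem part_10_2_4_11 : dfsN 6 268435456 188916496 [5, 6, 7, 8, 9, 12] = true := by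
  decide +kernel

set_option maxRecDepth 100000 in
theorem part_10_2_4_12 : dfsN 6 268435456 205693712 [5, 6, 7, 8, 9, 11] = true := by
  decide +kernel

theorem part_10_2_4 : dfsN 7 16777216 4367120 [5, 6, 7, 8, 9, 11, 12] = true := by
  apply dfsN_step 6 16777216 4367120 [5, 6, 7, 8, 9, 11, 12]
  intro v hv
  simp only [List.mem_cons, List.not_mem_nil, or_false] at hv
  rcases hv with rfl | rfl | rfl | rfl | rfl | rfl | rfl
  exacts [part_10_2_4_5, part_10_2_4_6, part_10_2_4_7, part_10_2_4_8, part_10_2_4_9, part_10_2_4_11, part_10_2_4_12]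

set_option maxRecDepth 100000 in
theorem part_10_2_5_4 : dfsN 6 268435456 72524560 [6, 7, 8, 9, 11, 12] = true := by
  decide +kernel

set_option maxRecDepth 100000 in
theorem part_10_2_5_6 : dfsN 6 268435456 106078992 [4, 7, 8, 9, 11, 12] = true := by
  decide +kernel

set_option maxRecDepth 100000 in
theorem part_10_2_5_7 : dfsN 6 268435456 122856208 [4, 6, 8, 9, 11, 12] = true := by
  decide +kernel

set_option maxRecDepth 100000 in
theorem part_10_2_5_8 : dfsN 6 268435456 139633424 [4, 6, 7, 9, 11, 12] = true := by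
  decide +kernel

set_option maxRecDepth 100000 in
theorem part_10_2_5_9 : dfsN 6 268435456 156410640 [4, 6, 7, 8, 11, 12] = true := by
  decide +kernel

set_option maxRecDepth 100000 in
theorem part_10_2_5_11 : dfsN 6 268435456 189965072 [4, 6, 7, 8, 9, 12] = true := by
  decide +kernel

set_option maxRecDepth 100000 in
theorem part_10_2_5_12 : dfsN 6 268435456 206742288 [4, 6, 7, 8, 9, 11] = true := by
  decide +kernel

theorem part_10_2_5 : dfsN 7 16777216 5415696 [4, 6, 7, 8, 9, 11, 12] = true := by
  apply dfsN_step 6 16777216 5415696 [4, 6, 7, 8, 9, 11, 12]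
  intro v hv
  simp only [List.mem_cons, List.not_mem_nil, or_false] at hv
  rcases hv with rfl | rfl | rfl | rfl | rfl | rfl | rfl
  exacts [part_10_2_5_4, part_10_2_5_6, part_10_2_5_7, part_10_2_5_8, part_10_2_5_9, part_10_2_5_11, part_10_2_5_12]

set_option maxRecDepth 100000 in
theorem part_10_2_6_4 : dfsN 6 268435456 73573136 [5, 7, 8, 9, 11, 12] = true := by
  decide +kernel

set_option maxRecDepth 100000 in
theorem part_10_2_6_5 : dfsN 6 268435456 90350352 [4, 7, 8, 9, 11, 12] = true := by
  decide +kernel

set_option maxRecDepth 100000 in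
theorem part_10_2_6_7 : dfsN 6 268435456 123904784 [4, 5, 8, 9, 11, 12] = true := by
  decide +kernel

set_option maxRecDepth 100000 in
theorem part_10_2_6_8 : dfsN 6 268435456 140682000 [4, 5, 7, 9, 11, 12] = true := by
  decide +kernel

set_option maxRecDepth 100000 in
theorem part_10_2_6_9 : dfsN 6 268435456 157459216 [4, 5, 7, 8, 11, 12] = true := by
  decide +kernel

set_option maxRecDepth 100000 in
theorem part_10_2_6_11 : dfsN 6 268435456 191013648 [4, 5, 7, 8, 9, 12] = true := by
  decide +kernel

set_option maxRecDepth 100000 in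
theorem part_10_2_6_12 : dfsN 6 268435456 207790864 [4, 5, 7, 8, 9, 11] = true := by
  decide +kernel

theorem part_10_2_6 : dfsN 7 16777216 6464272 [4, 5, 7, 8, 9, 11, 12] = true := by
  apply dfsN_step 6 16777216 6464272 [4, 5, 7, 8, 9, 11, 12]
  intro v hv
  simp only [List.mem_cons, List.not_mem_nil, or_false] at hv
  rcases hv with rfl | rfl | rfl | rfl | rfl | rfl | rfl
  exacts [part_10_2_6_4, part_10_2_6_5, part_10_2_6_7, part_10_2_6_8, part_10_2_6_9, part_10_2_6_11, part_10_2_6_12]

set_option maxRecDepth 100000 in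
theorem part_10_2_7_4 : dfsN 6 268435456 74621712 [5, 6, 8, 9, 11, 12] = true := by
  decide +kernel

set_option maxRecDepth 100000 in
theorem part_10_2_7_5 : dfsN 6 268435456 91398928 [4, 6, 8, 9, 11, 12] = true := by
  decide +kernel

set_option maxRecDepth 100000 in
theorem part_10_2_7_6 : dfsN 6 268435456 108176144 [4, 5, 8, 9, 11, 12] = true := by
  decide +kernel

set_option maxRecDepth 100000 in
theorem part_10_2_7_8 : dfsN 6 268435456 141730576 [4, 5, 6, 9, 11, 12] = true := by
  decide +kernel

set_option maxRecDepth 100000 in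
theorem part_10_2_7_9 : dfsN 6 268435456 158507792 [4, 5, 6, 8, 11, 12] = true := by
  decide +kernel

set_option maxRecDepth 100000 in
theorem part_10_2_7_11 : dfsN 6 268435456 192062224 [4, 5, 6, 8, 9, 12] = true := by
  decide +kernel

set_option maxRecDepth 100000 in
theorem part_10_2_7_12 : dfsN 6 268435456 208839440 [4, 5, 6, 8, 9, 11] = true := by
  decide +kernel

theorem part_10_2_7 : dfsN 7 16777216 7512848 [4, 5, 6, 8, 9, 11, 12] = true := by
  apply dfsN_step 6 16777216 7512848 [4, 5, 6, 8, 9, 11, 12]
  intro v hv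
  simp only [List.mem_cons, List.not_mem_nil, or_false] at hv
  rcases hv with rfl | rfl | rfl | rfl | rfl | rfl | rfl
  exacts [part_10_2_7_4, part_10_2_7_5, part_10_2_7_6, part_10_2_7_8, part_10_2_7_9, part_10_2_7_11, part_10_2_7_12]

set_option maxRecDepth 100000 in
theorem part_10_2_8_4 : dfsN 6 268435456 75670288 [5, 6, 7, 9, 11, 12] = true := by
  decide +kernel

set_option maxRecDepth 100000 in
theorem part_10_2_8_5 : dfsN 6 268435456 92447504 [4, 6, 7, 9, 11, 12] = true := by
  decide +kernel

set_option maxRecDepth 100000 in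
theorem part_10_2_8_6 : dfsN 6 268435456 109224720 [4, 5, 7, 9, 11, 12] = true := by
  decide +kernel

set_option maxRecDepth 100000 in
theorem part_10_2_8_7 : dfsN 6 268435456 126001936 [4, 5, 6, 9, 11, 12] = true := by
  decide +kernel

set_option maxRecDepth 100000 in
theorem part_10_2_8_9 : dfsN 6 268435456 159556368 [4, 5, 6, 7, 11, 12] = true := by
  decide +kernel

set_option maxRecDepth 100000 in
theorem part_10_2_8_11 : dfsN 6 268435456 193110800 [4, 5, 6, 7, 9, 12] = true := by
  decide +kernel

set_option maxRecDepth 100000 in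
theorem part_10_2_8_12 : dfsN 6 268435456 209888016 [4, 5, 6, 7, 9, 11] = true := by
  decide +kernel

theorem part_10_2_8 : dfsN 7 16777216 8561424 [4, 5, 6, 7, 9, 11, 12] = true := by
  apply dfsN_step 6 16777216 8561424 [4, 5, 6, 7, 9, 11, 12]
  intro v hv
  simp only [List.mem_cons, List.not_mem_nil, or_false] at hv
  rcases hv with rfl | rfl | rfl | rfl | rfl | rfl | rfl
  exacts [part_10_2_8_4, part_10_2_8_5, part_10_2_8_6, part_10_2_8_7, part_10_2_8_9, part_10_2_8_11, part_10_2_8_12]

set_option maxRecDepth 100000 in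
theorem part_10_2_9_4 : dfsN 6 268435456 76718864 [5, 6, 7, 8, 11, 12] = true := by
  decide +kernel

set_option maxRecDepth 100000 in
theorem part_10_2_9_5 : dfsN 6 268435456 93496080 [4, 6, 7, 8, 11, 12] = true := by
  decide +kernel

set_option maxRecDepth 100000 in
theorem part_10_2_9_6 : dfsN 6 268435456 110273296 [4, 5, 7, 8, 11, 12] = true := by
  decide +kernel

set_option maxRecDepth 100000 in
theorem part_10_2_9_7 : dfsN 6 268435456 127050512 [4, 5, 6, 8, 11, 12] = true := by
  decide +kernel

set_option maxRecDepth 100000 in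
theorem part_10_2_9_8 : dfsN 6 268435456 143827728 [4, 5, 6, 7, 11, 12] = true := by
  decide +kernel

set_option maxRecDepth 100000 in
theorem part_10_2_9_11 : dfsN 6 268435456 194159376 [4, 5, 6, 7, 8, 12] = true := by
  decide +kernel

set_option maxRecDepth 100000 in
theorem part_10_2_9_12 : dfsN 6 268435456 210936592 [4, 5, 6, 7, 8, 11] = true := by
  decide +kernel

theorem part_10_2_9 : dfsN 7 16777216 9610000 [4, 5, 6, 7, 8, 11, 12] = true := by
  apply dfsN_step 6 16777216 9610000 [4, 5, 6, 7, 8, 11, 12]
  intro v hv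
  simp only [List.mem_cons, List.not_mem_nil, or_false] at hv
  rcases hv with rfl | rfl | rfl | rfl | rfl | rfl | rfl
  exacts [part_10_2_9_4, part_10_2_9_5, part_10_2_9_6, part_10_2_9_7, part_10_2_9_8, part_10_2_9_11, part_10_2_9_12]

set_option maxRecDepth 100000 in
theorem part_10_2_11_4 : dfsN 6 268435456 78816016 [5, 6, 7, 8, 9, 12] = true := by
  decide +kernel

set_option maxRecDepth 100000 in
theorem part_10_2_11_5 : dfsN 6 268435456 95593232 [4, 6, 7, 8, 9, 12] = true := by
  decide +kernel

set_option maxRecDepth 100000 in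
theorem part_10_2_11_6 : dfsN 6 268435456 112370448 [4, 5, 7, 8, 9, 12] = true := by
  decide +kernel

set_option maxRecDepth 100000 in
theorem part_10_2_11_7 : dfsN 6 268435456 129147664 [4, 5, 6, 8, 9, 12] = true := by
  decide +kernel

set_option maxRecDepth 100000 in
theorem part_10_2_11_8 : dfsN 6 268435456 145924880 [4, 5, 6, 7, 9, 12] = true := by
  decide +kernel

set_option maxRecDepth 100000 in
theorem part_10_2_11_9 : dfsN 6 268435456 162702096 [4, 5, 6, 7, 8, 12] = true := by
  decide +kernel

set_option maxRecDepth 100000 in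
theorem part_10_2_11_12 : dfsN 6 268435456 213033744 [4, 5, 6, 7, 8, 9] = true := by
  decide +kernel

theorem part_10_2_11 : dfsN 7 16777216 11707152 [4, 5, 6, 7, 8, 9, 12] = true := by
  apply dfsN_step 6 16777216 11707152 [4, 5, 6, 7, 8, 9, 12]
  intro v hv
  simp only [List.mem_cons, List.not_mem_nil, or_false] at hv
  rcases hv with rfl | rfl | rfl | rfl | rfl | rfl | rfl
  exacts [part_10_2_11_4, part_10_2_11_5, part_10_2_11_6, part_10_2_11_7, part_10_2_11_8, part_10_2_11_9, part_10_2_11_12]

set_option maxRecDepth 100000 in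
theorem part_10_2_12_4 : dfsN 6 268435456 79864592 [5, 6, 7, 8, 9, 11] = true := by
  decide +kernel

set_option maxRecDepth 100000 in
theorem part_10_2_12_5 : dfsN 6 268435456 96641808 [4, 6, 7, 8, 9, 11] = true := by
  decide +kernel

set_option maxRecDepth 100000 in
theorem part_10_2_12_6 : dfsN 6 268435456 113419024 [4, 5, 7, 8, 9, 11] = true := by
  decide +kernel

set_option maxRecDepth 100000 in
theorem part_10_2_12_7 : dfsN 6 268435456 130196240 [4, 5, 6, 8, 9, 11] = true := by
  decide +kernel

set_option maxRecDepth 100000 in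
theorem part_10_2_12_8 : dfsN 6 268435456 146973456 [4, 5, 6, 7, 9, 11] = true := by
  decide +kernel

set_option maxRecDepth 100000 in
theorem part_10_2_12_9 : dfsN 6 268435456 163750672 [4, 5, 6, 7, 8, 11] = true := by
  decide +kernel

set_option maxRecDepth 100000 in
theorem part_10_2_12_11 : dfsN 6 268435456 197305104 [4, 5, 6, 7, 8, 9] = true := by
  decide +kernel

theorem part_10_2_12 : dfsN 7 16777216 12755728 [4, 5, 6, 7, 8, 9, 11] = true := by
  apply dfsN_step 6 16777216 12755728 [4, 5, 6, 7, 8, 9, 11]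
  intro v hv
  simp only [List.mem_cons, List.not_mem_nil, or_false] at hv
  rcases hv with rfl | rfl | rfl | rfl | rfl | rfl | rfl
  exacts [part_10_2_12_4, part_10_2_12_5, part_10_2_12_6, part_10_2_12_7, part_10_2_12_8, part_10_2_12_9, part_10_2_12_11]

theorem part_10_2 : dfsN 8 1048576 172816 [4, 5, 6, 7, 8, 9, 11, 12] = true := by
  apply dfsN_step 7 1048576 172816 [4, 5, 6, 7, 8, 9, 11, 12]
  intro v hv
  simp only [List.mem_cons, List.not_mem_nil, or_false] at hv
  rcases hv with rfl | rfl | rfl | rfl | rfl | rfl | rfl | rfl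
  exacts [part_10_2_4, part_10_2_5, part_10_2_6, part_10_2_7, part_10_2_8, part_10_2_9, part_10_2_11, part_10_2_12]

end Cfsg.Agent.Lib.H16.AG
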