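import Cfsg.Agent.Lib.H16.AG.Step

set_option autoImplicit false

/-! Degree 13, images `0, 1, 3, 10, 5` of `0, 1, 2, 3, 4` fixed: every completion that is an
`11`-cycle has a word `(x ^ b * y ^ a) ^ k` which is a `3`-, `5`- or `7`-cycle
(small kernel computations, one per pair of images of `5, 6`). -/

namespace Cfsg.Agent.Lib.H16.AG

set_option maxRecDepth 100000 in
theorem part_10_5_2_4 : dfsN 6 268435456 69575440 [6, 7, 8, 9, 11, 12] = true := by
  decide +kernel

set_option maxRecDepth 100000 in
theorem part_10_5_2_6 : dfsN 6 268435456 103129872 [4, 7, 8, 9, 11, 12] = true := by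
  decide +kernel

set_option maxRecDepth 100000 in
theorem part_10_5_2_7 : dfsN 6 268435456 119907088 [4, 6, 8, 9, 11, 12] = true := by
  decide +kernel

set_option maxRecDepth 100000 in
theorem part_10_5_2_8 : dfsN 6 268435456 136684304 [4, 6, 7, 9, 11, 12] = true := by
  decide +kernel

set_option maxRecDepth 100000 in
theorem part_10_5_2_9 : dfsN 6 268435456 153461520 [4, 6, 7, 8, 11, 12] = true := by
  decide +kernel

set_option maxRecDepth 100000 in
theorem part_10_5_2_11 : dfsN 6 268435456 187015952 [4, 6, 7, 8, 9, 12] = true := by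
  decide +kernel

set_option maxRecDepth 100000 in
theorem part_10_5_2_12 : dfsN 6 268435456 203793168 [4, 6, 7, 8, 9, 11] = true := by
  decide +kernel

theorem part_10_5_2 : dfsN 7 16777216 2466576 [4, 6, 7, 8, 9, 11, 12] = true := by
  apply dfsN_step 6 16777216 2466576 [4, 6, 7, 8, 9, 11, 12]
  intro v hv
  simp only [List.mem_cons, List.not_mem_nil, or_false] at hv
  rcases hv with rfl | rfl | rfl | rfl | rfl | rfl | rfl
  exacts [part_10_5_2_4, part_10_5_2_6, part_10_5_2_7, part_10_5_2_8, part_10_5_2_9, part_10_5_2_11, part_10_5_2_12]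

set_option maxRecDepth 100000 in
theorem part_10_5_4_2 : dfsN 6 268435456 38118160 [6, 7, 8, 9, 11, 12] = true := by
  decide +kernel

set_option maxRecDepth 100000 in
theorem part_10_5_4_6 : dfsN 6 268435456 105227024 [2, 7, 8, 9, 11, 12] = true := by
  decide +kernel

set_option maxRecDepth 100000 in
theorem part_10_5_4_7 : dfsN 6 268435456 122004240 [2, 6, 8, 9, 11, 12] = true := by
  decide +kernel

set_option maxRecDepth 100000 in
theorem part_10_5_4_8 : dfsN 6 268435456 138781456 [2, 6, 7, 9, 11, 12] = true := by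
  decide +kernel

set_option maxRecDepth 100000 in
theorem part_10_5_4_9 : dfsN 6 268435456 155558672 [2, 6, 7, 8, 11, 12] = true := by
  decide +kernel

set_option maxRecDepth 100000 in
theorem part_10_5_4_11 : dfsN 6 268435456 189113104 [2, 6, 7, 8, 9, 12] = true := by
  decide +kernel

set_option maxRecDepth 100000 in
theorem part_10_5_4_12 : dfsN 6 268435456 205890320 [2, 6, 7, 8, 9, 11] = true := by
  decide +kernel

theorem part_10_5_4 : dfsN 7 16777216 4563728 [2, 6, 7, 8, 9, 11, 12] = true := by
  apply dfsN_step 6 16777216 4563728 [2, 6, 7, 8, 9, 11, 12]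
  intro v hv
  simp only [List.mem_cons, List.not_mem_nil, or_false] at hv
  rcases hv with rfl | rfl | rfl | rfl | rfl | rfl | rfl
  exacts [part_10_5_4_2, part_10_5_4_6, part_10_5_4_7, part_10_5_4_8, part_10_5_4_9, part_10_5_4_11, part_10_5_4_12]

set_option maxRecDepth 100000 in
theorem part_10_5_6_2 : dfsN 6 268435456 40215312 [4, 7, 8, 9, 11, 12] = true := by
  decide +kernel

set_option maxRecDepth 100000 in
theorem part_10_5_6_4 : dfsN 6 268435456 73769744 [2, 7, 8, 9, 11, 12] = true := by
  decide +kernel

set_option maxRecDepth 100000 in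
theorem part_10_5_6_7 : dfsN 6 268435456 124101392 [2, 4, 8, 9, 11, 12] = true := by
  decide +kernel

set_option maxRecDepth 100000 in
theorem part_10_5_6_8 : dfsN 6 268435456 140878608 [2, 4, 7, 9, 11, 12] = true := by
  decide +kernel

set_option maxRecDepth 100000 in
theorem part_10_5_6_9 : dfsN 6 268435456 157655824 [2, 4, 7, 8, 11, 12] = true := by
  decide +kernel

set_option maxRecDepth 100000 in
theorem part_10_5_6_11 : dfsN 6 268435456 191210256 [2, 4, 7, 8, 9, 12] = true := by
  decide +kernel

set_option maxRecDepth 100000 in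
theorem part_10_5_6_12 : dfsN 6 268435456 207987472 [2, 4, 7, 8, 9, 11] = true := by
  decide +kernel

theorem part_10_5_6 : dfsN 7 16777216 6660880 [2, 4, 7, 8, 9, 11, 12] = true := by
  apply dfsN_step 6 16777216 6660880 [2, 4, 7, 8, 9, 11, 12]
  intro v hv
  simp only [List.mem_cons, List.not_mem_nil, or_false] at hv
  rcases hv with rfl | rfl | rfl | rfl | rfl | rfl | rfl
  exacts [part_10_5_6_2, part_10_5_6_4, part_10_5_6_7, part_10_5_6_8, part_10_5_6_9, part_10_5_6_11, part_10_5_6_12]

set_option maxRecDepth 100000 in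
theorem part_10_5_7_2 : dfsN 6 268435456 41263888 [4, 6, 8, 9, 11, 12] = true := by
  decide +kernel

set_option maxRecDepth 100000 in
theorem part_10_5_7_4 : dfsN 6 268435456 74818320 [2, 6, 8, 9, 11, 12] = true := by
  decide +kernel

set_option maxRecDepth 100000 in
theorem part_10_5_7_6 : dfsN 6 268435456 108372752 [2, 4, 8, 9, 11, 12] = true := by
  decide +kernel

set_option maxRecDepth 100000 in
theorem part_10_5_7_8 : dfsN 6 268435456 141927184 [2, 4, 6, 9, 11, 12] = true := by
  decide +kernel

set_option maxRecDepth 100000 in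
theorem part_10_5_7_9 : dfsN 6 268435456 158704400 [2, 4, 6, 8, 11, 12] = true := by
  decide +kernel

set_option maxRecDepth 100000 in
theorem part_10_5_7_11 : dfsN 6 268435456 192258832 [2, 4, 6, 8, 9, 12] = true := by
  decide +kernel

set_option maxRecDepth 100000 in
theorem part_10_5_7_12 : dfsN 6 268435456 209036048 [2, 4, 6, 8, 9, 11] = true := by
  decide +kernel

theorem part_10_5_7 : dfsN 7 16777216 7709456 [2, 4, 6, 8, 9, 11, 12] = true := by
  apply dfsN_step 6 16777216 7709456 [2, 4, 6, 8, 9, 11, 12]
  intro v hv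
  simp only [List.mem_cons, List.not_mem_nil, or_false] at hv
  rcases hv with rfl | rfl | rfl | rfl | rfl | rfl | rfl
  exacts [part_10_5_7_2, part_10_5_7_4, part_10_5_7_6, part_10_5_7_8, part_10_5_7_9, part_10_5_7_11, part_10_5_7_12]

set_option maxRecDepth 100000 in
theorem part_10_5_8_2 : dfsN 6 268435456 42312464 [4, 6, 7, 9, 11, 12] = true := by
  decide +kernel

set_option maxRecDepth 100000 in
theorem part_10_5_8_4 : dfsN 6 268435456 75866896 [2, 6, 7, 9, 11, 12] = true := by
  decide +kernel

set_option maxRecDepth 100000 in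
theorem part_10_5_8_6 : dfsN 6 268435456 109421328 [2, 4, 7, 9, 11, 12] = true := by
  decide +kernel

set_option maxRecDepth 100000 in
theorem part_10_5_8_7 : dfsN 6 268435456 126198544 [2, 4, 6, 9, 11, 12] = true := by
  decide +kernel

set_option maxRecDepth 100000 in
theorem part_10_5_8_9 : dfsN 6 268435456 159752976 [2, 4, 6, 7, 11, 12] = true := by
  decide +kernel

set_option maxRecDepth 100000 in
theorem part_10_5_8_11 : dfsN 6 268435456 193307408 [2, 4, 6, 7, 9, 12] = true := by
  decide +kernel

set_option maxRecDepth 100000 in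
theorem part_10_5_8_12 : dfsN 6 268435456 210084624 [2, 4, 6, 7, 9, 11] = true := by
  decide +kernel

theorem part_10_5_8 : dfsN 7 16777216 8758032 [2, 4, 6, 7, 9, 11, 12] = true := by
  apply dfsN_step 6 16777216 8758032 [2, 4, 6, 7, 9, 11, 12]
  intro v hv
  simp only [List.mem_cons, List.not_mem_nil, or_false] at hv
  rcases hv with rfl | rfl | rfl | rfl | rfl | rfl | rfl
  exacts [part_10_5_8_2, part_10_5_8_4, part_10_5_8_6, part_10_5_8_7, part_10_5_8_9, part_10_5_8_11, part_10_5_8_12]

set_option maxRecDepth 100000 in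
theorem part_10_5_9_2 : dfsN 6 268435456 43361040 [4, 6, 7, 8, 11, 12] = true := by
  decide +kernel

set_option maxRecDepth 100000 in
theorem part_10_5_9_4 : dfsN 6 268435456 76915472 [2, 6, 7, 8, 11, 12] = true := by
  decide +kernel

set_option maxRecDepth 100000 in
theorem part_10_5_9_6 : dfsN 6 268435456 110469904 [2, 4, 7, 8, 11, 12] = true := by
  decide +kernel

set_option maxRecDepth 100000 in
theorem part_10_5_9_7 : dfsN 6 268435456 127247120 [2, 4, 6, 8, 11, 12] = true := by
  decide +kernel

set_option maxRecDepth 100000 in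
theorem part_10_5_9_8 : dfsN 6 268435456 144024336 [2, 4, 6, 7, 11, 12] = true := by
  decide +kernel

set_option maxRecDepth 100000 in
theorem part_10_5_9_11 : dfsN 6 268435456 194355984 [2, 4, 6, 7, 8, 12] = true := by
  decide +kernel

set_option maxRecDepth 100000 in
theorem part_10_5_9_12 : dfsN 6 268435456 211133200 [2, 4, 6, 7, 8, 11] = true := by
  decide +kernel

theorem part_10_5_9 : dfsN 7 16777216 9806608 [2, 4, 6, 7, 8, 11, 12] = true := by
  apply dfsN_step 6 16777216 9806608 [2, 4, 6, 7, 8, 11, 12]
  intro v hv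
  simp only [List.mem_cons, List.not_mem_nil, or_false] at hv
  rcases hv with rfl | rfl | rfl | rfl | rfl | rfl | rfl
  exacts [part_10_5_9_2, part_10_5_9_4, part_10_5_9_6, part_10_5_9_7, part_10_5_9_8, part_10_5_9_11, part_10_5_9_12]

set_option maxRecDepth 100000 in
theorem part_10_5_11_2 : dfsN 6 268435456 45458192 [4, 6, 7, 8, 9, 12] = true := by
  decide +kernel

set_option maxRecDepth 100000 in
theorem part_10_5_11_4 : dfsN 6 268435456 79012624 [2, 6, 7, 8, 9, 12] = true := by
  decide +kernel

set_option maxRecDepth 100000 in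
theorem part_10_5_11_6 : dfsN 6 268435456 112567056 [2, 4, 7, 8, 9, 12] = true := by
  decide +kernel

set_option maxRecDepth 100000 in
theorem part_10_5_11_7 : dfsN 6 268435456 129344272 [2, 4, 6, 8, 9, 12] = true := by
  decide +kernel

set_option maxRecDepth 100000 in
theorem part_10_5_11_8 : dfsN 6 268435456 146121488 [2, 4, 6, 7, 9, 12] = true := by
  decide +kernel

set_option maxRecDepth 100000 in
theorem part_10_5_11_9 : dfsN 6 268435456 162898704 [2, 4, 6, 7, 8, 12] = true := by
  decide +kernel

set_option maxRecDepth 100000 in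
theorem part_10_5_11_12 : dfsN 6 268435456 213230352 [2, 4, 6, 7, 8, 9] = true := by
  decide +kernel

theorem part_10_5_11 : dfsN 7 16777216 11903760 [2, 4, 6, 7, 8, 9, 12] = true := by
  apply dfsN_step 6 16777216 11903760 [2, 4, 6, 7, 8, 9, 12]
  intro v hv
  simp only [List.mem_cons, List.not_mem_nil, or_false] at hv
  rcases hv with rfl | rfl | rfl | rfl | rfl | rfl | rfl
  exacts [part_10_5_11_2, part_10_5_11_4, part_10_5_11_6, part_10_5_11_7, part_10_5_11_8, part_10_5_11_9, part_10_5_11_12]

set_option maxRecDepth 100000 in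
theorem part_10_5_12_2 : dfsN 6 268435456 46506768 [4, 6, 7, 8, 9, 11] = true := by
  decide +kernel

set_option maxRecDepth 100000 in
theorem part_10_5_12_4 : dfsN 6 268435456 80061200 [2, 6, 7, 8, 9, 11] = true := by
  decide +kernel

set_option maxRecDepth 100000 in
theorem part_10_5_12_6 : dfsN 6 268435456 113615632 [2, 4, 7, 8, 9, 11] = true := by
  decide +kernel

set_option maxRecDepth 100000 in
theorem part_10_5_12_7 : dfsN 6 268435456 130392848 [2, 4, 6, 8, 9, 11] = true := by
  decide +kernel

set_option maxRecDepth 100000 in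
theorem part_10_5_12_8 : dfsN 6 268435456 147170064 [2, 4, 6, 7, 9, 11] = true := by
  decide +kernel

set_option maxRecDepth 100000 in
theorem part_10_5_12_9 : dfsN 6 268435456 163947280 [2, 4, 6, 7, 8, 11] = true := by
  decide +kernel

set_option maxRecDepth 100000 in
theorem part_10_5_12_11 : dfsN 6 268435456 197501712 [2, 4, 6, 7, 8, 9] = true := by
  decide +kernel

theorem part_10_5_12 : dfsN 7 16777216 12952336 [2, 4, 6, 7, 8, 9, 11] = true := by
  apply dfsN_step 6 16777216 12952336 [2, 4, 6, 7, 8, 9, 11]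
  intro v hv
  simp only [List.mem_cons, List.not_mem_nil, or_false] at hv
  rcases hv with rfl | rfl | rfl | rfl | rfl | rfl | rfl
  exacts [part_10_5_12_2, part_10_5_12_4, part_10_5_12_6, part_10_5_12_7, part_10_5_12_8, part_10_5_12_9, part_10_5_12_11]

theorem part_10_5 : dfsN 8 1048576 369424 [2, 4, 6, 7, 8, 9, 11, 12] = true := by
  apply dfsN_step 7 1048576 369424 [2, 4, 6, 7, 8, 9, 11, 12]
  intro v hv
  simp only [List.mem_cons, List.not_mem_nil, or_false] at hv
  rcases hv with rfl | rfl | rfl | rfl | rfl | rfl | rfl | rfl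
  exacts [part_10_5_2, part_10_5_4, part_10_5_6, part_10_5_7, part_10_5_8, part_10_5_9, part_10_5_11, part_10_5_12]

end Cfsg.Agent.Lib.H16.AG
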