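import Cfsg.Agent.Lib.H16.AG.Step

set_option autoImplicit false

/-! Degree 13, images `0, 1, 3, 10, 6` of `0, 1, 2, 3, 4` fixed: every completion that is an
`11`-cycle has a word `(x ^ b * y ^ a) ^ k` which is a `3`-, `5`- or `7`-cycle
(small kernel computations, one per pair of images of `5, 6`). -/

namespace Cfsg.Agent.Lib.H16.AG

set_option maxRecDepth 100000 in
theorem part_10_6_2_4 : dfsN 6 268435456 69640976 [5, 7, 8, 9, 11, 12] = true := by
  decide +kernel

set_option maxRecDepth 100000 in
theorem part_10_6_2_5 : dfsN 6 268435456 86418192 [4, 7, 8, 9, 11, 12] = true := by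
  decide +kernel

set_option maxRecDepth 100000 in
theorem part_10_6_2_7 : dfsN 6 268435456 119972624 [4, 5, 8, 9, 11, 12] = true := by
  decide +kernel

set_option maxRecDepth 100000 in
theorem part_10_6_2_8 : dfsN 6 268435456 136749840 [4, 5, 7, 9, 11, 12] = true := by
  decide +kernel

set_option maxRecDepth 100000 in
theorem part_10_6_2_9 : dfsN 6 268435456 153527056 [4, 5, 7, 8, 11, 12] = true := by
  decide +kernel

set_option maxRecDepth 100000 in
theorem part_10_6_2_11 : dfsN 6 268435456 187081488 [4, 5, 7, 8, 9, 12] = true := by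
  decide +kernel

set_option maxRecDepth 100000 in
theorem part_10_6_2_12 : dfsN 6 268435456 203858704 [4, 5, 7, 8, 9, 11] = true := by
  decide +kernel

theorem part_10_6_2 : dfsN 7 16777216 2532112 [4, 5, 7, 8, 9, 11, 12] = true := by
  apply dfsN_step 6 16777216 2532112 [4, 5, 7, 8, 9, 11, 12]
  intro v hv
  simp only [List.mem_cons, List.not_mem_nil, or_false] at hv
  rcases hv with rfl | rfl | rfl | rfl | rfl | rfl | rfl
  exacts [part_10_6_2_4, part_10_6_2_5, part_10_6_2_7, part_10_6_2_8, part_10_6_2_9, part_10_6_2_11, part_10_6_2_12]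

set_option maxRecDepth 100000 in
theorem part_10_6_4_2 : dfsN 6 268435456 38183696 [5, 7, 8, 9, 11, 12] = true := by
  decide +kernel

set_option maxRecDepth 100000 in
theorem part_10_6_4_5 : dfsN 6 268435456 88515344 [2, 7, 8, 9, 11, 12] = true := by
  decide +kernel

set_option maxRecDepth 100000 in
theorem part_10_6_4_7 : dfsN 6 268435456 122069776 [2, 5, 8, 9, 11, 12] = true := by
  decide +kernel

set_option maxRecDepth 100000 in
theorem part_10_6_4_8 : dfsN 6 268435456 138846992 [2, 5, 7, 9, 11, 12] = true := by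
  decide +kernel

set_option maxRecDepth 100000 in
theorem part_10_6_4_9 : dfsN 6 268435456 155624208 [2, 5, 7, 8, 11, 12] = true := by
  decide +kernel

set_option maxRecDepth 100000 in
theorem part_10_6_4_11 : dfsN 6 268435456 189178640 [2, 5, 7, 8, 9, 12] = true := by
  decide +kernel

set_option maxRecDepth 100000 in
theorem part_10_6_4_12 : dfsN 6 268435456 205955856 [2, 5, 7, 8, 9, 11] = true := by
  decide +kernel

theorem part_10_6_4 : dfsN 7 16777216 4629264 [2, 5, 7, 8, 9, 11, 12] = true := by
  apply dfsN_step 6 16777216 4629264 [2, 5, 7, 8, 9, 11, 12]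
  intro v hv
  simp only [List.mem_cons, List.not_mem_nil, or_false] at hv
  rcases hv with rfl | rfl | rfl | rfl | rfl | rfl | rfl
  exacts [part_10_6_4_2, part_10_6_4_5, part_10_6_4_7, part_10_6_4_8, part_10_6_4_9, part_10_6_4_11, part_10_6_4_12]

set_option maxRecDepth 100000 in
theorem part_10_6_5_2 : dfsN 6 268435456 39232272 [4, 7, 8, 9, 11, 12] = true := by
  decide +kernel

set_option maxRecDepth 100000 in
theorem part_10_6_5_4 : dfsN 6 268435456 72786704 [2, 7, 8, 9, 11, 12] = true := by
  decide +kernel

set_option maxRecDepth 100000 in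
theorem part_10_6_5_7 : dfsN 6 268435456 123118352 [2, 4, 8, 9, 11, 12] = true := by
  decide +kernel

set_option maxRecDepth 100000 in
theorem part_10_6_5_8 : dfsN 6 268435456 139895568 [2, 4, 7, 9, 11, 12] = true := by
  decide +kernel

set_option maxRecDepth 100000 in
theorem part_10_6_5_9 : dfsN 6 268435456 156672784 [2, 4, 7, 8, 11, 12] = true := by
  decide +kernel

set_option maxRecDepth 100000 in
theorem part_10_6_5_11 : dfsN 6 268435456 190227216 [2, 4, 7, 8, 9, 12] = true := by
  decide +kernel

set_option maxRecDepth 100000 in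
theorem part_10_6_5_12 : dfsN 6 268435456 207004432 [2, 4, 7, 8, 9, 11] = true := by
  decide +kernel

theorem part_10_6_5 : dfsN 7 16777216 5677840 [2, 4, 7, 8, 9, 11, 12] = true := by
  apply dfsN_step 6 16777216 5677840 [2, 4, 7, 8, 9, 11, 12]
  intro v hv
  simp only [List.mem_cons, List.not_mem_nil, or_false] at hv
  rcases hv with rfl | rfl | rfl | rfl | rfl | rfl | rfl
  exacts [part_10_6_5_2, part_10_6_5_4, part_10_6_5_7, part_10_6_5_8, part_10_6_5_9, part_10_6_5_11, part_10_6_5_12]

set_option maxRecDepth 100000 in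
theorem part_10_6_7_2 : dfsN 6 268435456 41329424 [4, 5, 8, 9, 11, 12] = true := by
  decide +kernel

set_option maxRecDepth 100000 in
theorem part_10_6_7_4 : dfsN 6 268435456 74883856 [2, 5, 8, 9, 11, 12] = true := by
  decide +kernel

set_option maxRecDepth 100000 in
theorem part_10_6_7_5 : dfsN 6 268435456 91661072 [2, 4, 8, 9, 11, 12] = true := by
  decide +kernel

set_option maxRecDepth 100000 in
theorem part_10_6_7_8 : dfsN 6 268435456 141992720 [2, 4, 5, 9, 11, 12] = true := by
  decide +kernel

set_option maxRecDepth 100000 in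
theorem part_10_6_7_9 : dfsN 6 268435456 158769936 [2, 4, 5, 8, 11, 12] = true := by
  decide +kernel

set_option maxRecDepth 100000 in
theorem part_10_6_7_11 : dfsN 6 268435456 192324368 [2, 4, 5, 8, 9, 12] = true := by
  decide +kernel

set_option maxRecDepth 100000 in
theorem part_10_6_7_12 : dfsN 6 268435456 209101584 [2, 4, 5, 8, 9, 11] = true := by
  decide +kernel

theorem part_10_6_7 : dfsN 7 16777216 7774992 [2, 4, 5, 8, 9, 11, 12] = true := by
  apply dfsN_step 6 16777216 7774992 [2, 4, 5, 8, 9, 11, 12]
  intro v hv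
  simp only [List.mem_cons, List.not_mem_nil, or_false] at hv
  rcases hv with rfl | rfl | rfl | rfl | rfl | rfl | rfl
  exacts [part_10_6_7_2, part_10_6_7_4, part_10_6_7_5, part_10_6_7_8, part_10_6_7_9, part_10_6_7_11, part_10_6_7_12]

set_option maxRecDepth 100000 in
theorem part_10_6_8_2 : dfsN 6 268435456 42378000 [4, 5, 7, 9, 11, 12] = true := by
  decide +kernel

set_option maxRecDepth 100000 in
theorem part_10_6_8_4 : dfsN 6 268435456 75932432 [2, 5, 7, 9, 11, 12] = true := by
  decide +kernel

set_option maxRecDepth 100000 in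
theorem part_10_6_8_5 : dfsN 6 268435456 92709648 [2, 4, 7, 9, 11, 12] = true := by
  decide +kernel

set_option maxRecDepth 100000 in
theorem part_10_6_8_7 : dfsN 6 268435456 126264080 [2, 4, 5, 9, 11, 12] = true := by
  decide +kernel

set_option maxRecDepth 100000 in
theorem part_10_6_8_9 : dfsN 6 268435456 159818512 [2, 4, 5, 7, 11, 12] = true := by
  decide +kernel

set_option maxRecDepth 100000 in
theorem part_10_6_8_11 : dfsN 6 268435456 193372944 [2, 4, 5, 7, 9, 12] = true := by
  decide +kernel

set_option maxRecDepth 100000 in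
theorem part_10_6_8_12 : dfsN 6 268435456 210150160 [2, 4, 5, 7, 9, 11] = true := by
  decide +kernel

theorem part_10_6_8 : dfsN 7 16777216 8823568 [2, 4, 5, 7, 9, 11, 12] = true := by
  apply dfsN_step 6 16777216 8823568 [2, 4, 5, 7, 9, 11, 12]
  intro v hv
  simp only [List.mem_cons, List.not_mem_nil, or_false] at hv
  rcases hv with rfl | rfl | rfl | rfl | rfl | rfl | rfl
  exacts [part_10_6_8_2, part_10_6_8_4, part_10_6_8_5, part_10_6_8_7, part_10_6_8_9, part_10_6_8_11, part_10_6_8_12]

set_option maxRecDepth 100000 in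
theorem part_10_6_9_2 : dfsN 6 268435456 43426576 [4, 5, 7, 8, 11, 12] = true := by
  decide +kernel

set_option maxRecDepth 100000 in
theorem part_10_6_9_4 : dfsN 6 268435456 76981008 [2, 5, 7, 8, 11, 12] = true := by
  decide +kernel

set_option maxRecDepth 100000 in
theorem part_10_6_9_5 : dfsN 6 268435456 93758224 [2, 4, 7, 8, 11, 12] = true := by
  decide +kernel

set_option maxRecDepth 100000 in
theorem part_10_6_9_7 : dfsN 6 268435456 127312656 [2, 4, 5, 8, 11, 12] = true := by
  decide +kernel

set_option maxRecDepth 100000 in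
theorem part_10_6_9_8 : dfsN 6 268435456 144089872 [2, 4, 5, 7, 11, 12] = true := by
  decide +kernel

set_option maxRecDepth 100000 in
theorem part_10_6_9_11 : dfsN 6 268435456 194421520 [2, 4, 5, 7, 8, 12] = true := by
  decide +kernel

set_option maxRecDepth 100000 in
theorem part_10_6_9_12 : dfsN 6 268435456 211198736 [2, 4, 5, 7, 8, 11] = true := by
  decide +kernel

theorem part_10_6_9 : dfsN 7 16777216 9872144 [2, 4, 5, 7, 8, 11, 12] = true := by
  apply dfsN_step 6 16777216 9872144 [2, 4, 5, 7, 8, 11, 12]
  intro v hv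
  simp only [List.mem_cons, List.not_mem_nil, or_false] at hv
  rcases hv with rfl | rfl | rfl | rfl | rfl | rfl | rfl
  exacts [part_10_6_9_2, part_10_6_9_4, part_10_6_9_5, part_10_6_9_7, part_10_6_9_8, part_10_6_9_11, part_10_6_9_12]

set_option maxRecDepth 100000 in
theorem part_10_6_11_2 : dfsN 6 268435456 45523728 [4, 5, 7, 8, 9, 12] = true := by
  decide +kernel

set_option maxRecDepth 100000 in
theorem part_10_6_11_4 : dfsN 6 268435456 79078160 [2, 5, 7, 8, 9, 12] = true := by
  decide +kernel

set_option maxRecDepth 100000 in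
theorem part_10_6_11_5 : dfsN 6 268435456 95855376 [2, 4, 7, 8, 9, 12] = true := by
  decide +kernel

set_option maxRecDepth 100000 in
theorem part_10_6_11_7 : dfsN 6 268435456 129409808 [2, 4, 5, 8, 9, 12] = true := by
  decide +kernel

set_option maxRecDepth 100000 in
theorem part_10_6_11_8 : dfsN 6 268435456 146187024 [2, 4, 5, 7, 9, 12] = true := by
  decide +kernel

set_option maxRecDepth 100000 in
theorem part_10_6_11_9 : dfsN 6 268435456 162964240 [2, 4, 5, 7, 8, 12] = true := by
  decide +kernel

set_option maxRecDepth 100000 in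
theorem part_10_6_11_12 : dfsN 6 268435456 213295888 [2, 4, 5, 7, 8, 9] = true := by
  decide +kernel

theorem part_10_6_11 : dfsN 7 16777216 11969296 [2, 4, 5, 7, 8, 9, 12] = true := by
  apply dfsN_step 6 16777216 11969296 [2, 4, 5, 7, 8, 9, 12]
  intro v hv
  simp only [List.mem_cons, List.not_mem_nil, or_false] at hv
  rcases hv with rfl | rfl | rfl | rfl | rfl | rfl | rfl
  exacts [part_10_6_11_2, part_10_6_11_4, part_10_6_11_5, part_10_6_11_7, part_10_6_11_8, part_10_6_11_9, part_10_6_11_12]

set_option maxRecDepth 100000 in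
theorem part_10_6_12_2 : dfsN 6 268435456 46572304 [4, 5, 7, 8, 9, 11] = true := by
  decide +kernel

set_option maxRecDepth 100000 in
theorem part_10_6_12_4 : dfsN 6 268435456 80126736 [2, 5, 7, 8, 9, 11] = true := by
  decide +kernel

set_option maxRecDepth 100000 in
theorem part_10_6_12_5 : dfsN 6 268435456 96903952 [2, 4, 7, 8, 9, 11] = true := by
  decide +kernel

set_option maxRecDepth 100000 in
theorem part_10_6_12_7 : dfsN 6 268435456 130458384 [2, 4, 5, 8, 9, 11] = true := by
  decide +kernel

set_option maxRecDepth 100000 in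
theorem part_10_6_12_8 : dfsN 6 268435456 147235600 [2, 4, 5, 7, 9, 11] = true := by
  decide +kernel

set_option maxRecDepth 100000 in
theorem part_10_6_12_9 : dfsN 6 268435456 164012816 [2, 4, 5, 7, 8, 11] = true := by
  decide +kernel

set_option maxRecDepth 100000 in
theorem part_10_6_12_11 : dfsN 6 268435456 197567248 [2, 4, 5, 7, 8, 9] = true := by
  decide +kernel

theorem part_10_6_12 : dfsN 7 16777216 13017872 [2, 4, 5, 7, 8, 9, 11] = true := by
  apply dfsN_step 6 16777216 13017872 [2, 4, 5, 7, 8, 9, 11]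
  intro v hv
  simp only [List.mem_cons, List.not_mem_nil, or_false] at hv
  rcases hv with rfl | rfl | rfl | rfl | rfl | rfl | rfl
  exacts [part_10_6_12_2, part_10_6_12_4, part_10_6_12_5, part_10_6_12_7, part_10_6_12_8, part_10_6_12_9, part_10_6_12_11]

theorem part_10_6 : dfsN 8 1048576 434960 [2, 4, 5, 7, 8, 9, 11, 12] = true := by
  apply dfsN_step 7 1048576 434960 [2, 4, 5, 7, 8, 9, 11, 12]
  intro v hv
  simp only [List.mem_cons, List.not_mem_nil, or_false] at hv
  rcases hv with rfl | rfl | rfl | rfl | rfl | rfl | rfl | rfl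
  exacts [part_10_6_2, part_10_6_4, part_10_6_5, part_10_6_7, part_10_6_8, part_10_6_9, part_10_6_11, part_10_6_12]

end Cfsg.Agent.Lib.H16.AG
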