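import Cfsg.Agent.Lib.H16.AG.Step

set_option autoImplicit false

/-! Degree 13, images `0, 1, 3, 10, 7` of `0, 1, 2, 3, 4` fixed: every completion that is an
`11`-cycle has a word `(x ^ b * y ^ a) ^ k` which is a `3`-, `5`- or `7`-cycle
(small kernel computations, one per pair of images of `5, 6`). -/

namespace Cfsg.Agent.Lib.H16.AG

set_option maxRecDepth 100000 in
theorem part_10_7_2_4 : dfsN 6 268435456 69706512 [5, 6, 8, 9, 11, 12] = true := by
  decide +kernel

set_option maxRecDepth 100000 in
theorem part_10_7_2_5 : dfsN 6 268435456 86483728 [4, 6, 8, 9, 11, 12] = true := by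
  decide +kernel

set_option maxRecDepth 100000 in
theorem part_10_7_2_6 : dfsN 6 268435456 103260944 [4, 5, 8, 9, 11, 12] = true := by
  decide +kernel

set_option maxRecDepth 100000 in
theorem part_10_7_2_8 : dfsN 6 268435456 136815376 [4, 5, 6, 9, 11, 12] = true := by
  decide +kernel

set_option maxRecDepth 100000 in
theorem part_10_7_2_9 : dfsN 6 268435456 153592592 [4, 5, 6, 8, 11, 12] = true := by
  decide +kernel

set_option maxRecDepth 100000 in
theorem part_10_7_2_11 : dfsN 6 268435456 187147024 [4, 5, 6, 8, 9, 12] = true := by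
  decide +kernel

set_option maxRecDepth 100000 in
theorem part_10_7_2_12 : dfsN 6 268435456 203924240 [4, 5, 6, 8, 9, 11] = true := by
  decide +kernel

theorem part_10_7_2 : dfsN 7 16777216 2597648 [4, 5, 6, 8, 9, 11, 12] = true := by
  apply dfsN_step 6 16777216 2597648 [4, 5, 6, 8, 9, 11, 12]
  intro v hv
  simp only [List.mem_cons, List.not_mem_nil, or_false] at hv
  rcases hv with rfl | rfl | rfl | rfl | rfl | rfl | rfl
  exacts [part_10_7_2_4, part_10_7_2_5, part_10_7_2_6, part_10_7_2_8, part_10_7_2_9, part_10_7_2_11, part_10_7_2_12]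

set_option maxRecDepth 100000 in
theorem part_10_7_4_2 : dfsN 6 268435456 38249232 [5, 6, 8, 9, 11, 12] = true := by
  decide +kernel

set_option maxRecDepth 100000 in
theorem part_10_7_4_5 : dfsN 6 268435456 88580880 [2, 6, 8, 9, 11, 12] = true := by
  decide +kernel

set_option maxRecDepth 100000 in
theorem part_10_7_4_6 : dfsN 6 268435456 105358096 [2, 5, 8, 9, 11, 12] = true := by
  decide +kernel

set_option maxRecDepth 100000 in
theorem part_10_7_4_8 : dfsN 6 268435456 138912528 [2, 5, 6, 9, 11, 12] = true := by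
  decide +kernel

set_option maxRecDepth 100000 in
theorem part_10_7_4_9 : dfsN 6 268435456 155689744 [2, 5, 6, 8, 11, 12] = true := by
  decide +kernel

set_option maxRecDepth 100000 in
theorem part_10_7_4_11 : dfsN 6 268435456 189244176 [2, 5, 6, 8, 9, 12] = true := by
  decide +kernel

set_option maxRecDepth 100000 in
theorem part_10_7_4_12 : dfsN 6 268435456 206021392 [2, 5, 6, 8, 9, 11] = true := by
  decide +kernel

theorem part_10_7_4 : dfsN 7 16777216 4694800 [2, 5, 6, 8, 9, 11, 12] = true := by
  apply dfsN_step 6 16777216 4694800 [2, 5, 6, 8, 9, 11, 12]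
  intro v hv
  simp only [List.mem_cons, List.not_mem_nil, or_false] at hv
  rcases hv with rfl | rfl | rfl | rfl | rfl | rfl | rfl
  exacts [part_10_7_4_2, part_10_7_4_5, part_10_7_4_6, part_10_7_4_8, part_10_7_4_9, part_10_7_4_11, part_10_7_4_12]

set_option maxRecDepth 100000 in
theorem part_10_7_5_2 : dfsN 6 268435456 39297808 [4, 6, 8, 9, 11, 12] = true := by
  decide +kernel

set_option maxRecDepth 100000 in
theorem part_10_7_5_4 : dfsN 6 268435456 72852240 [2, 6, 8, 9, 11, 12] = true := by
  decide +kernel

set_option maxRecDepth 100000 in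
theorem part_10_7_5_6 : dfsN 6 268435456 106406672 [2, 4, 8, 9, 11, 12] = true := by
  decide +kernel

set_option maxRecDepth 100000 in
theorem part_10_7_5_8 : dfsN 6 268435456 139961104 [2, 4, 6, 9, 11, 12] = true := by
  decide +kernel

set_option maxRecDepth 100000 in
theorem part_10_7_5_9 : dfsN 6 268435456 156738320 [2, 4, 6, 8, 11, 12] = true := by
  decide +kernel

set_option maxRecDepth 100000 in
theorem part_10_7_5_11 : dfsN 6 268435456 190292752 [2, 4, 6, 8, 9, 12] = true := by
  decide +kernel

set_option maxRecDepth 100000 in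
theorem part_10_7_5_12 : dfsN 6 268435456 207069968 [2, 4, 6, 8, 9, 11] = true := by
  decide +kernel

theorem part_10_7_5 : dfsN 7 16777216 5743376 [2, 4, 6, 8, 9, 11, 12] = true := by
  apply dfsN_step 6 16777216 5743376 [2, 4, 6, 8, 9, 11, 12]
  intro v hv
  simp only [List.mem_cons, List.not_mem_nil, or_false] at hv
  rcases hv with rfl | rfl | rfl | rfl | rfl | rfl | rfl
  exacts [part_10_7_5_2, part_10_7_5_4, part_10_7_5_6, part_10_7_5_8, part_10_7_5_9, part_10_7_5_11, part_10_7_5_12]

set_option maxRecDepth 100000 in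
theorem part_10_7_6_2 : dfsN 6 268435456 40346384 [4, 5, 8, 9, 11, 12] = true := by
  decide +kernel

set_option maxRecDepth 100000 in
theorem part_10_7_6_4 : dfsN 6 268435456 73900816 [2, 5, 8, 9, 11, 12] = true := by
  decide +kernel

set_option maxRecDepth 100000 in
theorem part_10_7_6_5 : dfsN 6 268435456 90678032 [2, 4, 8, 9, 11, 12] = true := by
  decide +kernel

set_option maxRecDepth 100000 in
theorem part_10_7_6_8 : dfsN 6 268435456 141009680 [2, 4, 5, 9, 11, 12] = true := by
  decide +kernel

set_option maxRecDepth 100000 in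
theorem part_10_7_6_9 : dfsN 6 268435456 157786896 [2, 4, 5, 8, 11, 12] = true := by
  decide +kernel

set_option maxRecDepth 100000 in
theorem part_10_7_6_11 : dfsN 6 268435456 191341328 [2, 4, 5, 8, 9, 12] = true := by
  decide +kernel

set_option maxRecDepth 100000 in
theorem part_10_7_6_12 : dfsN 6 268435456 208118544 [2, 4, 5, 8, 9, 11] = true := by
  decide +kernel

theorem part_10_7_6 : dfsN 7 16777216 6791952 [2, 4, 5, 8, 9, 11, 12] = true := by
  apply dfsN_step 6 16777216 6791952 [2, 4, 5, 8, 9, 11, 12]
  intro v hv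
  simp only [List.mem_cons, List.not_mem_nil, or_false] at hv
  rcases hv with rfl | rfl | rfl | rfl | rfl | rfl | rfl
  exacts [part_10_7_6_2, part_10_7_6_4, part_10_7_6_5, part_10_7_6_8, part_10_7_6_9, part_10_7_6_11, part_10_7_6_12]

set_option maxRecDepth 100000 in
theorem part_10_7_8_2 : dfsN 6 268435456 42443536 [4, 5, 6, 9, 11, 12] = true := by
  decide +kernel

set_option maxRecDepth 100000 in
theorem part_10_7_8_4 : dfsN 6 268435456 75997968 [2, 5, 6, 9, 11, 12] = true := by
  decide +kernel

set_option maxRecDepth 100000 in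
theorem part_10_7_8_5 : dfsN 6 268435456 92775184 [2, 4, 6, 9, 11, 12] = true := by
  decide +kernel

set_option maxRecDepth 100000 in
theorem part_10_7_8_6 : dfsN 6 268435456 109552400 [2, 4, 5, 9, 11, 12] = true := by
  decide +kernel

set_option maxRecDepth 100000 in
theorem part_10_7_8_9 : dfsN 6 268435456 159884048 [2, 4, 5, 6, 11, 12] = true := by
  decide +kernel

set_option maxRecDepth 100000 in
theorem part_10_7_8_11 : dfsN 6 268435456 193438480 [2, 4, 5, 6, 9, 12] = true := by
  decide +kernel

set_option maxRecDepth 100000 in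
theorem part_10_7_8_12 : dfsN 6 268435456 210215696 [2, 4, 5, 6, 9, 11] = true := by
  decide +kernel

theorem part_10_7_8 : dfsN 7 16777216 8889104 [2, 4, 5, 6, 9, 11, 12] = true := by
  apply dfsN_step 6 16777216 8889104 [2, 4, 5, 6, 9, 11, 12]
  intro v hv
  simp only [List.mem_cons, List.not_mem_nil, or_false] at hv
  rcases hv with rfl | rfl | rfl | rfl | rfl | rfl | rfl
  exacts [part_10_7_8_2, part_10_7_8_4, part_10_7_8_5, part_10_7_8_6, part_10_7_8_9, part_10_7_8_11, part_10_7_8_12]

set_option maxRecDepth 100000 in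
theorem part_10_7_9_2 : dfsN 6 268435456 43492112 [4, 5, 6, 8, 11, 12] = true := by
  decide +kernel

set_option maxRecDepth 100000 in
theorem part_10_7_9_4 : dfsN 6 268435456 77046544 [2, 5, 6, 8, 11, 12] = true := by
  decide +kernel

set_option maxRecDepth 100000 in
theorem part_10_7_9_5 : dfsN 6 268435456 93823760 [2, 4, 6, 8, 11, 12] = true := by
  decide +kernel

set_option maxRecDepth 100000 in
theorem part_10_7_9_6 : dfsN 6 268435456 110600976 [2, 4, 5, 8, 11, 12] = true := by
  decide +kernel

set_option maxRecDepth 100000 in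
theorem part_10_7_9_8 : dfsN 6 268435456 144155408 [2, 4, 5, 6, 11, 12] = true := by
  decide +kernel

set_option maxRecDepth 100000 in
theorem part_10_7_9_11 : dfsN 6 268435456 194487056 [2, 4, 5, 6, 8, 12] = true := by
  decide +kernel

set_option maxRecDepth 100000 in
theorem part_10_7_9_12 : dfsN 6 268435456 211264272 [2, 4, 5, 6, 8, 11] = true := by
  decide +kernel

theorem part_10_7_9 : dfsN 7 16777216 9937680 [2, 4, 5, 6, 8, 11, 12] = true := by
  apply dfsN_step 6 16777216 9937680 [2, 4, 5, 6, 8, 11, 12]
  intro v hv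
  simp only [List.mem_cons, List.not_mem_nil, or_false] at hv
  rcases hv with rfl | rfl | rfl | rfl | rfl | rfl | rfl
  exacts [part_10_7_9_2, part_10_7_9_4, part_10_7_9_5, part_10_7_9_6, part_10_7_9_8, part_10_7_9_11, part_10_7_9_12]

set_option maxRecDepth 100000 in
theorem part_10_7_11_2 : dfsN 6 268435456 45589264 [4, 5, 6, 8, 9, 12] = true := by
  decide +kernel

set_option maxRecDepth 100000 in
theorem part_10_7_11_4 : dfsN 6 268435456 79143696 [2, 5, 6, 8, 9, 12] = true := by
  decide +kernel

set_option maxRecDepth 100000 in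
theorem part_10_7_11_5 : dfsN 6 268435456 95920912 [2, 4, 6, 8, 9, 12] = true := by
  decide +kernel

set_option maxRecDepth 100000 in
theorem part_10_7_11_6 : dfsN 6 268435456 112698128 [2, 4, 5, 8, 9, 12] = true := by
  decide +kernel

set_option maxRecDepth 100000 in
theorem part_10_7_11_8 : dfsN 6 268435456 146252560 [2, 4, 5, 6, 9, 12] = true := by
  decide +kernel

set_option maxRecDepth 100000 in
theorem part_10_7_11_9 : dfsN 6 268435456 163029776 [2, 4, 5, 6, 8, 12] = true := by
  decide +kernel

set_option maxRecDepth 100000 in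
theorem part_10_7_11_12 : dfsN 6 268435456 213361424 [2, 4, 5, 6, 8, 9] = true := by
  decide +kernel

theorem part_10_7_11 : dfsN 7 16777216 12034832 [2, 4, 5, 6, 8, 9, 12] = true := by
  apply dfsN_step 6 16777216 12034832 [2, 4, 5, 6, 8, 9, 12]
  intro v hv
  simp only [List.mem_cons, List.not_mem_nil, or_false] at hv
  rcases hv with rfl | rfl | rfl | rfl | rfl | rfl | rfl
  exacts [part_10_7_11_2, part_10_7_11_4, part_10_7_11_5, part_10_7_11_6, part_10_7_11_8, part_10_7_11_9, part_10_7_11_12]

set_option maxRecDepth 100000 in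
theorem part_10_7_12_2 : dfsN 6 268435456 46637840 [4, 5, 6, 8, 9, 11] = true := by
  decide +kernel

set_option maxRecDepth 100000 in
theorem part_10_7_12_4 : dfsN 6 268435456 80192272 [2, 5, 6, 8, 9, 11] = true := by
  decide +kernel

set_option maxRecDepth 100000 in
theorem part_10_7_12_5 : dfsN 6 268435456 96969488 [2, 4, 6, 8, 9, 11] = true := by
  decide +kernel

set_option maxRecDepth 100000 in
theorem part_10_7_12_6 : dfsN 6 268435456 113746704 [2, 4, 5, 8, 9, 11] = true := by
  decide +kernel

set_option maxRecDepth 100000 in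
theorem part_10_7_12_8 : dfsN 6 268435456 147301136 [2, 4, 5, 6, 9, 11] = true := by
  decide +kernel

set_option maxRecDepth 100000 in
theorem part_10_7_12_9 : dfsN 6 268435456 164078352 [2, 4, 5, 6, 8, 11] = true := by
  decide +kernel

set_option maxRecDepth 100000 in
theorem part_10_7_12_11 : dfsN 6 268435456 197632784 [2, 4, 5, 6, 8, 9] = true := by
  decide +kernel

theorem part_10_7_12 : dfsN 7 16777216 13083408 [2, 4, 5, 6, 8, 9, 11] = true := by
  apply dfsN_step 6 16777216 13083408 [2, 4, 5, 6, 8, 9, 11]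
  intro v hv
  simp only [List.mem_cons, List.not_mem_nil, or_false] at hv
  rcases hv with rfl | rfl | rfl | rfl | rfl | rfl | rfl
  exacts [part_10_7_12_2, part_10_7_12_4, part_10_7_12_5, part_10_7_12_6, part_10_7_12_8, part_10_7_12_9, part_10_7_12_11]

theorem part_10_7 : dfsN 8 1048576 500496 [2, 4, 5, 6, 8, 9, 11, 12] = true := by
  apply dfsN_step 7 1048576 500496 [2, 4, 5, 6, 8, 9, 11, 12]
  intro v hv
  simp only [List.mem_cons, List.not_mem_nil, or_false] at hv
  rcases hv with rfl | rfl | rfl | rfl | rfl | rfl | rfl | rfl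
  exacts [part_10_7_2, part_10_7_4, part_10_7_5, part_10_7_6, part_10_7_8, part_10_7_9, part_10_7_11, part_10_7_12]

end Cfsg.Agent.Lib.H16.AG
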