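import Cfsg.Agent.Lib.H16.AG.Step

set_option autoImplicit false

/-! Degree 13, images `0, 1, 3, 10, 8` of `0, 1, 2, 3, 4` fixed: every completion that is an
`11`-cycle has a word `(x ^ b * y ^ a) ^ k` which is a `3`-, `5`- or `7`-cycle
(small kernel computations, one per pair of images of `5, 6`). -/

namespace Cfsg.Agent.Lib.H16.AG

set_option maxRecDepth 100000 in
theorem part_10_8_2_4 : dfsN 6 268435456 69772048 [5, 6, 7, 9, 11, 12] = true := by
  decide +kernel

set_option maxRecDepth 100000 in
theorem part_10_8_2_5 : dfsN 6 268435456 86549264 [4, 6, 7, 9, 11, 12] = true := by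
  decide +kernel

set_option maxRecDepth 100000 in
theorem part_10_8_2_6 : dfsN 6 268435456 103326480 [4, 5, 7, 9, 11, 12] = true := by
  decide +kernel

set_option maxRecDepth 100000 in
theorem part_10_8_2_7 : dfsN 6 268435456 120103696 [4, 5, 6, 9, 11, 12] = true := by
  decide +kernel

set_option maxRecDepth 100000 in
theorem part_10_8_2_9 : dfsN 6 268435456 153658128 [4, 5, 6, 7, 11, 12] = true := by
  decide +kernel

set_option maxRecDepth 100000 in
theorem part_10_8_2_11 : dfsN 6 268435456 187212560 [4, 5, 6, 7, 9, 12] = true := by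
  decide +kernel

set_option maxRecDepth 100000 in
theorem part_10_8_2_12 : dfsN 6 268435456 203989776 [4, 5, 6, 7, 9, 11] = true := by
  decide +kernel

theorem part_10_8_2 : dfsN 7 16777216 2663184 [4, 5, 6, 7, 9, 11, 12] = true := by
  apply dfsN_step 6 16777216 2663184 [4, 5, 6, 7, 9, 11, 12]
  intro v hv
  simp only [List.mem_cons, List.not_mem_nil, or_false] at hv
  rcases hv with rfl | rfl | rfl | rfl | rfl | rfl | rfl
  exacts [part_10_8_2_4, part_10_8_2_5, part_10_8_2_6, part_10_8_2_7, part_10_8_2_9, part_10_8_2_11, part_10_8_2_12]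

set_option maxRecDepth 100000 in
theorem part_10_8_4_2 : dfsN 6 268435456 38314768 [5, 6, 7, 9, 11, 12] = true := by
  decide +kernel

set_option maxRecDepth 100000 in
theorem part_10_8_4_5 : dfsN 6 268435456 88646416 [2, 6, 7, 9, 11, 12] = true := by
  decide +kernel

set_option maxRecDepth 100000 in
theorem part_10_8_4_6 : dfsN 6 268435456 105423632 [2, 5, 7, 9, 11, 12] = true := by
  decide +kernel

set_option maxRecDepth 100000 in
theorem part_10_8_4_7 : dfsN 6 268435456 122200848 [2, 5, 6, 9, 11, 12] = true := by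
  decide +kernel

set_option maxRecDepth 100000 in
theorem part_10_8_4_9 : dfsN 6 268435456 155755280 [2, 5, 6, 7, 11, 12] = true := by
  decide +kernel

set_option maxRecDepth 100000 in
theorem part_10_8_4_11 : dfsN 6 268435456 189309712 [2, 5, 6, 7, 9, 12] = true := by
  decide +kernel

set_option maxRecDepth 100000 in
theorem part_10_8_4_12 : dfsN 6 268435456 206086928 [2, 5, 6, 7, 9, 11] = true := by
  decide +kernel

theorem part_10_8_4 : dfsN 7 16777216 4760336 [2, 5, 6, 7, 9, 11, 12] = true := by
  apply dfsN_step 6 16777216 4760336 [2, 5, 6, 7, 9, 11, 12]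
  intro v hv
  simp only [List.mem_cons, List.not_mem_nil, or_false] at hv
  rcases hv with rfl | rfl | rfl | rfl | rfl | rfl | rfl
  exacts [part_10_8_4_2, part_10_8_4_5, part_10_8_4_6, part_10_8_4_7, part_10_8_4_9, part_10_8_4_11, part_10_8_4_12]

set_option maxRecDepth 100000 in
theorem part_10_8_5_2 : dfsN 6 268435456 39363344 [4, 6, 7, 9, 11, 12] = true := by
  decide +kernel

set_option maxRecDepth 100000 in
theorem part_10_8_5_4 : dfsN 6 268435456 72917776 [2, 6, 7, 9, 11, 12] = true := by
  decide +kernel

set_option maxRecDepth 100000 in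
theorem part_10_8_5_6 : dfsN 6 268435456 106472208 [2, 4, 7, 9, 11, 12] = true := by
  decide +kernel

set_option maxRecDepth 100000 in
theorem part_10_8_5_7 : dfsN 6 268435456 123249424 [2, 4, 6, 9, 11, 12] = true := by
  decide +kernel

set_option maxRecDepth 100000 in
theorem part_10_8_5_9 : dfsN 6 268435456 156803856 [2, 4, 6, 7, 11, 12] = true := by
  decide +kernel

set_option maxRecDepth 100000 in
theorem part_10_8_5_11 : dfsN 6 268435456 190358288 [2, 4, 6, 7, 9, 12] = true := by
  decide +kernel

set_option maxRecDepth 100000 in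
theorem part_10_8_5_12 : dfsN 6 268435456 207135504 [2, 4, 6, 7, 9, 11] = true := by
  decide +kernel

theorem part_10_8_5 : dfsN 7 16777216 5808912 [2, 4, 6, 7, 9, 11, 12] = true := by
  apply dfsN_step 6 16777216 5808912 [2, 4, 6, 7, 9, 11, 12]
  intro v hv
  simp only [List.mem_cons, List.not_mem_nil, or_false] at hv
  rcases hv with rfl | rfl | rfl | rfl | rfl | rfl | rfl
  exacts [part_10_8_5_2, part_10_8_5_4, part_10_8_5_6, part_10_8_5_7, part_10_8_5_9, part_10_8_5_11, part_10_8_5_12]

set_option maxRecDepth 100000 in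
theorem part_10_8_6_2 : dfsN 6 268435456 40411920 [4, 5, 7, 9, 11, 12] = true := by
  decide +kernel

set_option maxRecDepth 100000 in
theorem part_10_8_6_4 : dfsN 6 268435456 73966352 [2, 5, 7, 9, 11, 12] = true := by
  decide +kernel

set_option maxRecDepth 100000 in
theorem part_10_8_6_5 : dfsN 6 268435456 90743568 [2, 4, 7, 9, 11, 12] = true := by
  decide +kernel

set_option maxRecDepth 100000 in
theorem part_10_8_6_7 : dfsN 6 268435456 124298000 [2, 4, 5, 9, 11, 12] = true := by
  decide +kernel

set_option maxRecDepth 100000 in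
theorem part_10_8_6_9 : dfsN 6 268435456 157852432 [2, 4, 5, 7, 11, 12] = true := by
  decide +kernel

set_option maxRecDepth 100000 in
theorem part_10_8_6_11 : dfsN 6 268435456 191406864 [2, 4, 5, 7, 9, 12] = true := by
  decide +kernel

set_option maxRecDepth 100000 in
theorem part_10_8_6_12 : dfsN 6 268435456 208184080 [2, 4, 5, 7, 9, 11] = true := by
  decide +kernel

theorem part_10_8_6 : dfsN 7 16777216 6857488 [2, 4, 5, 7, 9, 11, 12] = true := by
  apply dfsN_step 6 16777216 6857488 [2, 4, 5, 7, 9, 11, 12]
  intro v hv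
  simp only [List.mem_cons, List.not_mem_nil, or_false] at hv
  rcases hv with rfl | rfl | rfl | rfl | rfl | rfl | rfl
  exacts [part_10_8_6_2, part_10_8_6_4, part_10_8_6_5, part_10_8_6_7, part_10_8_6_9, part_10_8_6_11, part_10_8_6_12]

set_option maxRecDepth 100000 in
theorem part_10_8_7_2 : dfsN 6 268435456 41460496 [4, 5, 6, 9, 11, 12] = true := by
  decide +kernel

set_option maxRecDepth 100000 in
theorem part_10_8_7_4 : dfsN 6 268435456 75014928 [2, 5, 6, 9, 11, 12] = true := by
  decide +kernel

set_option maxRecDepth 100000 in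
theorem part_10_8_7_5 : dfsN 6 268435456 91792144 [2, 4, 6, 9, 11, 12] = true := by
  decide +kernel

set_option maxRecDepth 100000 in
theorem part_10_8_7_6 : dfsN 6 268435456 108569360 [2, 4, 5, 9, 11, 12] = true := by
  decide +kernel

set_option maxRecDepth 100000 in
theorem part_10_8_7_9 : dfsN 6 268435456 158901008 [2, 4, 5, 6, 11, 12] = true := by
  decide +kernel

set_option maxRecDepth 100000 in
theorem part_10_8_7_11 : dfsN 6 268435456 192455440 [2, 4, 5, 6, 9, 12] = true := by
  decide +kernel

set_option maxRecDepth 100000 in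
theorem part_10_8_7_12 : dfsN 6 268435456 209232656 [2, 4, 5, 6, 9, 11] = true := by
  decide +kernel

theorem part_10_8_7 : dfsN 7 16777216 7906064 [2, 4, 5, 6, 9, 11, 12] = true := by
  apply dfsN_step 6 16777216 7906064 [2, 4, 5, 6, 9, 11, 12]
  intro v hv
  simp only [List.mem_cons, List.not_mem_nil, or_false] at hv
  rcases hv with rfl | rfl | rfl | rfl | rfl | rfl | rfl
  exacts [part_10_8_7_2, part_10_8_7_4, part_10_8_7_5, part_10_8_7_6, part_10_8_7_9, part_10_8_7_11, part_10_8_7_12]

set_option maxRecDepth 100000 in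
theorem part_10_8_9_2 : dfsN 6 268435456 43557648 [4, 5, 6, 7, 11, 12] = true := by
  decide +kernel

set_option maxRecDepth 100000 in
theorem part_10_8_9_4 : dfsN 6 268435456 77112080 [2, 5, 6, 7, 11, 12] = true := by
  decide +kernel

set_option maxRecDepth 100000 in
theorem part_10_8_9_5 : dfsN 6 268435456 93889296 [2, 4, 6, 7, 11, 12] = true := by
  decide +kernel

set_option maxRecDepth 100000 in
theorem part_10_8_9_6 : dfsN 6 268435456 110666512 [2, 4, 5, 7, 11, 12] = true := by
  decide +kernel

set_option maxRecDepth 100000 in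
theorem part_10_8_9_7 : dfsN 6 268435456 127443728 [2, 4, 5, 6, 11, 12] = true := by
  decide +kernel

set_option maxRecDepth 100000 in
theorem part_10_8_9_11 : dfsN 6 268435456 194552592 [2, 4, 5, 6, 7, 12] = true := by
  decide +kernel

set_option maxRecDepth 100000 in
theorem part_10_8_9_12 : dfsN 6 268435456 211329808 [2, 4, 5, 6, 7, 11] = true := by
  decide +kernel

theorem part_10_8_9 : dfsN 7 16777216 10003216 [2, 4, 5, 6, 7, 11, 12] = true := by
  apply dfsN_step 6 16777216 10003216 [2, 4, 5, 6, 7, 11, 12]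
  intro v hv
  simp only [List.mem_cons, List.not_mem_nil, or_false] at hv
  rcases hv with rfl | rfl | rfl | rfl | rfl | rfl | rfl
  exacts [part_10_8_9_2, part_10_8_9_4, part_10_8_9_5, part_10_8_9_6, part_10_8_9_7, part_10_8_9_11, part_10_8_9_12]

set_option maxRecDepth 100000 in
theorem part_10_8_11_2 : dfsN 6 268435456 45654800 [4, 5, 6, 7, 9, 12] = true := by
  decide +kernel

set_option maxRecDepth 100000 in
theorem part_10_8_11_4 : dfsN 6 268435456 79209232 [2, 5, 6, 7, 9, 12] = true := by
  decide +kernel

set_option maxRecDepth 100000 in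
theorem part_10_8_11_5 : dfsN 6 268435456 95986448 [2, 4, 6, 7, 9, 12] = true := by
  decide +kernel

set_option maxRecDepth 100000 in
theorem part_10_8_11_6 : dfsN 6 268435456 112763664 [2, 4, 5, 7, 9, 12] = true := by
  decide +kernel

set_option maxRecDepth 100000 in
theorem part_10_8_11_7 : dfsN 6 268435456 129540880 [2, 4, 5, 6, 9, 12] = true := by
  decide +kernel

set_option maxRecDepth 100000 in
theorem part_10_8_11_9 : dfsN 6 268435456 163095312 [2, 4, 5, 6, 7, 12] = true := by
  decide +kernel

set_option maxRecDepth 100000 in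
theorem part_10_8_11_12 : dfsN 6 268435456 213426960 [2, 4, 5, 6, 7, 9] = true := by
  decide +kernel

theorem part_10_8_11 : dfsN 7 16777216 12100368 [2, 4, 5, 6, 7, 9, 12] = true := by
  apply dfsN_step 6 16777216 12100368 [2, 4, 5, 6, 7, 9, 12]
  intro v hv
  simp only [List.mem_cons, List.not_mem_nil, or_false] at hv
  rcases hv with rfl | rfl | rfl | rfl | rfl | rfl | rfl
  exacts [part_10_8_11_2, part_10_8_11_4, part_10_8_11_5, part_10_8_11_6, part_10_8_11_7, part_10_8_11_9, part_10_8_11_12]

set_option maxRecDepth 100000 in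
theorem part_10_8_12_2 : dfsN 6 268435456 46703376 [4, 5, 6, 7, 9, 11] = true := by
  decide +kernel

set_option maxRecDepth 100000 in
theorem part_10_8_12_4 : dfsN 6 268435456 80257808 [2, 5, 6, 7, 9, 11] = true := by
  decide +kernel

set_option maxRecDepth 100000 in
theorem part_10_8_12_5 : dfsN 6 268435456 97035024 [2, 4, 6, 7, 9, 11] = true := by
  decide +kernel

set_option maxRecDepth 100000 in
theorem part_10_8_12_6 : dfsN 6 268435456 113812240 [2, 4, 5, 7, 9, 11] = true := by
  decide +kernel

set_option maxRecDepth 100000 in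
theorem part_10_8_12_7 : dfsN 6 268435456 130589456 [2, 4, 5, 6, 9, 11] = true := by
  decide +kernel

set_option maxRecDepth 100000 in
theorem part_10_8_12_9 : dfsN 6 268435456 164143888 [2, 4, 5, 6, 7, 11] = true := by
  decide +kernel

set_option maxRecDepth 100000 in
theorem part_10_8_12_11 : dfsN 6 268435456 197698320 [2, 4, 5, 6, 7, 9] = true := by
  decide +kernel

theorem part_10_8_12 : dfsN 7 16777216 13148944 [2, 4, 5, 6, 7, 9, 11] = true := by
  apply dfsN_step 6 16777216 13148944 [2, 4, 5, 6, 7, 9, 11]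
  intro v hv
  simp only [List.mem_cons, List.not_mem_nil, or_false] at hv
  rcases hv with rfl | rfl | rfl | rfl | rfl | rfl | rfl
  exacts [part_10_8_12_2, part_10_8_12_4, part_10_8_12_5, part_10_8_12_6, part_10_8_12_7, part_10_8_12_9, part_10_8_12_11]

theorem part_10_8 : dfsN 8 1048576 566032 [2, 4, 5, 6, 7, 9, 11, 12] = true := by
  apply dfsN_step 7 1048576 566032 [2, 4, 5, 6, 7, 9, 11, 12]
  intro v hv
  simp only [List.mem_cons, List.not_mem_nil, or_false] at hv
  rcases hv with rfl | rfl | rfl | rfl | rfl | rfl | rfl | rfl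
  exacts [part_10_8_2, part_10_8_4, part_10_8_5, part_10_8_6, part_10_8_7, part_10_8_9, part_10_8_11, part_10_8_12]

end Cfsg.Agent.Lib.H16.AG
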