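import Cfsg.Agent.Lib.H16.AG.Step

set_option autoImplicit false

/-! Degree 13, images `0, 1, 3, 10, 9` of `0, 1, 2, 3, 4` fixed: every completion that is an
`11`-cycle has a word `(x ^ b * y ^ a) ^ k` which is a `3`-, `5`- or `7`-cycle
(small kernel computations, one per pair of images of `5, 6`). -/

namespace Cfsg.Agent.Lib.H16.AG

set_option maxRecDepth 100000 in
theorem part_10_9_2_4 : dfsN 6 268435456 69837584 [5, 6, 7, 8, 11, 12] = true := by
  decide +kernel

set_option maxRecDepth 100000 in
theorem part_10_9_2_5 : dfsN 6 268435456 86614800 [4, 6, 7, 8, 11, 12] = true := by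
  decide +kernel

set_option maxRecDepth 100000 in
theorem part_10_9_2_6 : dfsN 6 268435456 103392016 [4, 5, 7, 8, 11, 12] = true := by
  decide +kernel

set_option maxRecDepth 100000 in
theorem part_10_9_2_7 : dfsN 6 268435456 120169232 [4, 5, 6, 8, 11, 12] = true := by
  decide +kernel

set_option maxRecDepth 100000 in
theorem part_10_9_2_8 : dfsN 6 268435456 136946448 [4, 5, 6, 7, 11, 12] = true := by
  decide +kernel

set_option maxRecDepth 100000 in
theorem part_10_9_2_11 : dfsN 6 268435456 187278096 [4, 5, 6, 7, 8, 12] = true := by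
  decide +kernel

set_option maxRecDepth 100000 in
theorem part_10_9_2_12 : dfsN 6 268435456 204055312 [4, 5, 6, 7, 8, 11] = true := by
  decide +kernel

theorem part_10_9_2 : dfsN 7 16777216 2728720 [4, 5, 6, 7, 8, 11, 12] = true := by
  apply dfsN_step 6 16777216 2728720 [4, 5, 6, 7, 8, 11, 12]
  intro v hv
  simp only [List.mem_cons, List.not_mem_nil, or_false] at hv
  rcases hv with rfl | rfl | rfl | rfl | rfl | rfl | rfl
  exacts [part_10_9_2_4, part_10_9_2_5, part_10_9_2_6, part_10_9_2_7, part_10_9_2_8, part_10_9_2_11, part_10_9_2_12]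

set_option maxRecDepth 100000 in
theorem part_10_9_4_2 : dfsN 6 268435456 38380304 [5, 6, 7, 8, 11, 12] = true := by
  decide +kernel

set_option maxRecDepth 100000 in
theorem part_10_9_4_5 : dfsN 6 268435456 88711952 [2, 6, 7, 8, 11, 12] = true := by
  decide +kernel

set_option maxRecDepth 100000 in
theorem part_10_9_4_6 : dfsN 6 268435456 105489168 [2, 5, 7, 8, 11, 12] = true := by
  decide +kernel

set_option maxRecDepth 100000 in
theorem part_10_9_4_7 : dfsN 6 268435456 122266384 [2, 5, 6, 8, 11, 12] = true := by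
  decide +kernel

set_option maxRecDepth 100000 in
theorem part_10_9_4_8 : dfsN 6 268435456 139043600 [2, 5, 6, 7, 11, 12] = true := by
  decide +kernel

set_option maxRecDepth 100000 in
theorem part_10_9_4_11 : dfsN 6 268435456 189375248 [2, 5, 6, 7, 8, 12] = true := by
  decide +kernel

set_option maxRecDepth 100000 in
theorem part_10_9_4_12 : dfsN 6 268435456 206152464 [2, 5, 6, 7, 8, 11] = true := by
  decide +kernel

theorem part_10_9_4 : dfsN 7 16777216 4825872 [2, 5, 6, 7, 8, 11, 12] = true := by
  apply dfsN_step 6 16777216 4825872 [2, 5, 6, 7, 8, 11, 12]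
  intro v hv
  simp only [List.mem_cons, List.not_mem_nil, or_false] at hv
  rcases hv with rfl | rfl | rfl | rfl | rfl | rfl | rfl
  exacts [part_10_9_4_2, part_10_9_4_5, part_10_9_4_6, part_10_9_4_7, part_10_9_4_8, part_10_9_4_11, part_10_9_4_12]

set_option maxRecDepth 100000 in
theorem part_10_9_5_2 : dfsN 6 268435456 39428880 [4, 6, 7, 8, 11, 12] = true := by
  decide +kernel

set_option maxRecDepth 100000 in
theorem part_10_9_5_4 : dfsN 6 268435456 72983312 [2, 6, 7, 8, 11, 12] = true := by
  decide +kernel

set_option maxRecDepth 100000 in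
theorem part_10_9_5_6 : dfsN 6 268435456 106537744 [2, 4, 7, 8, 11, 12] = true := by
  decide +kernel

set_option maxRecDepth 100000 in
theorem part_10_9_5_7 : dfsN 6 268435456 123314960 [2, 4, 6, 8, 11, 12] = true := by
  decide +kernel

set_option maxRecDepth 100000 in
theorem part_10_9_5_8 : dfsN 6 268435456 140092176 [2, 4, 6, 7, 11, 12] = true := by
  decide +kernel

set_option maxRecDepth 100000 in
theorem part_10_9_5_11 : dfsN 6 268435456 190423824 [2, 4, 6, 7, 8, 12] = true := by
  decide +kernel

set_option maxRecDepth 100000 in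
theorem part_10_9_5_12 : dfsN 6 268435456 207201040 [2, 4, 6, 7, 8, 11] = true := by
  decide +kernel

theorem part_10_9_5 : dfsN 7 16777216 5874448 [2, 4, 6, 7, 8, 11, 12] = true := by
  apply dfsN_step 6 16777216 5874448 [2, 4, 6, 7, 8, 11, 12]
  intro v hv
  simp only [List.mem_cons, List.not_mem_nil, or_false] at hv
  rcases hv with rfl | rfl | rfl | rfl | rfl | rfl | rfl
  exacts [part_10_9_5_2, part_10_9_5_4, part_10_9_5_6, part_10_9_5_7, part_10_9_5_8, part_10_9_5_11, part_10_9_5_12]

set_option maxRecDepth 100000 in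
theorem part_10_9_6_2 : dfsN 6 268435456 40477456 [4, 5, 7, 8, 11, 12] = true := by
  decide +kernel

set_option maxRecDepth 100000 in
theorem part_10_9_6_4 : dfsN 6 268435456 74031888 [2, 5, 7, 8, 11, 12] = true := by
  decide +kernel

set_option maxRecDepth 100000 in
theorem part_10_9_6_5 : dfsN 6 268435456 90809104 [2, 4, 7, 8, 11, 12] = true := by
  decide +kernel

set_option maxRecDepth 100000 in
theorem part_10_9_6_7 : dfsN 6 268435456 124363536 [2, 4, 5, 8, 11, 12] = true := by
  decide +kernel

set_option maxRecDepth 100000 in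
theorem part_10_9_6_8 : dfsN 6 268435456 141140752 [2, 4, 5, 7, 11, 12] = true := by
  decide +kernel

set_option maxRecDepth 100000 in
theorem part_10_9_6_11 : dfsN 6 268435456 191472400 [2, 4, 5, 7, 8, 12] = true := by
  decide +kernel

set_option maxRecDepth 100000 in
theorem part_10_9_6_12 : dfsN 6 268435456 208249616 [2, 4, 5, 7, 8, 11] = true := by
  decide +kernel

theorem part_10_9_6 : dfsN 7 16777216 6923024 [2, 4, 5, 7, 8, 11, 12] = true := by
  apply dfsN_step 6 16777216 6923024 [2, 4, 5, 7, 8, 11, 12]
  intro v hv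
  simp only [List.mem_cons, List.not_mem_nil, or_false] at hv
  rcases hv with rfl | rfl | rfl | rfl | rfl | rfl | rfl
  exacts [part_10_9_6_2, part_10_9_6_4, part_10_9_6_5, part_10_9_6_7, part_10_9_6_8, part_10_9_6_11, part_10_9_6_12]

set_option maxRecDepth 100000 in
theorem part_10_9_7_2 : dfsN 6 268435456 41526032 [4, 5, 6, 8, 11, 12] = true := by
  decide +kernel

set_option maxRecDepth 100000 in
theorem part_10_9_7_4 : dfsN 6 268435456 75080464 [2, 5, 6, 8, 11, 12] = true := by
  decide +kernel

set_option maxRecDepth 100000 in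
theorem part_10_9_7_5 : dfsN 6 268435456 91857680 [2, 4, 6, 8, 11, 12] = true := by
  decide +kernel

set_option maxRecDepth 100000 in
theorem part_10_9_7_6 : dfsN 6 268435456 108634896 [2, 4, 5, 8, 11, 12] = true := by
  decide +kernel

set_option maxRecDepth 100000 in
theorem part_10_9_7_8 : dfsN 6 268435456 142189328 [2, 4, 5, 6, 11, 12] = true := by
  decide +kernel

set_option maxRecDepth 100000 in
theorem part_10_9_7_11 : dfsN 6 268435456 192520976 [2, 4, 5, 6, 8, 12] = true := by
  decide +kernel

set_option maxRecDepth 100000 in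
theorem part_10_9_7_12 : dfsN 6 268435456 209298192 [2, 4, 5, 6, 8, 11] = true := by
  decide +kernel

theorem part_10_9_7 : dfsN 7 16777216 7971600 [2, 4, 5, 6, 8, 11, 12] = true := by
  apply dfsN_step 6 16777216 7971600 [2, 4, 5, 6, 8, 11, 12]
  intro v hv
  simp only [List.mem_cons, List.not_mem_nil, or_false] at hv
  rcases hv with rfl | rfl | rfl | rfl | rfl | rfl | rfl
  exacts [part_10_9_7_2, part_10_9_7_4, part_10_9_7_5, part_10_9_7_6, part_10_9_7_8, part_10_9_7_11, part_10_9_7_12]

set_option maxRecDepth 100000 in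
theorem part_10_9_8_2 : dfsN 6 268435456 42574608 [4, 5, 6, 7, 11, 12] = true := by
  decide +kernel

set_option maxRecDepth 100000 in
theorem part_10_9_8_4 : dfsN 6 268435456 76129040 [2, 5, 6, 7, 11, 12] = true := by
  decide +kernel

set_option maxRecDepth 100000 in
theorem part_10_9_8_5 : dfsN 6 268435456 92906256 [2, 4, 6, 7, 11, 12] = true := by
  decide +kernel

set_option maxRecDepth 100000 in
theorem part_10_9_8_6 : dfsN 6 268435456 109683472 [2, 4, 5, 7, 11, 12] = true := by
  decide +kernel

set_option maxRecDepth 100000 in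
theorem part_10_9_8_7 : dfsN 6 268435456 126460688 [2, 4, 5, 6, 11, 12] = true := by
  decide +kernel

set_option maxRecDepth 100000 in
theorem part_10_9_8_11 : dfsN 6 268435456 193569552 [2, 4, 5, 6, 7, 12] = true := by
  decide +kernel

set_option maxRecDepth 100000 in
theorem part_10_9_8_12 : dfsN 6 268435456 210346768 [2, 4, 5, 6, 7, 11] = true := by
  decide +kernel

theorem part_10_9_8 : dfsN 7 16777216 9020176 [2, 4, 5, 6, 7, 11, 12] = true := by
  apply dfsN_step 6 16777216 9020176 [2, 4, 5, 6, 7, 11, 12]
  intro v hv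
  simp only [List.mem_cons, List.not_mem_nil, or_false] at hv
  rcases hv with rfl | rfl | rfl | rfl | rfl | rfl | rfl
  exacts [part_10_9_8_2, part_10_9_8_4, part_10_9_8_5, part_10_9_8_6, part_10_9_8_7, part_10_9_8_11, part_10_9_8_12]

set_option maxRecDepth 100000 in
theorem part_10_9_11_2 : dfsN 6 268435456 45720336 [4, 5, 6, 7, 8, 12] = true := by
  decide +kernel

set_option maxRecDepth 100000 in
theorem part_10_9_11_4 : dfsN 6 268435456 79274768 [2, 5, 6, 7, 8, 12] = true := by
  decide +kernel

set_option maxRecDepth 100000 in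
theorem part_10_9_11_5 : dfsN 6 268435456 96051984 [2, 4, 6, 7, 8, 12] = true := by
  decide +kernel

set_option maxRecDepth 100000 in
theorem part_10_9_11_6 : dfsN 6 268435456 112829200 [2, 4, 5, 7, 8, 12] = true := by
  decide +kernel

set_option maxRecDepth 100000 in
theorem part_10_9_11_7 : dfsN 6 268435456 129606416 [2, 4, 5, 6, 8, 12] = true := by
  decide +kernel

set_option maxRecDepth 100000 in
theorem part_10_9_11_8 : dfsN 6 268435456 146383632 [2, 4, 5, 6, 7, 12] = true := by
  decide +kernel

set_option maxRecDepth 100000 in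
theorem part_10_9_11_12 : dfsN 6 268435456 213492496 [2, 4, 5, 6, 7, 8] = true := by
  decide +kernel

theorem part_10_9_11 : dfsN 7 16777216 12165904 [2, 4, 5, 6, 7, 8, 12] = true := by
  apply dfsN_step 6 16777216 12165904 [2, 4, 5, 6, 7, 8, 12]
  intro v hv
  simp only [List.mem_cons, List.not_mem_nil, or_false] at hv
  rcases hv with rfl | rfl | rfl | rfl | rfl | rfl | rfl
  exacts [part_10_9_11_2, part_10_9_11_4, part_10_9_11_5, part_10_9_11_6, part_10_9_11_7, part_10_9_11_8, part_10_9_11_12]

set_option maxRecDepth 100000 in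
theorem part_10_9_12_2 : dfsN 6 268435456 46768912 [4, 5, 6, 7, 8, 11] = true := by
  decide +kernel

set_option maxRecDepth 100000 in
theorem part_10_9_12_4 : dfsN 6 268435456 80323344 [2, 5, 6, 7, 8, 11] = true := by
  decide +kernel

set_option maxRecDepth 100000 in
theorem part_10_9_12_5 : dfsN 6 268435456 97100560 [2, 4, 6, 7, 8, 11] = true := by
  decide +kernel

set_option maxRecDepth 100000 in
theorem part_10_9_12_6 : dfsN 6 268435456 113877776 [2, 4, 5, 7, 8, 11] = true := by
  decide +kernel

set_option maxRecDepth 100000 in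
theorem part_10_9_12_7 : dfsN 6 268435456 130654992 [2, 4, 5, 6, 8, 11] = true := by
  decide +kernel

set_option maxRecDepth 100000 in
theorem part_10_9_12_8 : dfsN 6 268435456 147432208 [2, 4, 5, 6, 7, 11] = true := by
  decide +kernel

set_option maxRecDepth 100000 in
theorem part_10_9_12_11 : dfsN 6 268435456 197763856 [2, 4, 5, 6, 7, 8] = true := by
  decide +kernel

theorem part_10_9_12 : dfsN 7 16777216 13214480 [2, 4, 5, 6, 7, 8, 11] = true := by
  apply dfsN_step 6 16777216 13214480 [2, 4, 5, 6, 7, 8, 11]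
  intro v hv
  simp only [List.mem_cons, List.not_mem_nil, or_false] at hv
  rcases hv with rfl | rfl | rfl | rfl | rfl | rfl | rfl
  exacts [part_10_9_12_2, part_10_9_12_4, part_10_9_12_5, part_10_9_12_6, part_10_9_12_7, part_10_9_12_8, part_10_9_12_11]

theorem part_10_9 : dfsN 8 1048576 631568 [2, 4, 5, 6, 7, 8, 11, 12] = true := by
  apply dfsN_step 7 1048576 631568 [2, 4, 5, 6, 7, 8, 11, 12]
  intro v hv
  simp only [List.mem_cons, List.not_mem_nil, or_false] at hv
  rcases hv with rfl | rfl | rfl | rfl | rfl | rfl | rfl | rfl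
  exacts [part_10_9_2, part_10_9_4, part_10_9_5, part_10_9_6, part_10_9_7, part_10_9_8, part_10_9_11, part_10_9_12]

end Cfsg.Agent.Lib.H16.AG
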