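import Cfsg.Agent.Lib.H16.AG.Step

set_option autoImplicit false

/-! Degree 13, images `0, 1, 3, 10, 11` of `0, 1, 2, 3, 4` fixed: every completion that is an
`11`-cycle has a word `(x ^ b * y ^ a) ^ k` which is a `3`-, `5`- or `7`-cycle
(small kernel computations, one per pair of images of `5, 6`). -/

namespace Cfsg.Agent.Lib.H16.AG

set_option maxRecDepth 100000 in
theorem part_10_11_2_4 : dfsN 6 268435456 69968656 [5, 6, 7, 8, 9, 12] = true := by
  decide +kernel

set_option maxRecDepth 100000 in
theorem part_10_11_2_5 : dfsN 6 268435456 86745872 [4, 6, 7, 8, 9, 12] = true := by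
  decide +kernel

set_option maxRecDepth 100000 in
theorem part_10_11_2_6 : dfsN 6 268435456 103523088 [4, 5, 7, 8, 9, 12] = true := by
  decide +kernel

set_option maxRecDepth 100000 in
theorem part_10_11_2_7 : dfsN 6 268435456 120300304 [4, 5, 6, 8, 9, 12] = true := by
  decide +kernel

set_option maxRecDepth 100000 in
theorem part_10_11_2_8 : dfsN 6 268435456 137077520 [4, 5, 6, 7, 9, 12] = true := by
  decide +kernel

set_option maxRecDepth 100000 in
theorem part_10_11_2_9 : dfsN 6 268435456 153854736 [4, 5, 6, 7, 8, 12] = true := by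
  decide +kernel

set_option maxRecDepth 100000 in
theorem part_10_11_2_12 : dfsN 6 268435456 204186384 [4, 5, 6, 7, 8, 9] = true := by
  decide +kernel

theorem part_10_11_2 : dfsN 7 16777216 2859792 [4, 5, 6, 7, 8, 9, 12] = true := by
  apply dfsN_step 6 16777216 2859792 [4, 5, 6, 7, 8, 9, 12]
  intro v hv
  simp only [List.mem_cons, List.not_mem_nil, or_false] at hv
  rcases hv with rfl | rfl | rfl | rfl | rfl | rfl | rfl
  exacts [part_10_11_2_4, part_10_11_2_5, part_10_11_2_6, part_10_11_2_7, part_10_11_2_8, part_10_11_2_9, part_10_11_2_12]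

set_option maxRecDepth 100000 in
theorem part_10_11_4_2 : dfsN 6 268435456 38511376 [5, 6, 7, 8, 9, 12] = true := by
  decide +kernel

set_option maxRecDepth 100000 in
theorem part_10_11_4_5 : dfsN 6 268435456 88843024 [2, 6, 7, 8, 9, 12] = true := by
  decide +kernel

set_option maxRecDepth 100000 in
theorem part_10_11_4_6 : dfsN 6 268435456 105620240 [2, 5, 7, 8, 9, 12] = true := by
  decide +kernel

set_option maxRecDepth 100000 in
theorem part_10_11_4_7 : dfsN 6 268435456 122397456 [2, 5, 6, 8, 9, 12] = true := by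
  decide +kernel

set_option maxRecDepth 100000 in
theorem part_10_11_4_8 : dfsN 6 268435456 139174672 [2, 5, 6, 7, 9, 12] = true := by
  decide +kernel

set_option maxRecDepth 100000 in
theorem part_10_11_4_9 : dfsN 6 268435456 155951888 [2, 5, 6, 7, 8, 12] = true := by
  decide +kernel

set_option maxRecDepth 100000 in
theorem part_10_11_4_12 : dfsN 6 268435456 206283536 [2, 5, 6, 7, 8, 9] = true := by
  decide +kernel

theorem part_10_11_4 : dfsN 7 16777216 4956944 [2, 5, 6, 7, 8, 9, 12] = true := by
  apply dfsN_step 6 16777216 4956944 [2, 5, 6, 7, 8, 9, 12]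
  intro v hv
  simp only [List.mem_cons, List.not_mem_nil, or_false] at hv
  rcases hv with rfl | rfl | rfl | rfl | rfl | rfl | rfl
  exacts [part_10_11_4_2, part_10_11_4_5, part_10_11_4_6, part_10_11_4_7, part_10_11_4_8, part_10_11_4_9, part_10_11_4_12]

set_option maxRecDepth 100000 in
theorem part_10_11_5_2 : dfsN 6 268435456 39559952 [4, 6, 7, 8, 9, 12] = true := by
  decide +kernel

set_option maxRecDepth 100000 in
theorem part_10_11_5_4 : dfsN 6 268435456 73114384 [2, 6, 7, 8, 9, 12] = true := by
  decide +kernel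

set_option maxRecDepth 100000 in
theorem part_10_11_5_6 : dfsN 6 268435456 106668816 [2, 4, 7, 8, 9, 12] = true := by
  decide +kernel

set_option maxRecDepth 100000 in
theorem part_10_11_5_7 : dfsN 6 268435456 123446032 [2, 4, 6, 8, 9, 12] = true := by
  decide +kernel

set_option maxRecDepth 100000 in
theorem part_10_11_5_8 : dfsN 6 268435456 140223248 [2, 4, 6, 7, 9, 12] = true := by
  decide +kernel

set_option maxRecDepth 100000 in
theorem part_10_11_5_9 : dfsN 6 268435456 157000464 [2, 4, 6, 7, 8, 12] = true := by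
  decide +kernel

set_option maxRecDepth 100000 in
theorem part_10_11_5_12 : dfsN 6 268435456 207332112 [2, 4, 6, 7, 8, 9] = true := by
  decide +kernel

theorem part_10_11_5 : dfsN 7 16777216 6005520 [2, 4, 6, 7, 8, 9, 12] = true := by
  apply dfsN_step 6 16777216 6005520 [2, 4, 6, 7, 8, 9, 12]
  intro v hv
  simp only [List.mem_cons, List.not_mem_nil, or_false] at hv
  rcases hv with rfl | rfl | rfl | rfl | rfl | rfl | rfl
  exacts [part_10_11_5_2, part_10_11_5_4, part_10_11_5_6, part_10_11_5_7, part_10_11_5_8, part_10_11_5_9, part_10_11_5_12]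

set_option maxRecDepth 100000 in
theorem part_10_11_6_2 : dfsN 6 268435456 40608528 [4, 5, 7, 8, 9, 12] = true := by
  decide +kernel

set_option maxRecDepth 100000 in
theorem part_10_11_6_4 : dfsN 6 268435456 74162960 [2, 5, 7, 8, 9, 12] = true := by
  decide +kernel

set_option maxRecDepth 100000 in
theorem part_10_11_6_5 : dfsN 6 268435456 90940176 [2, 4, 7, 8, 9, 12] = true := by
  decide +kernel

set_option maxRecDepth 100000 in
theorem part_10_11_6_7 : dfsN 6 268435456 124494608 [2, 4, 5, 8, 9, 12] = true := by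
  decide +kernel

set_option maxRecDepth 100000 in
theorem part_10_11_6_8 : dfsN 6 268435456 141271824 [2, 4, 5, 7, 9, 12] = true := by
  decide +kernel

set_option maxRecDepth 100000 in
theorem part_10_11_6_9 : dfsN 6 268435456 158049040 [2, 4, 5, 7, 8, 12] = true := by
  decide +kernel

set_option maxRecDepth 100000 in
theorem part_10_11_6_12 : dfsN 6 268435456 208380688 [2, 4, 5, 7, 8, 9] = true := by
  decide +kernel

theorem part_10_11_6 : dfsN 7 16777216 7054096 [2, 4, 5, 7, 8, 9, 12] = true := by
  apply dfsN_step 6 16777216 7054096 [2, 4, 5, 7, 8, 9, 12]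
  intro v hv
  simp only [List.mem_cons, List.not_mem_nil, or_false] at hv
  rcases hv with rfl | rfl | rfl | rfl | rfl | rfl | rfl
  exacts [part_10_11_6_2, part_10_11_6_4, part_10_11_6_5, part_10_11_6_7, part_10_11_6_8, part_10_11_6_9, part_10_11_6_12]

set_option maxRecDepth 100000 in
theorem part_10_11_7_2 : dfsN 6 268435456 41657104 [4, 5, 6, 8, 9, 12] = true := by
  decide +kernel

set_option maxRecDepth 100000 in
theorem part_10_11_7_4 : dfsN 6 268435456 75211536 [2, 5, 6, 8, 9, 12] = true := by
  decide +kernel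

set_option maxRecDepth 100000 in
theorem part_10_11_7_5 : dfsN 6 268435456 91988752 [2, 4, 6, 8, 9, 12] = true := by
  decide +kernel

set_option maxRecDepth 100000 in
theorem part_10_11_7_6 : dfsN 6 268435456 108765968 [2, 4, 5, 8, 9, 12] = true := by
  decide +kernel

set_option maxRecDepth 100000 in
theorem part_10_11_7_8 : dfsN 6 268435456 142320400 [2, 4, 5, 6, 9, 12] = true := by
  decide +kernel

set_option maxRecDepth 100000 in
theorem part_10_11_7_9 : dfsN 6 268435456 159097616 [2, 4, 5, 6, 8, 12] = true := by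
  decide +kernel

set_option maxRecDepth 100000 in
theorem part_10_11_7_12 : dfsN 6 268435456 209429264 [2, 4, 5, 6, 8, 9] = true := by
  decide +kernel

theorem part_10_11_7 : dfsN 7 16777216 8102672 [2, 4, 5, 6, 8, 9, 12] = true := by
  apply dfsN_step 6 16777216 8102672 [2, 4, 5, 6, 8, 9, 12]
  intro v hv
  simp only [List.mem_cons, List.not_mem_nil, or_false] at hv
  rcases hv with rfl | rfl | rfl | rfl | rfl | rfl | rfl
  exacts [part_10_11_7_2, part_10_11_7_4, part_10_11_7_5, part_10_11_7_6, part_10_11_7_8, part_10_11_7_9, part_10_11_7_12]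

set_option maxRecDepth 100000 in
theorem part_10_11_8_2 : dfsN 6 268435456 42705680 [4, 5, 6, 7, 9, 12] = true := by
  decide +kernel

set_option maxRecDepth 100000 in
theorem part_10_11_8_4 : dfsN 6 268435456 76260112 [2, 5, 6, 7, 9, 12] = true := by
  decide +kernel

set_option maxRecDepth 100000 in
theorem part_10_11_8_5 : dfsN 6 268435456 93037328 [2, 4, 6, 7, 9, 12] = true := by
  decide +kernel

set_option maxRecDepth 100000 in
theorem part_10_11_8_6 : dfsN 6 268435456 109814544 [2, 4, 5, 7, 9, 12] = true := by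
  decide +kernel

set_option maxRecDepth 100000 in
theorem part_10_11_8_7 : dfsN 6 268435456 126591760 [2, 4, 5, 6, 9, 12] = true := by
  decide +kernel

set_option maxRecDepth 100000 in
theorem part_10_11_8_9 : dfsN 6 268435456 160146192 [2, 4, 5, 6, 7, 12] = true := by
  decide +kernel

set_option maxRecDepth 100000 in
theorem part_10_11_8_12 : dfsN 6 268435456 210477840 [2, 4, 5, 6, 7, 9] = true := by
  decide +kernel

theorem part_10_11_8 : dfsN 7 16777216 9151248 [2, 4, 5, 6, 7, 9, 12] = true := by
  apply dfsN_step 6 16777216 9151248 [2, 4, 5, 6, 7, 9, 12]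
  intro v hv
  simp only [List.mem_cons, List.not_mem_nil, or_false] at hv
  rcases hv with rfl | rfl | rfl | rfl | rfl | rfl | rfl
  exacts [part_10_11_8_2, part_10_11_8_4, part_10_11_8_5, part_10_11_8_6, part_10_11_8_7, part_10_11_8_9, part_10_11_8_12]

set_option maxRecDepth 100000 in
theorem part_10_11_9_2 : dfsN 6 268435456 43754256 [4, 5, 6, 7, 8, 12] = true := by
  decide +kernel

set_option maxRecDepth 100000 in
theorem part_10_11_9_4 : dfsN 6 268435456 77308688 [2, 5, 6, 7, 8, 12] = true := by
  decide +kernel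

set_option maxRecDepth 100000 in
theorem part_10_11_9_5 : dfsN 6 268435456 94085904 [2, 4, 6, 7, 8, 12] = true := by
  decide +kernel

set_option maxRecDepth 100000 in
theorem part_10_11_9_6 : dfsN 6 268435456 110863120 [2, 4, 5, 7, 8, 12] = true := by
  decide +kernel

set_option maxRecDepth 100000 in
theorem part_10_11_9_7 : dfsN 6 268435456 127640336 [2, 4, 5, 6, 8, 12] = true := by
  decide +kernel

set_option maxRecDepth 100000 in
theorem part_10_11_9_8 : dfsN 6 268435456 144417552 [2, 4, 5, 6, 7, 12] = true := by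
  decide +kernel

set_option maxRecDepth 100000 in
theorem part_10_11_9_12 : dfsN 6 268435456 211526416 [2, 4, 5, 6, 7, 8] = true := by
  decide +kernel

theorem part_10_11_9 : dfsN 7 16777216 10199824 [2, 4, 5, 6, 7, 8, 12] = true := by
  apply dfsN_step 6 16777216 10199824 [2, 4, 5, 6, 7, 8, 12]
  intro v hv
  simp only [List.mem_cons, List.not_mem_nil, or_false] at hv
  rcases hv with rfl | rfl | rfl | rfl | rfl | rfl | rfl
  exacts [part_10_11_9_2, part_10_11_9_4, part_10_11_9_5, part_10_11_9_6, part_10_11_9_7, part_10_11_9_8, part_10_11_9_12]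

set_option maxRecDepth 100000 in
theorem part_10_11_12_2 : dfsN 6 268435456 46899984 [4, 5, 6, 7, 8, 9] = true := by
  decide +kernel

set_option maxRecDepth 100000 in
theorem part_10_11_12_4 : dfsN 6 268435456 80454416 [2, 5, 6, 7, 8, 9] = true := by
  decide +kernel

set_option maxRecDepth 100000 in
theorem part_10_11_12_5 : dfsN 6 268435456 97231632 [2, 4, 6, 7, 8, 9] = true := by
  decide +kernel

set_option maxRecDepth 100000 in
theorem part_10_11_12_6 : dfsN 6 268435456 114008848 [2, 4, 5, 7, 8, 9] = true := by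
  decide +kernel

set_option maxRecDepth 100000 in
theorem part_10_11_12_7 : dfsN 6 268435456 130786064 [2, 4, 5, 6, 8, 9] = true := by
  decide +kernel

set_option maxRecDepth 100000 in
theorem part_10_11_12_8 : dfsN 6 268435456 147563280 [2, 4, 5, 6, 7, 9] = true := by
  decide +kernel

set_option maxRecDepth 100000 in
theorem part_10_11_12_9 : dfsN 6 268435456 164340496 [2, 4, 5, 6, 7, 8] = true := by
  decide +kernel

theorem part_10_11_12 : dfsN 7 16777216 13345552 [2, 4, 5, 6, 7, 8, 9] = true := by
  apply dfsN_step 6 16777216 13345552 [2, 4, 5, 6, 7, 8, 9]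
  intro v hv
  simp only [List.mem_cons, List.not_mem_nil, or_false] at hv
  rcases hv with rfl | rfl | rfl | rfl | rfl | rfl | rfl
  exacts [part_10_11_12_2, part_10_11_12_4, part_10_11_12_5, part_10_11_12_6, part_10_11_12_7, part_10_11_12_8, part_10_11_12_9]

theorem part_10_11 : dfsN 8 1048576 762640 [2, 4, 5, 6, 7, 8, 9, 12] = true := by
  apply dfsN_step 7 1048576 762640 [2, 4, 5, 6, 7, 8, 9, 12]
  intro v hv
  simp only [List.mem_cons, List.not_mem_nil, or_false] at hv
  rcases hv with rfl | rfl | rfl | rfl | rfl | rfl | rfl | rfl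
  exacts [part_10_11_2, part_10_11_4, part_10_11_5, part_10_11_6, part_10_11_7, part_10_11_8, part_10_11_9, part_10_11_12]

end Cfsg.Agent.Lib.H16.AG
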