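import Cfsg.Agent.Lib.H16.AG.Step

set_option autoImplicit false

/-! Degree 13, images `0, 1, 3, 10, 12` of `0, 1, 2, 3, 4` fixed: every completion that is an
`11`-cycle has a word `(x ^ b * y ^ a) ^ k` which is a `3`-, `5`- or `7`-cycle
(small kernel computations, one per pair of images of `5, 6`). -/

namespace Cfsg.Agent.Lib.H16.AG

set_option maxRecDepth 100000 in
theorem part_10_12_2_4 : dfsN 6 268435456 70034192 [5, 6, 7, 8, 9, 11] = true := by
  decide +kernel

set_option maxRecDepth 100000 in
theorem part_10_12_2_5 : dfsN 6 268435456 86811408 [4, 6, 7, 8, 9, 11] = true := by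
  decide +kernel

set_option maxRecDepth 100000 in
theorem part_10_12_2_6 : dfsN 6 268435456 103588624 [4, 5, 7, 8, 9, 11] = true := by
  decide +kernel

set_option maxRecDepth 100000 in
theorem part_10_12_2_7 : dfsN 6 268435456 120365840 [4, 5, 6, 8, 9, 11] = true := by
  decide +kernel

set_option maxRecDepth 100000 in
theorem part_10_12_2_8 : dfsN 6 268435456 137143056 [4, 5, 6, 7, 9, 11] = true := by
  decide +kernel

set_option maxRecDepth 100000 in
theorem part_10_12_2_9 : dfsN 6 268435456 153920272 [4, 5, 6, 7, 8, 11] = true := by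
  decide +kernel

set_option maxRecDepth 100000 in
theorem part_10_12_2_11 : dfsN 6 268435456 187474704 [4, 5, 6, 7, 8, 9] = true := by
  decide +kernel

theorem part_10_12_2 : dfsN 7 16777216 2925328 [4, 5, 6, 7, 8, 9, 11] = true := by
  apply dfsN_step 6 16777216 2925328 [4, 5, 6, 7, 8, 9, 11]
  intro v hv
  simp only [List.mem_cons, List.not_mem_nil, or_false] at hv
  rcases hv with rfl | rfl | rfl | rfl | rfl | rfl | rfl
  exacts [part_10_12_2_4, part_10_12_2_5, part_10_12_2_6, part_10_12_2_7, part_10_12_2_8, part_10_12_2_9, part_10_12_2_11]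

set_option maxRecDepth 100000 in
theorem part_10_12_4_2 : dfsN 6 268435456 38576912 [5, 6, 7, 8, 9, 11] = true := by
  decide +kernel

set_option maxRecDepth 100000 in
theorem part_10_12_4_5 : dfsN 6 268435456 88908560 [2, 6, 7, 8, 9, 11] = true := by
  decide +kernel

set_option maxRecDepth 100000 in
theorem part_10_12_4_6 : dfsN 6 268435456 105685776 [2, 5, 7, 8, 9, 11] = true := by
  decide +kernel

set_option maxRecDepth 100000 in
theorem part_10_12_4_7 : dfsN 6 268435456 122462992 [2, 5, 6, 8, 9, 11] = true := by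
  decide +kernel

set_option maxRecDepth 100000 in
theorem part_10_12_4_8 : dfsN 6 268435456 139240208 [2, 5, 6, 7, 9, 11] = true := by
  decide +kernel

set_option maxRecDepth 100000 in
theorem part_10_12_4_9 : dfsN 6 268435456 156017424 [2, 5, 6, 7, 8, 11] = true := by
  decide +kernel

set_option maxRecDepth 100000 in
theorem part_10_12_4_11 : dfsN 6 268435456 189571856 [2, 5, 6, 7, 8, 9] = true := by
  decide +kernel

theorem part_10_12_4 : dfsN 7 16777216 5022480 [2, 5, 6, 7, 8, 9, 11] = true := by
  apply dfsN_step 6 16777216 5022480 [2, 5, 6, 7, 8, 9, 11]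
  intro v hv
  simp only [List.mem_cons, List.not_mem_nil, or_false] at hv
  rcases hv with rfl | rfl | rfl | rfl | rfl | rfl | rfl
  exacts [part_10_12_4_2, part_10_12_4_5, part_10_12_4_6, part_10_12_4_7, part_10_12_4_8, part_10_12_4_9, part_10_12_4_11]

set_option maxRecDepth 100000 in
theorem part_10_12_5_2 : dfsN 6 268435456 39625488 [4, 6, 7, 8, 9, 11] = true := by
  decide +kernel

set_option maxRecDepth 100000 in
theorem part_10_12_5_4 : dfsN 6 268435456 73179920 [2, 6, 7, 8, 9, 11] = true := by
  decide +kernel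

set_option maxRecDepth 100000 in
theorem part_10_12_5_6 : dfsN 6 268435456 106734352 [2, 4, 7, 8, 9, 11] = true := by
  decide +kernel

set_option maxRecDepth 100000 in
theorem part_10_12_5_7 : dfsN 6 268435456 123511568 [2, 4, 6, 8, 9, 11] = true := by
  decide +kernel

set_option maxRecDepth 100000 in
theorem part_10_12_5_8 : dfsN 6 268435456 140288784 [2, 4, 6, 7, 9, 11] = true := by
  decide +kernel

set_option maxRecDepth 100000 in
theorem part_10_12_5_9 : dfsN 6 268435456 157066000 [2, 4, 6, 7, 8, 11] = true := by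
  decide +kernel

set_option maxRecDepth 100000 in
theorem part_10_12_5_11 : dfsN 6 268435456 190620432 [2, 4, 6, 7, 8, 9] = true := by
  decide +kernel

theorem part_10_12_5 : dfsN 7 16777216 6071056 [2, 4, 6, 7, 8, 9, 11] = true := by
  apply dfsN_step 6 16777216 6071056 [2, 4, 6, 7, 8, 9, 11]
  intro v hv
  simp only [List.mem_cons, List.not_mem_nil, or_false] at hv
  rcases hv with rfl | rfl | rfl | rfl | rfl | rfl | rfl
  exacts [part_10_12_5_2, part_10_12_5_4, part_10_12_5_6, part_10_12_5_7, part_10_12_5_8, part_10_12_5_9, part_10_12_5_11]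

set_option maxRecDepth 100000 in
theorem part_10_12_6_2 : dfsN 6 268435456 40674064 [4, 5, 7, 8, 9, 11] = true := by
  decide +kernel

set_option maxRecDepth 100000 in
theorem part_10_12_6_4 : dfsN 6 268435456 74228496 [2, 5, 7, 8, 9, 11] = true := by
  decide +kernel

set_option maxRecDepth 100000 in
theorem part_10_12_6_5 : dfsN 6 268435456 91005712 [2, 4, 7, 8, 9, 11] = true := by
  decide +kernel

set_option maxRecDepth 100000 in
theorem part_10_12_6_7 : dfsN 6 268435456 124560144 [2, 4, 5, 8, 9, 11] = true := by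
  decide +kernel

set_option maxRecDepth 100000 in
theorem part_10_12_6_8 : dfsN 6 268435456 141337360 [2, 4, 5, 7, 9, 11] = true := by
  decide +kernel

set_option maxRecDepth 100000 in
theorem part_10_12_6_9 : dfsN 6 268435456 158114576 [2, 4, 5, 7, 8, 11] = true := by
  decide +kernel

set_option maxRecDepth 100000 in
theorem part_10_12_6_11 : dfsN 6 268435456 191669008 [2, 4, 5, 7, 8, 9] = true := by
  decide +kernel

theorem part_10_12_6 : dfsN 7 16777216 7119632 [2, 4, 5, 7, 8, 9, 11] = true := by
  apply dfsN_step 6 16777216 7119632 [2, 4, 5, 7, 8, 9, 11]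
  intro v hv
  simp only [List.mem_cons, List.not_mem_nil, or_false] at hv
  rcases hv with rfl | rfl | rfl | rfl | rfl | rfl | rfl
  exacts [part_10_12_6_2, part_10_12_6_4, part_10_12_6_5, part_10_12_6_7, part_10_12_6_8, part_10_12_6_9, part_10_12_6_11]

set_option maxRecDepth 100000 in
theorem part_10_12_7_2 : dfsN 6 268435456 41722640 [4, 5, 6, 8, 9, 11] = true := by
  decide +kernel

set_option maxRecDepth 100000 in
theorem part_10_12_7_4 : dfsN 6 268435456 75277072 [2, 5, 6, 8, 9, 11] = true := by
  decide +kernel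

set_option maxRecDepth 100000 in
theorem part_10_12_7_5 : dfsN 6 268435456 92054288 [2, 4, 6, 8, 9, 11] = true := by
  decide +kernel

set_option maxRecDepth 100000 in
theorem part_10_12_7_6 : dfsN 6 268435456 108831504 [2, 4, 5, 8, 9, 11] = true := by
  decide +kernel

set_option maxRecDepth 100000 in
theorem part_10_12_7_8 : dfsN 6 268435456 142385936 [2, 4, 5, 6, 9, 11] = true := by
  decide +kernel

set_option maxRecDepth 100000 in
theorem part_10_12_7_9 : dfsN 6 268435456 159163152 [2, 4, 5, 6, 8, 11] = true := by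
  decide +kernel

set_option maxRecDepth 100000 in
theorem part_10_12_7_11 : dfsN 6 268435456 192717584 [2, 4, 5, 6, 8, 9] = true := by
  decide +kernel

theorem part_10_12_7 : dfsN 7 16777216 8168208 [2, 4, 5, 6, 8, 9, 11] = true := by
  apply dfsN_step 6 16777216 8168208 [2, 4, 5, 6, 8, 9, 11]
  intro v hv
  simp only [List.mem_cons, List.not_mem_nil, or_false] at hv
  rcases hv with rfl | rfl | rfl | rfl | rfl | rfl | rfl
  exacts [part_10_12_7_2, part_10_12_7_4, part_10_12_7_5, part_10_12_7_6, part_10_12_7_8, part_10_12_7_9, part_10_12_7_11]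

set_option maxRecDepth 100000 in
theorem part_10_12_8_2 : dfsN 6 268435456 42771216 [4, 5, 6, 7, 9, 11] = true := by
  decide +kernel

set_option maxRecDepth 100000 in
theorem part_10_12_8_4 : dfsN 6 268435456 76325648 [2, 5, 6, 7, 9, 11] = true := by
  decide +kernel

set_option maxRecDepth 100000 in
theorem part_10_12_8_5 : dfsN 6 268435456 93102864 [2, 4, 6, 7, 9, 11] = true := by
  decide +kernel

set_option maxRecDepth 100000 in
theorem part_10_12_8_6 : dfsN 6 268435456 109880080 [2, 4, 5, 7, 9, 11] = true := by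
  decide +kernel

set_option maxRecDepth 100000 in
theorem part_10_12_8_7 : dfsN 6 268435456 126657296 [2, 4, 5, 6, 9, 11] = true := by
  decide +kernel

set_option maxRecDepth 100000 in
theorem part_10_12_8_9 : dfsN 6 268435456 160211728 [2, 4, 5, 6, 7, 11] = true := by
  decide +kernel

set_option maxRecDepth 100000 in
theorem part_10_12_8_11 : dfsN 6 268435456 193766160 [2, 4, 5, 6, 7, 9] = true := by
  decide +kernel

theorem part_10_12_8 : dfsN 7 16777216 9216784 [2, 4, 5, 6, 7, 9, 11] = true := by
  apply dfsN_step 6 16777216 9216784 [2, 4, 5, 6, 7, 9, 11]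
  intro v hv
  simp only [List.mem_cons, List.not_mem_nil, or_false] at hv
  rcases hv with rfl | rfl | rfl | rfl | rfl | rfl | rfl
  exacts [part_10_12_8_2, part_10_12_8_4, part_10_12_8_5, part_10_12_8_6, part_10_12_8_7, part_10_12_8_9, part_10_12_8_11]

set_option maxRecDepth 100000 in
theorem part_10_12_9_2 : dfsN 6 268435456 43819792 [4, 5, 6, 7, 8, 11] = true := by
  decide +kernel

set_option maxRecDepth 100000 in
theorem part_10_12_9_4 : dfsN 6 268435456 77374224 [2, 5, 6, 7, 8, 11] = true := by
  decide +kernel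

set_option maxRecDepth 100000 in
theorem part_10_12_9_5 : dfsN 6 268435456 94151440 [2, 4, 6, 7, 8, 11] = true := by
  decide +kernel

set_option maxRecDepth 100000 in
theorem part_10_12_9_6 : dfsN 6 268435456 110928656 [2, 4, 5, 7, 8, 11] = true := by
  decide +kernel

set_option maxRecDepth 100000 in
theorem part_10_12_9_7 : dfsN 6 268435456 127705872 [2, 4, 5, 6, 8, 11] = true := by
  decide +kernel

set_option maxRecDepth 100000 in
theorem part_10_12_9_8 : dfsN 6 268435456 144483088 [2, 4, 5, 6, 7, 11] = true := by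
  decide +kernel

set_option maxRecDepth 100000 in
theorem part_10_12_9_11 : dfsN 6 268435456 194814736 [2, 4, 5, 6, 7, 8] = true := by
  decide +kernel

theorem part_10_12_9 : dfsN 7 16777216 10265360 [2, 4, 5, 6, 7, 8, 11] = true := by
  apply dfsN_step 6 16777216 10265360 [2, 4, 5, 6, 7, 8, 11]
  intro v hv
  simp only [List.mem_cons, List.not_mem_nil, or_false] at hv
  rcases hv with rfl | rfl | rfl | rfl | rfl | rfl | rfl
  exacts [part_10_12_9_2, part_10_12_9_4, part_10_12_9_5, part_10_12_9_6, part_10_12_9_7, part_10_12_9_8, part_10_12_9_11]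

set_option maxRecDepth 100000 in
theorem part_10_12_11_2 : dfsN 6 268435456 45916944 [4, 5, 6, 7, 8, 9] = true := by
  decide +kernel

set_option maxRecDepth 100000 in
theorem part_10_12_11_4 : dfsN 6 268435456 79471376 [2, 5, 6, 7, 8, 9] = true := by
  decide +kernel

set_option maxRecDepth 100000 in
theorem part_10_12_11_5 : dfsN 6 268435456 96248592 [2, 4, 6, 7, 8, 9] = true := by
  decide +kernel

set_option maxRecDepth 100000 in
theorem part_10_12_11_6 : dfsN 6 268435456 113025808 [2, 4, 5, 7, 8, 9] = true := by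
  decide +kernel

set_option maxRecDepth 100000 in
theorem part_10_12_11_7 : dfsN 6 268435456 129803024 [2, 4, 5, 6, 8, 9] = true := by
  decide +kernel

set_option maxRecDepth 100000 in
theorem part_10_12_11_8 : dfsN 6 268435456 146580240 [2, 4, 5, 6, 7, 9] = true := by
  decide +kernel

set_option maxRecDepth 100000 in
theorem part_10_12_11_9 : dfsN 6 268435456 163357456 [2, 4, 5, 6, 7, 8] = true := by
  decide +kernel

theorem part_10_12_11 : dfsN 7 16777216 12362512 [2, 4, 5, 6, 7, 8, 9] = true := by
  apply dfsN_step 6 16777216 12362512 [2, 4, 5, 6, 7, 8, 9]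
  intro v hv
  simp only [List.mem_cons, List.not_mem_nil, or_false] at hv
  rcases hv with rfl | rfl | rfl | rfl | rfl | rfl | rfl
  exacts [part_10_12_11_2, part_10_12_11_4, part_10_12_11_5, part_10_12_11_6, part_10_12_11_7, part_10_12_11_8, part_10_12_11_9]

theorem part_10_12 : dfsN 8 1048576 828176 [2, 4, 5, 6, 7, 8, 9, 11] = true := by
  apply dfsN_step 7 1048576 828176 [2, 4, 5, 6, 7, 8, 9, 11]
  intro v hv
  simp only [List.mem_cons, List.not_mem_nil, or_false] at hv
  rcases hv with rfl | rfl | rfl | rfl | rfl | rfl | rfl | rfl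
  exacts [part_10_12_2, part_10_12_4, part_10_12_5, part_10_12_6, part_10_12_7, part_10_12_8, part_10_12_9, part_10_12_11]

end Cfsg.Agent.Lib.H16.AG
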