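import Cfsg.Agent.Lib.H16.AG.Step

set_option autoImplicit false

/-! Degree 13, images `0, 1, 3, 11, 2` of `0, 1, 2, 3, 4` fixed: every completion that is an
`11`-cycle has a word `(x ^ b * y ^ a) ^ k` which is a `3`-, `5`- or `7`-cycle
(small kernel computations, one per pair of images of `5, 6`). -/

namespace Cfsg.Agent.Lib.H16.AG

set_option maxRecDepth 100000 in
theorem part_11_2_4_5 : dfsN 6 268435456 88257296 [6, 7, 8, 9, 10, 12] = true := by
  decide +kernel

set_option maxRecDepth 100000 in
theorem part_11_2_4_6 : dfsN 6 268435456 105034512 [5, 7, 8, 9, 10, 12] = true := by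
  decide +kernel

set_option maxRecDepth 100000 in
theorem part_11_2_4_7 : dfsN 6 268435456 121811728 [5, 6, 8, 9, 10, 12] = true := by
  decide +kernel

set_option maxRecDepth 100000 in
theorem part_11_2_4_8 : dfsN 6 268435456 138588944 [5, 6, 7, 9, 10, 12] = true := by
  decide +kernel

set_option maxRecDepth 100000 in
theorem part_11_2_4_9 : dfsN 6 268435456 155366160 [5, 6, 7, 8, 10, 12] = true := by
  decide +kernel

set_option maxRecDepth 100000 in
theorem part_11_2_4_10 : dfsN 6 268435456 172143376 [5, 6, 7, 8, 9, 12] = true := by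
  decide +kernel

set_option maxRecDepth 100000 in
theorem part_11_2_4_12 : dfsN 6 268435456 205697808 [5, 6, 7, 8, 9, 10] = true := by
  decide +kernel

theorem part_11_2_4 : dfsN 7 16777216 4371216 [5, 6, 7, 8, 9, 10, 12] = true := by
  apply dfsN_step 6 16777216 4371216 [5, 6, 7, 8, 9, 10, 12]
  intro v hv
  simp only [List.mem_cons, List.not_mem_nil, or_false] at hv
  rcases hv with rfl | rfl | rfl | rfl | rfl | rfl | rfl
  exacts [part_11_2_4_5, part_11_2_4_6, part_11_2_4_7, part_11_2_4_8, part_11_2_4_9, part_11_2_4_10, part_11_2_4_12]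

set_option maxRecDepth 100000 in
theorem part_11_2_5_4 : dfsN 6 268435456 72528656 [6, 7, 8, 9, 10, 12] = true := by
  decide +kernel

set_option maxRecDepth 100000 in
theorem part_11_2_5_6 : dfsN 6 268435456 106083088 [4, 7, 8, 9, 10, 12] = true := by
  decide +kernel

set_option maxRecDepth 100000 in
theorem part_11_2_5_7 : dfsN 6 268435456 122860304 [4, 6, 8, 9, 10, 12] = true := by
  decide +kernel

set_option maxRecDepth 100000 in
theorem part_11_2_5_8 : dfsN 6 268435456 139637520 [4, 6, 7, 9, 10, 12] = true := by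
  decide +kernel

set_option maxRecDepth 100000 in
theorem part_11_2_5_9 : dfsN 6 268435456 156414736 [4, 6, 7, 8, 10, 12] = true := by
  decide +kernel

set_option maxRecDepth 100000 in
theorem part_11_2_5_10 : dfsN 6 268435456 173191952 [4, 6, 7, 8, 9, 12] = true := by
  decide +kernel

set_option maxRecDepth 100000 in
theorem part_11_2_5_12 : dfsN 6 268435456 206746384 [4, 6, 7, 8, 9, 10] = true := by
  decide +kernel

theorem part_11_2_5 : dfsN 7 16777216 5419792 [4, 6, 7, 8, 9, 10, 12] = true := by
  apply dfsN_step 6 16777216 5419792 [4, 6, 7, 8, 9, 10, 12]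
  intro v hv
  simp only [List.mem_cons, List.not_mem_nil, or_false] at hv
  rcases hv with rfl | rfl | rfl | rfl | rfl | rfl | rfl
  exacts [part_11_2_5_4, part_11_2_5_6, part_11_2_5_7, part_11_2_5_8, part_11_2_5_9, part_11_2_5_10, part_11_2_5_12]

set_option maxRecDepth 100000 in
theorem part_11_2_6_4 : dfsN 6 268435456 73577232 [5, 7, 8, 9, 10, 12] = true := by
  decide +kernel

set_option maxRecDepth 100000 in
theorem part_11_2_6_5 : dfsN 6 268435456 90354448 [4, 7, 8, 9, 10, 12] = true := by
  decide +kernel

set_option maxRecDepth 100000 in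
theorem part_11_2_6_7 : dfsN 6 268435456 123908880 [4, 5, 8, 9, 10, 12] = true := by
  decide +kernel

set_option maxRecDepth 100000 in
theorem part_11_2_6_8 : dfsN 6 268435456 140686096 [4, 5, 7, 9, 10, 12] = true := by
  decide +kernel

set_option maxRecDepth 100000 in
theorem part_11_2_6_9 : dfsN 6 268435456 157463312 [4, 5, 7, 8, 10, 12] = true := by
  decide +kernel

set_option maxRecDepth 100000 in
theorem part_11_2_6_10 : dfsN 6 268435456 174240528 [4, 5, 7, 8, 9, 12] = true := by
  decide +kernel

set_option maxRecDepth 100000 in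
theorem part_11_2_6_12 : dfsN 6 268435456 207794960 [4, 5, 7, 8, 9, 10] = true := by
  decide +kernel

theorem part_11_2_6 : dfsN 7 16777216 6468368 [4, 5, 7, 8, 9, 10, 12] = true := by
  apply dfsN_step 6 16777216 6468368 [4, 5, 7, 8, 9, 10, 12]
  intro v hv
  simp only [List.mem_cons, List.not_mem_nil, or_false] at hv
  rcases hv with rfl | rfl | rfl | rfl | rfl | rfl | rfl
  exacts [part_11_2_6_4, part_11_2_6_5, part_11_2_6_7, part_11_2_6_8, part_11_2_6_9, part_11_2_6_10, part_11_2_6_12]

set_option maxRecDepth 100000 in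
theorem part_11_2_7_4 : dfsN 6 268435456 74625808 [5, 6, 8, 9, 10, 12] = true := by
  decide +kernel

set_option maxRecDepth 100000 in
theorem part_11_2_7_5 : dfsN 6 268435456 91403024 [4, 6, 8, 9, 10, 12] = true := by
  decide +kernel

set_option maxRecDepth 100000 in
theorem part_11_2_7_6 : dfsN 6 268435456 108180240 [4, 5, 8, 9, 10, 12] = true := by
  decide +kernel

set_option maxRecDepth 100000 in
theorem part_11_2_7_8 : dfsN 6 268435456 141734672 [4, 5, 6, 9, 10, 12] = true := by
  decide +kernel

set_option maxRecDepth 100000 in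
theorem part_11_2_7_9 : dfsN 6 268435456 158511888 [4, 5, 6, 8, 10, 12] = true := by
  decide +kernel

set_option maxRecDepth 100000 in
theorem part_11_2_7_10 : dfsN 6 268435456 175289104 [4, 5, 6, 8, 9, 12] = true := by
  decide +kernel

set_option maxRecDepth 100000 in
theorem part_11_2_7_12 : dfsN 6 268435456 208843536 [4, 5, 6, 8, 9, 10] = true := by
  decide +kernel

theorem part_11_2_7 : dfsN 7 16777216 7516944 [4, 5, 6, 8, 9, 10, 12] = true := by
  apply dfsN_step 6 16777216 7516944 [4, 5, 6, 8, 9, 10, 12]
  intro v hv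
  simp only [List.mem_cons, List.not_mem_nil, or_false] at hv
  rcases hv with rfl | rfl | rfl | rfl | rfl | rfl | rfl
  exacts [part_11_2_7_4, part_11_2_7_5, part_11_2_7_6, part_11_2_7_8, part_11_2_7_9, part_11_2_7_10, part_11_2_7_12]

set_option maxRecDepth 100000 in
theorem part_11_2_8_4 : dfsN 6 268435456 75674384 [5, 6, 7, 9, 10, 12] = true := by
  decide +kernel

set_option maxRecDepth 100000 in
theorem part_11_2_8_5 : dfsN 6 268435456 92451600 [4, 6, 7, 9, 10, 12] = true := by
  decide +kernel

set_option maxRecDepth 100000 in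
theorem part_11_2_8_6 : dfsN 6 268435456 109228816 [4, 5, 7, 9, 10, 12] = true := by
  decide +kernel

set_option maxRecDepth 100000 in
theorem part_11_2_8_7 : dfsN 6 268435456 126006032 [4, 5, 6, 9, 10, 12] = true := by
  decide +kernel

set_option maxRecDepth 100000 in
theorem part_11_2_8_9 : dfsN 6 268435456 159560464 [4, 5, 6, 7, 10, 12] = true := by
  decide +kernel

set_option maxRecDepth 100000 in
theorem part_11_2_8_10 : dfsN 6 268435456 176337680 [4, 5, 6, 7, 9, 12] = true := by
  decide +kernel

set_option maxRecDepth 100000 in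
theorem part_11_2_8_12 : dfsN 6 268435456 209892112 [4, 5, 6, 7, 9, 10] = true := by
  decide +kernel

theorem part_11_2_8 : dfsN 7 16777216 8565520 [4, 5, 6, 7, 9, 10, 12] = true := by
  apply dfsN_step 6 16777216 8565520 [4, 5, 6, 7, 9, 10, 12]
  intro v hv
  simp only [List.mem_cons, List.not_mem_nil, or_false] at hv
  rcases hv with rfl | rfl | rfl | rfl | rfl | rfl | rfl
  exacts [part_11_2_8_4, part_11_2_8_5, part_11_2_8_6, part_11_2_8_7, part_11_2_8_9, part_11_2_8_10, part_11_2_8_12]

set_option maxRecDepth 100000 in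
theorem part_11_2_9_4 : dfsN 6 268435456 76722960 [5, 6, 7, 8, 10, 12] = true := by
  decide +kernel

set_option maxRecDepth 100000 in
theorem part_11_2_9_5 : dfsN 6 268435456 93500176 [4, 6, 7, 8, 10, 12] = true := by
  decide +kernel

set_option maxRecDepth 100000 in
theorem part_11_2_9_6 : dfsN 6 268435456 110277392 [4, 5, 7, 8, 10, 12] = true := by
  decide +kernel

set_option maxRecDepth 100000 in
theorem part_11_2_9_7 : dfsN 6 268435456 127054608 [4, 5, 6, 8, 10, 12] = true := by
  decide +kernel

set_option maxRecDepth 100000 in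
theorem part_11_2_9_8 : dfsN 6 268435456 143831824 [4, 5, 6, 7, 10, 12] = true := by
  decide +kernel

set_option maxRecDepth 100000 in
theorem part_11_2_9_10 : dfsN 6 268435456 177386256 [4, 5, 6, 7, 8, 12] = true := by
  decide +kernel

set_option maxRecDepth 100000 in
theorem part_11_2_9_12 : dfsN 6 268435456 210940688 [4, 5, 6, 7, 8, 10] = true := by
  decide +kernel

theorem part_11_2_9 : dfsN 7 16777216 9614096 [4, 5, 6, 7, 8, 10, 12] = true := by
  apply dfsN_step 6 16777216 9614096 [4, 5, 6, 7, 8, 10, 12]
  intro v hv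
  simp only [List.mem_cons, List.not_mem_nil, or_false] at hv
  rcases hv with rfl | rfl | rfl | rfl | rfl | rfl | rfl
  exacts [part_11_2_9_4, part_11_2_9_5, part_11_2_9_6, part_11_2_9_7, part_11_2_9_8, part_11_2_9_10, part_11_2_9_12]

set_option maxRecDepth 100000 in
theorem part_11_2_10_4 : dfsN 6 268435456 77771536 [5, 6, 7, 8, 9, 12] = true := by
  decide +kernel

set_option maxRecDepth 100000 in
theorem part_11_2_10_5 : dfsN 6 268435456 94548752 [4, 6, 7, 8, 9, 12] = true := by
  decide +kernel

set_option maxRecDepth 100000 in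
theorem part_11_2_10_6 : dfsN 6 268435456 111325968 [4, 5, 7, 8, 9, 12] = true := by
  decide +kernel

set_option maxRecDepth 100000 in
theorem part_11_2_10_7 : dfsN 6 268435456 128103184 [4, 5, 6, 8, 9, 12] = true := by
  decide +kernel

set_option maxRecDepth 100000 in
theorem part_11_2_10_8 : dfsN 6 268435456 144880400 [4, 5, 6, 7, 9, 12] = true := by
  decide +kernel

set_option maxRecDepth 100000 in
theorem part_11_2_10_9 : dfsN 6 268435456 161657616 [4, 5, 6, 7, 8, 12] = true := by
  decide +kernel

set_option maxRecDepth 100000 in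
theorem part_11_2_10_12 : dfsN 6 268435456 211989264 [4, 5, 6, 7, 8, 9] = true := by
  decide +kernel

theorem part_11_2_10 : dfsN 7 16777216 10662672 [4, 5, 6, 7, 8, 9, 12] = true := by
  apply dfsN_step 6 16777216 10662672 [4, 5, 6, 7, 8, 9, 12]
  intro v hv
  simp only [List.mem_cons, List.not_mem_nil, or_false] at hv
  rcases hv with rfl | rfl | rfl | rfl | rfl | rfl | rfl
  exacts [part_11_2_10_4, part_11_2_10_5, part_11_2_10_6, part_11_2_10_7, part_11_2_10_8, part_11_2_10_9, part_11_2_10_12]

set_option maxRecDepth 100000 in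
theorem part_11_2_12_4 : dfsN 6 268435456 79868688 [5, 6, 7, 8, 9, 10] = true := by
  decide +kernel

set_option maxRecDepth 100000 in
theorem part_11_2_12_5 : dfsN 6 268435456 96645904 [4, 6, 7, 8, 9, 10] = true := by
  decide +kernel

set_option maxRecDepth 100000 in
theorem part_11_2_12_6 : dfsN 6 268435456 113423120 [4, 5, 7, 8, 9, 10] = true := by
  decide +kernel

set_option maxRecDepth 100000 in
theorem part_11_2_12_7 : dfsN 6 268435456 130200336 [4, 5, 6, 8, 9, 10] = true := by
  decide +kernel

set_option maxRecDepth 100000 in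
theorem part_11_2_12_8 : dfsN 6 268435456 146977552 [4, 5, 6, 7, 9, 10] = true := by
  decide +kernel

set_option maxRecDepth 100000 in
theorem part_11_2_12_9 : dfsN 6 268435456 163754768 [4, 5, 6, 7, 8, 10] = true := by
  decide +kernel

set_option maxRecDepth 100000 in
theorem part_11_2_12_10 : dfsN 6 268435456 180531984 [4, 5, 6, 7, 8, 9] = true := by
  decide +kernel

theorem part_11_2_12 : dfsN 7 16777216 12759824 [4, 5, 6, 7, 8, 9, 10] = true := by
  apply dfsN_step 6 16777216 12759824 [4, 5, 6, 7, 8, 9, 10]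
  intro v hv
  simp only [List.mem_cons, List.not_mem_nil, or_false] at hv
  rcases hv with rfl | rfl | rfl | rfl | rfl | rfl | rfl
  exacts [part_11_2_12_4, part_11_2_12_5, part_11_2_12_6, part_11_2_12_7, part_11_2_12_8, part_11_2_12_9, part_11_2_12_10]

theorem part_11_2 : dfsN 8 1048576 176912 [4, 5, 6, 7, 8, 9, 10, 12] = true := by
  apply dfsN_step 7 1048576 176912 [4, 5, 6, 7, 8, 9, 10, 12]
  intro v hv
  simp only [List.mem_cons, List.not_mem_nil, or_false] at hv
  rcases hv with rfl | rfl | rfl | rfl | rfl | rfl | rfl | rfl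
  exacts [part_11_2_4, part_11_2_5, part_11_2_6, part_11_2_7, part_11_2_8, part_11_2_9, part_11_2_10, part_11_2_12]

end Cfsg.Agent.Lib.H16.AG
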