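import Cfsg.Agent.Lib.H16.AG.Step

set_option autoImplicit false

/-! Degree 13, images `0, 1, 3, 11, 4` of `0, 1, 2, 3, 4` fixed: every completion that is an
`11`-cycle has a word `(x ^ b * y ^ a) ^ k` which is a `3`-, `5`- or `7`-cycle
(small kernel computations, one per pair of images of `5, 6`). -/

namespace Cfsg.Agent.Lib.H16.AG

set_option maxRecDepth 100000 in
theorem part_11_4_2_5 : dfsN 6 268435456 86291216 [6, 7, 8, 9, 10, 12] = true := by
  decide +kernel

set_option maxRecDepth 100000 in
theorem part_11_4_2_6 : dfsN 6 268435456 103068432 [5, 7, 8, 9, 10, 12] = true := by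
  decide +kernel

set_option maxRecDepth 100000 in
theorem part_11_4_2_7 : dfsN 6 268435456 119845648 [5, 6, 8, 9, 10, 12] = true := by
  decide +kernel

set_option maxRecDepth 100000 in
theorem part_11_4_2_8 : dfsN 6 268435456 136622864 [5, 6, 7, 9, 10, 12] = true := by
  decide +kernel

set_option maxRecDepth 100000 in
theorem part_11_4_2_9 : dfsN 6 268435456 153400080 [5, 6, 7, 8, 10, 12] = true := by
  decide +kernel

set_option maxRecDepth 100000 in
theorem part_11_4_2_10 : dfsN 6 268435456 170177296 [5, 6, 7, 8, 9, 12] = true := by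
  decide +kernel

set_option maxRecDepth 100000 in
theorem part_11_4_2_12 : dfsN 6 268435456 203731728 [5, 6, 7, 8, 9, 10] = true := by
  decide +kernel

theorem part_11_4_2 : dfsN 7 16777216 2405136 [5, 6, 7, 8, 9, 10, 12] = true := by
  apply dfsN_step 6 16777216 2405136 [5, 6, 7, 8, 9, 10, 12]
  intro v hv
  simp only [List.mem_cons, List.not_mem_nil, or_false] at hv
  rcases hv with rfl | rfl | rfl | rfl | rfl | rfl | rfl
  exacts [part_11_4_2_5, part_11_4_2_6, part_11_4_2_7, part_11_4_2_8, part_11_4_2_9, part_11_4_2_10, part_11_4_2_12]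

set_option maxRecDepth 100000 in
theorem part_11_4_5_2 : dfsN 6 268435456 39105296 [6, 7, 8, 9, 10, 12] = true := by
  decide +kernel

set_option maxRecDepth 100000 in
theorem part_11_4_5_6 : dfsN 6 268435456 106214160 [2, 7, 8, 9, 10, 12] = true := by
  decide +kernel

set_option maxRecDepth 100000 in
theorem part_11_4_5_7 : dfsN 6 268435456 122991376 [2, 6, 8, 9, 10, 12] = true := by
  decide +kernel

set_option maxRecDepth 100000 in
theorem part_11_4_5_8 : dfsN 6 268435456 139768592 [2, 6, 7, 9, 10, 12] = true := by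
  decide +kernel

set_option maxRecDepth 100000 in
theorem part_11_4_5_9 : dfsN 6 268435456 156545808 [2, 6, 7, 8, 10, 12] = true := by
  decide +kernel

set_option maxRecDepth 100000 in
theorem part_11_4_5_10 : dfsN 6 268435456 173323024 [2, 6, 7, 8, 9, 12] = true := by
  decide +kernel

set_option maxRecDepth 100000 in
theorem part_11_4_5_12 : dfsN 6 268435456 206877456 [2, 6, 7, 8, 9, 10] = true := by
  decide +kernel

theorem part_11_4_5 : dfsN 7 16777216 5550864 [2, 6, 7, 8, 9, 10, 12] = true := by
  apply dfsN_step 6 16777216 5550864 [2, 6, 7, 8, 9, 10, 12]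
  intro v hv
  simp only [List.mem_cons, List.not_mem_nil, or_false] at hv
  rcases hv with rfl | rfl | rfl | rfl | rfl | rfl | rfl
  exacts [part_11_4_5_2, part_11_4_5_6, part_11_4_5_7, part_11_4_5_8, part_11_4_5_9, part_11_4_5_10, part_11_4_5_12]

set_option maxRecDepth 100000 in
theorem part_11_4_6_2 : dfsN 6 268435456 40153872 [5, 7, 8, 9, 10, 12] = true := by
  decide +kernel

set_option maxRecDepth 100000 in
theorem part_11_4_6_5 : dfsN 6 268435456 90485520 [2, 7, 8, 9, 10, 12] = true := by
  decide +kernel

set_option maxRecDepth 100000 in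
theorem part_11_4_6_7 : dfsN 6 268435456 124039952 [2, 5, 8, 9, 10, 12] = true := by
  decide +kernel

set_option maxRecDepth 100000 in
theorem part_11_4_6_8 : dfsN 6 268435456 140817168 [2, 5, 7, 9, 10, 12] = true := by
  decide +kernel

set_option maxRecDepth 100000 in
theorem part_11_4_6_9 : dfsN 6 268435456 157594384 [2, 5, 7, 8, 10, 12] = true := by
  decide +kernel

set_option maxRecDepth 100000 in
theorem part_11_4_6_10 : dfsN 6 268435456 174371600 [2, 5, 7, 8, 9, 12] = true := by
  decide +kernel

set_option maxRecDepth 100000 in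
theorem part_11_4_6_12 : dfsN 6 268435456 207926032 [2, 5, 7, 8, 9, 10] = true := by
  decide +kernel

theorem part_11_4_6 : dfsN 7 16777216 6599440 [2, 5, 7, 8, 9, 10, 12] = true := by
  apply dfsN_step 6 16777216 6599440 [2, 5, 7, 8, 9, 10, 12]
  intro v hv
  simp only [List.mem_cons, List.not_mem_nil, or_false] at hv
  rcases hv with rfl | rfl | rfl | rfl | rfl | rfl | rfl
  exacts [part_11_4_6_2, part_11_4_6_5, part_11_4_6_7, part_11_4_6_8, part_11_4_6_9, part_11_4_6_10, part_11_4_6_12]

set_option maxRecDepth 100000 in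
theorem part_11_4_7_2 : dfsN 6 268435456 41202448 [5, 6, 8, 9, 10, 12] = true := by
  decide +kernel

set_option maxRecDepth 100000 in
theorem part_11_4_7_5 : dfsN 6 268435456 91534096 [2, 6, 8, 9, 10, 12] = true := by
  decide +kernel

set_option maxRecDepth 100000 in
theorem part_11_4_7_6 : dfsN 6 268435456 108311312 [2, 5, 8, 9, 10, 12] = true := by
  decide +kernel

set_option maxRecDepth 100000 in
theorem part_11_4_7_8 : dfsN 6 268435456 141865744 [2, 5, 6, 9, 10, 12] = true := by
  decide +kernel

set_option maxRecDepth 100000 in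
theorem part_11_4_7_9 : dfsN 6 268435456 158642960 [2, 5, 6, 8, 10, 12] = true := by
  decide +kernel

set_option maxRecDepth 100000 in
theorem part_11_4_7_10 : dfsN 6 268435456 175420176 [2, 5, 6, 8, 9, 12] = true := by
  decide +kernel

set_option maxRecDepth 100000 in
theorem part_11_4_7_12 : dfsN 6 268435456 208974608 [2, 5, 6, 8, 9, 10] = true := by
  decide +kernel

theorem part_11_4_7 : dfsN 7 16777216 7648016 [2, 5, 6, 8, 9, 10, 12] = true := by
  apply dfsN_step 6 16777216 7648016 [2, 5, 6, 8, 9, 10, 12]
  intro v hv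
  simp only [List.mem_cons, List.not_mem_nil, or_false] at hv
  rcases hv with rfl | rfl | rfl | rfl | rfl | rfl | rfl
  exacts [part_11_4_7_2, part_11_4_7_5, part_11_4_7_6, part_11_4_7_8, part_11_4_7_9, part_11_4_7_10, part_11_4_7_12]

set_option maxRecDepth 100000 in
theorem part_11_4_8_2 : dfsN 6 268435456 42251024 [5, 6, 7, 9, 10, 12] = true := by
  decide +kernel

set_option maxRecDepth 100000 in
theorem part_11_4_8_5 : dfsN 6 268435456 92582672 [2, 6, 7, 9, 10, 12] = true := by
  decide +kernel

set_option maxRecDepth 100000 in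
theorem part_11_4_8_6 : dfsN 6 268435456 109359888 [2, 5, 7, 9, 10, 12] = true := by
  decide +kernel

set_option maxRecDepth 100000 in
theorem part_11_4_8_7 : dfsN 6 268435456 126137104 [2, 5, 6, 9, 10, 12] = true := by
  decide +kernel

set_option maxRecDepth 100000 in
theorem part_11_4_8_9 : dfsN 6 268435456 159691536 [2, 5, 6, 7, 10, 12] = true := by
  decide +kernel

set_option maxRecDepth 100000 in
theorem part_11_4_8_10 : dfsN 6 268435456 176468752 [2, 5, 6, 7, 9, 12] = true := by
  decide +kernel

set_option maxRecDepth 100000 in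
theorem part_11_4_8_12 : dfsN 6 268435456 210023184 [2, 5, 6, 7, 9, 10] = true := by
  decide +kernel

theorem part_11_4_8 : dfsN 7 16777216 8696592 [2, 5, 6, 7, 9, 10, 12] = true := by
  apply dfsN_step 6 16777216 8696592 [2, 5, 6, 7, 9, 10, 12]
  intro v hv
  simp only [List.mem_cons, List.not_mem_nil, or_false] at hv
  rcases hv with rfl | rfl | rfl | rfl | rfl | rfl | rfl
  exacts [part_11_4_8_2, part_11_4_8_5, part_11_4_8_6, part_11_4_8_7, part_11_4_8_9, part_11_4_8_10, part_11_4_8_12]

set_option maxRecDepth 100000 in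
theorem part_11_4_9_2 : dfsN 6 268435456 43299600 [5, 6, 7, 8, 10, 12] = true := by
  decide +kernel

set_option maxRecDepth 100000 in
theorem part_11_4_9_5 : dfsN 6 268435456 93631248 [2, 6, 7, 8, 10, 12] = true := by
  decide +kernel

set_option maxRecDepth 100000 in
theorem part_11_4_9_6 : dfsN 6 268435456 110408464 [2, 5, 7, 8, 10, 12] = true := by
  decide +kernel

set_option maxRecDepth 100000 in
theorem part_11_4_9_7 : dfsN 6 268435456 127185680 [2, 5, 6, 8, 10, 12] = true := by
  decide +kernel

set_option maxRecDepth 100000 in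
theorem part_11_4_9_8 : dfsN 6 268435456 143962896 [2, 5, 6, 7, 10, 12] = true := by
  decide +kernel

set_option maxRecDepth 100000 in
theorem part_11_4_9_10 : dfsN 6 268435456 177517328 [2, 5, 6, 7, 8, 12] = true := by
  decide +kernel

set_option maxRecDepth 100000 in
theorem part_11_4_9_12 : dfsN 6 268435456 211071760 [2, 5, 6, 7, 8, 10] = true := by
  decide +kernel

theorem part_11_4_9 : dfsN 7 16777216 9745168 [2, 5, 6, 7, 8, 10, 12] = true := by
  apply dfsN_step 6 16777216 9745168 [2, 5, 6, 7, 8, 10, 12]
  intro v hv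
  simp only [List.mem_cons, List.not_mem_nil, or_false] at hv
  rcases hv with rfl | rfl | rfl | rfl | rfl | rfl | rfl
  exacts [part_11_4_9_2, part_11_4_9_5, part_11_4_9_6, part_11_4_9_7, part_11_4_9_8, part_11_4_9_10, part_11_4_9_12]

set_option maxRecDepth 100000 in
theorem part_11_4_10_2 : dfsN 6 268435456 44348176 [5, 6, 7, 8, 9, 12] = true := by
  decide +kernel

set_option maxRecDepth 100000 in
theorem part_11_4_10_5 : dfsN 6 268435456 94679824 [2, 6, 7, 8, 9, 12] = true := by
  decide +kernel

set_option maxRecDepth 100000 in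
theorem part_11_4_10_6 : dfsN 6 268435456 111457040 [2, 5, 7, 8, 9, 12] = true := by
  decide +kernel

set_option maxRecDepth 100000 in
theorem part_11_4_10_7 : dfsN 6 268435456 128234256 [2, 5, 6, 8, 9, 12] = true := by
  decide +kernel

set_option maxRecDepth 100000 in
theorem part_11_4_10_8 : dfsN 6 268435456 145011472 [2, 5, 6, 7, 9, 12] = true := by
  decide +kernel

set_option maxRecDepth 100000 in
theorem part_11_4_10_9 : dfsN 6 268435456 161788688 [2, 5, 6, 7, 8, 12] = true := by
  decide +kernel

set_option maxRecDepth 100000 in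
theorem part_11_4_10_12 : dfsN 6 268435456 212120336 [2, 5, 6, 7, 8, 9] = true := by
  decide +kernel

theorem part_11_4_10 : dfsN 7 16777216 10793744 [2, 5, 6, 7, 8, 9, 12] = true := by
  apply dfsN_step 6 16777216 10793744 [2, 5, 6, 7, 8, 9, 12]
  intro v hv
  simp only [List.mem_cons, List.not_mem_nil, or_false] at hv
  rcases hv with rfl | rfl | rfl | rfl | rfl | rfl | rfl
  exacts [part_11_4_10_2, part_11_4_10_5, part_11_4_10_6, part_11_4_10_7, part_11_4_10_8, part_11_4_10_9, part_11_4_10_12]

set_option maxRecDepth 100000 in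
theorem part_11_4_12_2 : dfsN 6 268435456 46445328 [5, 6, 7, 8, 9, 10] = true := by
  decide +kernel

set_option maxRecDepth 100000 in
theorem part_11_4_12_5 : dfsN 6 268435456 96776976 [2, 6, 7, 8, 9, 10] = true := by
  decide +kernel

set_option maxRecDepth 100000 in
theorem part_11_4_12_6 : dfsN 6 268435456 113554192 [2, 5, 7, 8, 9, 10] = true := by
  decide +kernel

set_option maxRecDepth 100000 in
theorem part_11_4_12_7 : dfsN 6 268435456 130331408 [2, 5, 6, 8, 9, 10] = true := by
  decide +kernel

set_option maxRecDepth 100000 in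
theorem part_11_4_12_8 : dfsN 6 268435456 147108624 [2, 5, 6, 7, 9, 10] = true := by
  decide +kernel

set_option maxRecDepth 100000 in
theorem part_11_4_12_9 : dfsN 6 268435456 163885840 [2, 5, 6, 7, 8, 10] = true := by
  decide +kernel

set_option maxRecDepth 100000 in
theorem part_11_4_12_10 : dfsN 6 268435456 180663056 [2, 5, 6, 7, 8, 9] = true := by
  decide +kernel

theorem part_11_4_12 : dfsN 7 16777216 12890896 [2, 5, 6, 7, 8, 9, 10] = true := by
  apply dfsN_step 6 16777216 12890896 [2, 5, 6, 7, 8, 9, 10]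
  intro v hv
  simp only [List.mem_cons, List.not_mem_nil, or_false] at hv
  rcases hv with rfl | rfl | rfl | rfl | rfl | rfl | rfl
  exacts [part_11_4_12_2, part_11_4_12_5, part_11_4_12_6, part_11_4_12_7, part_11_4_12_8, part_11_4_12_9, part_11_4_12_10]

theorem part_11_4 : dfsN 8 1048576 307984 [2, 5, 6, 7, 8, 9, 10, 12] = true := by
  apply dfsN_step 7 1048576 307984 [2, 5, 6, 7, 8, 9, 10, 12]
  intro v hv
  simp only [List.mem_cons, List.not_mem_nil, or_false] at hv
  rcases hv with rfl | rfl | rfl | rfl | rfl | rfl | rfl | rfl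
  exacts [part_11_4_2, part_11_4_5, part_11_4_6, part_11_4_7, part_11_4_8, part_11_4_9, part_11_4_10, part_11_4_12]

end Cfsg.Agent.Lib.H16.AG
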