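import Cfsg.Agent.Lib.H16.AG.Step

set_option autoImplicit false

/-! Degree 13, images `0, 1, 3, 11, 5` of `0, 1, 2, 3, 4` fixed: every completion that is an
`11`-cycle has a word `(x ^ b * y ^ a) ^ k` which is a `3`-, `5`- or `7`-cycle
(small kernel computations, one per pair of images of `5, 6`). -/

namespace Cfsg.Agent.Lib.H16.AG

set_option maxRecDepth 100000 in
theorem part_11_5_2_4 : dfsN 6 268435456 69579536 [6, 7, 8, 9, 10, 12] = true := by
  decide +kernel

set_option maxRecDepth 100000 in
theorem part_11_5_2_6 : dfsN 6 268435456 103133968 [4, 7, 8, 9, 10, 12] = true := by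
  decide +kernel

set_option maxRecDepth 100000 in
theorem part_11_5_2_7 : dfsN 6 268435456 119911184 [4, 6, 8, 9, 10, 12] = true := by
  decide +kernel

set_option maxRecDepth 100000 in
theorem part_11_5_2_8 : dfsN 6 268435456 136688400 [4, 6, 7, 9, 10, 12] = true := by
  decide +kernel

set_option maxRecDepth 100000 in
theorem part_11_5_2_9 : dfsN 6 268435456 153465616 [4, 6, 7, 8, 10, 12] = true := by
  decide +kernel

set_option maxRecDepth 100000 in
theorem part_11_5_2_10 : dfsN 6 268435456 170242832 [4, 6, 7, 8, 9, 12] = true := by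
  decide +kernel

set_option maxRecDepth 100000 in
theorem part_11_5_2_12 : dfsN 6 268435456 203797264 [4, 6, 7, 8, 9, 10] = true := by
  decide +kernel

theorem part_11_5_2 : dfsN 7 16777216 2470672 [4, 6, 7, 8, 9, 10, 12] = true := by
  apply dfsN_step 6 16777216 2470672 [4, 6, 7, 8, 9, 10, 12]
  intro v hv
  simp only [List.mem_cons, List.not_mem_nil, or_false] at hv
  rcases hv with rfl | rfl | rfl | rfl | rfl | rfl | rfl
  exacts [part_11_5_2_4, part_11_5_2_6, part_11_5_2_7, part_11_5_2_8, part_11_5_2_9, part_11_5_2_10, part_11_5_2_12]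

set_option maxRecDepth 100000 in
theorem part_11_5_4_2 : dfsN 6 268435456 38122256 [6, 7, 8, 9, 10, 12] = true := by
  decide +kernel

set_option maxRecDepth 100000 in
theorem part_11_5_4_6 : dfsN 6 268435456 105231120 [2, 7, 8, 9, 10, 12] = true := by
  decide +kernel

set_option maxRecDepth 100000 in
theorem part_11_5_4_7 : dfsN 6 268435456 122008336 [2, 6, 8, 9, 10, 12] = true := by
  decide +kernel

set_option maxRecDepth 100000 in
theorem part_11_5_4_8 : dfsN 6 268435456 138785552 [2, 6, 7, 9, 10, 12] = true := by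
  decide +kernel

set_option maxRecDepth 100000 in
theorem part_11_5_4_9 : dfsN 6 268435456 155562768 [2, 6, 7, 8, 10, 12] = true := by
  decide +kernel

set_option maxRecDepth 100000 in
theorem part_11_5_4_10 : dfsN 6 268435456 172339984 [2, 6, 7, 8, 9, 12] = true := by
  decide +kernel

set_option maxRecDepth 100000 in
theorem part_11_5_4_12 : dfsN 6 268435456 205894416 [2, 6, 7, 8, 9, 10] = true := by
  decide +kernel

theorem part_11_5_4 : dfsN 7 16777216 4567824 [2, 6, 7, 8, 9, 10, 12] = true := by
  apply dfsN_step 6 16777216 4567824 [2, 6, 7, 8, 9, 10, 12]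
  intro v hv
  simp only [List.mem_cons, List.not_mem_nil, or_false] at hv
  rcases hv with rfl | rfl | rfl | rfl | rfl | rfl | rfl
  exacts [part_11_5_4_2, part_11_5_4_6, part_11_5_4_7, part_11_5_4_8, part_11_5_4_9, part_11_5_4_10, part_11_5_4_12]

set_option maxRecDepth 100000 in
theorem part_11_5_6_2 : dfsN 6 268435456 40219408 [4, 7, 8, 9, 10, 12] = true := by
  decide +kernel

set_option maxRecDepth 100000 in
theorem part_11_5_6_4 : dfsN 6 268435456 73773840 [2, 7, 8, 9, 10, 12] = true := by
  decide +kernel

set_option maxRecDepth 100000 in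
theorem part_11_5_6_7 : dfsN 6 268435456 124105488 [2, 4, 8, 9, 10, 12] = true := by
  decide +kernel

set_option maxRecDepth 100000 in
theorem part_11_5_6_8 : dfsN 6 268435456 140882704 [2, 4, 7, 9, 10, 12] = true := by
  decide +kernel

set_option maxRecDepth 100000 in
theorem part_11_5_6_9 : dfsN 6 268435456 157659920 [2, 4, 7, 8, 10, 12] = true := by
  decide +kernel

set_option maxRecDepth 100000 in
theorem part_11_5_6_10 : dfsN 6 268435456 174437136 [2, 4, 7, 8, 9, 12] = true := by
  decide +kernel

set_option maxRecDepth 100000 in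
theorem part_11_5_6_12 : dfsN 6 268435456 207991568 [2, 4, 7, 8, 9, 10] = true := by
  decide +kernel

theorem part_11_5_6 : dfsN 7 16777216 6664976 [2, 4, 7, 8, 9, 10, 12] = true := by
  apply dfsN_step 6 16777216 6664976 [2, 4, 7, 8, 9, 10, 12]
  intro v hv
  simp only [List.mem_cons, List.not_mem_nil, or_false] at hv
  rcases hv with rfl | rfl | rfl | rfl | rfl | rfl | rfl
  exacts [part_11_5_6_2, part_11_5_6_4, part_11_5_6_7, part_11_5_6_8, part_11_5_6_9, part_11_5_6_10, part_11_5_6_12]

set_option maxRecDepth 100000 in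
theorem part_11_5_7_2 : dfsN 6 268435456 41267984 [4, 6, 8, 9, 10, 12] = true := by
  decide +kernel

set_option maxRecDepth 100000 in
theorem part_11_5_7_4 : dfsN 6 268435456 74822416 [2, 6, 8, 9, 10, 12] = true := by
  decide +kernel

set_option maxRecDepth 100000 in
theorem part_11_5_7_6 : dfsN 6 268435456 108376848 [2, 4, 8, 9, 10, 12] = true := by
  decide +kernel

set_option maxRecDepth 100000 in
theorem part_11_5_7_8 : dfsN 6 268435456 141931280 [2, 4, 6, 9, 10, 12] = true := by
  decide +kernel

set_option maxRecDepth 100000 in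
theorem part_11_5_7_9 : dfsN 6 268435456 158708496 [2, 4, 6, 8, 10, 12] = true := by
  decide +kernel

set_option maxRecDepth 100000 in
theorem part_11_5_7_10 : dfsN 6 268435456 175485712 [2, 4, 6, 8, 9, 12] = true := by
  decide +kernel

set_option maxRecDepth 100000 in
theorem part_11_5_7_12 : dfsN 6 268435456 209040144 [2, 4, 6, 8, 9, 10] = true := by
  decide +kernel

theorem part_11_5_7 : dfsN 7 16777216 7713552 [2, 4, 6, 8, 9, 10, 12] = true := by
  apply dfsN_step 6 16777216 7713552 [2, 4, 6, 8, 9, 10, 12]
  intro v hv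
  simp only [List.mem_cons, List.not_mem_nil, or_false] at hv
  rcases hv with rfl | rfl | rfl | rfl | rfl | rfl | rfl
  exacts [part_11_5_7_2, part_11_5_7_4, part_11_5_7_6, part_11_5_7_8, part_11_5_7_9, part_11_5_7_10, part_11_5_7_12]

set_option maxRecDepth 100000 in
theorem part_11_5_8_2 : dfsN 6 268435456 42316560 [4, 6, 7, 9, 10, 12] = true := by
  decide +kernel

set_option maxRecDepth 100000 in
theorem part_11_5_8_4 : dfsN 6 268435456 75870992 [2, 6, 7, 9, 10, 12] = true := by
  decide +kernel

set_option maxRecDepth 100000 in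
theorem part_11_5_8_6 : dfsN 6 268435456 109425424 [2, 4, 7, 9, 10, 12] = true := by
  decide +kernel

set_option maxRecDepth 100000 in
theorem part_11_5_8_7 : dfsN 6 268435456 126202640 [2, 4, 6, 9, 10, 12] = true := by
  decide +kernel

set_option maxRecDepth 100000 in
theorem part_11_5_8_9 : dfsN 6 268435456 159757072 [2, 4, 6, 7, 10, 12] = true := by
  decide +kernel

set_option maxRecDepth 100000 in
theorem part_11_5_8_10 : dfsN 6 268435456 176534288 [2, 4, 6, 7, 9, 12] = true := by
  decide +kernel

set_option maxRecDepth 100000 in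
theorem part_11_5_8_12 : dfsN 6 268435456 210088720 [2, 4, 6, 7, 9, 10] = true := by
  decide +kernel

theorem part_11_5_8 : dfsN 7 16777216 8762128 [2, 4, 6, 7, 9, 10, 12] = true := by
  apply dfsN_step 6 16777216 8762128 [2, 4, 6, 7, 9, 10, 12]
  intro v hv
  simp only [List.mem_cons, List.not_mem_nil, or_false] at hv
  rcases hv with rfl | rfl | rfl | rfl | rfl | rfl | rfl
  exacts [part_11_5_8_2, part_11_5_8_4, part_11_5_8_6, part_11_5_8_7, part_11_5_8_9, part_11_5_8_10, part_11_5_8_12]

set_option maxRecDepth 100000 in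
theorem part_11_5_9_2 : dfsN 6 268435456 43365136 [4, 6, 7, 8, 10, 12] = true := by
  decide +kernel

set_option maxRecDepth 100000 in
theorem part_11_5_9_4 : dfsN 6 268435456 76919568 [2, 6, 7, 8, 10, 12] = true := by
  decide +kernel

set_option maxRecDepth 100000 in
theorem part_11_5_9_6 : dfsN 6 268435456 110474000 [2, 4, 7, 8, 10, 12] = true := by
  decide +kernel

set_option maxRecDepth 100000 in
theorem part_11_5_9_7 : dfsN 6 268435456 127251216 [2, 4, 6, 8, 10, 12] = true := by
  decide +kernel

set_option maxRecDepth 100000 in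
theorem part_11_5_9_8 : dfsN 6 268435456 144028432 [2, 4, 6, 7, 10, 12] = true := by
  decide +kernel

set_option maxRecDepth 100000 in
theorem part_11_5_9_10 : dfsN 6 268435456 177582864 [2, 4, 6, 7, 8, 12] = true := by
  decide +kernel

set_option maxRecDepth 100000 in
theorem part_11_5_9_12 : dfsN 6 268435456 211137296 [2, 4, 6, 7, 8, 10] = true := by
  decide +kernel

theorem part_11_5_9 : dfsN 7 16777216 9810704 [2, 4, 6, 7, 8, 10, 12] = true := by
  apply dfsN_step 6 16777216 9810704 [2, 4, 6, 7, 8, 10, 12]
  intro v hv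
  simp only [List.mem_cons, List.not_mem_nil, or_false] at hv
  rcases hv with rfl | rfl | rfl | rfl | rfl | rfl | rfl
  exacts [part_11_5_9_2, part_11_5_9_4, part_11_5_9_6, part_11_5_9_7, part_11_5_9_8, part_11_5_9_10, part_11_5_9_12]

set_option maxRecDepth 100000 in
theorem part_11_5_10_2 : dfsN 6 268435456 44413712 [4, 6, 7, 8, 9, 12] = true := by
  decide +kernel

set_option maxRecDepth 100000 in
theorem part_11_5_10_4 : dfsN 6 268435456 77968144 [2, 6, 7, 8, 9, 12] = true := by
  decide +kernel

set_option maxRecDepth 100000 in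
theorem part_11_5_10_6 : dfsN 6 268435456 111522576 [2, 4, 7, 8, 9, 12] = true := by
  decide +kernel

set_option maxRecDepth 100000 in
theorem part_11_5_10_7 : dfsN 6 268435456 128299792 [2, 4, 6, 8, 9, 12] = true := by
  decide +kernel

set_option maxRecDepth 100000 in
theorem part_11_5_10_8 : dfsN 6 268435456 145077008 [2, 4, 6, 7, 9, 12] = true := by
  decide +kernel

set_option maxRecDepth 100000 in
theorem part_11_5_10_9 : dfsN 6 268435456 161854224 [2, 4, 6, 7, 8, 12] = true := by
  decide +kernel

set_option maxRecDepth 100000 in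
theorem part_11_5_10_12 : dfsN 6 268435456 212185872 [2, 4, 6, 7, 8, 9] = true := by
  decide +kernel

theorem part_11_5_10 : dfsN 7 16777216 10859280 [2, 4, 6, 7, 8, 9, 12] = true := by
  apply dfsN_step 6 16777216 10859280 [2, 4, 6, 7, 8, 9, 12]
  intro v hv
  simp only [List.mem_cons, List.not_mem_nil, or_false] at hv
  rcases hv with rfl | rfl | rfl | rfl | rfl | rfl | rfl
  exacts [part_11_5_10_2, part_11_5_10_4, part_11_5_10_6, part_11_5_10_7, part_11_5_10_8, part_11_5_10_9, part_11_5_10_12]

set_option maxRecDepth 100000 in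
theorem part_11_5_12_2 : dfsN 6 268435456 46510864 [4, 6, 7, 8, 9, 10] = true := by
  decide +kernel

set_option maxRecDepth 100000 in
theorem part_11_5_12_4 : dfsN 6 268435456 80065296 [2, 6, 7, 8, 9, 10] = true := by
  decide +kernel

set_option maxRecDepth 100000 in
theorem part_11_5_12_6 : dfsN 6 268435456 113619728 [2, 4, 7, 8, 9, 10] = true := by
  decide +kernel

set_option maxRecDepth 100000 in
theorem part_11_5_12_7 : dfsN 6 268435456 130396944 [2, 4, 6, 8, 9, 10] = true := by
  decide +kernel

set_option maxRecDepth 100000 in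
theorem part_11_5_12_8 : dfsN 6 268435456 147174160 [2, 4, 6, 7, 9, 10] = true := by
  decide +kernel

set_option maxRecDepth 100000 in
theorem part_11_5_12_9 : dfsN 6 268435456 163951376 [2, 4, 6, 7, 8, 10] = true := by
  decide +kernel

set_option maxRecDepth 100000 in
theorem part_11_5_12_10 : dfsN 6 268435456 180728592 [2, 4, 6, 7, 8, 9] = true := by
  decide +kernel

theorem part_11_5_12 : dfsN 7 16777216 12956432 [2, 4, 6, 7, 8, 9, 10] = true := by
  apply dfsN_step 6 16777216 12956432 [2, 4, 6, 7, 8, 9, 10]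
  intro v hv
  simp only [List.mem_cons, List.not_mem_nil, or_false] at hv
  rcases hv with rfl | rfl | rfl | rfl | rfl | rfl | rfl
  exacts [part_11_5_12_2, part_11_5_12_4, part_11_5_12_6, part_11_5_12_7, part_11_5_12_8, part_11_5_12_9, part_11_5_12_10]

theorem part_11_5 : dfsN 8 1048576 373520 [2, 4, 6, 7, 8, 9, 10, 12] = true := by
  apply dfsN_step 7 1048576 373520 [2, 4, 6, 7, 8, 9, 10, 12]
  intro v hv
  simp only [List.mem_cons, List.not_mem_nil, or_false] at hv
  rcases hv with rfl | rfl | rfl | rfl | rfl | rfl | rfl | rfl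
  exacts [part_11_5_2, part_11_5_4, part_11_5_6, part_11_5_7, part_11_5_8, part_11_5_9, part_11_5_10, part_11_5_12]

end Cfsg.Agent.Lib.H16.AG
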