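import Cfsg.Agent.Lib.H16.AG.Step

set_option autoImplicit false

/-! Degree 13, images `0, 1, 3, 11, 6` of `0, 1, 2, 3, 4` fixed: every completion that is an
`11`-cycle has a word `(x ^ b * y ^ a) ^ k` which is a `3`-, `5`- or `7`-cycle
(small kernel computations, one per pair of images of `5, 6`). -/

namespace Cfsg.Agent.Lib.H16.AG

set_option maxRecDepth 100000 in
theorem part_11_6_2_4 : dfsN 6 268435456 69645072 [5, 7, 8, 9, 10, 12] = true := by
  decide +kernel

set_option maxRecDepth 100000 in
theorem part_11_6_2_5 : dfsN 6 268435456 86422288 [4, 7, 8, 9, 10, 12] = true := by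
  decide +kernel

set_option maxRecDepth 100000 in
theorem part_11_6_2_7 : dfsN 6 268435456 119976720 [4, 5, 8, 9, 10, 12] = true := by
  decide +kernel

set_option maxRecDepth 100000 in
theorem part_11_6_2_8 : dfsN 6 268435456 136753936 [4, 5, 7, 9, 10, 12] = true := by
  decide +kernel

set_option maxRecDepth 100000 in
theorem part_11_6_2_9 : dfsN 6 268435456 153531152 [4, 5, 7, 8, 10, 12] = true := by
  decide +kernel

set_option maxRecDepth 100000 in
theorem part_11_6_2_10 : dfsN 6 268435456 170308368 [4, 5, 7, 8, 9, 12] = true := by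
  decide +kernel

set_option maxRecDepth 100000 in
theorem part_11_6_2_12 : dfsN 6 268435456 203862800 [4, 5, 7, 8, 9, 10] = true := by
  decide +kernel

theorem part_11_6_2 : dfsN 7 16777216 2536208 [4, 5, 7, 8, 9, 10, 12] = true := by
  apply dfsN_step 6 16777216 2536208 [4, 5, 7, 8, 9, 10, 12]
  intro v hv
  simp only [List.mem_cons, List.not_mem_nil, or_false] at hv
  rcases hv with rfl | rfl | rfl | rfl | rfl | rfl | rfl
  exacts [part_11_6_2_4, part_11_6_2_5, part_11_6_2_7, part_11_6_2_8, part_11_6_2_9, part_11_6_2_10, part_11_6_2_12]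

set_option maxRecDepth 100000 in
theorem part_11_6_4_2 : dfsN 6 268435456 38187792 [5, 7, 8, 9, 10, 12] = true := by
  decide +kernel

set_option maxRecDepth 100000 in
theorem part_11_6_4_5 : dfsN 6 268435456 88519440 [2, 7, 8, 9, 10, 12] = true := by
  decide +kernel

set_option maxRecDepth 100000 in
theorem part_11_6_4_7 : dfsN 6 268435456 122073872 [2, 5, 8, 9, 10, 12] = true := by
  decide +kernel

set_option maxRecDepth 100000 in
theorem part_11_6_4_8 : dfsN 6 268435456 138851088 [2, 5, 7, 9, 10, 12] = true := by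
  decide +kernel

set_option maxRecDepth 100000 in
theorem part_11_6_4_9 : dfsN 6 268435456 155628304 [2, 5, 7, 8, 10, 12] = true := by
  decide +kernel

set_option maxRecDepth 100000 in
theorem part_11_6_4_10 : dfsN 6 268435456 172405520 [2, 5, 7, 8, 9, 12] = true := by
  decide +kernel

set_option maxRecDepth 100000 in
theorem part_11_6_4_12 : dfsN 6 268435456 205959952 [2, 5, 7, 8, 9, 10] = true := by
  decide +kernel

theorem part_11_6_4 : dfsN 7 16777216 4633360 [2, 5, 7, 8, 9, 10, 12] = true := by
  apply dfsN_step 6 16777216 4633360 [2, 5, 7, 8, 9, 10, 12]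
  intro v hv
  simp only [List.mem_cons, List.not_mem_nil, or_false] at hv
  rcases hv with rfl | rfl | rfl | rfl | rfl | rfl | rfl
  exacts [part_11_6_4_2, part_11_6_4_5, part_11_6_4_7, part_11_6_4_8, part_11_6_4_9, part_11_6_4_10, part_11_6_4_12]

set_option maxRecDepth 100000 in
theorem part_11_6_5_2 : dfsN 6 268435456 39236368 [4, 7, 8, 9, 10, 12] = true := by
  decide +kernel

set_option maxRecDepth 100000 in
theorem part_11_6_5_4 : dfsN 6 268435456 72790800 [2, 7, 8, 9, 10, 12] = true := by
  decide +kernel

set_option maxRecDepth 100000 in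
theorem part_11_6_5_7 : dfsN 6 268435456 123122448 [2, 4, 8, 9, 10, 12] = true := by
  decide +kernel

set_option maxRecDepth 100000 in
theorem part_11_6_5_8 : dfsN 6 268435456 139899664 [2, 4, 7, 9, 10, 12] = true := by
  decide +kernel

set_option maxRecDepth 100000 in
theorem part_11_6_5_9 : dfsN 6 268435456 156676880 [2, 4, 7, 8, 10, 12] = true := by
  decide +kernel

set_option maxRecDepth 100000 in
theorem part_11_6_5_10 : dfsN 6 268435456 173454096 [2, 4, 7, 8, 9, 12] = true := by
  decide +kernel

set_option maxRecDepth 100000 in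
theorem part_11_6_5_12 : dfsN 6 268435456 207008528 [2, 4, 7, 8, 9, 10] = true := by
  decide +kernel

theorem part_11_6_5 : dfsN 7 16777216 5681936 [2, 4, 7, 8, 9, 10, 12] = true := by
  apply dfsN_step 6 16777216 5681936 [2, 4, 7, 8, 9, 10, 12]
  intro v hv
  simp only [List.mem_cons, List.not_mem_nil, or_false] at hv
  rcases hv with rfl | rfl | rfl | rfl | rfl | rfl | rfl
  exacts [part_11_6_5_2, part_11_6_5_4, part_11_6_5_7, part_11_6_5_8, part_11_6_5_9, part_11_6_5_10, part_11_6_5_12]

set_option maxRecDepth 100000 in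
theorem part_11_6_7_2 : dfsN 6 268435456 41333520 [4, 5, 8, 9, 10, 12] = true := by
  decide +kernel

set_option maxRecDepth 100000 in
theorem part_11_6_7_4 : dfsN 6 268435456 74887952 [2, 5, 8, 9, 10, 12] = true := by
  decide +kernel

set_option maxRecDepth 100000 in
theorem part_11_6_7_5 : dfsN 6 268435456 91665168 [2, 4, 8, 9, 10, 12] = true := by
  decide +kernel

set_option maxRecDepth 100000 in
theorem part_11_6_7_8 : dfsN 6 268435456 141996816 [2, 4, 5, 9, 10, 12] = true := by
  decide +kernel

set_option maxRecDepth 100000 in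
theorem part_11_6_7_9 : dfsN 6 268435456 158774032 [2, 4, 5, 8, 10, 12] = true := by
  decide +kernel

set_option maxRecDepth 100000 in
theorem part_11_6_7_10 : dfsN 6 268435456 175551248 [2, 4, 5, 8, 9, 12] = true := by
  decide +kernel

set_option maxRecDepth 100000 in
theorem part_11_6_7_12 : dfsN 6 268435456 209105680 [2, 4, 5, 8, 9, 10] = true := by
  decide +kernel

theorem part_11_6_7 : dfsN 7 16777216 7779088 [2, 4, 5, 8, 9, 10, 12] = true := by
  apply dfsN_step 6 16777216 7779088 [2, 4, 5, 8, 9, 10, 12]
  intro v hv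
  simp only [List.mem_cons, List.not_mem_nil, or_false] at hv
  rcases hv with rfl | rfl | rfl | rfl | rfl | rfl | rfl
  exacts [part_11_6_7_2, part_11_6_7_4, part_11_6_7_5, part_11_6_7_8, part_11_6_7_9, part_11_6_7_10, part_11_6_7_12]

set_option maxRecDepth 100000 in
theorem part_11_6_8_2 : dfsN 6 268435456 42382096 [4, 5, 7, 9, 10, 12] = true := by
  decide +kernel

set_option maxRecDepth 100000 in
theorem part_11_6_8_4 : dfsN 6 268435456 75936528 [2, 5, 7, 9, 10, 12] = true := by
  decide +kernel

set_option maxRecDepth 100000 in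
theorem part_11_6_8_5 : dfsN 6 268435456 92713744 [2, 4, 7, 9, 10, 12] = true := by
  decide +kernel

set_option maxRecDepth 100000 in
theorem part_11_6_8_7 : dfsN 6 268435456 126268176 [2, 4, 5, 9, 10, 12] = true := by
  decide +kernel

set_option maxRecDepth 100000 in
theorem part_11_6_8_9 : dfsN 6 268435456 159822608 [2, 4, 5, 7, 10, 12] = true := by
  decide +kernel

set_option maxRecDepth 100000 in
theorem part_11_6_8_10 : dfsN 6 268435456 176599824 [2, 4, 5, 7, 9, 12] = true := by
  decide +kernel

set_option maxRecDepth 100000 in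
theorem part_11_6_8_12 : dfsN 6 268435456 210154256 [2, 4, 5, 7, 9, 10] = true := by
  decide +kernel

theorem part_11_6_8 : dfsN 7 16777216 8827664 [2, 4, 5, 7, 9, 10, 12] = true := by
  apply dfsN_step 6 16777216 8827664 [2, 4, 5, 7, 9, 10, 12]
  intro v hv
  simp only [List.mem_cons, List.not_mem_nil, or_false] at hv
  rcases hv with rfl | rfl | rfl | rfl | rfl | rfl | rfl
  exacts [part_11_6_8_2, part_11_6_8_4, part_11_6_8_5, part_11_6_8_7, part_11_6_8_9, part_11_6_8_10, part_11_6_8_12]

set_option maxRecDepth 100000 in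
theorem part_11_6_9_2 : dfsN 6 268435456 43430672 [4, 5, 7, 8, 10, 12] = true := by
  decide +kernel

set_option maxRecDepth 100000 in
theorem part_11_6_9_4 : dfsN 6 268435456 76985104 [2, 5, 7, 8, 10, 12] = true := by
  decide +kernel

set_option maxRecDepth 100000 in
theorem part_11_6_9_5 : dfsN 6 268435456 93762320 [2, 4, 7, 8, 10, 12] = true := by
  decide +kernel

set_option maxRecDepth 100000 in
theorem part_11_6_9_7 : dfsN 6 268435456 127316752 [2, 4, 5, 8, 10, 12] = true := by
  decide +kernel

set_option maxRecDepth 100000 in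
theorem part_11_6_9_8 : dfsN 6 268435456 144093968 [2, 4, 5, 7, 10, 12] = true := by
  decide +kernel

set_option maxRecDepth 100000 in
theorem part_11_6_9_10 : dfsN 6 268435456 177648400 [2, 4, 5, 7, 8, 12] = true := by
  decide +kernel

set_option maxRecDepth 100000 in
theorem part_11_6_9_12 : dfsN 6 268435456 211202832 [2, 4, 5, 7, 8, 10] = true := by
  decide +kernel

theorem part_11_6_9 : dfsN 7 16777216 9876240 [2, 4, 5, 7, 8, 10, 12] = true := by
  apply dfsN_step 6 16777216 9876240 [2, 4, 5, 7, 8, 10, 12]
  intro v hv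
  simp only [List.mem_cons, List.not_mem_nil, or_false] at hv
  rcases hv with rfl | rfl | rfl | rfl | rfl | rfl | rfl
  exacts [part_11_6_9_2, part_11_6_9_4, part_11_6_9_5, part_11_6_9_7, part_11_6_9_8, part_11_6_9_10, part_11_6_9_12]

set_option maxRecDepth 100000 in
theorem part_11_6_10_2 : dfsN 6 268435456 44479248 [4, 5, 7, 8, 9, 12] = true := by
  decide +kernel

set_option maxRecDepth 100000 in
theorem part_11_6_10_4 : dfsN 6 268435456 78033680 [2, 5, 7, 8, 9, 12] = true := by
  decide +kernel

set_option maxRecDepth 100000 in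
theorem part_11_6_10_5 : dfsN 6 268435456 94810896 [2, 4, 7, 8, 9, 12] = true := by
  decide +kernel

set_option maxRecDepth 100000 in
theorem part_11_6_10_7 : dfsN 6 268435456 128365328 [2, 4, 5, 8, 9, 12] = true := by
  decide +kernel

set_option maxRecDepth 100000 in
theorem part_11_6_10_8 : dfsN 6 268435456 145142544 [2, 4, 5, 7, 9, 12] = true := by
  decide +kernel

set_option maxRecDepth 100000 in
theorem part_11_6_10_9 : dfsN 6 268435456 161919760 [2, 4, 5, 7, 8, 12] = true := by
  decide +kernel

set_option maxRecDepth 100000 in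
theorem part_11_6_10_12 : dfsN 6 268435456 212251408 [2, 4, 5, 7, 8, 9] = true := by
  decide +kernel

theorem part_11_6_10 : dfsN 7 16777216 10924816 [2, 4, 5, 7, 8, 9, 12] = true := by
  apply dfsN_step 6 16777216 10924816 [2, 4, 5, 7, 8, 9, 12]
  intro v hv
  simp only [List.mem_cons, List.not_mem_nil, or_false] at hv
  rcases hv with rfl | rfl | rfl | rfl | rfl | rfl | rfl
  exacts [part_11_6_10_2, part_11_6_10_4, part_11_6_10_5, part_11_6_10_7, part_11_6_10_8, part_11_6_10_9, part_11_6_10_12]

set_option maxRecDepth 100000 in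
theorem part_11_6_12_2 : dfsN 6 268435456 46576400 [4, 5, 7, 8, 9, 10] = true := by
  decide +kernel

set_option maxRecDepth 100000 in
theorem part_11_6_12_4 : dfsN 6 268435456 80130832 [2, 5, 7, 8, 9, 10] = true := by
  decide +kernel

set_option maxRecDepth 100000 in
theorem part_11_6_12_5 : dfsN 6 268435456 96908048 [2, 4, 7, 8, 9, 10] = true := by
  decide +kernel

set_option maxRecDepth 100000 in
theorem part_11_6_12_7 : dfsN 6 268435456 130462480 [2, 4, 5, 8, 9, 10] = true := by
  decide +kernel

set_option maxRecDepth 100000 in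
theorem part_11_6_12_8 : dfsN 6 268435456 147239696 [2, 4, 5, 7, 9, 10] = true := by
  decide +kernel

set_option maxRecDepth 100000 in
theorem part_11_6_12_9 : dfsN 6 268435456 164016912 [2, 4, 5, 7, 8, 10] = true := by
  decide +kernel

set_option maxRecDepth 100000 in
theorem part_11_6_12_10 : dfsN 6 268435456 180794128 [2, 4, 5, 7, 8, 9] = true := by
  decide +kernel

theorem part_11_6_12 : dfsN 7 16777216 13021968 [2, 4, 5, 7, 8, 9, 10] = true := by
  apply dfsN_step 6 16777216 13021968 [2, 4, 5, 7, 8, 9, 10]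
  intro v hv
  simp only [List.mem_cons, List.not_mem_nil, or_false] at hv
  rcases hv with rfl | rfl | rfl | rfl | rfl | rfl | rfl
  exacts [part_11_6_12_2, part_11_6_12_4, part_11_6_12_5, part_11_6_12_7, part_11_6_12_8, part_11_6_12_9, part_11_6_12_10]

theorem part_11_6 : dfsN 8 1048576 439056 [2, 4, 5, 7, 8, 9, 10, 12] = true := by
  apply dfsN_step 7 1048576 439056 [2, 4, 5, 7, 8, 9, 10, 12]
  intro v hv
  simp only [List.mem_cons, List.not_mem_nil, or_false] at hv
  rcases hv with rfl | rfl | rfl | rfl | rfl | rfl | rfl | rfl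
  exacts [part_11_6_2, part_11_6_4, part_11_6_5, part_11_6_7, part_11_6_8, part_11_6_9, part_11_6_10, part_11_6_12]

end Cfsg.Agent.Lib.H16.AG
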