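import Cfsg.Agent.Lib.H16.AG.Step

set_option autoImplicit false

/-! Degree 13, images `0, 1, 3, 11, 7` of `0, 1, 2, 3, 4` fixed: every completion that is an
`11`-cycle has a word `(x ^ b * y ^ a) ^ k` which is a `3`-, `5`- or `7`-cycle
(small kernel computations, one per pair of images of `5, 6`). -/

namespace Cfsg.Agent.Lib.H16.AG

set_option maxRecDepth 100000 in
theorem part_11_7_2_4 : dfsN 6 268435456 69710608 [5, 6, 8, 9, 10, 12] = true := by
  decide +kernel

set_option maxRecDepth 100000 in
theorem part_11_7_2_5 : dfsN 6 268435456 86487824 [4, 6, 8, 9, 10, 12] = true := by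
  decide +kernel

set_option maxRecDepth 100000 in
theorem part_11_7_2_6 : dfsN 6 268435456 103265040 [4, 5, 8, 9, 10, 12] = true := by
  decide +kernel

set_option maxRecDepth 100000 in
theorem part_11_7_2_8 : dfsN 6 268435456 136819472 [4, 5, 6, 9, 10, 12] = true := by
  decide +kernel

set_option maxRecDepth 100000 in
theorem part_11_7_2_9 : dfsN 6 268435456 153596688 [4, 5, 6, 8, 10, 12] = true := by
  decide +kernel

set_option maxRecDepth 100000 in
theorem part_11_7_2_10 : dfsN 6 268435456 170373904 [4, 5, 6, 8, 9, 12] = true := by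
  decide +kernel

set_option maxRecDepth 100000 in
theorem part_11_7_2_12 : dfsN 6 268435456 203928336 [4, 5, 6, 8, 9, 10] = true := by
  decide +kernel

theorem part_11_7_2 : dfsN 7 16777216 2601744 [4, 5, 6, 8, 9, 10, 12] = true := by
  apply dfsN_step 6 16777216 2601744 [4, 5, 6, 8, 9, 10, 12]
  intro v hv
  simp only [List.mem_cons, List.not_mem_nil, or_false] at hv
  rcases hv with rfl | rfl | rfl | rfl | rfl | rfl | rfl
  exacts [part_11_7_2_4, part_11_7_2_5, part_11_7_2_6, part_11_7_2_8, part_11_7_2_9, part_11_7_2_10, part_11_7_2_12]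

set_option maxRecDepth 100000 in
theorem part_11_7_4_2 : dfsN 6 268435456 38253328 [5, 6, 8, 9, 10, 12] = true := by
  decide +kernel

set_option maxRecDepth 100000 in
theorem part_11_7_4_5 : dfsN 6 268435456 88584976 [2, 6, 8, 9, 10, 12] = true := by
  decide +kernel

set_option maxRecDepth 100000 in
theorem part_11_7_4_6 : dfsN 6 268435456 105362192 [2, 5, 8, 9, 10, 12] = true := by
  decide +kernel

set_option maxRecDepth 100000 in
theorem part_11_7_4_8 : dfsN 6 268435456 138916624 [2, 5, 6, 9, 10, 12] = true := by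
  decide +kernel

set_option maxRecDepth 100000 in
theorem part_11_7_4_9 : dfsN 6 268435456 155693840 [2, 5, 6, 8, 10, 12] = true := by
  decide +kernel

set_option maxRecDepth 100000 in
theorem part_11_7_4_10 : dfsN 6 268435456 172471056 [2, 5, 6, 8, 9, 12] = true := by
  decide +kernel

set_option maxRecDepth 100000 in
theorem part_11_7_4_12 : dfsN 6 268435456 206025488 [2, 5, 6, 8, 9, 10] = true := by
  decide +kernel

theorem part_11_7_4 : dfsN 7 16777216 4698896 [2, 5, 6, 8, 9, 10, 12] = true := by
  apply dfsN_step 6 16777216 4698896 [2, 5, 6, 8, 9, 10, 12]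
  intro v hv
  simp only [List.mem_cons, List.not_mem_nil, or_false] at hv
  rcases hv with rfl | rfl | rfl | rfl | rfl | rfl | rfl
  exacts [part_11_7_4_2, part_11_7_4_5, part_11_7_4_6, part_11_7_4_8, part_11_7_4_9, part_11_7_4_10, part_11_7_4_12]

set_option maxRecDepth 100000 in
theorem part_11_7_5_2 : dfsN 6 268435456 39301904 [4, 6, 8, 9, 10, 12] = true := by
  decide +kernel

set_option maxRecDepth 100000 in
theorem part_11_7_5_4 : dfsN 6 268435456 72856336 [2, 6, 8, 9, 10, 12] = true := by
  decide +kernel

set_option maxRecDepth 100000 in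
theorem part_11_7_5_6 : dfsN 6 268435456 106410768 [2, 4, 8, 9, 10, 12] = true := by
  decide +kernel

set_option maxRecDepth 100000 in
theorem part_11_7_5_8 : dfsN 6 268435456 139965200 [2, 4, 6, 9, 10, 12] = true := by
  decide +kernel

set_option maxRecDepth 100000 in
theorem part_11_7_5_9 : dfsN 6 268435456 156742416 [2, 4, 6, 8, 10, 12] = true := by
  decide +kernel

set_option maxRecDepth 100000 in
theorem part_11_7_5_10 : dfsN 6 268435456 173519632 [2, 4, 6, 8, 9, 12] = true := by
  decide +kernel

set_option maxRecDepth 100000 in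
theorem part_11_7_5_12 : dfsN 6 268435456 207074064 [2, 4, 6, 8, 9, 10] = true := by
  decide +kernel

theorem part_11_7_5 : dfsN 7 16777216 5747472 [2, 4, 6, 8, 9, 10, 12] = true := by
  apply dfsN_step 6 16777216 5747472 [2, 4, 6, 8, 9, 10, 12]
  intro v hv
  simp only [List.mem_cons, List.not_mem_nil, or_false] at hv
  rcases hv with rfl | rfl | rfl | rfl | rfl | rfl | rfl
  exacts [part_11_7_5_2, part_11_7_5_4, part_11_7_5_6, part_11_7_5_8, part_11_7_5_9, part_11_7_5_10, part_11_7_5_12]

set_option maxRecDepth 100000 in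
theorem part_11_7_6_2 : dfsN 6 268435456 40350480 [4, 5, 8, 9, 10, 12] = true := by
  decide +kernel

set_option maxRecDepth 100000 in
theorem part_11_7_6_4 : dfsN 6 268435456 73904912 [2, 5, 8, 9, 10, 12] = true := by
  decide +kernel

set_option maxRecDepth 100000 in
theorem part_11_7_6_5 : dfsN 6 268435456 90682128 [2, 4, 8, 9, 10, 12] = true := by
  decide +kernel

set_option maxRecDepth 100000 in
theorem part_11_7_6_8 : dfsN 6 268435456 141013776 [2, 4, 5, 9, 10, 12] = true := by
  decide +kernel

set_option maxRecDepth 100000 in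
theorem part_11_7_6_9 : dfsN 6 268435456 157790992 [2, 4, 5, 8, 10, 12] = true := by
  decide +kernel

set_option maxRecDepth 100000 in
theorem part_11_7_6_10 : dfsN 6 268435456 174568208 [2, 4, 5, 8, 9, 12] = true := by
  decide +kernel

set_option maxRecDepth 100000 in
theorem part_11_7_6_12 : dfsN 6 268435456 208122640 [2, 4, 5, 8, 9, 10] = true := by
  decide +kernel

theorem part_11_7_6 : dfsN 7 16777216 6796048 [2, 4, 5, 8, 9, 10, 12] = true := by
  apply dfsN_step 6 16777216 6796048 [2, 4, 5, 8, 9, 10, 12]
  intro v hv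
  simp only [List.mem_cons, List.not_mem_nil, or_false] at hv
  rcases hv with rfl | rfl | rfl | rfl | rfl | rfl | rfl
  exacts [part_11_7_6_2, part_11_7_6_4, part_11_7_6_5, part_11_7_6_8, part_11_7_6_9, part_11_7_6_10, part_11_7_6_12]

set_option maxRecDepth 100000 in
theorem part_11_7_8_2 : dfsN 6 268435456 42447632 [4, 5, 6, 9, 10, 12] = true := by
  decide +kernel

set_option maxRecDepth 100000 in
theorem part_11_7_8_4 : dfsN 6 268435456 76002064 [2, 5, 6, 9, 10, 12] = true := by
  decide +kernel

set_option maxRecDepth 100000 in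
theorem part_11_7_8_5 : dfsN 6 268435456 92779280 [2, 4, 6, 9, 10, 12] = true := by
  decide +kernel

set_option maxRecDepth 100000 in
theorem part_11_7_8_6 : dfsN 6 268435456 109556496 [2, 4, 5, 9, 10, 12] = true := by
  decide +kernel

set_option maxRecDepth 100000 in
theorem part_11_7_8_9 : dfsN 6 268435456 159888144 [2, 4, 5, 6, 10, 12] = true := by
  decide +kernel

set_option maxRecDepth 100000 in
theorem part_11_7_8_10 : dfsN 6 268435456 176665360 [2, 4, 5, 6, 9, 12] = true := by
  decide +kernel

set_option maxRecDepth 100000 in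
theorem part_11_7_8_12 : dfsN 6 268435456 210219792 [2, 4, 5, 6, 9, 10] = true := by
  decide +kernel

theorem part_11_7_8 : dfsN 7 16777216 8893200 [2, 4, 5, 6, 9, 10, 12] = true := by
  apply dfsN_step 6 16777216 8893200 [2, 4, 5, 6, 9, 10, 12]
  intro v hv
  simp only [List.mem_cons, List.not_mem_nil, or_false] at hv
  rcases hv with rfl | rfl | rfl | rfl | rfl | rfl | rfl
  exacts [part_11_7_8_2, part_11_7_8_4, part_11_7_8_5, part_11_7_8_6, part_11_7_8_9, part_11_7_8_10, part_11_7_8_12]

set_option maxRecDepth 100000 in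
theorem part_11_7_9_2 : dfsN 6 268435456 43496208 [4, 5, 6, 8, 10, 12] = true := by
  decide +kernel

set_option maxRecDepth 100000 in
theorem part_11_7_9_4 : dfsN 6 268435456 77050640 [2, 5, 6, 8, 10, 12] = true := by
  decide +kernel

set_option maxRecDepth 100000 in
theorem part_11_7_9_5 : dfsN 6 268435456 93827856 [2, 4, 6, 8, 10, 12] = true := by
  decide +kernel

set_option maxRecDepth 100000 in
theorem part_11_7_9_6 : dfsN 6 268435456 110605072 [2, 4, 5, 8, 10, 12] = true := by
  decide +kernel

set_option maxRecDepth 100000 in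
theorem part_11_7_9_8 : dfsN 6 268435456 144159504 [2, 4, 5, 6, 10, 12] = true := by
  decide +kernel

set_option maxRecDepth 100000 in
theorem part_11_7_9_10 : dfsN 6 268435456 177713936 [2, 4, 5, 6, 8, 12] = true := by
  decide +kernel

set_option maxRecDepth 100000 in
theorem part_11_7_9_12 : dfsN 6 268435456 211268368 [2, 4, 5, 6, 8, 10] = true := by
  decide +kernel

theorem part_11_7_9 : dfsN 7 16777216 9941776 [2, 4, 5, 6, 8, 10, 12] = true := by
  apply dfsN_step 6 16777216 9941776 [2, 4, 5, 6, 8, 10, 12]
  intro v hv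
  simp only [List.mem_cons, List.not_mem_nil, or_false] at hv
  rcases hv with rfl | rfl | rfl | rfl | rfl | rfl | rfl
  exacts [part_11_7_9_2, part_11_7_9_4, part_11_7_9_5, part_11_7_9_6, part_11_7_9_8, part_11_7_9_10, part_11_7_9_12]

set_option maxRecDepth 100000 in
theorem part_11_7_10_2 : dfsN 6 268435456 44544784 [4, 5, 6, 8, 9, 12] = true := by
  decide +kernel

set_option maxRecDepth 100000 in
theorem part_11_7_10_4 : dfsN 6 268435456 78099216 [2, 5, 6, 8, 9, 12] = true := by
  decide +kernel

set_option maxRecDepth 100000 in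
theorem part_11_7_10_5 : dfsN 6 268435456 94876432 [2, 4, 6, 8, 9, 12] = true := by
  decide +kernel

set_option maxRecDepth 100000 in
theorem part_11_7_10_6 : dfsN 6 268435456 111653648 [2, 4, 5, 8, 9, 12] = true := by
  decide +kernel

set_option maxRecDepth 100000 in
theorem part_11_7_10_8 : dfsN 6 268435456 145208080 [2, 4, 5, 6, 9, 12] = true := by
  decide +kernel

set_option maxRecDepth 100000 in
theorem part_11_7_10_9 : dfsN 6 268435456 161985296 [2, 4, 5, 6, 8, 12] = true := by
  decide +kernel

set_option maxRecDepth 100000 in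
theorem part_11_7_10_12 : dfsN 6 268435456 212316944 [2, 4, 5, 6, 8, 9] = true := by
  decide +kernel

theorem part_11_7_10 : dfsN 7 16777216 10990352 [2, 4, 5, 6, 8, 9, 12] = true := by
  apply dfsN_step 6 16777216 10990352 [2, 4, 5, 6, 8, 9, 12]
  intro v hv
  simp only [List.mem_cons, List.not_mem_nil, or_false] at hv
  rcases hv with rfl | rfl | rfl | rfl | rfl | rfl | rfl
  exacts [part_11_7_10_2, part_11_7_10_4, part_11_7_10_5, part_11_7_10_6, part_11_7_10_8, part_11_7_10_9, part_11_7_10_12]

set_option maxRecDepth 100000 in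
theorem part_11_7_12_2 : dfsN 6 268435456 46641936 [4, 5, 6, 8, 9, 10] = true := by
  decide +kernel

set_option maxRecDepth 100000 in
theorem part_11_7_12_4 : dfsN 6 268435456 80196368 [2, 5, 6, 8, 9, 10] = true := by
  decide +kernel

set_option maxRecDepth 100000 in
theorem part_11_7_12_5 : dfsN 6 268435456 96973584 [2, 4, 6, 8, 9, 10] = true := by
  decide +kernel

set_option maxRecDepth 100000 in
theorem part_11_7_12_6 : dfsN 6 268435456 113750800 [2, 4, 5, 8, 9, 10] = true := by
  decide +kernel

set_option maxRecDepth 100000 in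
theorem part_11_7_12_8 : dfsN 6 268435456 147305232 [2, 4, 5, 6, 9, 10] = true := by
  decide +kernel

set_option maxRecDepth 100000 in
theorem part_11_7_12_9 : dfsN 6 268435456 164082448 [2, 4, 5, 6, 8, 10] = true := by
  decide +kernel

set_option maxRecDepth 100000 in
theorem part_11_7_12_10 : dfsN 6 268435456 180859664 [2, 4, 5, 6, 8, 9] = true := by
  decide +kernel

theorem part_11_7_12 : dfsN 7 16777216 13087504 [2, 4, 5, 6, 8, 9, 10] = true := by
  apply dfsN_step 6 16777216 13087504 [2, 4, 5, 6, 8, 9, 10]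
  intro v hv
  simp only [List.mem_cons, List.not_mem_nil, or_false] at hv
  rcases hv with rfl | rfl | rfl | rfl | rfl | rfl | rfl
  exacts [part_11_7_12_2, part_11_7_12_4, part_11_7_12_5, part_11_7_12_6, part_11_7_12_8, part_11_7_12_9, part_11_7_12_10]

theorem part_11_7 : dfsN 8 1048576 504592 [2, 4, 5, 6, 8, 9, 10, 12] = true := by
  apply dfsN_step 7 1048576 504592 [2, 4, 5, 6, 8, 9, 10, 12]
  intro v hv
  simp only [List.mem_cons, List.not_mem_nil, or_false] at hv
  rcases hv with rfl | rfl | rfl | rfl | rfl | rfl | rfl | rfl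
  exacts [part_11_7_2, part_11_7_4, part_11_7_5, part_11_7_6, part_11_7_8, part_11_7_9, part_11_7_10, part_11_7_12]

end Cfsg.Agent.Lib.H16.AG
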