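import Cfsg.Agent.Lib.H16.AG.Step

set_option autoImplicit false

/-! Degree 13, images `0, 1, 3, 11, 9` of `0, 1, 2, 3, 4` fixed: every completion that is an
`11`-cycle has a word `(x ^ b * y ^ a) ^ k` which is a `3`-, `5`- or `7`-cycle
(small kernel computations, one per pair of images of `5, 6`). -/

namespace Cfsg.Agent.Lib.H16.AG

set_option maxRecDepth 100000 in
theorem part_11_9_2_4 : dfsN 6 268435456 69841680 [5, 6, 7, 8, 10, 12] = true := by
  decide +kernel

set_option maxRecDepth 100000 in
theorem part_11_9_2_5 : dfsN 6 268435456 86618896 [4, 6, 7, 8, 10, 12] = true := by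
  decide +kernel

set_option maxRecDepth 100000 in
theorem part_11_9_2_6 : dfsN 6 268435456 103396112 [4, 5, 7, 8, 10, 12] = true := by
  decide +kernel

set_option maxRecDepth 100000 in
theorem part_11_9_2_7 : dfsN 6 268435456 120173328 [4, 5, 6, 8, 10, 12] = true := by
  decide +kernel

set_option maxRecDepth 100000 in
theorem part_11_9_2_8 : dfsN 6 268435456 136950544 [4, 5, 6, 7, 10, 12] = true := by
  decide +kernel

set_option maxRecDepth 100000 in
theorem part_11_9_2_10 : dfsN 6 268435456 170504976 [4, 5, 6, 7, 8, 12] = true := by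
  decide +kernel

set_option maxRecDepth 100000 in
theorem part_11_9_2_12 : dfsN 6 268435456 204059408 [4, 5, 6, 7, 8, 10] = true := by
  decide +kernel

theorem part_11_9_2 : dfsN 7 16777216 2732816 [4, 5, 6, 7, 8, 10, 12] = true := by
  apply dfsN_step 6 16777216 2732816 [4, 5, 6, 7, 8, 10, 12]
  intro v hv
  simp only [List.mem_cons, List.not_mem_nil, or_false] at hv
  rcases hv with rfl | rfl | rfl | rfl | rfl | rfl | rfl
  exacts [part_11_9_2_4, part_11_9_2_5, part_11_9_2_6, part_11_9_2_7, part_11_9_2_8, part_11_9_2_10, part_11_9_2_12]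

set_option maxRecDepth 100000 in
theorem part_11_9_4_2 : dfsN 6 268435456 38384400 [5, 6, 7, 8, 10, 12] = true := by
  decide +kernel

set_option maxRecDepth 100000 in
theorem part_11_9_4_5 : dfsN 6 268435456 88716048 [2, 6, 7, 8, 10, 12] = true := by
  decide +kernel

set_option maxRecDepth 100000 in
theorem part_11_9_4_6 : dfsN 6 268435456 105493264 [2, 5, 7, 8, 10, 12] = true := by
  decide +kernel

set_option maxRecDepth 100000 in
theorem part_11_9_4_7 : dfsN 6 268435456 122270480 [2, 5, 6, 8, 10, 12] = true := by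
  decide +kernel

set_option maxRecDepth 100000 in
theorem part_11_9_4_8 : dfsN 6 268435456 139047696 [2, 5, 6, 7, 10, 12] = true := by
  decide +kernel

set_option maxRecDepth 100000 in
theorem part_11_9_4_10 : dfsN 6 268435456 172602128 [2, 5, 6, 7, 8, 12] = true := by
  decide +kernel

set_option maxRecDepth 100000 in
theorem part_11_9_4_12 : dfsN 6 268435456 206156560 [2, 5, 6, 7, 8, 10] = true := by
  decide +kernel

theorem part_11_9_4 : dfsN 7 16777216 4829968 [2, 5, 6, 7, 8, 10, 12] = true := by
  apply dfsN_step 6 16777216 4829968 [2, 5, 6, 7, 8, 10, 12]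
  intro v hv
  simp only [List.mem_cons, List.not_mem_nil, or_false] at hv
  rcases hv with rfl | rfl | rfl | rfl | rfl | rfl | rfl
  exacts [part_11_9_4_2, part_11_9_4_5, part_11_9_4_6, part_11_9_4_7, part_11_9_4_8, part_11_9_4_10, part_11_9_4_12]

set_option maxRecDepth 100000 in
theorem part_11_9_5_2 : dfsN 6 268435456 39432976 [4, 6, 7, 8, 10, 12] = true := by
  decide +kernel

set_option maxRecDepth 100000 in
theorem part_11_9_5_4 : dfsN 6 268435456 72987408 [2, 6, 7, 8, 10, 12] = true := by
  decide +kernel

set_option maxRecDepth 100000 in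
theorem part_11_9_5_6 : dfsN 6 268435456 106541840 [2, 4, 7, 8, 10, 12] = true := by
  decide +kernel

set_option maxRecDepth 100000 in
theorem part_11_9_5_7 : dfsN 6 268435456 123319056 [2, 4, 6, 8, 10, 12] = true := by
  decide +kernel

set_option maxRecDepth 100000 in
theorem part_11_9_5_8 : dfsN 6 268435456 140096272 [2, 4, 6, 7, 10, 12] = true := by
  decide +kernel

set_option maxRecDepth 100000 in
theorem part_11_9_5_10 : dfsN 6 268435456 173650704 [2, 4, 6, 7, 8, 12] = true := by
  decide +kernel

set_option maxRecDepth 100000 in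
theorem part_11_9_5_12 : dfsN 6 268435456 207205136 [2, 4, 6, 7, 8, 10] = true := by
  decide +kernel

theorem part_11_9_5 : dfsN 7 16777216 5878544 [2, 4, 6, 7, 8, 10, 12] = true := by
  apply dfsN_step 6 16777216 5878544 [2, 4, 6, 7, 8, 10, 12]
  intro v hv
  simp only [List.mem_cons, List.not_mem_nil, or_false] at hv
  rcases hv with rfl | rfl | rfl | rfl | rfl | rfl | rfl
  exacts [part_11_9_5_2, part_11_9_5_4, part_11_9_5_6, part_11_9_5_7, part_11_9_5_8, part_11_9_5_10, part_11_9_5_12]

set_option maxRecDepth 100000 in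
theorem part_11_9_6_2 : dfsN 6 268435456 40481552 [4, 5, 7, 8, 10, 12] = true := by
  decide +kernel

set_option maxRecDepth 100000 in
theorem part_11_9_6_4 : dfsN 6 268435456 74035984 [2, 5, 7, 8, 10, 12] = true := by
  decide +kernel

set_option maxRecDepth 100000 in
theorem part_11_9_6_5 : dfsN 6 268435456 90813200 [2, 4, 7, 8, 10, 12] = true := by
  decide +kernel

set_option maxRecDepth 100000 in
theorem part_11_9_6_7 : dfsN 6 268435456 124367632 [2, 4, 5, 8, 10, 12] = true := by
  decide +kernel

set_option maxRecDepth 100000 in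
theorem part_11_9_6_8 : dfsN 6 268435456 141144848 [2, 4, 5, 7, 10, 12] = true := by
  decide +kernel

set_option maxRecDepth 100000 in
theorem part_11_9_6_10 : dfsN 6 268435456 174699280 [2, 4, 5, 7, 8, 12] = true := by
  decide +kernel

set_option maxRecDepth 100000 in
theorem part_11_9_6_12 : dfsN 6 268435456 208253712 [2, 4, 5, 7, 8, 10] = true := by
  decide +kernel

theorem part_11_9_6 : dfsN 7 16777216 6927120 [2, 4, 5, 7, 8, 10, 12] = true := by
  apply dfsN_step 6 16777216 6927120 [2, 4, 5, 7, 8, 10, 12]
  intro v hv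
  simp only [List.mem_cons, List.not_mem_nil, or_false] at hv
  rcases hv with rfl | rfl | rfl | rfl | rfl | rfl | rfl
  exacts [part_11_9_6_2, part_11_9_6_4, part_11_9_6_5, part_11_9_6_7, part_11_9_6_8, part_11_9_6_10, part_11_9_6_12]

set_option maxRecDepth 100000 in
theorem part_11_9_7_2 : dfsN 6 268435456 41530128 [4, 5, 6, 8, 10, 12] = true := by
  decide +kernel

set_option maxRecDepth 100000 in
theorem part_11_9_7_4 : dfsN 6 268435456 75084560 [2, 5, 6, 8, 10, 12] = true := by
  decide +kernel

set_option maxRecDepth 100000 in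
theorem part_11_9_7_5 : dfsN 6 268435456 91861776 [2, 4, 6, 8, 10, 12] = true := by
  decide +kernel

set_option maxRecDepth 100000 in
theorem part_11_9_7_6 : dfsN 6 268435456 108638992 [2, 4, 5, 8, 10, 12] = true := by
  decide +kernel

set_option maxRecDepth 100000 in
theorem part_11_9_7_8 : dfsN 6 268435456 142193424 [2, 4, 5, 6, 10, 12] = true := by
  decide +kernel

set_option maxRecDepth 100000 in
theorem part_11_9_7_10 : dfsN 6 268435456 175747856 [2, 4, 5, 6, 8, 12] = true := by
  decide +kernel

set_option maxRecDepth 100000 in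
theorem part_11_9_7_12 : dfsN 6 268435456 209302288 [2, 4, 5, 6, 8, 10] = true := by
  decide +kernel

theorem part_11_9_7 : dfsN 7 16777216 7975696 [2, 4, 5, 6, 8, 10, 12] = true := by
  apply dfsN_step 6 16777216 7975696 [2, 4, 5, 6, 8, 10, 12]
  intro v hv
  simp only [List.mem_cons, List.not_mem_nil, or_false] at hv
  rcases hv with rfl | rfl | rfl | rfl | rfl | rfl | rfl
  exacts [part_11_9_7_2, part_11_9_7_4, part_11_9_7_5, part_11_9_7_6, part_11_9_7_8, part_11_9_7_10, part_11_9_7_12]

set_option maxRecDepth 100000 in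
theorem part_11_9_8_2 : dfsN 6 268435456 42578704 [4, 5, 6, 7, 10, 12] = true := by
  decide +kernel

set_option maxRecDepth 100000 in
theorem part_11_9_8_4 : dfsN 6 268435456 76133136 [2, 5, 6, 7, 10, 12] = true := by
  decide +kernel

set_option maxRecDepth 100000 in
theorem part_11_9_8_5 : dfsN 6 268435456 92910352 [2, 4, 6, 7, 10, 12] = true := by
  decide +kernel

set_option maxRecDepth 100000 in
theorem part_11_9_8_6 : dfsN 6 268435456 109687568 [2, 4, 5, 7, 10, 12] = true := by
  decide +kernel

set_option maxRecDepth 100000 in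
theorem part_11_9_8_7 : dfsN 6 268435456 126464784 [2, 4, 5, 6, 10, 12] = true := by
  decide +kernel

set_option maxRecDepth 100000 in
theorem part_11_9_8_10 : dfsN 6 268435456 176796432 [2, 4, 5, 6, 7, 12] = true := by
  decide +kernel

set_option maxRecDepth 100000 in
theorem part_11_9_8_12 : dfsN 6 268435456 210350864 [2, 4, 5, 6, 7, 10] = true := by
  decide +kernel

theorem part_11_9_8 : dfsN 7 16777216 9024272 [2, 4, 5, 6, 7, 10, 12] = true := by
  apply dfsN_step 6 16777216 9024272 [2, 4, 5, 6, 7, 10, 12]
  intro v hv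
  simp only [List.mem_cons, List.not_mem_nil, or_false] at hv
  rcases hv with rfl | rfl | rfl | rfl | rfl | rfl | rfl
  exacts [part_11_9_8_2, part_11_9_8_4, part_11_9_8_5, part_11_9_8_6, part_11_9_8_7, part_11_9_8_10, part_11_9_8_12]

set_option maxRecDepth 100000 in
theorem part_11_9_10_2 : dfsN 6 268435456 44675856 [4, 5, 6, 7, 8, 12] = true := by
  decide +kernel

set_option maxRecDepth 100000 in
theorem part_11_9_10_4 : dfsN 6 268435456 78230288 [2, 5, 6, 7, 8, 12] = true := by
  decide +kernel

set_option maxRecDepth 100000 in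
theorem part_11_9_10_5 : dfsN 6 268435456 95007504 [2, 4, 6, 7, 8, 12] = true := by
  decide +kernel

set_option maxRecDepth 100000 in
theorem part_11_9_10_6 : dfsN 6 268435456 111784720 [2, 4, 5, 7, 8, 12] = true := by
  decide +kernel

set_option maxRecDepth 100000 in
theorem part_11_9_10_7 : dfsN 6 268435456 128561936 [2, 4, 5, 6, 8, 12] = true := by
  decide +kernel

set_option maxRecDepth 100000 in
theorem part_11_9_10_8 : dfsN 6 268435456 145339152 [2, 4, 5, 6, 7, 12] = true := by
  decide +kernel

set_option maxRecDepth 100000 in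
theorem part_11_9_10_12 : dfsN 6 268435456 212448016 [2, 4, 5, 6, 7, 8] = true := by
  decide +kernel

theorem part_11_9_10 : dfsN 7 16777216 11121424 [2, 4, 5, 6, 7, 8, 12] = true := by
  apply dfsN_step 6 16777216 11121424 [2, 4, 5, 6, 7, 8, 12]
  intro v hv
  simp only [List.mem_cons, List.not_mem_nil, or_false] at hv
  rcases hv with rfl | rfl | rfl | rfl | rfl | rfl | rfl
  exacts [part_11_9_10_2, part_11_9_10_4, part_11_9_10_5, part_11_9_10_6, part_11_9_10_7, part_11_9_10_8, part_11_9_10_12]

set_option maxRecDepth 100000 in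
theorem part_11_9_12_2 : dfsN 6 268435456 46773008 [4, 5, 6, 7, 8, 10] = true := by
  decide +kernel

set_option maxRecDepth 100000 in
theorem part_11_9_12_4 : dfsN 6 268435456 80327440 [2, 5, 6, 7, 8, 10] = true := by
  decide +kernel

set_option maxRecDepth 100000 in
theorem part_11_9_12_5 : dfsN 6 268435456 97104656 [2, 4, 6, 7, 8, 10] = true := by
  decide +kernel

set_option maxRecDepth 100000 in
theorem part_11_9_12_6 : dfsN 6 268435456 113881872 [2, 4, 5, 7, 8, 10] = true := by
  decide +kernel

set_option maxRecDepth 100000 in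
theorem part_11_9_12_7 : dfsN 6 268435456 130659088 [2, 4, 5, 6, 8, 10] = true := by
  decide +kernel

set_option maxRecDepth 100000 in
theorem part_11_9_12_8 : dfsN 6 268435456 147436304 [2, 4, 5, 6, 7, 10] = true := by
  decide +kernel

set_option maxRecDepth 100000 in
theorem part_11_9_12_10 : dfsN 6 268435456 180990736 [2, 4, 5, 6, 7, 8] = true := by
  decide +kernel

theorem part_11_9_12 : dfsN 7 16777216 13218576 [2, 4, 5, 6, 7, 8, 10] = true := by
  apply dfsN_step 6 16777216 13218576 [2, 4, 5, 6, 7, 8, 10]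
  intro v hv
  simp only [List.mem_cons, List.not_mem_nil, or_false] at hv
  rcases hv with rfl | rfl | rfl | rfl | rfl | rfl | rfl
  exacts [part_11_9_12_2, part_11_9_12_4, part_11_9_12_5, part_11_9_12_6, part_11_9_12_7, part_11_9_12_8, part_11_9_12_10]

theorem part_11_9 : dfsN 8 1048576 635664 [2, 4, 5, 6, 7, 8, 10, 12] = true := by
  apply dfsN_step 7 1048576 635664 [2, 4, 5, 6, 7, 8, 10, 12]
  intro v hv
  simp only [List.mem_cons, List.not_mem_nil, or_false] at hv
  rcases hv with rfl | rfl | rfl | rfl | rfl | rfl | rfl | rfl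
  exacts [part_11_9_2, part_11_9_4, part_11_9_5, part_11_9_6, part_11_9_7, part_11_9_8, part_11_9_10, part_11_9_12]

end Cfsg.Agent.Lib.H16.AG
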