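import Cfsg.Agent.Lib.H16.AG.Step

set_option autoImplicit false

/-! Degree 13, images `0, 1, 3, 11, 10` of `0, 1, 2, 3, 4` fixed: every completion that is an
`11`-cycle has a word `(x ^ b * y ^ a) ^ k` which is a `3`-, `5`- or `7`-cycle
(small kernel computations, one per pair of images of `5, 6`). -/

namespace Cfsg.Agent.Lib.H16.AG

set_option maxRecDepth 100000 in
theorem part_11_10_2_4 : dfsN 6 268435456 69907216 [5, 6, 7, 8, 9, 12] = true := by
  decide +kernel

set_option maxRecDepth 100000 in
theorem part_11_10_2_5 : dfsN 6 268435456 86684432 [4, 6, 7, 8, 9, 12] = true := by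
  decide +kernel

set_option maxRecDepth 100000 in
theorem part_11_10_2_6 : dfsN 6 268435456 103461648 [4, 5, 7, 8, 9, 12] = true := by
  decide +kernel

set_option maxRecDepth 100000 in
theorem part_11_10_2_7 : dfsN 6 268435456 120238864 [4, 5, 6, 8, 9, 12] = true := by
  decide +kernel

set_option maxRecDepth 100000 in
theorem part_11_10_2_8 : dfsN 6 268435456 137016080 [4, 5, 6, 7, 9, 12] = true := by
  decide +kernel

set_option maxRecDepth 100000 in
theorem part_11_10_2_9 : dfsN 6 268435456 153793296 [4, 5, 6, 7, 8, 12] = true := by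
  decide +kernel

set_option maxRecDepth 100000 in
theorem part_11_10_2_12 : dfsN 6 268435456 204124944 [4, 5, 6, 7, 8, 9] = true := by
  decide +kernel

theorem part_11_10_2 : dfsN 7 16777216 2798352 [4, 5, 6, 7, 8, 9, 12] = true := by
  apply dfsN_step 6 16777216 2798352 [4, 5, 6, 7, 8, 9, 12]
  intro v hv
  simp only [List.mem_cons, List.not_mem_nil, or_false] at hv
  rcases hv with rfl | rfl | rfl | rfl | rfl | rfl | rfl
  exacts [part_11_10_2_4, part_11_10_2_5, part_11_10_2_6, part_11_10_2_7, part_11_10_2_8, part_11_10_2_9, part_11_10_2_12]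

set_option maxRecDepth 100000 in
theorem part_11_10_4_2 : dfsN 6 268435456 38449936 [5, 6, 7, 8, 9, 12] = true := by
  decide +kernel

set_option maxRecDepth 100000 in
theorem part_11_10_4_5 : dfsN 6 268435456 88781584 [2, 6, 7, 8, 9, 12] = true := by
  decide +kernel

set_option maxRecDepth 100000 in
theorem part_11_10_4_6 : dfsN 6 268435456 105558800 [2, 5, 7, 8, 9, 12] = true := by
  decide +kernel

set_option maxRecDepth 100000 in
theorem part_11_10_4_7 : dfsN 6 268435456 122336016 [2, 5, 6, 8, 9, 12] = true := by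
  decide +kernel

set_option maxRecDepth 100000 in
theorem part_11_10_4_8 : dfsN 6 268435456 139113232 [2, 5, 6, 7, 9, 12] = true := by
  decide +kernel

set_option maxRecDepth 100000 in
theorem part_11_10_4_9 : dfsN 6 268435456 155890448 [2, 5, 6, 7, 8, 12] = true := by
  decide +kernel

set_option maxRecDepth 100000 in
theorem part_11_10_4_12 : dfsN 6 268435456 206222096 [2, 5, 6, 7, 8, 9] = true := by
  decide +kernel

theorem part_11_10_4 : dfsN 7 16777216 4895504 [2, 5, 6, 7, 8, 9, 12] = true := by
  apply dfsN_step 6 16777216 4895504 [2, 5, 6, 7, 8, 9, 12]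
  intro v hv
  simp only [List.mem_cons, List.not_mem_nil, or_false] at hv
  rcases hv with rfl | rfl | rfl | rfl | rfl | rfl | rfl
  exacts [part_11_10_4_2, part_11_10_4_5, part_11_10_4_6, part_11_10_4_7, part_11_10_4_8, part_11_10_4_9, part_11_10_4_12]

set_option maxRecDepth 100000 in
theorem part_11_10_5_2 : dfsN 6 268435456 39498512 [4, 6, 7, 8, 9, 12] = true := by
  decide +kernel

set_option maxRecDepth 100000 in
theorem part_11_10_5_4 : dfsN 6 268435456 73052944 [2, 6, 7, 8, 9, 12] = true := by
  decide +kernel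

set_option maxRecDepth 100000 in
theorem part_11_10_5_6 : dfsN 6 268435456 106607376 [2, 4, 7, 8, 9, 12] = true := by
  decide +kernel

set_option maxRecDepth 100000 in
theorem part_11_10_5_7 : dfsN 6 268435456 123384592 [2, 4, 6, 8, 9, 12] = true := by
  decide +kernel

set_option maxRecDepth 100000 in
theorem part_11_10_5_8 : dfsN 6 268435456 140161808 [2, 4, 6, 7, 9, 12] = true := by
  decide +kernel

set_option maxRecDepth 100000 in
theorem part_11_10_5_9 : dfsN 6 268435456 156939024 [2, 4, 6, 7, 8, 12] = true := by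
  decide +kernel

set_option maxRecDepth 100000 in
theorem part_11_10_5_12 : dfsN 6 268435456 207270672 [2, 4, 6, 7, 8, 9] = true := by
  decide +kernel

theorem part_11_10_5 : dfsN 7 16777216 5944080 [2, 4, 6, 7, 8, 9, 12] = true := by
  apply dfsN_step 6 16777216 5944080 [2, 4, 6, 7, 8, 9, 12]
  intro v hv
  simp only [List.mem_cons, List.not_mem_nil, or_false] at hv
  rcases hv with rfl | rfl | rfl | rfl | rfl | rfl | rfl
  exacts [part_11_10_5_2, part_11_10_5_4, part_11_10_5_6, part_11_10_5_7, part_11_10_5_8, part_11_10_5_9, part_11_10_5_12]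

set_option maxRecDepth 100000 in
theorem part_11_10_6_2 : dfsN 6 268435456 40547088 [4, 5, 7, 8, 9, 12] = true := by
  decide +kernel

set_option maxRecDepth 100000 in
theorem part_11_10_6_4 : dfsN 6 268435456 74101520 [2, 5, 7, 8, 9, 12] = true := by
  decide +kernel

set_option maxRecDepth 100000 in
theorem part_11_10_6_5 : dfsN 6 268435456 90878736 [2, 4, 7, 8, 9, 12] = true := by
  decide +kernel

set_option maxRecDepth 100000 in
theorem part_11_10_6_7 : dfsN 6 268435456 124433168 [2, 4, 5, 8, 9, 12] = true := by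
  decide +kernel

set_option maxRecDepth 100000 in
theorem part_11_10_6_8 : dfsN 6 268435456 141210384 [2, 4, 5, 7, 9, 12] = true := by
  decide +kernel

set_option maxRecDepth 100000 in
theorem part_11_10_6_9 : dfsN 6 268435456 157987600 [2, 4, 5, 7, 8, 12] = true := by
  decide +kernel

set_option maxRecDepth 100000 in
theorem part_11_10_6_12 : dfsN 6 268435456 208319248 [2, 4, 5, 7, 8, 9] = true := by
  decide +kernel

theorem part_11_10_6 : dfsN 7 16777216 6992656 [2, 4, 5, 7, 8, 9, 12] = true := by
  apply dfsN_step 6 16777216 6992656 [2, 4, 5, 7, 8, 9, 12]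
  intro v hv
  simp only [List.mem_cons, List.not_mem_nil, or_false] at hv
  rcases hv with rfl | rfl | rfl | rfl | rfl | rfl | rfl
  exacts [part_11_10_6_2, part_11_10_6_4, part_11_10_6_5, part_11_10_6_7, part_11_10_6_8, part_11_10_6_9, part_11_10_6_12]

set_option maxRecDepth 100000 in
theorem part_11_10_7_2 : dfsN 6 268435456 41595664 [4, 5, 6, 8, 9, 12] = true := by
  decide +kernel

set_option maxRecDepth 100000 in
theorem part_11_10_7_4 : dfsN 6 268435456 75150096 [2, 5, 6, 8, 9, 12] = true := by
  decide +kernel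

set_option maxRecDepth 100000 in
theorem part_11_10_7_5 : dfsN 6 268435456 91927312 [2, 4, 6, 8, 9, 12] = true := by
  decide +kernel

set_option maxRecDepth 100000 in
theorem part_11_10_7_6 : dfsN 6 268435456 108704528 [2, 4, 5, 8, 9, 12] = true := by
  decide +kernel

set_option maxRecDepth 100000 in
theorem part_11_10_7_8 : dfsN 6 268435456 142258960 [2, 4, 5, 6, 9, 12] = true := by
  decide +kernel

set_option maxRecDepth 100000 in
theorem part_11_10_7_9 : dfsN 6 268435456 159036176 [2, 4, 5, 6, 8, 12] = true := by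
  decide +kernel

set_option maxRecDepth 100000 in
theorem part_11_10_7_12 : dfsN 6 268435456 209367824 [2, 4, 5, 6, 8, 9] = true := by
  decide +kernel

theorem part_11_10_7 : dfsN 7 16777216 8041232 [2, 4, 5, 6, 8, 9, 12] = true := by
  apply dfsN_step 6 16777216 8041232 [2, 4, 5, 6, 8, 9, 12]
  intro v hv
  simp only [List.mem_cons, List.not_mem_nil, or_false] at hv
  rcases hv with rfl | rfl | rfl | rfl | rfl | rfl | rfl
  exacts [part_11_10_7_2, part_11_10_7_4, part_11_10_7_5, part_11_10_7_6, part_11_10_7_8, part_11_10_7_9, part_11_10_7_12]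

set_option maxRecDepth 100000 in
theorem part_11_10_8_2 : dfsN 6 268435456 42644240 [4, 5, 6, 7, 9, 12] = true := by
  decide +kernel

set_option maxRecDepth 100000 in
theorem part_11_10_8_4 : dfsN 6 268435456 76198672 [2, 5, 6, 7, 9, 12] = true := by
  decide +kernel

set_option maxRecDepth 100000 in
theorem part_11_10_8_5 : dfsN 6 268435456 92975888 [2, 4, 6, 7, 9, 12] = true := by
  decide +kernel

set_option maxRecDepth 100000 in
theorem part_11_10_8_6 : dfsN 6 268435456 109753104 [2, 4, 5, 7, 9, 12] = true := by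
  decide +kernel

set_option maxRecDepth 100000 in
theorem part_11_10_8_7 : dfsN 6 268435456 126530320 [2, 4, 5, 6, 9, 12] = true := by
  decide +kernel

set_option maxRecDepth 100000 in
theorem part_11_10_8_9 : dfsN 6 268435456 160084752 [2, 4, 5, 6, 7, 12] = true := by
  decide +kernel

set_option maxRecDepth 100000 in
theorem part_11_10_8_12 : dfsN 6 268435456 210416400 [2, 4, 5, 6, 7, 9] = true := by
  decide +kernel

theorem part_11_10_8 : dfsN 7 16777216 9089808 [2, 4, 5, 6, 7, 9, 12] = true := by
  apply dfsN_step 6 16777216 9089808 [2, 4, 5, 6, 7, 9, 12]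
  intro v hv
  simp only [List.mem_cons, List.not_mem_nil, or_false] at hv
  rcases hv with rfl | rfl | rfl | rfl | rfl | rfl | rfl
  exacts [part_11_10_8_2, part_11_10_8_4, part_11_10_8_5, part_11_10_8_6, part_11_10_8_7, part_11_10_8_9, part_11_10_8_12]

set_option maxRecDepth 100000 in
theorem part_11_10_9_2 : dfsN 6 268435456 43692816 [4, 5, 6, 7, 8, 12] = true := by
  decide +kernel

set_option maxRecDepth 100000 in
theorem part_11_10_9_4 : dfsN 6 268435456 77247248 [2, 5, 6, 7, 8, 12] = true := by
  decide +kernel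

set_option maxRecDepth 100000 in
theorem part_11_10_9_5 : dfsN 6 268435456 94024464 [2, 4, 6, 7, 8, 12] = true := by
  decide +kernel

set_option maxRecDepth 100000 in
theorem part_11_10_9_6 : dfsN 6 268435456 110801680 [2, 4, 5, 7, 8, 12] = true := by
  decide +kernel

set_option maxRecDepth 100000 in
theorem part_11_10_9_7 : dfsN 6 268435456 127578896 [2, 4, 5, 6, 8, 12] = true := by
  decide +kernel

set_option maxRecDepth 100000 in
theorem part_11_10_9_8 : dfsN 6 268435456 144356112 [2, 4, 5, 6, 7, 12] = true := by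
  decide +kernel

set_option maxRecDepth 100000 in
theorem part_11_10_9_12 : dfsN 6 268435456 211464976 [2, 4, 5, 6, 7, 8] = true := by
  decide +kernel

theorem part_11_10_9 : dfsN 7 16777216 10138384 [2, 4, 5, 6, 7, 8, 12] = true := by
  apply dfsN_step 6 16777216 10138384 [2, 4, 5, 6, 7, 8, 12]
  intro v hv
  simp only [List.mem_cons, List.not_mem_nil, or_false] at hv
  rcases hv with rfl | rfl | rfl | rfl | rfl | rfl | rfl
  exacts [part_11_10_9_2, part_11_10_9_4, part_11_10_9_5, part_11_10_9_6, part_11_10_9_7, part_11_10_9_8, part_11_10_9_12]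

set_option maxRecDepth 100000 in
theorem part_11_10_12_2 : dfsN 6 268435456 46838544 [4, 5, 6, 7, 8, 9] = true := by
  decide +kernel

set_option maxRecDepth 100000 in
theorem part_11_10_12_4 : dfsN 6 268435456 80392976 [2, 5, 6, 7, 8, 9] = true := by
  decide +kernel

set_option maxRecDepth 100000 in
theorem part_11_10_12_5 : dfsN 6 268435456 97170192 [2, 4, 6, 7, 8, 9] = true := by
  decide +kernel

set_option maxRecDepth 100000 in
theorem part_11_10_12_6 : dfsN 6 268435456 113947408 [2, 4, 5, 7, 8, 9] = true := by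
  decide +kernel

set_option maxRecDepth 100000 in
theorem part_11_10_12_7 : dfsN 6 268435456 130724624 [2, 4, 5, 6, 8, 9] = true := by
  decide +kernel

set_option maxRecDepth 100000 in
theorem part_11_10_12_8 : dfsN 6 268435456 147501840 [2, 4, 5, 6, 7, 9] = true := by
  decide +kernel

set_option maxRecDepth 100000 in
theorem part_11_10_12_9 : dfsN 6 268435456 164279056 [2, 4, 5, 6, 7, 8] = true := by
  decide +kernel

theorem part_11_10_12 : dfsN 7 16777216 13284112 [2, 4, 5, 6, 7, 8, 9] = true := by
  apply dfsN_step 6 16777216 13284112 [2, 4, 5, 6, 7, 8, 9]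
  intro v hv
  simp only [List.mem_cons, List.not_mem_nil, or_false] at hv
  rcases hv with rfl | rfl | rfl | rfl | rfl | rfl | rfl
  exacts [part_11_10_12_2, part_11_10_12_4, part_11_10_12_5, part_11_10_12_6, part_11_10_12_7, part_11_10_12_8, part_11_10_12_9]

theorem part_11_10 : dfsN 8 1048576 701200 [2, 4, 5, 6, 7, 8, 9, 12] = true := by
  apply dfsN_step 7 1048576 701200 [2, 4, 5, 6, 7, 8, 9, 12]
  intro v hv
  simp only [List.mem_cons, List.not_mem_nil, or_false] at hv
  rcases hv with rfl | rfl | rfl | rfl | rfl | rfl | rfl | rfl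
  exacts [part_11_10_2, part_11_10_4, part_11_10_5, part_11_10_6, part_11_10_7, part_11_10_8, part_11_10_9, part_11_10_12]

end Cfsg.Agent.Lib.H16.AG
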