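import Cfsg.Agent.Lib.H16.AG.Step

set_option autoImplicit false

/-! Degree 13, images `0, 1, 3, 11, 12` of `0, 1, 2, 3, 4` fixed: every completion that is an
`11`-cycle has a word `(x ^ b * y ^ a) ^ k` which is a `3`-, `5`- or `7`-cycle
(small kernel computations, one per pair of images of `5, 6`). -/

namespace Cfsg.Agent.Lib.H16.AG

set_option maxRecDepth 100000 in
theorem part_11_12_2_4 : dfsN 6 268435456 70038288 [5, 6, 7, 8, 9, 10] = true := by
  decide +kernel

set_option maxRecDepth 100000 in
theorem part_11_12_2_5 : dfsN 6 268435456 86815504 [4, 6, 7, 8, 9, 10] = true := by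
  decide +kernel

set_option maxRecDepth 100000 in
theorem part_11_12_2_6 : dfsN 6 268435456 103592720 [4, 5, 7, 8, 9, 10] = true := by
  decide +kernel

set_option maxRecDepth 100000 in
theorem part_11_12_2_7 : dfsN 6 268435456 120369936 [4, 5, 6, 8, 9, 10] = true := by
  decide +kernel

set_option maxRecDepth 100000 in
theorem part_11_12_2_8 : dfsN 6 268435456 137147152 [4, 5, 6, 7, 9, 10] = true := by
  decide +kernel

set_option maxRecDepth 100000 in
theorem part_11_12_2_9 : dfsN 6 268435456 153924368 [4, 5, 6, 7, 8, 10] = true := by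
  decide +kernel

set_option maxRecDepth 100000 in
theorem part_11_12_2_10 : dfsN 6 268435456 170701584 [4, 5, 6, 7, 8, 9] = true := by
  decide +kernel

theorem part_11_12_2 : dfsN 7 16777216 2929424 [4, 5, 6, 7, 8, 9, 10] = true := by
  apply dfsN_step 6 16777216 2929424 [4, 5, 6, 7, 8, 9, 10]
  intro v hv
  simp only [List.mem_cons, List.not_mem_nil, or_false] at hv
  rcases hv with rfl | rfl | rfl | rfl | rfl | rfl | rfl
  exacts [part_11_12_2_4, part_11_12_2_5, part_11_12_2_6, part_11_12_2_7, part_11_12_2_8, part_11_12_2_9, part_11_12_2_10]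

set_option maxRecDepth 100000 in
theorem part_11_12_4_2 : dfsN 6 268435456 38581008 [5, 6, 7, 8, 9, 10] = true := by
  decide +kernel

set_option maxRecDepth 100000 in
theorem part_11_12_4_5 : dfsN 6 268435456 88912656 [2, 6, 7, 8, 9, 10] = true := by
  decide +kernel

set_option maxRecDepth 100000 in
theorem part_11_12_4_6 : dfsN 6 268435456 105689872 [2, 5, 7, 8, 9, 10] = true := by
  decide +kernel

set_option maxRecDepth 100000 in
theorem part_11_12_4_7 : dfsN 6 268435456 122467088 [2, 5, 6, 8, 9, 10] = true := by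
  decide +kernel

set_option maxRecDepth 100000 in
theorem part_11_12_4_8 : dfsN 6 268435456 139244304 [2, 5, 6, 7, 9, 10] = true := by
  decide +kernel

set_option maxRecDepth 100000 in
theorem part_11_12_4_9 : dfsN 6 268435456 156021520 [2, 5, 6, 7, 8, 10] = true := by
  decide +kernel

set_option maxRecDepth 100000 in
theorem part_11_12_4_10 : dfsN 6 268435456 172798736 [2, 5, 6, 7, 8, 9] = true := by
  decide +kernel

theorem part_11_12_4 : dfsN 7 16777216 5026576 [2, 5, 6, 7, 8, 9, 10] = true := by
  apply dfsN_step 6 16777216 5026576 [2, 5, 6, 7, 8, 9, 10]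
  intro v hv
  simp only [List.mem_cons, List.not_mem_nil, or_false] at hv
  rcases hv with rfl | rfl | rfl | rfl | rfl | rfl | rfl
  exacts [part_11_12_4_2, part_11_12_4_5, part_11_12_4_6, part_11_12_4_7, part_11_12_4_8, part_11_12_4_9, part_11_12_4_10]

set_option maxRecDepth 100000 in
theorem part_11_12_5_2 : dfsN 6 268435456 39629584 [4, 6, 7, 8, 9, 10] = true := by
  decide +kernel

set_option maxRecDepth 100000 in
theorem part_11_12_5_4 : dfsN 6 268435456 73184016 [2, 6, 7, 8, 9, 10] = true := by
  decide +kernel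

set_option maxRecDepth 100000 in
theorem part_11_12_5_6 : dfsN 6 268435456 106738448 [2, 4, 7, 8, 9, 10] = true := by
  decide +kernel

set_option maxRecDepth 100000 in
theorem part_11_12_5_7 : dfsN 6 268435456 123515664 [2, 4, 6, 8, 9, 10] = true := by
  decide +kernel

set_option maxRecDepth 100000 in
theorem part_11_12_5_8 : dfsN 6 268435456 140292880 [2, 4, 6, 7, 9, 10] = true := by
  decide +kernel

set_option maxRecDepth 100000 in
theorem part_11_12_5_9 : dfsN 6 268435456 157070096 [2, 4, 6, 7, 8, 10] = true := by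
  decide +kernel

set_option maxRecDepth 100000 in
theorem part_11_12_5_10 : dfsN 6 268435456 173847312 [2, 4, 6, 7, 8, 9] = true := by
  decide +kernel

theorem part_11_12_5 : dfsN 7 16777216 6075152 [2, 4, 6, 7, 8, 9, 10] = true := by
  apply dfsN_step 6 16777216 6075152 [2, 4, 6, 7, 8, 9, 10]
  intro v hv
  simp only [List.mem_cons, List.not_mem_nil, or_false] at hv
  rcases hv with rfl | rfl | rfl | rfl | rfl | rfl | rfl
  exacts [part_11_12_5_2, part_11_12_5_4, part_11_12_5_6, part_11_12_5_7, part_11_12_5_8, part_11_12_5_9, part_11_12_5_10]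

set_option maxRecDepth 100000 in
theorem part_11_12_6_2 : dfsN 6 268435456 40678160 [4, 5, 7, 8, 9, 10] = true := by
  decide +kernel

set_option maxRecDepth 100000 in
theorem part_11_12_6_4 : dfsN 6 268435456 74232592 [2, 5, 7, 8, 9, 10] = true := by
  decide +kernel

set_option maxRecDepth 100000 in
theorem part_11_12_6_5 : dfsN 6 268435456 91009808 [2, 4, 7, 8, 9, 10] = true := by
  decide +kernel

set_option maxRecDepth 100000 in
theorem part_11_12_6_7 : dfsN 6 268435456 124564240 [2, 4, 5, 8, 9, 10] = true := by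
  decide +kernel

set_option maxRecDepth 100000 in
theorem part_11_12_6_8 : dfsN 6 268435456 141341456 [2, 4, 5, 7, 9, 10] = true := by
  decide +kernel

set_option maxRecDepth 100000 in
theorem part_11_12_6_9 : dfsN 6 268435456 158118672 [2, 4, 5, 7, 8, 10] = true := by
  decide +kernel

set_option maxRecDepth 100000 in
theorem part_11_12_6_10 : dfsN 6 268435456 174895888 [2, 4, 5, 7, 8, 9] = true := by
  decide +kernel

theorem part_11_12_6 : dfsN 7 16777216 7123728 [2, 4, 5, 7, 8, 9, 10] = true := by
  apply dfsN_step 6 16777216 7123728 [2, 4, 5, 7, 8, 9, 10]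
  intro v hv
  simp only [List.mem_cons, List.not_mem_nil, or_false] at hv
  rcases hv with rfl | rfl | rfl | rfl | rfl | rfl | rfl
  exacts [part_11_12_6_2, part_11_12_6_4, part_11_12_6_5, part_11_12_6_7, part_11_12_6_8, part_11_12_6_9, part_11_12_6_10]

set_option maxRecDepth 100000 in
theorem part_11_12_7_2 : dfsN 6 268435456 41726736 [4, 5, 6, 8, 9, 10] = true := by
  decide +kernel

set_option maxRecDepth 100000 in
theorem part_11_12_7_4 : dfsN 6 268435456 75281168 [2, 5, 6, 8, 9, 10] = true := by
  decide +kernel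

set_option maxRecDepth 100000 in
theorem part_11_12_7_5 : dfsN 6 268435456 92058384 [2, 4, 6, 8, 9, 10] = true := by
  decide +kernel

set_option maxRecDepth 100000 in
theorem part_11_12_7_6 : dfsN 6 268435456 108835600 [2, 4, 5, 8, 9, 10] = true := by
  decide +kernel

set_option maxRecDepth 100000 in
theorem part_11_12_7_8 : dfsN 6 268435456 142390032 [2, 4, 5, 6, 9, 10] = true := by
  decide +kernel

set_option maxRecDepth 100000 in
theorem part_11_12_7_9 : dfsN 6 268435456 159167248 [2, 4, 5, 6, 8, 10] = true := by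
  decide +kernel

set_option maxRecDepth 100000 in
theorem part_11_12_7_10 : dfsN 6 268435456 175944464 [2, 4, 5, 6, 8, 9] = true := by
  decide +kernel

theorem part_11_12_7 : dfsN 7 16777216 8172304 [2, 4, 5, 6, 8, 9, 10] = true := by
  apply dfsN_step 6 16777216 8172304 [2, 4, 5, 6, 8, 9, 10]
  intro v hv
  simp only [List.mem_cons, List.not_mem_nil, or_false] at hv
  rcases hv with rfl | rfl | rfl | rfl | rfl | rfl | rfl
  exacts [part_11_12_7_2, part_11_12_7_4, part_11_12_7_5, part_11_12_7_6, part_11_12_7_8, part_11_12_7_9, part_11_12_7_10]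

set_option maxRecDepth 100000 in
theorem part_11_12_8_2 : dfsN 6 268435456 42775312 [4, 5, 6, 7, 9, 10] = true := by
  decide +kernel

set_option maxRecDepth 100000 in
theorem part_11_12_8_4 : dfsN 6 268435456 76329744 [2, 5, 6, 7, 9, 10] = true := by
  decide +kernel

set_option maxRecDepth 100000 in
theorem part_11_12_8_5 : dfsN 6 268435456 93106960 [2, 4, 6, 7, 9, 10] = true := by
  decide +kernel

set_option maxRecDepth 100000 in
theorem part_11_12_8_6 : dfsN 6 268435456 109884176 [2, 4, 5, 7, 9, 10] = true := by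
  decide +kernel

set_option maxRecDepth 100000 in
theorem part_11_12_8_7 : dfsN 6 268435456 126661392 [2, 4, 5, 6, 9, 10] = true := by
  decide +kernel

set_option maxRecDepth 100000 in
theorem part_11_12_8_9 : dfsN 6 268435456 160215824 [2, 4, 5, 6, 7, 10] = true := by
  decide +kernel

set_option maxRecDepth 100000 in
theorem part_11_12_8_10 : dfsN 6 268435456 176993040 [2, 4, 5, 6, 7, 9] = true := by
  decide +kernel

theorem part_11_12_8 : dfsN 7 16777216 9220880 [2, 4, 5, 6, 7, 9, 10] = true := by
  apply dfsN_step 6 16777216 9220880 [2, 4, 5, 6, 7, 9, 10]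
  intro v hv
  simp only [List.mem_cons, List.not_mem_nil, or_false] at hv
  rcases hv with rfl | rfl | rfl | rfl | rfl | rfl | rfl
  exacts [part_11_12_8_2, part_11_12_8_4, part_11_12_8_5, part_11_12_8_6, part_11_12_8_7, part_11_12_8_9, part_11_12_8_10]

set_option maxRecDepth 100000 in
theorem part_11_12_9_2 : dfsN 6 268435456 43823888 [4, 5, 6, 7, 8, 10] = true := by
  decide +kernel

set_option maxRecDepth 100000 in
theorem part_11_12_9_4 : dfsN 6 268435456 77378320 [2, 5, 6, 7, 8, 10] = true := by
  decide +kernel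

set_option maxRecDepth 100000 in
theorem part_11_12_9_5 : dfsN 6 268435456 94155536 [2, 4, 6, 7, 8, 10] = true := by
  decide +kernel

set_option maxRecDepth 100000 in
theorem part_11_12_9_6 : dfsN 6 268435456 110932752 [2, 4, 5, 7, 8, 10] = true := by
  decide +kernel

set_option maxRecDepth 100000 in
theorem part_11_12_9_7 : dfsN 6 268435456 127709968 [2, 4, 5, 6, 8, 10] = true := by
  decide +kernel

set_option maxRecDepth 100000 in
theorem part_11_12_9_8 : dfsN 6 268435456 144487184 [2, 4, 5, 6, 7, 10] = true := by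
  decide +kernel

set_option maxRecDepth 100000 in
theorem part_11_12_9_10 : dfsN 6 268435456 178041616 [2, 4, 5, 6, 7, 8] = true := by
  decide +kernel

theorem part_11_12_9 : dfsN 7 16777216 10269456 [2, 4, 5, 6, 7, 8, 10] = true := by
  apply dfsN_step 6 16777216 10269456 [2, 4, 5, 6, 7, 8, 10]
  intro v hv
  simp only [List.mem_cons, List.not_mem_nil, or_false] at hv
  rcases hv with rfl | rfl | rfl | rfl | rfl | rfl | rfl
  exacts [part_11_12_9_2, part_11_12_9_4, part_11_12_9_5, part_11_12_9_6, part_11_12_9_7, part_11_12_9_8, part_11_12_9_10]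

set_option maxRecDepth 100000 in
theorem part_11_12_10_2 : dfsN 6 268435456 44872464 [4, 5, 6, 7, 8, 9] = true := by
  decide +kernel

set_option maxRecDepth 100000 in
theorem part_11_12_10_4 : dfsN 6 268435456 78426896 [2, 5, 6, 7, 8, 9] = true := by
  decide +kernel

set_option maxRecDepth 100000 in
theorem part_11_12_10_5 : dfsN 6 268435456 95204112 [2, 4, 6, 7, 8, 9] = true := by
  decide +kernel

set_option maxRecDepth 100000 in
theorem part_11_12_10_6 : dfsN 6 268435456 111981328 [2, 4, 5, 7, 8, 9] = true := by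
  decide +kernel

set_option maxRecDepth 100000 in
theorem part_11_12_10_7 : dfsN 6 268435456 128758544 [2, 4, 5, 6, 8, 9] = true := by
  decide +kernel

set_option maxRecDepth 100000 in
theorem part_11_12_10_8 : dfsN 6 268435456 145535760 [2, 4, 5, 6, 7, 9] = true := by
  decide +kernel

set_option maxRecDepth 100000 in
theorem part_11_12_10_9 : dfsN 6 268435456 162312976 [2, 4, 5, 6, 7, 8] = true := by
  decide +kernel

theorem part_11_12_10 : dfsN 7 16777216 11318032 [2, 4, 5, 6, 7, 8, 9] = true := by
  apply dfsN_step 6 16777216 11318032 [2, 4, 5, 6, 7, 8, 9]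
  intro v hv
  simp only [List.mem_cons, List.not_mem_nil, or_false] at hv
  rcases hv with rfl | rfl | rfl | rfl | rfl | rfl | rfl
  exacts [part_11_12_10_2, part_11_12_10_4, part_11_12_10_5, part_11_12_10_6, part_11_12_10_7, part_11_12_10_8, part_11_12_10_9]

theorem part_11_12 : dfsN 8 1048576 832272 [2, 4, 5, 6, 7, 8, 9, 10] = true := by
  apply dfsN_step 7 1048576 832272 [2, 4, 5, 6, 7, 8, 9, 10]
  intro v hv
  simp only [List.mem_cons, List.not_mem_nil, or_false] at hv
  rcases hv with rfl | rfl | rfl | rfl | rfl | rfl | rfl | rfl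
  exacts [part_11_12_2, part_11_12_4, part_11_12_5, part_11_12_6, part_11_12_7, part_11_12_8, part_11_12_9, part_11_12_10]

end Cfsg.Agent.Lib.H16.AG
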