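import Cfsg.Agent.Lib.H16.AG.Step

set_option autoImplicit false

/-! Degree 13, images `0, 1, 3, 12, 2` of `0, 1, 2, 3, 4` fixed: every completion that is an
`11`-cycle has a word `(x ^ b * y ^ a) ^ k` which is a `3`-, `5`- or `7`-cycle
(small kernel computations, one per pair of images of `5, 6`). -/

namespace Cfsg.Agent.Lib.H16.AG

set_option maxRecDepth 100000 in
theorem part_12_2_4_5 : dfsN 6 268435456 88261392 [6, 7, 8, 9, 10, 11] = true := by
  decide +kernel

set_option maxRecDepth 100000 in
theorem part_12_2_4_6 : dfsN 6 268435456 105038608 [5, 7, 8, 9, 10, 11] = true := by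
  decide +kernel

set_option maxRecDepth 100000 in
theorem part_12_2_4_7 : dfsN 6 268435456 121815824 [5, 6, 8, 9, 10, 11] = true := by
  decide +kernel

set_option maxRecDepth 100000 in
theorem part_12_2_4_8 : dfsN 6 268435456 138593040 [5, 6, 7, 9, 10, 11] = true := by
  decide +kernel

set_option maxRecDepth 100000 in
theorem part_12_2_4_9 : dfsN 6 268435456 155370256 [5, 6, 7, 8, 10, 11] = true := by
  decide +kernel

set_option maxRecDepth 100000 in
theorem part_12_2_4_10 : dfsN 6 268435456 172147472 [5, 6, 7, 8, 9, 11] = true := by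
  decide +kernel

set_option maxRecDepth 100000 in
theorem part_12_2_4_11 : dfsN 6 268435456 188924688 [5, 6, 7, 8, 9, 10] = true := by
  decide +kernel

theorem part_12_2_4 : dfsN 7 16777216 4375312 [5, 6, 7, 8, 9, 10, 11] = true := by
  apply dfsN_step 6 16777216 4375312 [5, 6, 7, 8, 9, 10, 11]
  intro v hv
  simp only [List.mem_cons, List.not_mem_nil, or_false] at hv
  rcases hv with rfl | rfl | rfl | rfl | rfl | rfl | rfl
  exacts [part_12_2_4_5, part_12_2_4_6, part_12_2_4_7, part_12_2_4_8, part_12_2_4_9, part_12_2_4_10, part_12_2_4_11]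

set_option maxRecDepth 100000 in
theorem part_12_2_5_4 : dfsN 6 268435456 72532752 [6, 7, 8, 9, 10, 11] = true := by
  decide +kernel

set_option maxRecDepth 100000 in
theorem part_12_2_5_6 : dfsN 6 268435456 106087184 [4, 7, 8, 9, 10, 11] = true := by
  decide +kernel

set_option maxRecDepth 100000 in
theorem part_12_2_5_7 : dfsN 6 268435456 122864400 [4, 6, 8, 9, 10, 11] = true := by
  decide +kernel

set_option maxRecDepth 100000 in
theorem part_12_2_5_8 : dfsN 6 268435456 139641616 [4, 6, 7, 9, 10, 11] = true := by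
  decide +kernel

set_option maxRecDepth 100000 in
theorem part_12_2_5_9 : dfsN 6 268435456 156418832 [4, 6, 7, 8, 10, 11] = true := by
  decide +kernel

set_option maxRecDepth 100000 in
theorem part_12_2_5_10 : dfsN 6 268435456 173196048 [4, 6, 7, 8, 9, 11] = true := by
  decide +kernel

set_option maxRecDepth 100000 in
theorem part_12_2_5_11 : dfsN 6 268435456 189973264 [4, 6, 7, 8, 9, 10] = true := by
  decide +kernel

theorem part_12_2_5 : dfsN 7 16777216 5423888 [4, 6, 7, 8, 9, 10, 11] = true := by
  apply dfsN_step 6 16777216 5423888 [4, 6, 7, 8, 9, 10, 11]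
  intro v hv
  simp only [List.mem_cons, List.not_mem_nil, or_false] at hv
  rcases hv with rfl | rfl | rfl | rfl | rfl | rfl | rfl
  exacts [part_12_2_5_4, part_12_2_5_6, part_12_2_5_7, part_12_2_5_8, part_12_2_5_9, part_12_2_5_10, part_12_2_5_11]

set_option maxRecDepth 100000 in
theorem part_12_2_6_4 : dfsN 6 268435456 73581328 [5, 7, 8, 9, 10, 11] = true := by
  decide +kernel

set_option maxRecDepth 100000 in
theorem part_12_2_6_5 : dfsN 6 268435456 90358544 [4, 7, 8, 9, 10, 11] = true := by
  decide +kernel

set_option maxRecDepth 100000 in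
theorem part_12_2_6_7 : dfsN 6 268435456 123912976 [4, 5, 8, 9, 10, 11] = true := by
  decide +kernel

set_option maxRecDepth 100000 in
theorem part_12_2_6_8 : dfsN 6 268435456 140690192 [4, 5, 7, 9, 10, 11] = true := by
  decide +kernel

set_option maxRecDepth 100000 in
theorem part_12_2_6_9 : dfsN 6 268435456 157467408 [4, 5, 7, 8, 10, 11] = true := by
  decide +kernel

set_option maxRecDepth 100000 in
theorem part_12_2_6_10 : dfsN 6 268435456 174244624 [4, 5, 7, 8, 9, 11] = true := by
  decide +kernel

set_option maxRecDepth 100000 in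
theorem part_12_2_6_11 : dfsN 6 268435456 191021840 [4, 5, 7, 8, 9, 10] = true := by
  decide +kernel

theorem part_12_2_6 : dfsN 7 16777216 6472464 [4, 5, 7, 8, 9, 10, 11] = true := by
  apply dfsN_step 6 16777216 6472464 [4, 5, 7, 8, 9, 10, 11]
  intro v hv
  simp only [List.mem_cons, List.not_mem_nil, or_false] at hv
  rcases hv with rfl | rfl | rfl | rfl | rfl | rfl | rfl
  exacts [part_12_2_6_4, part_12_2_6_5, part_12_2_6_7, part_12_2_6_8, part_12_2_6_9, part_12_2_6_10, part_12_2_6_11]

set_option maxRecDepth 100000 in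
theorem part_12_2_7_4 : dfsN 6 268435456 74629904 [5, 6, 8, 9, 10, 11] = true := by
  decide +kernel

set_option maxRecDepth 100000 in
theorem part_12_2_7_5 : dfsN 6 268435456 91407120 [4, 6, 8, 9, 10, 11] = true := by
  decide +kernel

set_option maxRecDepth 100000 in
theorem part_12_2_7_6 : dfsN 6 268435456 108184336 [4, 5, 8, 9, 10, 11] = true := by
  decide +kernel

set_option maxRecDepth 100000 in
theorem part_12_2_7_8 : dfsN 6 268435456 141738768 [4, 5, 6, 9, 10, 11] = true := by
  decide +kernel

set_option maxRecDepth 100000 in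
theorem part_12_2_7_9 : dfsN 6 268435456 158515984 [4, 5, 6, 8, 10, 11] = true := by
  decide +kernel

set_option maxRecDepth 100000 in
theorem part_12_2_7_10 : dfsN 6 268435456 175293200 [4, 5, 6, 8, 9, 11] = true := by
  decide +kernel

set_option maxRecDepth 100000 in
theorem part_12_2_7_11 : dfsN 6 268435456 192070416 [4, 5, 6, 8, 9, 10] = true := by
  decide +kernel

theorem part_12_2_7 : dfsN 7 16777216 7521040 [4, 5, 6, 8, 9, 10, 11] = true := by
  apply dfsN_step 6 16777216 7521040 [4, 5, 6, 8, 9, 10, 11]
  intro v hv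
  simp only [List.mem_cons, List.not_mem_nil, or_false] at hv
  rcases hv with rfl | rfl | rfl | rfl | rfl | rfl | rfl
  exacts [part_12_2_7_4, part_12_2_7_5, part_12_2_7_6, part_12_2_7_8, part_12_2_7_9, part_12_2_7_10, part_12_2_7_11]

set_option maxRecDepth 100000 in
theorem part_12_2_8_4 : dfsN 6 268435456 75678480 [5, 6, 7, 9, 10, 11] = true := by
  decide +kernel

set_option maxRecDepth 100000 in
theorem part_12_2_8_5 : dfsN 6 268435456 92455696 [4, 6, 7, 9, 10, 11] = true := by
  decide +kernel

set_option maxRecDepth 100000 in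
theorem part_12_2_8_6 : dfsN 6 268435456 109232912 [4, 5, 7, 9, 10, 11] = true := by
  decide +kernel

set_option maxRecDepth 100000 in
theorem part_12_2_8_7 : dfsN 6 268435456 126010128 [4, 5, 6, 9, 10, 11] = true := by
  decide +kernel

set_option maxRecDepth 100000 in
theorem part_12_2_8_9 : dfsN 6 268435456 159564560 [4, 5, 6, 7, 10, 11] = true := by
  decide +kernel

set_option maxRecDepth 100000 in
theorem part_12_2_8_10 : dfsN 6 268435456 176341776 [4, 5, 6, 7, 9, 11] = true := by
  decide +kernel

set_option maxRecDepth 100000 in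
theorem part_12_2_8_11 : dfsN 6 268435456 193118992 [4, 5, 6, 7, 9, 10] = true := by
  decide +kernel

theorem part_12_2_8 : dfsN 7 16777216 8569616 [4, 5, 6, 7, 9, 10, 11] = true := by
  apply dfsN_step 6 16777216 8569616 [4, 5, 6, 7, 9, 10, 11]
  intro v hv
  simp only [List.mem_cons, List.not_mem_nil, or_false] at hv
  rcases hv with rfl | rfl | rfl | rfl | rfl | rfl | rfl
  exacts [part_12_2_8_4, part_12_2_8_5, part_12_2_8_6, part_12_2_8_7, part_12_2_8_9, part_12_2_8_10, part_12_2_8_11]

set_option maxRecDepth 100000 in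
theorem part_12_2_9_4 : dfsN 6 268435456 76727056 [5, 6, 7, 8, 10, 11] = true := by
  decide +kernel

set_option maxRecDepth 100000 in
theorem part_12_2_9_5 : dfsN 6 268435456 93504272 [4, 6, 7, 8, 10, 11] = true := by
  decide +kernel

set_option maxRecDepth 100000 in
theorem part_12_2_9_6 : dfsN 6 268435456 110281488 [4, 5, 7, 8, 10, 11] = true := by
  decide +kernel

set_option maxRecDepth 100000 in
theorem part_12_2_9_7 : dfsN 6 268435456 127058704 [4, 5, 6, 8, 10, 11] = true := by
  decide +kernel

set_option maxRecDepth 100000 in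
theorem part_12_2_9_8 : dfsN 6 268435456 143835920 [4, 5, 6, 7, 10, 11] = true := by
  decide +kernel

set_option maxRecDepth 100000 in
theorem part_12_2_9_10 : dfsN 6 268435456 177390352 [4, 5, 6, 7, 8, 11] = true := by
  decide +kernel

set_option maxRecDepth 100000 in
theorem part_12_2_9_11 : dfsN 6 268435456 194167568 [4, 5, 6, 7, 8, 10] = true := by
  decide +kernel

theorem part_12_2_9 : dfsN 7 16777216 9618192 [4, 5, 6, 7, 8, 10, 11] = true := by
  apply dfsN_step 6 16777216 9618192 [4, 5, 6, 7, 8, 10, 11]
  intro v hv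
  simp only [List.mem_cons, List.not_mem_nil, or_false] at hv
  rcases hv with rfl | rfl | rfl | rfl | rfl | rfl | rfl
  exacts [part_12_2_9_4, part_12_2_9_5, part_12_2_9_6, part_12_2_9_7, part_12_2_9_8, part_12_2_9_10, part_12_2_9_11]

set_option maxRecDepth 100000 in
theorem part_12_2_10_4 : dfsN 6 268435456 77775632 [5, 6, 7, 8, 9, 11] = true := by
  decide +kernel

set_option maxRecDepth 100000 in
theorem part_12_2_10_5 : dfsN 6 268435456 94552848 [4, 6, 7, 8, 9, 11] = true := by
  decide +kernel

set_option maxRecDepth 100000 in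
theorem part_12_2_10_6 : dfsN 6 268435456 111330064 [4, 5, 7, 8, 9, 11] = true := by
  decide +kernel

set_option maxRecDepth 100000 in
theorem part_12_2_10_7 : dfsN 6 268435456 128107280 [4, 5, 6, 8, 9, 11] = true := by
  decide +kernel

set_option maxRecDepth 100000 in
theorem part_12_2_10_8 : dfsN 6 268435456 144884496 [4, 5, 6, 7, 9, 11] = true := by
  decide +kernel

set_option maxRecDepth 100000 in
theorem part_12_2_10_9 : dfsN 6 268435456 161661712 [4, 5, 6, 7, 8, 11] = true := by
  decide +kernel

set_option maxRecDepth 100000 in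
theorem part_12_2_10_11 : dfsN 6 268435456 195216144 [4, 5, 6, 7, 8, 9] = true := by
  decide +kernel

theorem part_12_2_10 : dfsN 7 16777216 10666768 [4, 5, 6, 7, 8, 9, 11] = true := by
  apply dfsN_step 6 16777216 10666768 [4, 5, 6, 7, 8, 9, 11]
  intro v hv
  simp only [List.mem_cons, List.not_mem_nil, or_false] at hv
  rcases hv with rfl | rfl | rfl | rfl | rfl | rfl | rfl
  exacts [part_12_2_10_4, part_12_2_10_5, part_12_2_10_6, part_12_2_10_7, part_12_2_10_8, part_12_2_10_9, part_12_2_10_11]

set_option maxRecDepth 100000 in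
theorem part_12_2_11_4 : dfsN 6 268435456 78824208 [5, 6, 7, 8, 9, 10] = true := by
  decide +kernel

set_option maxRecDepth 100000 in
theorem part_12_2_11_5 : dfsN 6 268435456 95601424 [4, 6, 7, 8, 9, 10] = true := by
  decide +kernel

set_option maxRecDepth 100000 in
theorem part_12_2_11_6 : dfsN 6 268435456 112378640 [4, 5, 7, 8, 9, 10] = true := by
  decide +kernel

set_option maxRecDepth 100000 in
theorem part_12_2_11_7 : dfsN 6 268435456 129155856 [4, 5, 6, 8, 9, 10] = true := by
  decide +kernel

set_option maxRecDepth 100000 in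
theorem part_12_2_11_8 : dfsN 6 268435456 145933072 [4, 5, 6, 7, 9, 10] = true := by
  decide +kernel

set_option maxRecDepth 100000 in
theorem part_12_2_11_9 : dfsN 6 268435456 162710288 [4, 5, 6, 7, 8, 10] = true := by
  decide +kernel

set_option maxRecDepth 100000 in
theorem part_12_2_11_10 : dfsN 6 268435456 179487504 [4, 5, 6, 7, 8, 9] = true := by
  decide +kernel

theorem part_12_2_11 : dfsN 7 16777216 11715344 [4, 5, 6, 7, 8, 9, 10] = true := by
  apply dfsN_step 6 16777216 11715344 [4, 5, 6, 7, 8, 9, 10]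
  intro v hv
  simp only [List.mem_cons, List.not_mem_nil, or_false] at hv
  rcases hv with rfl | rfl | rfl | rfl | rfl | rfl | rfl
  exacts [part_12_2_11_4, part_12_2_11_5, part_12_2_11_6, part_12_2_11_7, part_12_2_11_8, part_12_2_11_9, part_12_2_11_10]

theorem part_12_2 : dfsN 8 1048576 181008 [4, 5, 6, 7, 8, 9, 10, 11] = true := by
  apply dfsN_step 7 1048576 181008 [4, 5, 6, 7, 8, 9, 10, 11]
  intro v hv
  simp only [List.mem_cons, List.not_mem_nil, or_false] at hv
  rcases hv with rfl | rfl | rfl | rfl | rfl | rfl | rfl | rfl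
  exacts [part_12_2_4, part_12_2_5, part_12_2_6, part_12_2_7, part_12_2_8, part_12_2_9, part_12_2_10, part_12_2_11]

end Cfsg.Agent.Lib.H16.AG
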