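import Cfsg.Agent.Lib.H16.AG.Step

set_option autoImplicit false

/-! Degree 13, images `0, 1, 3, 12, 4` of `0, 1, 2, 3, 4` fixed: every completion that is an
`11`-cycle has a word `(x ^ b * y ^ a) ^ k` which is a `3`-, `5`- or `7`-cycle
(small kernel computations, one per pair of images of `5, 6`). -/

namespace Cfsg.Agent.Lib.H16.AG

set_option maxRecDepth 100000 in
theorem part_12_4_2_5 : dfsN 6 268435456 86295312 [6, 7, 8, 9, 10, 11] = true := by
  decide +kernel

set_option maxRecDepth 100000 in
theorem part_12_4_2_6 : dfsN 6 268435456 103072528 [5, 7, 8, 9, 10, 11] = true := by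
  decide +kernel

set_option maxRecDepth 100000 in
theorem part_12_4_2_7 : dfsN 6 268435456 119849744 [5, 6, 8, 9, 10, 11] = true := by
  decide +kernel

set_option maxRecDepth 100000 in
theorem part_12_4_2_8 : dfsN 6 268435456 136626960 [5, 6, 7, 9, 10, 11] = true := by
  decide +kernel

set_option maxRecDepth 100000 in
theorem part_12_4_2_9 : dfsN 6 268435456 153404176 [5, 6, 7, 8, 10, 11] = true := by
  decide +kernel

set_option maxRecDepth 100000 in
theorem part_12_4_2_10 : dfsN 6 268435456 170181392 [5, 6, 7, 8, 9, 11] = true := by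
  decide +kernel

set_option maxRecDepth 100000 in
theorem part_12_4_2_11 : dfsN 6 268435456 186958608 [5, 6, 7, 8, 9, 10] = true := by
  decide +kernel

theorem part_12_4_2 : dfsN 7 16777216 2409232 [5, 6, 7, 8, 9, 10, 11] = true := by
  apply dfsN_step 6 16777216 2409232 [5, 6, 7, 8, 9, 10, 11]
  intro v hv
  simp only [List.mem_cons, List.not_mem_nil, or_false] at hv
  rcases hv with rfl | rfl | rfl | rfl | rfl | rfl | rfl
  exacts [part_12_4_2_5, part_12_4_2_6, part_12_4_2_7, part_12_4_2_8, part_12_4_2_9, part_12_4_2_10, part_12_4_2_11]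

set_option maxRecDepth 100000 in
theorem part_12_4_5_2 : dfsN 6 268435456 39109392 [6, 7, 8, 9, 10, 11] = true := by
  decide +kernel

set_option maxRecDepth 100000 in
theorem part_12_4_5_6 : dfsN 6 268435456 106218256 [2, 7, 8, 9, 10, 11] = true := by
  decide +kernel

set_option maxRecDepth 100000 in
theorem part_12_4_5_7 : dfsN 6 268435456 122995472 [2, 6, 8, 9, 10, 11] = true := by
  decide +kernel

set_option maxRecDepth 100000 in
theorem part_12_4_5_8 : dfsN 6 268435456 139772688 [2, 6, 7, 9, 10, 11] = true := by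
  decide +kernel

set_option maxRecDepth 100000 in
theorem part_12_4_5_9 : dfsN 6 268435456 156549904 [2, 6, 7, 8, 10, 11] = true := by
  decide +kernel

set_option maxRecDepth 100000 in
theorem part_12_4_5_10 : dfsN 6 268435456 173327120 [2, 6, 7, 8, 9, 11] = true := by
  decide +kernel

set_option maxRecDepth 100000 in
theorem part_12_4_5_11 : dfsN 6 268435456 190104336 [2, 6, 7, 8, 9, 10] = true := by
  decide +kernel

theorem part_12_4_5 : dfsN 7 16777216 5554960 [2, 6, 7, 8, 9, 10, 11] = true := by
  apply dfsN_step 6 16777216 5554960 [2, 6, 7, 8, 9, 10, 11]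
  intro v hv
  simp only [List.mem_cons, List.not_mem_nil, or_false] at hv
  rcases hv with rfl | rfl | rfl | rfl | rfl | rfl | rfl
  exacts [part_12_4_5_2, part_12_4_5_6, part_12_4_5_7, part_12_4_5_8, part_12_4_5_9, part_12_4_5_10, part_12_4_5_11]

set_option maxRecDepth 100000 in
theorem part_12_4_6_2 : dfsN 6 268435456 40157968 [5, 7, 8, 9, 10, 11] = true := by
  decide +kernel

set_option maxRecDepth 100000 in
theorem part_12_4_6_5 : dfsN 6 268435456 90489616 [2, 7, 8, 9, 10, 11] = true := by
  decide +kernel

set_option maxRecDepth 100000 in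
theorem part_12_4_6_7 : dfsN 6 268435456 124044048 [2, 5, 8, 9, 10, 11] = true := by
  decide +kernel

set_option maxRecDepth 100000 in
theorem part_12_4_6_8 : dfsN 6 268435456 140821264 [2, 5, 7, 9, 10, 11] = true := by
  decide +kernel

set_option maxRecDepth 100000 in
theorem part_12_4_6_9 : dfsN 6 268435456 157598480 [2, 5, 7, 8, 10, 11] = true := by
  decide +kernel

set_option maxRecDepth 100000 in
theorem part_12_4_6_10 : dfsN 6 268435456 174375696 [2, 5, 7, 8, 9, 11] = true := by
  decide +kernel

set_option maxRecDepth 100000 in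
theorem part_12_4_6_11 : dfsN 6 268435456 191152912 [2, 5, 7, 8, 9, 10] = true := by
  decide +kernel

theorem part_12_4_6 : dfsN 7 16777216 6603536 [2, 5, 7, 8, 9, 10, 11] = true := by
  apply dfsN_step 6 16777216 6603536 [2, 5, 7, 8, 9, 10, 11]
  intro v hv
  simp only [List.mem_cons, List.not_mem_nil, or_false] at hv
  rcases hv with rfl | rfl | rfl | rfl | rfl | rfl | rfl
  exacts [part_12_4_6_2, part_12_4_6_5, part_12_4_6_7, part_12_4_6_8, part_12_4_6_9, part_12_4_6_10, part_12_4_6_11]

set_option maxRecDepth 100000 in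
theorem part_12_4_7_2 : dfsN 6 268435456 41206544 [5, 6, 8, 9, 10, 11] = true := by
  decide +kernel

set_option maxRecDepth 100000 in
theorem part_12_4_7_5 : dfsN 6 268435456 91538192 [2, 6, 8, 9, 10, 11] = true := by
  decide +kernel

set_option maxRecDepth 100000 in
theorem part_12_4_7_6 : dfsN 6 268435456 108315408 [2, 5, 8, 9, 10, 11] = true := by
  decide +kernel

set_option maxRecDepth 100000 in
theorem part_12_4_7_8 : dfsN 6 268435456 141869840 [2, 5, 6, 9, 10, 11] = true := by
  decide +kernel

set_option maxRecDepth 100000 in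
theorem part_12_4_7_9 : dfsN 6 268435456 158647056 [2, 5, 6, 8, 10, 11] = true := by
  decide +kernel

set_option maxRecDepth 100000 in
theorem part_12_4_7_10 : dfsN 6 268435456 175424272 [2, 5, 6, 8, 9, 11] = true := by
  decide +kernel

set_option maxRecDepth 100000 in
theorem part_12_4_7_11 : dfsN 6 268435456 192201488 [2, 5, 6, 8, 9, 10] = true := by
  decide +kernel

theorem part_12_4_7 : dfsN 7 16777216 7652112 [2, 5, 6, 8, 9, 10, 11] = true := by
  apply dfsN_step 6 16777216 7652112 [2, 5, 6, 8, 9, 10, 11]
  intro v hv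
  simp only [List.mem_cons, List.not_mem_nil, or_false] at hv
  rcases hv with rfl | rfl | rfl | rfl | rfl | rfl | rfl
  exacts [part_12_4_7_2, part_12_4_7_5, part_12_4_7_6, part_12_4_7_8, part_12_4_7_9, part_12_4_7_10, part_12_4_7_11]

set_option maxRecDepth 100000 in
theorem part_12_4_8_2 : dfsN 6 268435456 42255120 [5, 6, 7, 9, 10, 11] = true := by
  decide +kernel

set_option maxRecDepth 100000 in
theorem part_12_4_8_5 : dfsN 6 268435456 92586768 [2, 6, 7, 9, 10, 11] = true := by
  decide +kernel

set_option maxRecDepth 100000 in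
theorem part_12_4_8_6 : dfsN 6 268435456 109363984 [2, 5, 7, 9, 10, 11] = true := by
  decide +kernel

set_option maxRecDepth 100000 in
theorem part_12_4_8_7 : dfsN 6 268435456 126141200 [2, 5, 6, 9, 10, 11] = true := by
  decide +kernel

set_option maxRecDepth 100000 in
theorem part_12_4_8_9 : dfsN 6 268435456 159695632 [2, 5, 6, 7, 10, 11] = true := by
  decide +kernel

set_option maxRecDepth 100000 in
theorem part_12_4_8_10 : dfsN 6 268435456 176472848 [2, 5, 6, 7, 9, 11] = true := by
  decide +kernel

set_option maxRecDepth 100000 in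
theorem part_12_4_8_11 : dfsN 6 268435456 193250064 [2, 5, 6, 7, 9, 10] = true := by
  decide +kernel

theorem part_12_4_8 : dfsN 7 16777216 8700688 [2, 5, 6, 7, 9, 10, 11] = true := by
  apply dfsN_step 6 16777216 8700688 [2, 5, 6, 7, 9, 10, 11]
  intro v hv
  simp only [List.mem_cons, List.not_mem_nil, or_false] at hv
  rcases hv with rfl | rfl | rfl | rfl | rfl | rfl | rfl
  exacts [part_12_4_8_2, part_12_4_8_5, part_12_4_8_6, part_12_4_8_7, part_12_4_8_9, part_12_4_8_10, part_12_4_8_11]

set_option maxRecDepth 100000 in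
theorem part_12_4_9_2 : dfsN 6 268435456 43303696 [5, 6, 7, 8, 10, 11] = true := by
  decide +kernel

set_option maxRecDepth 100000 in
theorem part_12_4_9_5 : dfsN 6 268435456 93635344 [2, 6, 7, 8, 10, 11] = true := by
  decide +kernel

set_option maxRecDepth 100000 in
theorem part_12_4_9_6 : dfsN 6 268435456 110412560 [2, 5, 7, 8, 10, 11] = true := by
  decide +kernel

set_option maxRecDepth 100000 in
theorem part_12_4_9_7 : dfsN 6 268435456 127189776 [2, 5, 6, 8, 10, 11] = true := by
  decide +kernel

set_option maxRecDepth 100000 in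
theorem part_12_4_9_8 : dfsN 6 268435456 143966992 [2, 5, 6, 7, 10, 11] = true := by
  decide +kernel

set_option maxRecDepth 100000 in
theorem part_12_4_9_10 : dfsN 6 268435456 177521424 [2, 5, 6, 7, 8, 11] = true := by
  decide +kernel

set_option maxRecDepth 100000 in
theorem part_12_4_9_11 : dfsN 6 268435456 194298640 [2, 5, 6, 7, 8, 10] = true := by
  decide +kernel

theorem part_12_4_9 : dfsN 7 16777216 9749264 [2, 5, 6, 7, 8, 10, 11] = true := by
  apply dfsN_step 6 16777216 9749264 [2, 5, 6, 7, 8, 10, 11]
  intro v hv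
  simp only [List.mem_cons, List.not_mem_nil, or_false] at hv
  rcases hv with rfl | rfl | rfl | rfl | rfl | rfl | rfl
  exacts [part_12_4_9_2, part_12_4_9_5, part_12_4_9_6, part_12_4_9_7, part_12_4_9_8, part_12_4_9_10, part_12_4_9_11]

set_option maxRecDepth 100000 in
theorem part_12_4_10_2 : dfsN 6 268435456 44352272 [5, 6, 7, 8, 9, 11] = true := by
  decide +kernel

set_option maxRecDepth 100000 in
theorem part_12_4_10_5 : dfsN 6 268435456 94683920 [2, 6, 7, 8, 9, 11] = true := by
  decide +kernel

set_option maxRecDepth 100000 in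
theorem part_12_4_10_6 : dfsN 6 268435456 111461136 [2, 5, 7, 8, 9, 11] = true := by
  decide +kernel

set_option maxRecDepth 100000 in
theorem part_12_4_10_7 : dfsN 6 268435456 128238352 [2, 5, 6, 8, 9, 11] = true := by
  decide +kernel

set_option maxRecDepth 100000 in
theorem part_12_4_10_8 : dfsN 6 268435456 145015568 [2, 5, 6, 7, 9, 11] = true := by
  decide +kernel

set_option maxRecDepth 100000 in
theorem part_12_4_10_9 : dfsN 6 268435456 161792784 [2, 5, 6, 7, 8, 11] = true := by
  decide +kernel

set_option maxRecDepth 100000 in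
theorem part_12_4_10_11 : dfsN 6 268435456 195347216 [2, 5, 6, 7, 8, 9] = true := by
  decide +kernel

theorem part_12_4_10 : dfsN 7 16777216 10797840 [2, 5, 6, 7, 8, 9, 11] = true := by
  apply dfsN_step 6 16777216 10797840 [2, 5, 6, 7, 8, 9, 11]
  intro v hv
  simp only [List.mem_cons, List.not_mem_nil, or_false] at hv
  rcases hv with rfl | rfl | rfl | rfl | rfl | rfl | rfl
  exacts [part_12_4_10_2, part_12_4_10_5, part_12_4_10_6, part_12_4_10_7, part_12_4_10_8, part_12_4_10_9, part_12_4_10_11]

set_option maxRecDepth 100000 in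
theorem part_12_4_11_2 : dfsN 6 268435456 45400848 [5, 6, 7, 8, 9, 10] = true := by
  decide +kernel

set_option maxRecDepth 100000 in
theorem part_12_4_11_5 : dfsN 6 268435456 95732496 [2, 6, 7, 8, 9, 10] = true := by
  decide +kernel

set_option maxRecDepth 100000 in
theorem part_12_4_11_6 : dfsN 6 268435456 112509712 [2, 5, 7, 8, 9, 10] = true := by
  decide +kernel

set_option maxRecDepth 100000 in
theorem part_12_4_11_7 : dfsN 6 268435456 129286928 [2, 5, 6, 8, 9, 10] = true := by
  decide +kernel

set_option maxRecDepth 100000 in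
theorem part_12_4_11_8 : dfsN 6 268435456 146064144 [2, 5, 6, 7, 9, 10] = true := by
  decide +kernel

set_option maxRecDepth 100000 in
theorem part_12_4_11_9 : dfsN 6 268435456 162841360 [2, 5, 6, 7, 8, 10] = true := by
  decide +kernel

set_option maxRecDepth 100000 in
theorem part_12_4_11_10 : dfsN 6 268435456 179618576 [2, 5, 6, 7, 8, 9] = true := by
  decide +kernel

theorem part_12_4_11 : dfsN 7 16777216 11846416 [2, 5, 6, 7, 8, 9, 10] = true := by
  apply dfsN_step 6 16777216 11846416 [2, 5, 6, 7, 8, 9, 10]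
  intro v hv
  simp only [List.mem_cons, List.not_mem_nil, or_false] at hv
  rcases hv with rfl | rfl | rfl | rfl | rfl | rfl | rfl
  exacts [part_12_4_11_2, part_12_4_11_5, part_12_4_11_6, part_12_4_11_7, part_12_4_11_8, part_12_4_11_9, part_12_4_11_10]

theorem part_12_4 : dfsN 8 1048576 312080 [2, 5, 6, 7, 8, 9, 10, 11] = true := by
  apply dfsN_step 7 1048576 312080 [2, 5, 6, 7, 8, 9, 10, 11]
  intro v hv
  simp only [List.mem_cons, List.not_mem_nil, or_false] at hv
  rcases hv with rfl | rfl | rfl | rfl | rfl | rfl | rfl | rfl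
  exacts [part_12_4_2, part_12_4_5, part_12_4_6, part_12_4_7, part_12_4_8, part_12_4_9, part_12_4_10, part_12_4_11]

end Cfsg.Agent.Lib.H16.AG
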