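import Cfsg.Agent.Lib.H16.AG.Step

set_option autoImplicit false

/-! Degree 13, images `0, 1, 3, 12, 5` of `0, 1, 2, 3, 4` fixed: every completion that is an
`11`-cycle has a word `(x ^ b * y ^ a) ^ k` which is a `3`-, `5`- or `7`-cycle
(small kernel computations, one per pair of images of `5, 6`). -/

namespace Cfsg.Agent.Lib.H16.AG

set_option maxRecDepth 100000 in
theorem part_12_5_2_4 : dfsN 6 268435456 69583632 [6, 7, 8, 9, 10, 11] = true := by
  decide +kernel

set_option maxRecDepth 100000 in
theorem part_12_5_2_6 : dfsN 6 268435456 103138064 [4, 7, 8, 9, 10, 11] = true := by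
  decide +kernel

set_option maxRecDepth 100000 in
theorem part_12_5_2_7 : dfsN 6 268435456 119915280 [4, 6, 8, 9, 10, 11] = true := by
  decide +kernel

set_option maxRecDepth 100000 in
theorem part_12_5_2_8 : dfsN 6 268435456 136692496 [4, 6, 7, 9, 10, 11] = true := by
  decide +kernel

set_option maxRecDepth 100000 in
theorem part_12_5_2_9 : dfsN 6 268435456 153469712 [4, 6, 7, 8, 10, 11] = true := by
  decide +kernel

set_option maxRecDepth 100000 in
theorem part_12_5_2_10 : dfsN 6 268435456 170246928 [4, 6, 7, 8, 9, 11] = true := by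
  decide +kernel

set_option maxRecDepth 100000 in
theorem part_12_5_2_11 : dfsN 6 268435456 187024144 [4, 6, 7, 8, 9, 10] = true := by
  decide +kernel

theorem part_12_5_2 : dfsN 7 16777216 2474768 [4, 6, 7, 8, 9, 10, 11] = true := by
  apply dfsN_step 6 16777216 2474768 [4, 6, 7, 8, 9, 10, 11]
  intro v hv
  simp only [List.mem_cons, List.not_mem_nil, or_false] at hv
  rcases hv with rfl | rfl | rfl | rfl | rfl | rfl | rfl
  exacts [part_12_5_2_4, part_12_5_2_6, part_12_5_2_7, part_12_5_2_8, part_12_5_2_9, part_12_5_2_10, part_12_5_2_11]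

set_option maxRecDepth 100000 in
theorem part_12_5_4_2 : dfsN 6 268435456 38126352 [6, 7, 8, 9, 10, 11] = true := by
  decide +kernel

set_option maxRecDepth 100000 in
theorem part_12_5_4_6 : dfsN 6 268435456 105235216 [2, 7, 8, 9, 10, 11] = true := by
  decide +kernel

set_option maxRecDepth 100000 in
theorem part_12_5_4_7 : dfsN 6 268435456 122012432 [2, 6, 8, 9, 10, 11] = true := by
  decide +kernel

set_option maxRecDepth 100000 in
theorem part_12_5_4_8 : dfsN 6 268435456 138789648 [2, 6, 7, 9, 10, 11] = true := by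
  decide +kernel

set_option maxRecDepth 100000 in
theorem part_12_5_4_9 : dfsN 6 268435456 155566864 [2, 6, 7, 8, 10, 11] = true := by
  decide +kernel

set_option maxRecDepth 100000 in
theorem part_12_5_4_10 : dfsN 6 268435456 172344080 [2, 6, 7, 8, 9, 11] = true := by
  decide +kernel

set_option maxRecDepth 100000 in
theorem part_12_5_4_11 : dfsN 6 268435456 189121296 [2, 6, 7, 8, 9, 10] = true := by
  decide +kernel

theorem part_12_5_4 : dfsN 7 16777216 4571920 [2, 6, 7, 8, 9, 10, 11] = true := by
  apply dfsN_step 6 16777216 4571920 [2, 6, 7, 8, 9, 10, 11]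
  intro v hv
  simp only [List.mem_cons, List.not_mem_nil, or_false] at hv
  rcases hv with rfl | rfl | rfl | rfl | rfl | rfl | rfl
  exacts [part_12_5_4_2, part_12_5_4_6, part_12_5_4_7, part_12_5_4_8, part_12_5_4_9, part_12_5_4_10, part_12_5_4_11]

set_option maxRecDepth 100000 in
theorem part_12_5_6_2 : dfsN 6 268435456 40223504 [4, 7, 8, 9, 10, 11] = true := by
  decide +kernel

set_option maxRecDepth 100000 in
theorem part_12_5_6_4 : dfsN 6 268435456 73777936 [2, 7, 8, 9, 10, 11] = true := by
  decide +kernel

set_option maxRecDepth 100000 in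
theorem part_12_5_6_7 : dfsN 6 268435456 124109584 [2, 4, 8, 9, 10, 11] = true := by
  decide +kernel

set_option maxRecDepth 100000 in
theorem part_12_5_6_8 : dfsN 6 268435456 140886800 [2, 4, 7, 9, 10, 11] = true := by
  decide +kernel

set_option maxRecDepth 100000 in
theorem part_12_5_6_9 : dfsN 6 268435456 157664016 [2, 4, 7, 8, 10, 11] = true := by
  decide +kernel

set_option maxRecDepth 100000 in
theorem part_12_5_6_10 : dfsN 6 268435456 174441232 [2, 4, 7, 8, 9, 11] = true := by
  decide +kernel

set_option maxRecDepth 100000 in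
theorem part_12_5_6_11 : dfsN 6 268435456 191218448 [2, 4, 7, 8, 9, 10] = true := by
  decide +kernel

theorem part_12_5_6 : dfsN 7 16777216 6669072 [2, 4, 7, 8, 9, 10, 11] = true := by
  apply dfsN_step 6 16777216 6669072 [2, 4, 7, 8, 9, 10, 11]
  intro v hv
  simp only [List.mem_cons, List.not_mem_nil, or_false] at hv
  rcases hv with rfl | rfl | rfl | rfl | rfl | rfl | rfl
  exacts [part_12_5_6_2, part_12_5_6_4, part_12_5_6_7, part_12_5_6_8, part_12_5_6_9, part_12_5_6_10, part_12_5_6_11]

set_option maxRecDepth 100000 in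
theorem part_12_5_7_2 : dfsN 6 268435456 41272080 [4, 6, 8, 9, 10, 11] = true := by
  decide +kernel

set_option maxRecDepth 100000 in
theorem part_12_5_7_4 : dfsN 6 268435456 74826512 [2, 6, 8, 9, 10, 11] = true := by
  decide +kernel

set_option maxRecDepth 100000 in
theorem part_12_5_7_6 : dfsN 6 268435456 108380944 [2, 4, 8, 9, 10, 11] = true := by
  decide +kernel

set_option maxRecDepth 100000 in
theorem part_12_5_7_8 : dfsN 6 268435456 141935376 [2, 4, 6, 9, 10, 11] = true := by
  decide +kernel

set_option maxRecDepth 100000 in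
theorem part_12_5_7_9 : dfsN 6 268435456 158712592 [2, 4, 6, 8, 10, 11] = true := by
  decide +kernel

set_option maxRecDepth 100000 in
theorem part_12_5_7_10 : dfsN 6 268435456 175489808 [2, 4, 6, 8, 9, 11] = true := by
  decide +kernel

set_option maxRecDepth 100000 in
theorem part_12_5_7_11 : dfsN 6 268435456 192267024 [2, 4, 6, 8, 9, 10] = true := by
  decide +kernel

theorem part_12_5_7 : dfsN 7 16777216 7717648 [2, 4, 6, 8, 9, 10, 11] = true := by
  apply dfsN_step 6 16777216 7717648 [2, 4, 6, 8, 9, 10, 11]
  intro v hv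
  simp only [List.mem_cons, List.not_mem_nil, or_false] at hv
  rcases hv with rfl | rfl | rfl | rfl | rfl | rfl | rfl
  exacts [part_12_5_7_2, part_12_5_7_4, part_12_5_7_6, part_12_5_7_8, part_12_5_7_9, part_12_5_7_10, part_12_5_7_11]

set_option maxRecDepth 100000 in
theorem part_12_5_8_2 : dfsN 6 268435456 42320656 [4, 6, 7, 9, 10, 11] = true := by
  decide +kernel

set_option maxRecDepth 100000 in
theorem part_12_5_8_4 : dfsN 6 268435456 75875088 [2, 6, 7, 9, 10, 11] = true := by
  decide +kernel

set_option maxRecDepth 100000 in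
theorem part_12_5_8_6 : dfsN 6 268435456 109429520 [2, 4, 7, 9, 10, 11] = true := by
  decide +kernel

set_option maxRecDepth 100000 in
theorem part_12_5_8_7 : dfsN 6 268435456 126206736 [2, 4, 6, 9, 10, 11] = true := by
  decide +kernel

set_option maxRecDepth 100000 in
theorem part_12_5_8_9 : dfsN 6 268435456 159761168 [2, 4, 6, 7, 10, 11] = true := by
  decide +kernel

set_option maxRecDepth 100000 in
theorem part_12_5_8_10 : dfsN 6 268435456 176538384 [2, 4, 6, 7, 9, 11] = true := by
  decide +kernel

set_option maxRecDepth 100000 in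
theorem part_12_5_8_11 : dfsN 6 268435456 193315600 [2, 4, 6, 7, 9, 10] = true := by
  decide +kernel

theorem part_12_5_8 : dfsN 7 16777216 8766224 [2, 4, 6, 7, 9, 10, 11] = true := by
  apply dfsN_step 6 16777216 8766224 [2, 4, 6, 7, 9, 10, 11]
  intro v hv
  simp only [List.mem_cons, List.not_mem_nil, or_false] at hv
  rcases hv with rfl | rfl | rfl | rfl | rfl | rfl | rfl
  exacts [part_12_5_8_2, part_12_5_8_4, part_12_5_8_6, part_12_5_8_7, part_12_5_8_9, part_12_5_8_10, part_12_5_8_11]

set_option maxRecDepth 100000 in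
theorem part_12_5_9_2 : dfsN 6 268435456 43369232 [4, 6, 7, 8, 10, 11] = true := by
  decide +kernel

set_option maxRecDepth 100000 in
theorem part_12_5_9_4 : dfsN 6 268435456 76923664 [2, 6, 7, 8, 10, 11] = true := by
  decide +kernel

set_option maxRecDepth 100000 in
theorem part_12_5_9_6 : dfsN 6 268435456 110478096 [2, 4, 7, 8, 10, 11] = true := by
  decide +kernel

set_option maxRecDepth 100000 in
theorem part_12_5_9_7 : dfsN 6 268435456 127255312 [2, 4, 6, 8, 10, 11] = true := by
  decide +kernel

set_option maxRecDepth 100000 in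
theorem part_12_5_9_8 : dfsN 6 268435456 144032528 [2, 4, 6, 7, 10, 11] = true := by
  decide +kernel

set_option maxRecDepth 100000 in
theorem part_12_5_9_10 : dfsN 6 268435456 177586960 [2, 4, 6, 7, 8, 11] = true := by
  decide +kernel

set_option maxRecDepth 100000 in
theorem part_12_5_9_11 : dfsN 6 268435456 194364176 [2, 4, 6, 7, 8, 10] = true := by
  decide +kernel

theorem part_12_5_9 : dfsN 7 16777216 9814800 [2, 4, 6, 7, 8, 10, 11] = true := by
  apply dfsN_step 6 16777216 9814800 [2, 4, 6, 7, 8, 10, 11]
  intro v hv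
  simp only [List.mem_cons, List.not_mem_nil, or_false] at hv
  rcases hv with rfl | rfl | rfl | rfl | rfl | rfl | rfl
  exacts [part_12_5_9_2, part_12_5_9_4, part_12_5_9_6, part_12_5_9_7, part_12_5_9_8, part_12_5_9_10, part_12_5_9_11]

set_option maxRecDepth 100000 in
theorem part_12_5_10_2 : dfsN 6 268435456 44417808 [4, 6, 7, 8, 9, 11] = true := by
  decide +kernel

set_option maxRecDepth 100000 in
theorem part_12_5_10_4 : dfsN 6 268435456 77972240 [2, 6, 7, 8, 9, 11] = true := by
  decide +kernel

set_option maxRecDepth 100000 in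
theorem part_12_5_10_6 : dfsN 6 268435456 111526672 [2, 4, 7, 8, 9, 11] = true := by
  decide +kernel

set_option maxRecDepth 100000 in
theorem part_12_5_10_7 : dfsN 6 268435456 128303888 [2, 4, 6, 8, 9, 11] = true := by
  decide +kernel

set_option maxRecDepth 100000 in
theorem part_12_5_10_8 : dfsN 6 268435456 145081104 [2, 4, 6, 7, 9, 11] = true := by
  decide +kernel

set_option maxRecDepth 100000 in
theorem part_12_5_10_9 : dfsN 6 268435456 161858320 [2, 4, 6, 7, 8, 11] = true := by
  decide +kernel

set_option maxRecDepth 100000 in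
theorem part_12_5_10_11 : dfsN 6 268435456 195412752 [2, 4, 6, 7, 8, 9] = true := by
  decide +kernel

theorem part_12_5_10 : dfsN 7 16777216 10863376 [2, 4, 6, 7, 8, 9, 11] = true := by
  apply dfsN_step 6 16777216 10863376 [2, 4, 6, 7, 8, 9, 11]
  intro v hv
  simp only [List.mem_cons, List.not_mem_nil, or_false] at hv
  rcases hv with rfl | rfl | rfl | rfl | rfl | rfl | rfl
  exacts [part_12_5_10_2, part_12_5_10_4, part_12_5_10_6, part_12_5_10_7, part_12_5_10_8, part_12_5_10_9, part_12_5_10_11]

set_option maxRecDepth 100000 in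
theorem part_12_5_11_2 : dfsN 6 268435456 45466384 [4, 6, 7, 8, 9, 10] = true := by
  decide +kernel

set_option maxRecDepth 100000 in
theorem part_12_5_11_4 : dfsN 6 268435456 79020816 [2, 6, 7, 8, 9, 10] = true := by
  decide +kernel

set_option maxRecDepth 100000 in
theorem part_12_5_11_6 : dfsN 6 268435456 112575248 [2, 4, 7, 8, 9, 10] = true := by
  decide +kernel

set_option maxRecDepth 100000 in
theorem part_12_5_11_7 : dfsN 6 268435456 129352464 [2, 4, 6, 8, 9, 10] = true := by
  decide +kernel

set_option maxRecDepth 100000 in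
theorem part_12_5_11_8 : dfsN 6 268435456 146129680 [2, 4, 6, 7, 9, 10] = true := by
  decide +kernel

set_option maxRecDepth 100000 in
theorem part_12_5_11_9 : dfsN 6 268435456 162906896 [2, 4, 6, 7, 8, 10] = true := by
  decide +kernel

set_option maxRecDepth 100000 in
theorem part_12_5_11_10 : dfsN 6 268435456 179684112 [2, 4, 6, 7, 8, 9] = true := by
  decide +kernel

theorem part_12_5_11 : dfsN 7 16777216 11911952 [2, 4, 6, 7, 8, 9, 10] = true := by
  apply dfsN_step 6 16777216 11911952 [2, 4, 6, 7, 8, 9, 10]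
  intro v hv
  simp only [List.mem_cons, List.not_mem_nil, or_false] at hv
  rcases hv with rfl | rfl | rfl | rfl | rfl | rfl | rfl
  exacts [part_12_5_11_2, part_12_5_11_4, part_12_5_11_6, part_12_5_11_7, part_12_5_11_8, part_12_5_11_9, part_12_5_11_10]

theorem part_12_5 : dfsN 8 1048576 377616 [2, 4, 6, 7, 8, 9, 10, 11] = true := by
  apply dfsN_step 7 1048576 377616 [2, 4, 6, 7, 8, 9, 10, 11]
  intro v hv
  simp only [List.mem_cons, List.not_mem_nil, or_false] at hv
  rcases hv with rfl | rfl | rfl | rfl | rfl | rfl | rfl | rfl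
  exacts [part_12_5_2, part_12_5_4, part_12_5_6, part_12_5_7, part_12_5_8, part_12_5_9, part_12_5_10, part_12_5_11]

end Cfsg.Agent.Lib.H16.AG
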