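import Cfsg.Agent.Lib.H16.AG.Step

set_option autoImplicit false

/-! Degree 13, images `0, 1, 3, 12, 6` of `0, 1, 2, 3, 4` fixed: every completion that is an
`11`-cycle has a word `(x ^ b * y ^ a) ^ k` which is a `3`-, `5`- or `7`-cycle
(small kernel computations, one per pair of images of `5, 6`). -/

namespace Cfsg.Agent.Lib.H16.AG

set_option maxRecDepth 100000 in
theorem part_12_6_2_4 : dfsN 6 268435456 69649168 [5, 7, 8, 9, 10, 11] = true := by
  decide +kernel

set_option maxRecDepth 100000 in
theorem part_12_6_2_5 : dfsN 6 268435456 86426384 [4, 7, 8, 9, 10, 11] = true := by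
  decide +kernel

set_option maxRecDepth 100000 in
theorem part_12_6_2_7 : dfsN 6 268435456 119980816 [4, 5, 8, 9, 10, 11] = true := by
  decide +kernel

set_option maxRecDepth 100000 in
theorem part_12_6_2_8 : dfsN 6 268435456 136758032 [4, 5, 7, 9, 10, 11] = true := by
  decide +kernel

set_option maxRecDepth 100000 in
theorem part_12_6_2_9 : dfsN 6 268435456 153535248 [4, 5, 7, 8, 10, 11] = true := by
  decide +kernel

set_option maxRecDepth 100000 in
theorem part_12_6_2_10 : dfsN 6 268435456 170312464 [4, 5, 7, 8, 9, 11] = true := by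
  decide +kernel

set_option maxRecDepth 100000 in
theorem part_12_6_2_11 : dfsN 6 268435456 187089680 [4, 5, 7, 8, 9, 10] = true := by
  decide +kernel

theorem part_12_6_2 : dfsN 7 16777216 2540304 [4, 5, 7, 8, 9, 10, 11] = true := by
  apply dfsN_step 6 16777216 2540304 [4, 5, 7, 8, 9, 10, 11]
  intro v hv
  simp only [List.mem_cons, List.not_mem_nil, or_false] at hv
  rcases hv with rfl | rfl | rfl | rfl | rfl | rfl | rfl
  exacts [part_12_6_2_4, part_12_6_2_5, part_12_6_2_7, part_12_6_2_8, part_12_6_2_9, part_12_6_2_10, part_12_6_2_11]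

set_option maxRecDepth 100000 in
theorem part_12_6_4_2 : dfsN 6 268435456 38191888 [5, 7, 8, 9, 10, 11] = true := by
  decide +kernel

set_option maxRecDepth 100000 in
theorem part_12_6_4_5 : dfsN 6 268435456 88523536 [2, 7, 8, 9, 10, 11] = true := by
  decide +kernel

set_option maxRecDepth 100000 in
theorem part_12_6_4_7 : dfsN 6 268435456 122077968 [2, 5, 8, 9, 10, 11] = true := by
  decide +kernel

set_option maxRecDepth 100000 in
theorem part_12_6_4_8 : dfsN 6 268435456 138855184 [2, 5, 7, 9, 10, 11] = true := by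
  decide +kernel

set_option maxRecDepth 100000 in
theorem part_12_6_4_9 : dfsN 6 268435456 155632400 [2, 5, 7, 8, 10, 11] = true := by
  decide +kernel

set_option maxRecDepth 100000 in
theorem part_12_6_4_10 : dfsN 6 268435456 172409616 [2, 5, 7, 8, 9, 11] = true := by
  decide +kernel

set_option maxRecDepth 100000 in
theorem part_12_6_4_11 : dfsN 6 268435456 189186832 [2, 5, 7, 8, 9, 10] = true := by
  decide +kernel

theorem part_12_6_4 : dfsN 7 16777216 4637456 [2, 5, 7, 8, 9, 10, 11] = true := by
  apply dfsN_step 6 16777216 4637456 [2, 5, 7, 8, 9, 10, 11]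
  intro v hv
  simp only [List.mem_cons, List.not_mem_nil, or_false] at hv
  rcases hv with rfl | rfl | rfl | rfl | rfl | rfl | rfl
  exacts [part_12_6_4_2, part_12_6_4_5, part_12_6_4_7, part_12_6_4_8, part_12_6_4_9, part_12_6_4_10, part_12_6_4_11]

set_option maxRecDepth 100000 in
theorem part_12_6_5_2 : dfsN 6 268435456 39240464 [4, 7, 8, 9, 10, 11] = true := by
  decide +kernel

set_option maxRecDepth 100000 in
theorem part_12_6_5_4 : dfsN 6 268435456 72794896 [2, 7, 8, 9, 10, 11] = true := by
  decide +kernel

set_option maxRecDepth 100000 in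
theorem part_12_6_5_7 : dfsN 6 268435456 123126544 [2, 4, 8, 9, 10, 11] = true := by
  decide +kernel

set_option maxRecDepth 100000 in
theorem part_12_6_5_8 : dfsN 6 268435456 139903760 [2, 4, 7, 9, 10, 11] = true := by
  decide +kernel

set_option maxRecDepth 100000 in
theorem part_12_6_5_9 : dfsN 6 268435456 156680976 [2, 4, 7, 8, 10, 11] = true := by
  decide +kernel

set_option maxRecDepth 100000 in
theorem part_12_6_5_10 : dfsN 6 268435456 173458192 [2, 4, 7, 8, 9, 11] = true := by
  decide +kernel

set_option maxRecDepth 100000 in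
theorem part_12_6_5_11 : dfsN 6 268435456 190235408 [2, 4, 7, 8, 9, 10] = true := by
  decide +kernel

theorem part_12_6_5 : dfsN 7 16777216 5686032 [2, 4, 7, 8, 9, 10, 11] = true := by
  apply dfsN_step 6 16777216 5686032 [2, 4, 7, 8, 9, 10, 11]
  intro v hv
  simp only [List.mem_cons, List.not_mem_nil, or_false] at hv
  rcases hv with rfl | rfl | rfl | rfl | rfl | rfl | rfl
  exacts [part_12_6_5_2, part_12_6_5_4, part_12_6_5_7, part_12_6_5_8, part_12_6_5_9, part_12_6_5_10, part_12_6_5_11]

set_option maxRecDepth 100000 in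
theorem part_12_6_7_2 : dfsN 6 268435456 41337616 [4, 5, 8, 9, 10, 11] = true := by
  decide +kernel

set_option maxRecDepth 100000 in
theorem part_12_6_7_4 : dfsN 6 268435456 74892048 [2, 5, 8, 9, 10, 11] = true := by
  decide +kernel

set_option maxRecDepth 100000 in
theorem part_12_6_7_5 : dfsN 6 268435456 91669264 [2, 4, 8, 9, 10, 11] = true := by
  decide +kernel

set_option maxRecDepth 100000 in
theorem part_12_6_7_8 : dfsN 6 268435456 142000912 [2, 4, 5, 9, 10, 11] = true := by
  decide +kernel

set_option maxRecDepth 100000 in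
theorem part_12_6_7_9 : dfsN 6 268435456 158778128 [2, 4, 5, 8, 10, 11] = true := by
  decide +kernel

set_option maxRecDepth 100000 in
theorem part_12_6_7_10 : dfsN 6 268435456 175555344 [2, 4, 5, 8, 9, 11] = true := by
  decide +kernel

set_option maxRecDepth 100000 in
theorem part_12_6_7_11 : dfsN 6 268435456 192332560 [2, 4, 5, 8, 9, 10] = true := by
  decide +kernel

theorem part_12_6_7 : dfsN 7 16777216 7783184 [2, 4, 5, 8, 9, 10, 11] = true := by
  apply dfsN_step 6 16777216 7783184 [2, 4, 5, 8, 9, 10, 11]
  intro v hv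
  simp only [List.mem_cons, List.not_mem_nil, or_false] at hv
  rcases hv with rfl | rfl | rfl | rfl | rfl | rfl | rfl
  exacts [part_12_6_7_2, part_12_6_7_4, part_12_6_7_5, part_12_6_7_8, part_12_6_7_9, part_12_6_7_10, part_12_6_7_11]

set_option maxRecDepth 100000 in
theorem part_12_6_8_2 : dfsN 6 268435456 42386192 [4, 5, 7, 9, 10, 11] = true := by
  decide +kernel

set_option maxRecDepth 100000 in
theorem part_12_6_8_4 : dfsN 6 268435456 75940624 [2, 5, 7, 9, 10, 11] = true := by
  decide +kernel

set_option maxRecDepth 100000 in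
theorem part_12_6_8_5 : dfsN 6 268435456 92717840 [2, 4, 7, 9, 10, 11] = true := by
  decide +kernel

set_option maxRecDepth 100000 in
theorem part_12_6_8_7 : dfsN 6 268435456 126272272 [2, 4, 5, 9, 10, 11] = true := by
  decide +kernel

set_option maxRecDepth 100000 in
theorem part_12_6_8_9 : dfsN 6 268435456 159826704 [2, 4, 5, 7, 10, 11] = true := by
  decide +kernel

set_option maxRecDepth 100000 in
theorem part_12_6_8_10 : dfsN 6 268435456 176603920 [2, 4, 5, 7, 9, 11] = true := by
  decide +kernel

set_option maxRecDepth 100000 in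
theorem part_12_6_8_11 : dfsN 6 268435456 193381136 [2, 4, 5, 7, 9, 10] = true := by
  decide +kernel

theorem part_12_6_8 : dfsN 7 16777216 8831760 [2, 4, 5, 7, 9, 10, 11] = true := by
  apply dfsN_step 6 16777216 8831760 [2, 4, 5, 7, 9, 10, 11]
  intro v hv
  simp only [List.mem_cons, List.not_mem_nil, or_false] at hv
  rcases hv with rfl | rfl | rfl | rfl | rfl | rfl | rfl
  exacts [part_12_6_8_2, part_12_6_8_4, part_12_6_8_5, part_12_6_8_7, part_12_6_8_9, part_12_6_8_10, part_12_6_8_11]

set_option maxRecDepth 100000 in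
theorem part_12_6_9_2 : dfsN 6 268435456 43434768 [4, 5, 7, 8, 10, 11] = true := by
  decide +kernel

set_option maxRecDepth 100000 in
theorem part_12_6_9_4 : dfsN 6 268435456 76989200 [2, 5, 7, 8, 10, 11] = true := by
  decide +kernel

set_option maxRecDepth 100000 in
theorem part_12_6_9_5 : dfsN 6 268435456 93766416 [2, 4, 7, 8, 10, 11] = true := by
  decide +kernel

set_option maxRecDepth 100000 in
theorem part_12_6_9_7 : dfsN 6 268435456 127320848 [2, 4, 5, 8, 10, 11] = true := by
  decide +kernel

set_option maxRecDepth 100000 in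
theorem part_12_6_9_8 : dfsN 6 268435456 144098064 [2, 4, 5, 7, 10, 11] = true := by
  decide +kernel

set_option maxRecDepth 100000 in
theorem part_12_6_9_10 : dfsN 6 268435456 177652496 [2, 4, 5, 7, 8, 11] = true := by
  decide +kernel

set_option maxRecDepth 100000 in
theorem part_12_6_9_11 : dfsN 6 268435456 194429712 [2, 4, 5, 7, 8, 10] = true := by
  decide +kernel

theorem part_12_6_9 : dfsN 7 16777216 9880336 [2, 4, 5, 7, 8, 10, 11] = true := by
  apply dfsN_step 6 16777216 9880336 [2, 4, 5, 7, 8, 10, 11]
  intro v hv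
  simp only [List.mem_cons, List.not_mem_nil, or_false] at hv
  rcases hv with rfl | rfl | rfl | rfl | rfl | rfl | rfl
  exacts [part_12_6_9_2, part_12_6_9_4, part_12_6_9_5, part_12_6_9_7, part_12_6_9_8, part_12_6_9_10, part_12_6_9_11]

set_option maxRecDepth 100000 in
theorem part_12_6_10_2 : dfsN 6 268435456 44483344 [4, 5, 7, 8, 9, 11] = true := by
  decide +kernel

set_option maxRecDepth 100000 in
theorem part_12_6_10_4 : dfsN 6 268435456 78037776 [2, 5, 7, 8, 9, 11] = true := by
  decide +kernel

set_option maxRecDepth 100000 in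
theorem part_12_6_10_5 : dfsN 6 268435456 94814992 [2, 4, 7, 8, 9, 11] = true := by
  decide +kernel

set_option maxRecDepth 100000 in
theorem part_12_6_10_7 : dfsN 6 268435456 128369424 [2, 4, 5, 8, 9, 11] = true := by
  decide +kernel

set_option maxRecDepth 100000 in
theorem part_12_6_10_8 : dfsN 6 268435456 145146640 [2, 4, 5, 7, 9, 11] = true := by
  decide +kernel

set_option maxRecDepth 100000 in
theorem part_12_6_10_9 : dfsN 6 268435456 161923856 [2, 4, 5, 7, 8, 11] = true := by
  decide +kernel

set_option maxRecDepth 100000 in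
theorem part_12_6_10_11 : dfsN 6 268435456 195478288 [2, 4, 5, 7, 8, 9] = true := by
  decide +kernel

theorem part_12_6_10 : dfsN 7 16777216 10928912 [2, 4, 5, 7, 8, 9, 11] = true := by
  apply dfsN_step 6 16777216 10928912 [2, 4, 5, 7, 8, 9, 11]
  intro v hv
  simp only [List.mem_cons, List.not_mem_nil, or_false] at hv
  rcases hv with rfl | rfl | rfl | rfl | rfl | rfl | rfl
  exacts [part_12_6_10_2, part_12_6_10_4, part_12_6_10_5, part_12_6_10_7, part_12_6_10_8, part_12_6_10_9, part_12_6_10_11]

set_option maxRecDepth 100000 in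
theorem part_12_6_11_2 : dfsN 6 268435456 45531920 [4, 5, 7, 8, 9, 10] = true := by
  decide +kernel

set_option maxRecDepth 100000 in
theorem part_12_6_11_4 : dfsN 6 268435456 79086352 [2, 5, 7, 8, 9, 10] = true := by
  decide +kernel

set_option maxRecDepth 100000 in
theorem part_12_6_11_5 : dfsN 6 268435456 95863568 [2, 4, 7, 8, 9, 10] = true := by
  decide +kernel

set_option maxRecDepth 100000 in
theorem part_12_6_11_7 : dfsN 6 268435456 129418000 [2, 4, 5, 8, 9, 10] = true := by
  decide +kernel

set_option maxRecDepth 100000 in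
theorem part_12_6_11_8 : dfsN 6 268435456 146195216 [2, 4, 5, 7, 9, 10] = true := by
  decide +kernel

set_option maxRecDepth 100000 in
theorem part_12_6_11_9 : dfsN 6 268435456 162972432 [2, 4, 5, 7, 8, 10] = true := by
  decide +kernel

set_option maxRecDepth 100000 in
theorem part_12_6_11_10 : dfsN 6 268435456 179749648 [2, 4, 5, 7, 8, 9] = true := by
  decide +kernel

theorem part_12_6_11 : dfsN 7 16777216 11977488 [2, 4, 5, 7, 8, 9, 10] = true := by
  apply dfsN_step 6 16777216 11977488 [2, 4, 5, 7, 8, 9, 10]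
  intro v hv
  simp only [List.mem_cons, List.not_mem_nil, or_false] at hv
  rcases hv with rfl | rfl | rfl | rfl | rfl | rfl | rfl
  exacts [part_12_6_11_2, part_12_6_11_4, part_12_6_11_5, part_12_6_11_7, part_12_6_11_8, part_12_6_11_9, part_12_6_11_10]

theorem part_12_6 : dfsN 8 1048576 443152 [2, 4, 5, 7, 8, 9, 10, 11] = true := by
  apply dfsN_step 7 1048576 443152 [2, 4, 5, 7, 8, 9, 10, 11]
  intro v hv
  simp only [List.mem_cons, List.not_mem_nil, or_false] at hv
  rcases hv with rfl | rfl | rfl | rfl | rfl | rfl | rfl | rfl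
  exacts [part_12_6_2, part_12_6_4, part_12_6_5, part_12_6_7, part_12_6_8, part_12_6_9, part_12_6_10, part_12_6_11]

end Cfsg.Agent.Lib.H16.AG
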