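import Cfsg.Agent.Lib.H16.AG.Step

set_option autoImplicit false

/-! Degree 13, images `0, 1, 3, 12, 7` of `0, 1, 2, 3, 4` fixed: every completion that is an
`11`-cycle has a word `(x ^ b * y ^ a) ^ k` which is a `3`-, `5`- or `7`-cycle
(small kernel computations, one per pair of images of `5, 6`). -/

namespace Cfsg.Agent.Lib.H16.AG

set_option maxRecDepth 100000 in
theorem part_12_7_2_4 : dfsN 6 268435456 69714704 [5, 6, 8, 9, 10, 11] = true := by
  decide +kernel

set_option maxRecDepth 100000 in
theorem part_12_7_2_5 : dfsN 6 268435456 86491920 [4, 6, 8, 9, 10, 11] = true := by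
  decide +kernel

set_option maxRecDepth 100000 in
theorem part_12_7_2_6 : dfsN 6 268435456 103269136 [4, 5, 8, 9, 10, 11] = true := by
  decide +kernel

set_option maxRecDepth 100000 in
theorem part_12_7_2_8 : dfsN 6 268435456 136823568 [4, 5, 6, 9, 10, 11] = true := by
  decide +kernel

set_option maxRecDepth 100000 in
theorem part_12_7_2_9 : dfsN 6 268435456 153600784 [4, 5, 6, 8, 10, 11] = true := by
  decide +kernel

set_option maxRecDepth 100000 in
theorem part_12_7_2_10 : dfsN 6 268435456 170378000 [4, 5, 6, 8, 9, 11] = true := by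
  decide +kernel

set_option maxRecDepth 100000 in
theorem part_12_7_2_11 : dfsN 6 268435456 187155216 [4, 5, 6, 8, 9, 10] = true := by
  decide +kernel

theorem part_12_7_2 : dfsN 7 16777216 2605840 [4, 5, 6, 8, 9, 10, 11] = true := by
  apply dfsN_step 6 16777216 2605840 [4, 5, 6, 8, 9, 10, 11]
  intro v hv
  simp only [List.mem_cons, List.not_mem_nil, or_false] at hv
  rcases hv with rfl | rfl | rfl | rfl | rfl | rfl | rfl
  exacts [part_12_7_2_4, part_12_7_2_5, part_12_7_2_6, part_12_7_2_8, part_12_7_2_9, part_12_7_2_10, part_12_7_2_11]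

set_option maxRecDepth 100000 in
theorem part_12_7_4_2 : dfsN 6 268435456 38257424 [5, 6, 8, 9, 10, 11] = true := by
  decide +kernel

set_option maxRecDepth 100000 in
theorem part_12_7_4_5 : dfsN 6 268435456 88589072 [2, 6, 8, 9, 10, 11] = true := by
  decide +kernel

set_option maxRecDepth 100000 in
theorem part_12_7_4_6 : dfsN 6 268435456 105366288 [2, 5, 8, 9, 10, 11] = true := by
  decide +kernel

set_option maxRecDepth 100000 in
theorem part_12_7_4_8 : dfsN 6 268435456 138920720 [2, 5, 6, 9, 10, 11] = true := by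
  decide +kernel

set_option maxRecDepth 100000 in
theorem part_12_7_4_9 : dfsN 6 268435456 155697936 [2, 5, 6, 8, 10, 11] = true := by
  decide +kernel

set_option maxRecDepth 100000 in
theorem part_12_7_4_10 : dfsN 6 268435456 172475152 [2, 5, 6, 8, 9, 11] = true := by
  decide +kernel

set_option maxRecDepth 100000 in
theorem part_12_7_4_11 : dfsN 6 268435456 189252368 [2, 5, 6, 8, 9, 10] = true := by
  decide +kernel

theorem part_12_7_4 : dfsN 7 16777216 4702992 [2, 5, 6, 8, 9, 10, 11] = true := by
  apply dfsN_step 6 16777216 4702992 [2, 5, 6, 8, 9, 10, 11]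
  intro v hv
  simp only [List.mem_cons, List.not_mem_nil, or_false] at hv
  rcases hv with rfl | rfl | rfl | rfl | rfl | rfl | rfl
  exacts [part_12_7_4_2, part_12_7_4_5, part_12_7_4_6, part_12_7_4_8, part_12_7_4_9, part_12_7_4_10, part_12_7_4_11]

set_option maxRecDepth 100000 in
theorem part_12_7_5_2 : dfsN 6 268435456 39306000 [4, 6, 8, 9, 10, 11] = true := by
  decide +kernel

set_option maxRecDepth 100000 in
theorem part_12_7_5_4 : dfsN 6 268435456 72860432 [2, 6, 8, 9, 10, 11] = true := by
  decide +kernel

set_option maxRecDepth 100000 in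
theorem part_12_7_5_6 : dfsN 6 268435456 106414864 [2, 4, 8, 9, 10, 11] = true := by
  decide +kernel

set_option maxRecDepth 100000 in
theorem part_12_7_5_8 : dfsN 6 268435456 139969296 [2, 4, 6, 9, 10, 11] = true := by
  decide +kernel

set_option maxRecDepth 100000 in
theorem part_12_7_5_9 : dfsN 6 268435456 156746512 [2, 4, 6, 8, 10, 11] = true := by
  decide +kernel

set_option maxRecDepth 100000 in
theorem part_12_7_5_10 : dfsN 6 268435456 173523728 [2, 4, 6, 8, 9, 11] = true := by
  decide +kernel

set_option maxRecDepth 100000 in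
theorem part_12_7_5_11 : dfsN 6 268435456 190300944 [2, 4, 6, 8, 9, 10] = true := by
  decide +kernel

theorem part_12_7_5 : dfsN 7 16777216 5751568 [2, 4, 6, 8, 9, 10, 11] = true := by
  apply dfsN_step 6 16777216 5751568 [2, 4, 6, 8, 9, 10, 11]
  intro v hv
  simp only [List.mem_cons, List.not_mem_nil, or_false] at hv
  rcases hv with rfl | rfl | rfl | rfl | rfl | rfl | rfl
  exacts [part_12_7_5_2, part_12_7_5_4, part_12_7_5_6, part_12_7_5_8, part_12_7_5_9, part_12_7_5_10, part_12_7_5_11]

set_option maxRecDepth 100000 in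
theorem part_12_7_6_2 : dfsN 6 268435456 40354576 [4, 5, 8, 9, 10, 11] = true := by
  decide +kernel

set_option maxRecDepth 100000 in
theorem part_12_7_6_4 : dfsN 6 268435456 73909008 [2, 5, 8, 9, 10, 11] = true := by
  decide +kernel

set_option maxRecDepth 100000 in
theorem part_12_7_6_5 : dfsN 6 268435456 90686224 [2, 4, 8, 9, 10, 11] = true := by
  decide +kernel

set_option maxRecDepth 100000 in
theorem part_12_7_6_8 : dfsN 6 268435456 141017872 [2, 4, 5, 9, 10, 11] = true := by
  decide +kernel

set_option maxRecDepth 100000 in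
theorem part_12_7_6_9 : dfsN 6 268435456 157795088 [2, 4, 5, 8, 10, 11] = true := by
  decide +kernel

set_option maxRecDepth 100000 in
theorem part_12_7_6_10 : dfsN 6 268435456 174572304 [2, 4, 5, 8, 9, 11] = true := by
  decide +kernel

set_option maxRecDepth 100000 in
theorem part_12_7_6_11 : dfsN 6 268435456 191349520 [2, 4, 5, 8, 9, 10] = true := by
  decide +kernel

theorem part_12_7_6 : dfsN 7 16777216 6800144 [2, 4, 5, 8, 9, 10, 11] = true := by
  apply dfsN_step 6 16777216 6800144 [2, 4, 5, 8, 9, 10, 11]
  intro v hv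
  simp only [List.mem_cons, List.not_mem_nil, or_false] at hv
  rcases hv with rfl | rfl | rfl | rfl | rfl | rfl | rfl
  exacts [part_12_7_6_2, part_12_7_6_4, part_12_7_6_5, part_12_7_6_8, part_12_7_6_9, part_12_7_6_10, part_12_7_6_11]

set_option maxRecDepth 100000 in
theorem part_12_7_8_2 : dfsN 6 268435456 42451728 [4, 5, 6, 9, 10, 11] = true := by
  decide +kernel

set_option maxRecDepth 100000 in
theorem part_12_7_8_4 : dfsN 6 268435456 76006160 [2, 5, 6, 9, 10, 11] = true := by
  decide +kernel

set_option maxRecDepth 100000 in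
theorem part_12_7_8_5 : dfsN 6 268435456 92783376 [2, 4, 6, 9, 10, 11] = true := by
  decide +kernel

set_option maxRecDepth 100000 in
theorem part_12_7_8_6 : dfsN 6 268435456 109560592 [2, 4, 5, 9, 10, 11] = true := by
  decide +kernel

set_option maxRecDepth 100000 in
theorem part_12_7_8_9 : dfsN 6 268435456 159892240 [2, 4, 5, 6, 10, 11] = true := by
  decide +kernel

set_option maxRecDepth 100000 in
theorem part_12_7_8_10 : dfsN 6 268435456 176669456 [2, 4, 5, 6, 9, 11] = true := by
  decide +kernel

set_option maxRecDepth 100000 in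
theorem part_12_7_8_11 : dfsN 6 268435456 193446672 [2, 4, 5, 6, 9, 10] = true := by
  decide +kernel

theorem part_12_7_8 : dfsN 7 16777216 8897296 [2, 4, 5, 6, 9, 10, 11] = true := by
  apply dfsN_step 6 16777216 8897296 [2, 4, 5, 6, 9, 10, 11]
  intro v hv
  simp only [List.mem_cons, List.not_mem_nil, or_false] at hv
  rcases hv with rfl | rfl | rfl | rfl | rfl | rfl | rfl
  exacts [part_12_7_8_2, part_12_7_8_4, part_12_7_8_5, part_12_7_8_6, part_12_7_8_9, part_12_7_8_10, part_12_7_8_11]

set_option maxRecDepth 100000 in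
theorem part_12_7_9_2 : dfsN 6 268435456 43500304 [4, 5, 6, 8, 10, 11] = true := by
  decide +kernel

set_option maxRecDepth 100000 in
theorem part_12_7_9_4 : dfsN 6 268435456 77054736 [2, 5, 6, 8, 10, 11] = true := by
  decide +kernel

set_option maxRecDepth 100000 in
theorem part_12_7_9_5 : dfsN 6 268435456 93831952 [2, 4, 6, 8, 10, 11] = true := by
  decide +kernel

set_option maxRecDepth 100000 in
theorem part_12_7_9_6 : dfsN 6 268435456 110609168 [2, 4, 5, 8, 10, 11] = true := by
  decide +kernel

set_option maxRecDepth 100000 in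
theorem part_12_7_9_8 : dfsN 6 268435456 144163600 [2, 4, 5, 6, 10, 11] = true := by
  decide +kernel

set_option maxRecDepth 100000 in
theorem part_12_7_9_10 : dfsN 6 268435456 177718032 [2, 4, 5, 6, 8, 11] = true := by
  decide +kernel

set_option maxRecDepth 100000 in
theorem part_12_7_9_11 : dfsN 6 268435456 194495248 [2, 4, 5, 6, 8, 10] = true := by
  decide +kernel

theorem part_12_7_9 : dfsN 7 16777216 9945872 [2, 4, 5, 6, 8, 10, 11] = true := by
  apply dfsN_step 6 16777216 9945872 [2, 4, 5, 6, 8, 10, 11]
  intro v hv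
  simp only [List.mem_cons, List.not_mem_nil, or_false] at hv
  rcases hv with rfl | rfl | rfl | rfl | rfl | rfl | rfl
  exacts [part_12_7_9_2, part_12_7_9_4, part_12_7_9_5, part_12_7_9_6, part_12_7_9_8, part_12_7_9_10, part_12_7_9_11]

set_option maxRecDepth 100000 in
theorem part_12_7_10_2 : dfsN 6 268435456 44548880 [4, 5, 6, 8, 9, 11] = true := by
  decide +kernel

set_option maxRecDepth 100000 in
theorem part_12_7_10_4 : dfsN 6 268435456 78103312 [2, 5, 6, 8, 9, 11] = true := by
  decide +kernel

set_option maxRecDepth 100000 in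
theorem part_12_7_10_5 : dfsN 6 268435456 94880528 [2, 4, 6, 8, 9, 11] = true := by
  decide +kernel

set_option maxRecDepth 100000 in
theorem part_12_7_10_6 : dfsN 6 268435456 111657744 [2, 4, 5, 8, 9, 11] = true := by
  decide +kernel

set_option maxRecDepth 100000 in
theorem part_12_7_10_8 : dfsN 6 268435456 145212176 [2, 4, 5, 6, 9, 11] = true := by
  decide +kernel

set_option maxRecDepth 100000 in
theorem part_12_7_10_9 : dfsN 6 268435456 161989392 [2, 4, 5, 6, 8, 11] = true := by
  decide +kernel

set_option maxRecDepth 100000 in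
theorem part_12_7_10_11 : dfsN 6 268435456 195543824 [2, 4, 5, 6, 8, 9] = true := by
  decide +kernel

theorem part_12_7_10 : dfsN 7 16777216 10994448 [2, 4, 5, 6, 8, 9, 11] = true := by
  apply dfsN_step 6 16777216 10994448 [2, 4, 5, 6, 8, 9, 11]
  intro v hv
  simp only [List.mem_cons, List.not_mem_nil, or_false] at hv
  rcases hv with rfl | rfl | rfl | rfl | rfl | rfl | rfl
  exacts [part_12_7_10_2, part_12_7_10_4, part_12_7_10_5, part_12_7_10_6, part_12_7_10_8, part_12_7_10_9, part_12_7_10_11]

set_option maxRecDepth 100000 in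
theorem part_12_7_11_2 : dfsN 6 268435456 45597456 [4, 5, 6, 8, 9, 10] = true := by
  decide +kernel

set_option maxRecDepth 100000 in
theorem part_12_7_11_4 : dfsN 6 268435456 79151888 [2, 5, 6, 8, 9, 10] = true := by
  decide +kernel

set_option maxRecDepth 100000 in
theorem part_12_7_11_5 : dfsN 6 268435456 95929104 [2, 4, 6, 8, 9, 10] = true := by
  decide +kernel

set_option maxRecDepth 100000 in
theorem part_12_7_11_6 : dfsN 6 268435456 112706320 [2, 4, 5, 8, 9, 10] = true := by
  decide +kernel

set_option maxRecDepth 100000 in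
theorem part_12_7_11_8 : dfsN 6 268435456 146260752 [2, 4, 5, 6, 9, 10] = true := by
  decide +kernel

set_option maxRecDepth 100000 in
theorem part_12_7_11_9 : dfsN 6 268435456 163037968 [2, 4, 5, 6, 8, 10] = true := by
  decide +kernel

set_option maxRecDepth 100000 in
theorem part_12_7_11_10 : dfsN 6 268435456 179815184 [2, 4, 5, 6, 8, 9] = true := by
  decide +kernel

theorem part_12_7_11 : dfsN 7 16777216 12043024 [2, 4, 5, 6, 8, 9, 10] = true := by
  apply dfsN_step 6 16777216 12043024 [2, 4, 5, 6, 8, 9, 10]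
  intro v hv
  simp only [List.mem_cons, List.not_mem_nil, or_false] at hv
  rcases hv with rfl | rfl | rfl | rfl | rfl | rfl | rfl
  exacts [part_12_7_11_2, part_12_7_11_4, part_12_7_11_5, part_12_7_11_6, part_12_7_11_8, part_12_7_11_9, part_12_7_11_10]

theorem part_12_7 : dfsN 8 1048576 508688 [2, 4, 5, 6, 8, 9, 10, 11] = true := by
  apply dfsN_step 7 1048576 508688 [2, 4, 5, 6, 8, 9, 10, 11]
  intro v hv
  simp only [List.mem_cons, List.not_mem_nil, or_false] at hv
  rcases hv with rfl | rfl | rfl | rfl | rfl | rfl | rfl | rfl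
  exacts [part_12_7_2, part_12_7_4, part_12_7_5, part_12_7_6, part_12_7_8, part_12_7_9, part_12_7_10, part_12_7_11]

end Cfsg.Agent.Lib.H16.AG
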