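import Cfsg.Agent.Lib.H16.AG.Step

set_option autoImplicit false

/-! Degree 13, images `0, 1, 3, 12, 8` of `0, 1, 2, 3, 4` fixed: every completion that is an
`11`-cycle has a word `(x ^ b * y ^ a) ^ k` which is a `3`-, `5`- or `7`-cycle
(small kernel computations, one per pair of images of `5, 6`). -/

namespace Cfsg.Agent.Lib.H16.AG

set_option maxRecDepth 100000 in
theorem part_12_8_2_4 : dfsN 6 268435456 69780240 [5, 6, 7, 9, 10, 11] = true := by
  decide +kernel

set_option maxRecDepth 100000 in
theorem part_12_8_2_5 : dfsN 6 268435456 86557456 [4, 6, 7, 9, 10, 11] = true := by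
  decide +kernel

set_option maxRecDepth 100000 in
theorem part_12_8_2_6 : dfsN 6 268435456 103334672 [4, 5, 7, 9, 10, 11] = true := by
  decide +kernel

set_option maxRecDepth 100000 in
theorem part_12_8_2_7 : dfsN 6 268435456 120111888 [4, 5, 6, 9, 10, 11] = true := by
  decide +kernel

set_option maxRecDepth 100000 in
theorem part_12_8_2_9 : dfsN 6 268435456 153666320 [4, 5, 6, 7, 10, 11] = true := by
  decide +kernel

set_option maxRecDepth 100000 in
theorem part_12_8_2_10 : dfsN 6 268435456 170443536 [4, 5, 6, 7, 9, 11] = true := by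
  decide +kernel

set_option maxRecDepth 100000 in
theorem part_12_8_2_11 : dfsN 6 268435456 187220752 [4, 5, 6, 7, 9, 10] = true := by
  decide +kernel

theorem part_12_8_2 : dfsN 7 16777216 2671376 [4, 5, 6, 7, 9, 10, 11] = true := by
  apply dfsN_step 6 16777216 2671376 [4, 5, 6, 7, 9, 10, 11]
  intro v hv
  simp only [List.mem_cons, List.not_mem_nil, or_false] at hv
  rcases hv with rfl | rfl | rfl | rfl | rfl | rfl | rfl
  exacts [part_12_8_2_4, part_12_8_2_5, part_12_8_2_6, part_12_8_2_7, part_12_8_2_9, part_12_8_2_10, part_12_8_2_11]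

set_option maxRecDepth 100000 in
theorem part_12_8_4_2 : dfsN 6 268435456 38322960 [5, 6, 7, 9, 10, 11] = true := by
  decide +kernel

set_option maxRecDepth 100000 in
theorem part_12_8_4_5 : dfsN 6 268435456 88654608 [2, 6, 7, 9, 10, 11] = true := by
  decide +kernel

set_option maxRecDepth 100000 in
theorem part_12_8_4_6 : dfsN 6 268435456 105431824 [2, 5, 7, 9, 10, 11] = true := by
  decide +kernel

set_option maxRecDepth 100000 in
theorem part_12_8_4_7 : dfsN 6 268435456 122209040 [2, 5, 6, 9, 10, 11] = true := by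
  decide +kernel

set_option maxRecDepth 100000 in
theorem part_12_8_4_9 : dfsN 6 268435456 155763472 [2, 5, 6, 7, 10, 11] = true := by
  decide +kernel

set_option maxRecDepth 100000 in
theorem part_12_8_4_10 : dfsN 6 268435456 172540688 [2, 5, 6, 7, 9, 11] = true := by
  decide +kernel

set_option maxRecDepth 100000 in
theorem part_12_8_4_11 : dfsN 6 268435456 189317904 [2, 5, 6, 7, 9, 10] = true := by
  decide +kernel

theorem part_12_8_4 : dfsN 7 16777216 4768528 [2, 5, 6, 7, 9, 10, 11] = true := by
  apply dfsN_step 6 16777216 4768528 [2, 5, 6, 7, 9, 10, 11]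
  intro v hv
  simp only [List.mem_cons, List.not_mem_nil, or_false] at hv
  rcases hv with rfl | rfl | rfl | rfl | rfl | rfl | rfl
  exacts [part_12_8_4_2, part_12_8_4_5, part_12_8_4_6, part_12_8_4_7, part_12_8_4_9, part_12_8_4_10, part_12_8_4_11]

set_option maxRecDepth 100000 in
theorem part_12_8_5_2 : dfsN 6 268435456 39371536 [4, 6, 7, 9, 10, 11] = true := by
  decide +kernel

set_option maxRecDepth 100000 in
theorem part_12_8_5_4 : dfsN 6 268435456 72925968 [2, 6, 7, 9, 10, 11] = true := by
  decide +kernel

set_option maxRecDepth 100000 in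
theorem part_12_8_5_6 : dfsN 6 268435456 106480400 [2, 4, 7, 9, 10, 11] = true := by
  decide +kernel

set_option maxRecDepth 100000 in
theorem part_12_8_5_7 : dfsN 6 268435456 123257616 [2, 4, 6, 9, 10, 11] = true := by
  decide +kernel

set_option maxRecDepth 100000 in
theorem part_12_8_5_9 : dfsN 6 268435456 156812048 [2, 4, 6, 7, 10, 11] = true := by
  decide +kernel

set_option maxRecDepth 100000 in
theorem part_12_8_5_10 : dfsN 6 268435456 173589264 [2, 4, 6, 7, 9, 11] = true := by
  decide +kernel

set_option maxRecDepth 100000 in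
theorem part_12_8_5_11 : dfsN 6 268435456 190366480 [2, 4, 6, 7, 9, 10] = true := by
  decide +kernel

theorem part_12_8_5 : dfsN 7 16777216 5817104 [2, 4, 6, 7, 9, 10, 11] = true := by
  apply dfsN_step 6 16777216 5817104 [2, 4, 6, 7, 9, 10, 11]
  intro v hv
  simp only [List.mem_cons, List.not_mem_nil, or_false] at hv
  rcases hv with rfl | rfl | rfl | rfl | rfl | rfl | rfl
  exacts [part_12_8_5_2, part_12_8_5_4, part_12_8_5_6, part_12_8_5_7, part_12_8_5_9, part_12_8_5_10, part_12_8_5_11]

set_option maxRecDepth 100000 in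
theorem part_12_8_6_2 : dfsN 6 268435456 40420112 [4, 5, 7, 9, 10, 11] = true := by
  decide +kernel

set_option maxRecDepth 100000 in
theorem part_12_8_6_4 : dfsN 6 268435456 73974544 [2, 5, 7, 9, 10, 11] = true := by
  decide +kernel

set_option maxRecDepth 100000 in
theorem part_12_8_6_5 : dfsN 6 268435456 90751760 [2, 4, 7, 9, 10, 11] = true := by
  decide +kernel

set_option maxRecDepth 100000 in
theorem part_12_8_6_7 : dfsN 6 268435456 124306192 [2, 4, 5, 9, 10, 11] = true := by
  decide +kernel

set_option maxRecDepth 100000 in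
theorem part_12_8_6_9 : dfsN 6 268435456 157860624 [2, 4, 5, 7, 10, 11] = true := by
  decide +kernel

set_option maxRecDepth 100000 in
theorem part_12_8_6_10 : dfsN 6 268435456 174637840 [2, 4, 5, 7, 9, 11] = true := by
  decide +kernel

set_option maxRecDepth 100000 in
theorem part_12_8_6_11 : dfsN 6 268435456 191415056 [2, 4, 5, 7, 9, 10] = true := by
  decide +kernel

theorem part_12_8_6 : dfsN 7 16777216 6865680 [2, 4, 5, 7, 9, 10, 11] = true := by
  apply dfsN_step 6 16777216 6865680 [2, 4, 5, 7, 9, 10, 11]
  intro v hv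
  simp only [List.mem_cons, List.not_mem_nil, or_false] at hv
  rcases hv with rfl | rfl | rfl | rfl | rfl | rfl | rfl
  exacts [part_12_8_6_2, part_12_8_6_4, part_12_8_6_5, part_12_8_6_7, part_12_8_6_9, part_12_8_6_10, part_12_8_6_11]

set_option maxRecDepth 100000 in
theorem part_12_8_7_2 : dfsN 6 268435456 41468688 [4, 5, 6, 9, 10, 11] = true := by
  decide +kernel

set_option maxRecDepth 100000 in
theorem part_12_8_7_4 : dfsN 6 268435456 75023120 [2, 5, 6, 9, 10, 11] = true := by
  decide +kernel

set_option maxRecDepth 100000 in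
theorem part_12_8_7_5 : dfsN 6 268435456 91800336 [2, 4, 6, 9, 10, 11] = true := by
  decide +kernel

set_option maxRecDepth 100000 in
theorem part_12_8_7_6 : dfsN 6 268435456 108577552 [2, 4, 5, 9, 10, 11] = true := by
  decide +kernel

set_option maxRecDepth 100000 in
theorem part_12_8_7_9 : dfsN 6 268435456 158909200 [2, 4, 5, 6, 10, 11] = true := by
  decide +kernel

set_option maxRecDepth 100000 in
theorem part_12_8_7_10 : dfsN 6 268435456 175686416 [2, 4, 5, 6, 9, 11] = true := by
  decide +kernel

set_option maxRecDepth 100000 in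
theorem part_12_8_7_11 : dfsN 6 268435456 192463632 [2, 4, 5, 6, 9, 10] = true := by
  decide +kernel

theorem part_12_8_7 : dfsN 7 16777216 7914256 [2, 4, 5, 6, 9, 10, 11] = true := by
  apply dfsN_step 6 16777216 7914256 [2, 4, 5, 6, 9, 10, 11]
  intro v hv
  simp only [List.mem_cons, List.not_mem_nil, or_false] at hv
  rcases hv with rfl | rfl | rfl | rfl | rfl | rfl | rfl
  exacts [part_12_8_7_2, part_12_8_7_4, part_12_8_7_5, part_12_8_7_6, part_12_8_7_9, part_12_8_7_10, part_12_8_7_11]

set_option maxRecDepth 100000 in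
theorem part_12_8_9_2 : dfsN 6 268435456 43565840 [4, 5, 6, 7, 10, 11] = true := by
  decide +kernel

set_option maxRecDepth 100000 in
theorem part_12_8_9_4 : dfsN 6 268435456 77120272 [2, 5, 6, 7, 10, 11] = true := by
  decide +kernel

set_option maxRecDepth 100000 in
theorem part_12_8_9_5 : dfsN 6 268435456 93897488 [2, 4, 6, 7, 10, 11] = true := by
  decide +kernel

set_option maxRecDepth 100000 in
theorem part_12_8_9_6 : dfsN 6 268435456 110674704 [2, 4, 5, 7, 10, 11] = true := by
  decide +kernel

set_option maxRecDepth 100000 in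
theorem part_12_8_9_7 : dfsN 6 268435456 127451920 [2, 4, 5, 6, 10, 11] = true := by
  decide +kernel

set_option maxRecDepth 100000 in
theorem part_12_8_9_10 : dfsN 6 268435456 177783568 [2, 4, 5, 6, 7, 11] = true := by
  decide +kernel

set_option maxRecDepth 100000 in
theorem part_12_8_9_11 : dfsN 6 268435456 194560784 [2, 4, 5, 6, 7, 10] = true := by
  decide +kernel

theorem part_12_8_9 : dfsN 7 16777216 10011408 [2, 4, 5, 6, 7, 10, 11] = true := by
  apply dfsN_step 6 16777216 10011408 [2, 4, 5, 6, 7, 10, 11]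
  intro v hv
  simp only [List.mem_cons, List.not_mem_nil, or_false] at hv
  rcases hv with rfl | rfl | rfl | rfl | rfl | rfl | rfl
  exacts [part_12_8_9_2, part_12_8_9_4, part_12_8_9_5, part_12_8_9_6, part_12_8_9_7, part_12_8_9_10, part_12_8_9_11]

set_option maxRecDepth 100000 in
theorem part_12_8_10_2 : dfsN 6 268435456 44614416 [4, 5, 6, 7, 9, 11] = true := by
  decide +kernel

set_option maxRecDepth 100000 in
theorem part_12_8_10_4 : dfsN 6 268435456 78168848 [2, 5, 6, 7, 9, 11] = true := by
  decide +kernel

set_option maxRecDepth 100000 in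
theorem part_12_8_10_5 : dfsN 6 268435456 94946064 [2, 4, 6, 7, 9, 11] = true := by
  decide +kernel

set_option maxRecDepth 100000 in
theorem part_12_8_10_6 : dfsN 6 268435456 111723280 [2, 4, 5, 7, 9, 11] = true := by
  decide +kernel

set_option maxRecDepth 100000 in
theorem part_12_8_10_7 : dfsN 6 268435456 128500496 [2, 4, 5, 6, 9, 11] = true := by
  decide +kernel

set_option maxRecDepth 100000 in
theorem part_12_8_10_9 : dfsN 6 268435456 162054928 [2, 4, 5, 6, 7, 11] = true := by
  decide +kernel

set_option maxRecDepth 100000 in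
theorem part_12_8_10_11 : dfsN 6 268435456 195609360 [2, 4, 5, 6, 7, 9] = true := by
  decide +kernel

theorem part_12_8_10 : dfsN 7 16777216 11059984 [2, 4, 5, 6, 7, 9, 11] = true := by
  apply dfsN_step 6 16777216 11059984 [2, 4, 5, 6, 7, 9, 11]
  intro v hv
  simp only [List.mem_cons, List.not_mem_nil, or_false] at hv
  rcases hv with rfl | rfl | rfl | rfl | rfl | rfl | rfl
  exacts [part_12_8_10_2, part_12_8_10_4, part_12_8_10_5, part_12_8_10_6, part_12_8_10_7, part_12_8_10_9, part_12_8_10_11]

set_option maxRecDepth 100000 in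
theorem part_12_8_11_2 : dfsN 6 268435456 45662992 [4, 5, 6, 7, 9, 10] = true := by
  decide +kernel

set_option maxRecDepth 100000 in
theorem part_12_8_11_4 : dfsN 6 268435456 79217424 [2, 5, 6, 7, 9, 10] = true := by
  decide +kernel

set_option maxRecDepth 100000 in
theorem part_12_8_11_5 : dfsN 6 268435456 95994640 [2, 4, 6, 7, 9, 10] = true := by
  decide +kernel

set_option maxRecDepth 100000 in
theorem part_12_8_11_6 : dfsN 6 268435456 112771856 [2, 4, 5, 7, 9, 10] = true := by
  decide +kernel

set_option maxRecDepth 100000 in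
theorem part_12_8_11_7 : dfsN 6 268435456 129549072 [2, 4, 5, 6, 9, 10] = true := by
  decide +kernel

set_option maxRecDepth 100000 in
theorem part_12_8_11_9 : dfsN 6 268435456 163103504 [2, 4, 5, 6, 7, 10] = true := by
  decide +kernel

set_option maxRecDepth 100000 in
theorem part_12_8_11_10 : dfsN 6 268435456 179880720 [2, 4, 5, 6, 7, 9] = true := by
  decide +kernel

theorem part_12_8_11 : dfsN 7 16777216 12108560 [2, 4, 5, 6, 7, 9, 10] = true := by
  apply dfsN_step 6 16777216 12108560 [2, 4, 5, 6, 7, 9, 10]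
  intro v hv
  simp only [List.mem_cons, List.not_mem_nil, or_false] at hv
  rcases hv with rfl | rfl | rfl | rfl | rfl | rfl | rfl
  exacts [part_12_8_11_2, part_12_8_11_4, part_12_8_11_5, part_12_8_11_6, part_12_8_11_7, part_12_8_11_9, part_12_8_11_10]

theorem part_12_8 : dfsN 8 1048576 574224 [2, 4, 5, 6, 7, 9, 10, 11] = true := by
  apply dfsN_step 7 1048576 574224 [2, 4, 5, 6, 7, 9, 10, 11]
  intro v hv
  simp only [List.mem_cons, List.not_mem_nil, or_false] at hv
  rcases hv with rfl | rfl | rfl | rfl | rfl | rfl | rfl | rfl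
  exacts [part_12_8_2, part_12_8_4, part_12_8_5, part_12_8_6, part_12_8_7, part_12_8_9, part_12_8_10, part_12_8_11]

end Cfsg.Agent.Lib.H16.AG
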