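import Cfsg.Agent.Lib.H16.AG.Step

set_option autoImplicit false

/-! Degree 13, images `0, 1, 3, 12, 9` of `0, 1, 2, 3, 4` fixed: every completion that is an
`11`-cycle has a word `(x ^ b * y ^ a) ^ k` which is a `3`-, `5`- or `7`-cycle
(small kernel computations, one per pair of images of `5, 6`). -/

namespace Cfsg.Agent.Lib.H16.AG

set_option maxRecDepth 100000 in
theorem part_12_9_2_4 : dfsN 6 268435456 69845776 [5, 6, 7, 8, 10, 11] = true := by
  decide +kernel

set_option maxRecDepth 100000 in
theorem part_12_9_2_5 : dfsN 6 268435456 86622992 [4, 6, 7, 8, 10, 11] = true := by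
  decide +kernel

set_option maxRecDepth 100000 in
theorem part_12_9_2_6 : dfsN 6 268435456 103400208 [4, 5, 7, 8, 10, 11] = true := by
  decide +kernel

set_option maxRecDepth 100000 in
theorem part_12_9_2_7 : dfsN 6 268435456 120177424 [4, 5, 6, 8, 10, 11] = true := by
  decide +kernel

set_option maxRecDepth 100000 in
theorem part_12_9_2_8 : dfsN 6 268435456 136954640 [4, 5, 6, 7, 10, 11] = true := by
  decide +kernel

set_option maxRecDepth 100000 in
theorem part_12_9_2_10 : dfsN 6 268435456 170509072 [4, 5, 6, 7, 8, 11] = true := by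
  decide +kernel

set_option maxRecDepth 100000 in
theorem part_12_9_2_11 : dfsN 6 268435456 187286288 [4, 5, 6, 7, 8, 10] = true := by
  decide +kernel

theorem part_12_9_2 : dfsN 7 16777216 2736912 [4, 5, 6, 7, 8, 10, 11] = true := by
  apply dfsN_step 6 16777216 2736912 [4, 5, 6, 7, 8, 10, 11]
  intro v hv
  simp only [List.mem_cons, List.not_mem_nil, or_false] at hv
  rcases hv with rfl | rfl | rfl | rfl | rfl | rfl | rfl
  exacts [part_12_9_2_4, part_12_9_2_5, part_12_9_2_6, part_12_9_2_7, part_12_9_2_8, part_12_9_2_10, part_12_9_2_11]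

set_option maxRecDepth 100000 in
theorem part_12_9_4_2 : dfsN 6 268435456 38388496 [5, 6, 7, 8, 10, 11] = true := by
  decide +kernel

set_option maxRecDepth 100000 in
theorem part_12_9_4_5 : dfsN 6 268435456 88720144 [2, 6, 7, 8, 10, 11] = true := by
  decide +kernel

set_option maxRecDepth 100000 in
theorem part_12_9_4_6 : dfsN 6 268435456 105497360 [2, 5, 7, 8, 10, 11] = true := by
  decide +kernel

set_option maxRecDepth 100000 in
theorem part_12_9_4_7 : dfsN 6 268435456 122274576 [2, 5, 6, 8, 10, 11] = true := by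
  decide +kernel

set_option maxRecDepth 100000 in
theorem part_12_9_4_8 : dfsN 6 268435456 139051792 [2, 5, 6, 7, 10, 11] = true := by
  decide +kernel

set_option maxRecDepth 100000 in
theorem part_12_9_4_10 : dfsN 6 268435456 172606224 [2, 5, 6, 7, 8, 11] = true := by
  decide +kernel

set_option maxRecDepth 100000 in
theorem part_12_9_4_11 : dfsN 6 268435456 189383440 [2, 5, 6, 7, 8, 10] = true := by
  decide +kernel

theorem part_12_9_4 : dfsN 7 16777216 4834064 [2, 5, 6, 7, 8, 10, 11] = true := by
  apply dfsN_step 6 16777216 4834064 [2, 5, 6, 7, 8, 10, 11]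
  intro v hv
  simp only [List.mem_cons, List.not_mem_nil, or_false] at hv
  rcases hv with rfl | rfl | rfl | rfl | rfl | rfl | rfl
  exacts [part_12_9_4_2, part_12_9_4_5, part_12_9_4_6, part_12_9_4_7, part_12_9_4_8, part_12_9_4_10, part_12_9_4_11]

set_option maxRecDepth 100000 in
theorem part_12_9_5_2 : dfsN 6 268435456 39437072 [4, 6, 7, 8, 10, 11] = true := by
  decide +kernel

set_option maxRecDepth 100000 in
theorem part_12_9_5_4 : dfsN 6 268435456 72991504 [2, 6, 7, 8, 10, 11] = true := by
  decide +kernel

set_option maxRecDepth 100000 in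
theorem part_12_9_5_6 : dfsN 6 268435456 106545936 [2, 4, 7, 8, 10, 11] = true := by
  decide +kernel

set_option maxRecDepth 100000 in
theorem part_12_9_5_7 : dfsN 6 268435456 123323152 [2, 4, 6, 8, 10, 11] = true := by
  decide +kernel

set_option maxRecDepth 100000 in
theorem part_12_9_5_8 : dfsN 6 268435456 140100368 [2, 4, 6, 7, 10, 11] = true := by
  decide +kernel

set_option maxRecDepth 100000 in
theorem part_12_9_5_10 : dfsN 6 268435456 173654800 [2, 4, 6, 7, 8, 11] = true := by
  decide +kernel

set_option maxRecDepth 100000 in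
theorem part_12_9_5_11 : dfsN 6 268435456 190432016 [2, 4, 6, 7, 8, 10] = true := by
  decide +kernel

theorem part_12_9_5 : dfsN 7 16777216 5882640 [2, 4, 6, 7, 8, 10, 11] = true := by
  apply dfsN_step 6 16777216 5882640 [2, 4, 6, 7, 8, 10, 11]
  intro v hv
  simp only [List.mem_cons, List.not_mem_nil, or_false] at hv
  rcases hv with rfl | rfl | rfl | rfl | rfl | rfl | rfl
  exacts [part_12_9_5_2, part_12_9_5_4, part_12_9_5_6, part_12_9_5_7, part_12_9_5_8, part_12_9_5_10, part_12_9_5_11]

set_option maxRecDepth 100000 in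
theorem part_12_9_6_2 : dfsN 6 268435456 40485648 [4, 5, 7, 8, 10, 11] = true := by
  decide +kernel

set_option maxRecDepth 100000 in
theorem part_12_9_6_4 : dfsN 6 268435456 74040080 [2, 5, 7, 8, 10, 11] = true := by
  decide +kernel

set_option maxRecDepth 100000 in
theorem part_12_9_6_5 : dfsN 6 268435456 90817296 [2, 4, 7, 8, 10, 11] = true := by
  decide +kernel

set_option maxRecDepth 100000 in
theorem part_12_9_6_7 : dfsN 6 268435456 124371728 [2, 4, 5, 8, 10, 11] = true := by
  decide +kernel

set_option maxRecDepth 100000 in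
theorem part_12_9_6_8 : dfsN 6 268435456 141148944 [2, 4, 5, 7, 10, 11] = true := by
  decide +kernel

set_option maxRecDepth 100000 in
theorem part_12_9_6_10 : dfsN 6 268435456 174703376 [2, 4, 5, 7, 8, 11] = true := by
  decide +kernel

set_option maxRecDepth 100000 in
theorem part_12_9_6_11 : dfsN 6 268435456 191480592 [2, 4, 5, 7, 8, 10] = true := by
  decide +kernel

theorem part_12_9_6 : dfsN 7 16777216 6931216 [2, 4, 5, 7, 8, 10, 11] = true := by
  apply dfsN_step 6 16777216 6931216 [2, 4, 5, 7, 8, 10, 11]
  intro v hv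
  simp only [List.mem_cons, List.not_mem_nil, or_false] at hv
  rcases hv with rfl | rfl | rfl | rfl | rfl | rfl | rfl
  exacts [part_12_9_6_2, part_12_9_6_4, part_12_9_6_5, part_12_9_6_7, part_12_9_6_8, part_12_9_6_10, part_12_9_6_11]

set_option maxRecDepth 100000 in
theorem part_12_9_7_2 : dfsN 6 268435456 41534224 [4, 5, 6, 8, 10, 11] = true := by
  decide +kernel

set_option maxRecDepth 100000 in
theorem part_12_9_7_4 : dfsN 6 268435456 75088656 [2, 5, 6, 8, 10, 11] = true := by
  decide +kernel

set_option maxRecDepth 100000 in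
theorem part_12_9_7_5 : dfsN 6 268435456 91865872 [2, 4, 6, 8, 10, 11] = true := by
  decide +kernel

set_option maxRecDepth 100000 in
theorem part_12_9_7_6 : dfsN 6 268435456 108643088 [2, 4, 5, 8, 10, 11] = true := by
  decide +kernel

set_option maxRecDepth 100000 in
theorem part_12_9_7_8 : dfsN 6 268435456 142197520 [2, 4, 5, 6, 10, 11] = true := by
  decide +kernel

set_option maxRecDepth 100000 in
theorem part_12_9_7_10 : dfsN 6 268435456 175751952 [2, 4, 5, 6, 8, 11] = true := by
  decide +kernel

set_option maxRecDepth 100000 in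
theorem part_12_9_7_11 : dfsN 6 268435456 192529168 [2, 4, 5, 6, 8, 10] = true := by
  decide +kernel

theorem part_12_9_7 : dfsN 7 16777216 7979792 [2, 4, 5, 6, 8, 10, 11] = true := by
  apply dfsN_step 6 16777216 7979792 [2, 4, 5, 6, 8, 10, 11]
  intro v hv
  simp only [List.mem_cons, List.not_mem_nil, or_false] at hv
  rcases hv with rfl | rfl | rfl | rfl | rfl | rfl | rfl
  exacts [part_12_9_7_2, part_12_9_7_4, part_12_9_7_5, part_12_9_7_6, part_12_9_7_8, part_12_9_7_10, part_12_9_7_11]

set_option maxRecDepth 100000 in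
theorem part_12_9_8_2 : dfsN 6 268435456 42582800 [4, 5, 6, 7, 10, 11] = true := by
  decide +kernel

set_option maxRecDepth 100000 in
theorem part_12_9_8_4 : dfsN 6 268435456 76137232 [2, 5, 6, 7, 10, 11] = true := by
  decide +kernel

set_option maxRecDepth 100000 in
theorem part_12_9_8_5 : dfsN 6 268435456 92914448 [2, 4, 6, 7, 10, 11] = true := by
  decide +kernel

set_option maxRecDepth 100000 in
theorem part_12_9_8_6 : dfsN 6 268435456 109691664 [2, 4, 5, 7, 10, 11] = true := by
  decide +kernel

set_option maxRecDepth 100000 in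
theorem part_12_9_8_7 : dfsN 6 268435456 126468880 [2, 4, 5, 6, 10, 11] = true := by
  decide +kernel

set_option maxRecDepth 100000 in
theorem part_12_9_8_10 : dfsN 6 268435456 176800528 [2, 4, 5, 6, 7, 11] = true := by
  decide +kernel

set_option maxRecDepth 100000 in
theorem part_12_9_8_11 : dfsN 6 268435456 193577744 [2, 4, 5, 6, 7, 10] = true := by
  decide +kernel

theorem part_12_9_8 : dfsN 7 16777216 9028368 [2, 4, 5, 6, 7, 10, 11] = true := by
  apply dfsN_step 6 16777216 9028368 [2, 4, 5, 6, 7, 10, 11]
  intro v hv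
  simp only [List.mem_cons, List.not_mem_nil, or_false] at hv
  rcases hv with rfl | rfl | rfl | rfl | rfl | rfl | rfl
  exacts [part_12_9_8_2, part_12_9_8_4, part_12_9_8_5, part_12_9_8_6, part_12_9_8_7, part_12_9_8_10, part_12_9_8_11]

set_option maxRecDepth 100000 in
theorem part_12_9_10_2 : dfsN 6 268435456 44679952 [4, 5, 6, 7, 8, 11] = true := by
  decide +kernel

set_option maxRecDepth 100000 in
theorem part_12_9_10_4 : dfsN 6 268435456 78234384 [2, 5, 6, 7, 8, 11] = true := by
  decide +kernel

set_option maxRecDepth 100000 in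
theorem part_12_9_10_5 : dfsN 6 268435456 95011600 [2, 4, 6, 7, 8, 11] = true := by
  decide +kernel

set_option maxRecDepth 100000 in
theorem part_12_9_10_6 : dfsN 6 268435456 111788816 [2, 4, 5, 7, 8, 11] = true := by
  decide +kernel

set_option maxRecDepth 100000 in
theorem part_12_9_10_7 : dfsN 6 268435456 128566032 [2, 4, 5, 6, 8, 11] = true := by
  decide +kernel

set_option maxRecDepth 100000 in
theorem part_12_9_10_8 : dfsN 6 268435456 145343248 [2, 4, 5, 6, 7, 11] = true := by
  decide +kernel

set_option maxRecDepth 100000 in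
theorem part_12_9_10_11 : dfsN 6 268435456 195674896 [2, 4, 5, 6, 7, 8] = true := by
  decide +kernel

theorem part_12_9_10 : dfsN 7 16777216 11125520 [2, 4, 5, 6, 7, 8, 11] = true := by
  apply dfsN_step 6 16777216 11125520 [2, 4, 5, 6, 7, 8, 11]
  intro v hv
  simp only [List.mem_cons, List.not_mem_nil, or_false] at hv
  rcases hv with rfl | rfl | rfl | rfl | rfl | rfl | rfl
  exacts [part_12_9_10_2, part_12_9_10_4, part_12_9_10_5, part_12_9_10_6, part_12_9_10_7, part_12_9_10_8, part_12_9_10_11]

set_option maxRecDepth 100000 in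
theorem part_12_9_11_2 : dfsN 6 268435456 45728528 [4, 5, 6, 7, 8, 10] = true := by
  decide +kernel

set_option maxRecDepth 100000 in
theorem part_12_9_11_4 : dfsN 6 268435456 79282960 [2, 5, 6, 7, 8, 10] = true := by
  decide +kernel

set_option maxRecDepth 100000 in
theorem part_12_9_11_5 : dfsN 6 268435456 96060176 [2, 4, 6, 7, 8, 10] = true := by
  decide +kernel

set_option maxRecDepth 100000 in
theorem part_12_9_11_6 : dfsN 6 268435456 112837392 [2, 4, 5, 7, 8, 10] = true := by
  decide +kernel

set_option maxRecDepth 100000 in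
theorem part_12_9_11_7 : dfsN 6 268435456 129614608 [2, 4, 5, 6, 8, 10] = true := by
  decide +kernel

set_option maxRecDepth 100000 in
theorem part_12_9_11_8 : dfsN 6 268435456 146391824 [2, 4, 5, 6, 7, 10] = true := by
  decide +kernel

set_option maxRecDepth 100000 in
theorem part_12_9_11_10 : dfsN 6 268435456 179946256 [2, 4, 5, 6, 7, 8] = true := by
  decide +kernel

theorem part_12_9_11 : dfsN 7 16777216 12174096 [2, 4, 5, 6, 7, 8, 10] = true := by
  apply dfsN_step 6 16777216 12174096 [2, 4, 5, 6, 7, 8, 10]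
  intro v hv
  simp only [List.mem_cons, List.not_mem_nil, or_false] at hv
  rcases hv with rfl | rfl | rfl | rfl | rfl | rfl | rfl
  exacts [part_12_9_11_2, part_12_9_11_4, part_12_9_11_5, part_12_9_11_6, part_12_9_11_7, part_12_9_11_8, part_12_9_11_10]

theorem part_12_9 : dfsN 8 1048576 639760 [2, 4, 5, 6, 7, 8, 10, 11] = true := by
  apply dfsN_step 7 1048576 639760 [2, 4, 5, 6, 7, 8, 10, 11]
  intro v hv
  simp only [List.mem_cons, List.not_mem_nil, or_false] at hv
  rcases hv with rfl | rfl | rfl | rfl | rfl | rfl | rfl | rfl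
  exacts [part_12_9_2, part_12_9_4, part_12_9_5, part_12_9_6, part_12_9_7, part_12_9_8, part_12_9_10, part_12_9_11]

end Cfsg.Agent.Lib.H16.AG
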