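import Cfsg.Agent.Lib.H16.AG.Step

set_option autoImplicit false

/-! Degree 13, images `0, 1, 3, 12, 10` of `0, 1, 2, 3, 4` fixed: every completion that is an
`11`-cycle has a word `(x ^ b * y ^ a) ^ k` which is a `3`-, `5`- or `7`-cycle
(small kernel computations, one per pair of images of `5, 6`). -/

namespace Cfsg.Agent.Lib.H16.AG

set_option maxRecDepth 100000 in
theorem part_12_10_2_4 : dfsN 6 268435456 69911312 [5, 6, 7, 8, 9, 11] = true := by
  decide +kernel

set_option maxRecDepth 100000 in
theorem part_12_10_2_5 : dfsN 6 268435456 86688528 [4, 6, 7, 8, 9, 11] = true := by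
  decide +kernel

set_option maxRecDepth 100000 in
theorem part_12_10_2_6 : dfsN 6 268435456 103465744 [4, 5, 7, 8, 9, 11] = true := by
  decide +kernel

set_option maxRecDepth 100000 in
theorem part_12_10_2_7 : dfsN 6 268435456 120242960 [4, 5, 6, 8, 9, 11] = true := by
  decide +kernel

set_option maxRecDepth 100000 in
theorem part_12_10_2_8 : dfsN 6 268435456 137020176 [4, 5, 6, 7, 9, 11] = true := by
  decide +kernel

set_option maxRecDepth 100000 in
theorem part_12_10_2_9 : dfsN 6 268435456 153797392 [4, 5, 6, 7, 8, 11] = true := by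
  decide +kernel

set_option maxRecDepth 100000 in
theorem part_12_10_2_11 : dfsN 6 268435456 187351824 [4, 5, 6, 7, 8, 9] = true := by
  decide +kernel

theorem part_12_10_2 : dfsN 7 16777216 2802448 [4, 5, 6, 7, 8, 9, 11] = true := by
  apply dfsN_step 6 16777216 2802448 [4, 5, 6, 7, 8, 9, 11]
  intro v hv
  simp only [List.mem_cons, List.not_mem_nil, or_false] at hv
  rcases hv with rfl | rfl | rfl | rfl | rfl | rfl | rfl
  exacts [part_12_10_2_4, part_12_10_2_5, part_12_10_2_6, part_12_10_2_7, part_12_10_2_8, part_12_10_2_9, part_12_10_2_11]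

set_option maxRecDepth 100000 in
theorem part_12_10_4_2 : dfsN 6 268435456 38454032 [5, 6, 7, 8, 9, 11] = true := by
  decide +kernel

set_option maxRecDepth 100000 in
theorem part_12_10_4_5 : dfsN 6 268435456 88785680 [2, 6, 7, 8, 9, 11] = true := by
  decide +kernel

set_option maxRecDepth 100000 in
theorem part_12_10_4_6 : dfsN 6 268435456 105562896 [2, 5, 7, 8, 9, 11] = true := by
  decide +kernel

set_option maxRecDepth 100000 in
theorem part_12_10_4_7 : dfsN 6 268435456 122340112 [2, 5, 6, 8, 9, 11] = true := by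
  decide +kernel

set_option maxRecDepth 100000 in
theorem part_12_10_4_8 : dfsN 6 268435456 139117328 [2, 5, 6, 7, 9, 11] = true := by
  decide +kernel

set_option maxRecDepth 100000 in
theorem part_12_10_4_9 : dfsN 6 268435456 155894544 [2, 5, 6, 7, 8, 11] = true := by
  decide +kernel

set_option maxRecDepth 100000 in
theorem part_12_10_4_11 : dfsN 6 268435456 189448976 [2, 5, 6, 7, 8, 9] = true := by
  decide +kernel

theorem part_12_10_4 : dfsN 7 16777216 4899600 [2, 5, 6, 7, 8, 9, 11] = true := by
  apply dfsN_step 6 16777216 4899600 [2, 5, 6, 7, 8, 9, 11]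
  intro v hv
  simp only [List.mem_cons, List.not_mem_nil, or_false] at hv
  rcases hv with rfl | rfl | rfl | rfl | rfl | rfl | rfl
  exacts [part_12_10_4_2, part_12_10_4_5, part_12_10_4_6, part_12_10_4_7, part_12_10_4_8, part_12_10_4_9, part_12_10_4_11]

set_option maxRecDepth 100000 in
theorem part_12_10_5_2 : dfsN 6 268435456 39502608 [4, 6, 7, 8, 9, 11] = true := by
  decide +kernel

set_option maxRecDepth 100000 in
theorem part_12_10_5_4 : dfsN 6 268435456 73057040 [2, 6, 7, 8, 9, 11] = true := by
  decide +kernel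

set_option maxRecDepth 100000 in
theorem part_12_10_5_6 : dfsN 6 268435456 106611472 [2, 4, 7, 8, 9, 11] = true := by
  decide +kernel

set_option maxRecDepth 100000 in
theorem part_12_10_5_7 : dfsN 6 268435456 123388688 [2, 4, 6, 8, 9, 11] = true := by
  decide +kernel

set_option maxRecDepth 100000 in
theorem part_12_10_5_8 : dfsN 6 268435456 140165904 [2, 4, 6, 7, 9, 11] = true := by
  decide +kernel

set_option maxRecDepth 100000 in
theorem part_12_10_5_9 : dfsN 6 268435456 156943120 [2, 4, 6, 7, 8, 11] = true := by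
  decide +kernel

set_option maxRecDepth 100000 in
theorem part_12_10_5_11 : dfsN 6 268435456 190497552 [2, 4, 6, 7, 8, 9] = true := by
  decide +kernel

theorem part_12_10_5 : dfsN 7 16777216 5948176 [2, 4, 6, 7, 8, 9, 11] = true := by
  apply dfsN_step 6 16777216 5948176 [2, 4, 6, 7, 8, 9, 11]
  intro v hv
  simp only [List.mem_cons, List.not_mem_nil, or_false] at hv
  rcases hv with rfl | rfl | rfl | rfl | rfl | rfl | rfl
  exacts [part_12_10_5_2, part_12_10_5_4, part_12_10_5_6, part_12_10_5_7, part_12_10_5_8, part_12_10_5_9, part_12_10_5_11]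

set_option maxRecDepth 100000 in
theorem part_12_10_6_2 : dfsN 6 268435456 40551184 [4, 5, 7, 8, 9, 11] = true := by
  decide +kernel

set_option maxRecDepth 100000 in
theorem part_12_10_6_4 : dfsN 6 268435456 74105616 [2, 5, 7, 8, 9, 11] = true := by
  decide +kernel

set_option maxRecDepth 100000 in
theorem part_12_10_6_5 : dfsN 6 268435456 90882832 [2, 4, 7, 8, 9, 11] = true := by
  decide +kernel

set_option maxRecDepth 100000 in
theorem part_12_10_6_7 : dfsN 6 268435456 124437264 [2, 4, 5, 8, 9, 11] = true := by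
  decide +kernel

set_option maxRecDepth 100000 in
theorem part_12_10_6_8 : dfsN 6 268435456 141214480 [2, 4, 5, 7, 9, 11] = true := by
  decide +kernel

set_option maxRecDepth 100000 in
theorem part_12_10_6_9 : dfsN 6 268435456 157991696 [2, 4, 5, 7, 8, 11] = true := by
  decide +kernel

set_option maxRecDepth 100000 in
theorem part_12_10_6_11 : dfsN 6 268435456 191546128 [2, 4, 5, 7, 8, 9] = true := by
  decide +kernel

theorem part_12_10_6 : dfsN 7 16777216 6996752 [2, 4, 5, 7, 8, 9, 11] = true := by
  apply dfsN_step 6 16777216 6996752 [2, 4, 5, 7, 8, 9, 11]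
  intro v hv
  simp only [List.mem_cons, List.not_mem_nil, or_false] at hv
  rcases hv with rfl | rfl | rfl | rfl | rfl | rfl | rfl
  exacts [part_12_10_6_2, part_12_10_6_4, part_12_10_6_5, part_12_10_6_7, part_12_10_6_8, part_12_10_6_9, part_12_10_6_11]

set_option maxRecDepth 100000 in
theorem part_12_10_7_2 : dfsN 6 268435456 41599760 [4, 5, 6, 8, 9, 11] = true := by
  decide +kernel

set_option maxRecDepth 100000 in
theorem part_12_10_7_4 : dfsN 6 268435456 75154192 [2, 5, 6, 8, 9, 11] = true := by
  decide +kernel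

set_option maxRecDepth 100000 in
theorem part_12_10_7_5 : dfsN 6 268435456 91931408 [2, 4, 6, 8, 9, 11] = true := by
  decide +kernel

set_option maxRecDepth 100000 in
theorem part_12_10_7_6 : dfsN 6 268435456 108708624 [2, 4, 5, 8, 9, 11] = true := by
  decide +kernel

set_option maxRecDepth 100000 in
theorem part_12_10_7_8 : dfsN 6 268435456 142263056 [2, 4, 5, 6, 9, 11] = true := by
  decide +kernel

set_option maxRecDepth 100000 in
theorem part_12_10_7_9 : dfsN 6 268435456 159040272 [2, 4, 5, 6, 8, 11] = true := by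
  decide +kernel

set_option maxRecDepth 100000 in
theorem part_12_10_7_11 : dfsN 6 268435456 192594704 [2, 4, 5, 6, 8, 9] = true := by
  decide +kernel

theorem part_12_10_7 : dfsN 7 16777216 8045328 [2, 4, 5, 6, 8, 9, 11] = true := by
  apply dfsN_step 6 16777216 8045328 [2, 4, 5, 6, 8, 9, 11]
  intro v hv
  simp only [List.mem_cons, List.not_mem_nil, or_false] at hv
  rcases hv with rfl | rfl | rfl | rfl | rfl | rfl | rfl
  exacts [part_12_10_7_2, part_12_10_7_4, part_12_10_7_5, part_12_10_7_6, part_12_10_7_8, part_12_10_7_9, part_12_10_7_11]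

set_option maxRecDepth 100000 in
theorem part_12_10_8_2 : dfsN 6 268435456 42648336 [4, 5, 6, 7, 9, 11] = true := by
  decide +kernel

set_option maxRecDepth 100000 in
theorem part_12_10_8_4 : dfsN 6 268435456 76202768 [2, 5, 6, 7, 9, 11] = true := by
  decide +kernel

set_option maxRecDepth 100000 in
theorem part_12_10_8_5 : dfsN 6 268435456 92979984 [2, 4, 6, 7, 9, 11] = true := by
  decide +kernel

set_option maxRecDepth 100000 in
theorem part_12_10_8_6 : dfsN 6 268435456 109757200 [2, 4, 5, 7, 9, 11] = true := by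
  decide +kernel

set_option maxRecDepth 100000 in
theorem part_12_10_8_7 : dfsN 6 268435456 126534416 [2, 4, 5, 6, 9, 11] = true := by
  decide +kernel

set_option maxRecDepth 100000 in
theorem part_12_10_8_9 : dfsN 6 268435456 160088848 [2, 4, 5, 6, 7, 11] = true := by
  decide +kernel

set_option maxRecDepth 100000 in
theorem part_12_10_8_11 : dfsN 6 268435456 193643280 [2, 4, 5, 6, 7, 9] = true := by
  decide +kernel

theorem part_12_10_8 : dfsN 7 16777216 9093904 [2, 4, 5, 6, 7, 9, 11] = true := by
  apply dfsN_step 6 16777216 9093904 [2, 4, 5, 6, 7, 9, 11]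
  intro v hv
  simp only [List.mem_cons, List.not_mem_nil, or_false] at hv
  rcases hv with rfl | rfl | rfl | rfl | rfl | rfl | rfl
  exacts [part_12_10_8_2, part_12_10_8_4, part_12_10_8_5, part_12_10_8_6, part_12_10_8_7, part_12_10_8_9, part_12_10_8_11]

set_option maxRecDepth 100000 in
theorem part_12_10_9_2 : dfsN 6 268435456 43696912 [4, 5, 6, 7, 8, 11] = true := by
  decide +kernel

set_option maxRecDepth 100000 in
theorem part_12_10_9_4 : dfsN 6 268435456 77251344 [2, 5, 6, 7, 8, 11] = true := by
  decide +kernel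

set_option maxRecDepth 100000 in
theorem part_12_10_9_5 : dfsN 6 268435456 94028560 [2, 4, 6, 7, 8, 11] = true := by
  decide +kernel

set_option maxRecDepth 100000 in
theorem part_12_10_9_6 : dfsN 6 268435456 110805776 [2, 4, 5, 7, 8, 11] = true := by
  decide +kernel

set_option maxRecDepth 100000 in
theorem part_12_10_9_7 : dfsN 6 268435456 127582992 [2, 4, 5, 6, 8, 11] = true := by
  decide +kernel

set_option maxRecDepth 100000 in
theorem part_12_10_9_8 : dfsN 6 268435456 144360208 [2, 4, 5, 6, 7, 11] = true := by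
  decide +kernel

set_option maxRecDepth 100000 in
theorem part_12_10_9_11 : dfsN 6 268435456 194691856 [2, 4, 5, 6, 7, 8] = true := by
  decide +kernel

theorem part_12_10_9 : dfsN 7 16777216 10142480 [2, 4, 5, 6, 7, 8, 11] = true := by
  apply dfsN_step 6 16777216 10142480 [2, 4, 5, 6, 7, 8, 11]
  intro v hv
  simp only [List.mem_cons, List.not_mem_nil, or_false] at hv
  rcases hv with rfl | rfl | rfl | rfl | rfl | rfl | rfl
  exacts [part_12_10_9_2, part_12_10_9_4, part_12_10_9_5, part_12_10_9_6, part_12_10_9_7, part_12_10_9_8, part_12_10_9_11]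

set_option maxRecDepth 100000 in
theorem part_12_10_11_2 : dfsN 6 268435456 45794064 [4, 5, 6, 7, 8, 9] = true := by
  decide +kernel

set_option maxRecDepth 100000 in
theorem part_12_10_11_4 : dfsN 6 268435456 79348496 [2, 5, 6, 7, 8, 9] = true := by
  decide +kernel

set_option maxRecDepth 100000 in
theorem part_12_10_11_5 : dfsN 6 268435456 96125712 [2, 4, 6, 7, 8, 9] = true := by
  decide +kernel

set_option maxRecDepth 100000 in
theorem part_12_10_11_6 : dfsN 6 268435456 112902928 [2, 4, 5, 7, 8, 9] = true := by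
  decide +kernel

set_option maxRecDepth 100000 in
theorem part_12_10_11_7 : dfsN 6 268435456 129680144 [2, 4, 5, 6, 8, 9] = true := by
  decide +kernel

set_option maxRecDepth 100000 in
theorem part_12_10_11_8 : dfsN 6 268435456 146457360 [2, 4, 5, 6, 7, 9] = true := by
  decide +kernel

set_option maxRecDepth 100000 in
theorem part_12_10_11_9 : dfsN 6 268435456 163234576 [2, 4, 5, 6, 7, 8] = true := by
  decide +kernel

theorem part_12_10_11 : dfsN 7 16777216 12239632 [2, 4, 5, 6, 7, 8, 9] = true := by
  apply dfsN_step 6 16777216 12239632 [2, 4, 5, 6, 7, 8, 9]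
  intro v hv
  simp only [List.mem_cons, List.not_mem_nil, or_false] at hv
  rcases hv with rfl | rfl | rfl | rfl | rfl | rfl | rfl
  exacts [part_12_10_11_2, part_12_10_11_4, part_12_10_11_5, part_12_10_11_6, part_12_10_11_7, part_12_10_11_8, part_12_10_11_9]

theorem part_12_10 : dfsN 8 1048576 705296 [2, 4, 5, 6, 7, 8, 9, 11] = true := by
  apply dfsN_step 7 1048576 705296 [2, 4, 5, 6, 7, 8, 9, 11]
  intro v hv
  simp only [List.mem_cons, List.not_mem_nil, or_false] at hv
  rcases hv with rfl | rfl | rfl | rfl | rfl | rfl | rfl | rfl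
  exacts [part_12_10_2, part_12_10_4, part_12_10_5, part_12_10_6, part_12_10_7, part_12_10_8, part_12_10_9, part_12_10_11]

end Cfsg.Agent.Lib.H16.AG
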