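import Cfsg.Agent.Lib.H16.AG.Step

set_option autoImplicit false

/-! Degree 13, images `0, 1, 3, 12, 11` of `0, 1, 2, 3, 4` fixed: every completion that is an
`11`-cycle has a word `(x ^ b * y ^ a) ^ k` which is a `3`-, `5`- or `7`-cycle
(small kernel computations, one per pair of images of `5, 6`). -/

namespace Cfsg.Agent.Lib.H16.AG

set_option maxRecDepth 100000 in
theorem part_12_11_2_4 : dfsN 6 268435456 69976848 [5, 6, 7, 8, 9, 10] = true := by
  decide +kernel

set_option maxRecDepth 100000 in
theorem part_12_11_2_5 : dfsN 6 268435456 86754064 [4, 6, 7, 8, 9, 10] = true := by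
  decide +kernel

set_option maxRecDepth 100000 in
theorem part_12_11_2_6 : dfsN 6 268435456 103531280 [4, 5, 7, 8, 9, 10] = true := by
  decide +kernel

set_option maxRecDepth 100000 in
theorem part_12_11_2_7 : dfsN 6 268435456 120308496 [4, 5, 6, 8, 9, 10] = true := by
  decide +kernel

set_option maxRecDepth 100000 in
theorem part_12_11_2_8 : dfsN 6 268435456 137085712 [4, 5, 6, 7, 9, 10] = true := by
  decide +kernel

set_option maxRecDepth 100000 in
theorem part_12_11_2_9 : dfsN 6 268435456 153862928 [4, 5, 6, 7, 8, 10] = true := by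
  decide +kernel

set_option maxRecDepth 100000 in
theorem part_12_11_2_10 : dfsN 6 268435456 170640144 [4, 5, 6, 7, 8, 9] = true := by
  decide +kernel

theorem part_12_11_2 : dfsN 7 16777216 2867984 [4, 5, 6, 7, 8, 9, 10] = true := by
  apply dfsN_step 6 16777216 2867984 [4, 5, 6, 7, 8, 9, 10]
  intro v hv
  simp only [List.mem_cons, List.not_mem_nil, or_false] at hv
  rcases hv with rfl | rfl | rfl | rfl | rfl | rfl | rfl
  exacts [part_12_11_2_4, part_12_11_2_5, part_12_11_2_6, part_12_11_2_7, part_12_11_2_8, part_12_11_2_9, part_12_11_2_10]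

set_option maxRecDepth 100000 in
theorem part_12_11_4_2 : dfsN 6 268435456 38519568 [5, 6, 7, 8, 9, 10] = true := by
  decide +kernel

set_option maxRecDepth 100000 in
theorem part_12_11_4_5 : dfsN 6 268435456 88851216 [2, 6, 7, 8, 9, 10] = true := by
  decide +kernel

set_option maxRecDepth 100000 in
theorem part_12_11_4_6 : dfsN 6 268435456 105628432 [2, 5, 7, 8, 9, 10] = true := by
  decide +kernel

set_option maxRecDepth 100000 in
theorem part_12_11_4_7 : dfsN 6 268435456 122405648 [2, 5, 6, 8, 9, 10] = true := by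
  decide +kernel

set_option maxRecDepth 100000 in
theorem part_12_11_4_8 : dfsN 6 268435456 139182864 [2, 5, 6, 7, 9, 10] = true := by
  decide +kernel

set_option maxRecDepth 100000 in
theorem part_12_11_4_9 : dfsN 6 268435456 155960080 [2, 5, 6, 7, 8, 10] = true := by
  decide +kernel

set_option maxRecDepth 100000 in
theorem part_12_11_4_10 : dfsN 6 268435456 172737296 [2, 5, 6, 7, 8, 9] = true := by
  decide +kernel

theorem part_12_11_4 : dfsN 7 16777216 4965136 [2, 5, 6, 7, 8, 9, 10] = true := by
  apply dfsN_step 6 16777216 4965136 [2, 5, 6, 7, 8, 9, 10]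
  intro v hv
  simp only [List.mem_cons, List.not_mem_nil, or_false] at hv
  rcases hv with rfl | rfl | rfl | rfl | rfl | rfl | rfl
  exacts [part_12_11_4_2, part_12_11_4_5, part_12_11_4_6, part_12_11_4_7, part_12_11_4_8, part_12_11_4_9, part_12_11_4_10]

set_option maxRecDepth 100000 in
theorem part_12_11_5_2 : dfsN 6 268435456 39568144 [4, 6, 7, 8, 9, 10] = true := by
  decide +kernel

set_option maxRecDepth 100000 in
theorem part_12_11_5_4 : dfsN 6 268435456 73122576 [2, 6, 7, 8, 9, 10] = true := by
  decide +kernel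

set_option maxRecDepth 100000 in
theorem part_12_11_5_6 : dfsN 6 268435456 106677008 [2, 4, 7, 8, 9, 10] = true := by
  decide +kernel

set_option maxRecDepth 100000 in
theorem part_12_11_5_7 : dfsN 6 268435456 123454224 [2, 4, 6, 8, 9, 10] = true := by
  decide +kernel

set_option maxRecDepth 100000 in
theorem part_12_11_5_8 : dfsN 6 268435456 140231440 [2, 4, 6, 7, 9, 10] = true := by
  decide +kernel

set_option maxRecDepth 100000 in
theorem part_12_11_5_9 : dfsN 6 268435456 157008656 [2, 4, 6, 7, 8, 10] = true := by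
  decide +kernel

set_option maxRecDepth 100000 in
theorem part_12_11_5_10 : dfsN 6 268435456 173785872 [2, 4, 6, 7, 8, 9] = true := by
  decide +kernel

theorem part_12_11_5 : dfsN 7 16777216 6013712 [2, 4, 6, 7, 8, 9, 10] = true := by
  apply dfsN_step 6 16777216 6013712 [2, 4, 6, 7, 8, 9, 10]
  intro v hv
  simp only [List.mem_cons, List.not_mem_nil, or_false] at hv
  rcases hv with rfl | rfl | rfl | rfl | rfl | rfl | rfl
  exacts [part_12_11_5_2, part_12_11_5_4, part_12_11_5_6, part_12_11_5_7, part_12_11_5_8, part_12_11_5_9, part_12_11_5_10]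

set_option maxRecDepth 100000 in
theorem part_12_11_6_2 : dfsN 6 268435456 40616720 [4, 5, 7, 8, 9, 10] = true := by
  decide +kernel

set_option maxRecDepth 100000 in
theorem part_12_11_6_4 : dfsN 6 268435456 74171152 [2, 5, 7, 8, 9, 10] = true := by
  decide +kernel

set_option maxRecDepth 100000 in
theorem part_12_11_6_5 : dfsN 6 268435456 90948368 [2, 4, 7, 8, 9, 10] = true := by
  decide +kernel

set_option maxRecDepth 100000 in
theorem part_12_11_6_7 : dfsN 6 268435456 124502800 [2, 4, 5, 8, 9, 10] = true := by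
  decide +kernel

set_option maxRecDepth 100000 in
theorem part_12_11_6_8 : dfsN 6 268435456 141280016 [2, 4, 5, 7, 9, 10] = true := by
  decide +kernel

set_option maxRecDepth 100000 in
theorem part_12_11_6_9 : dfsN 6 268435456 158057232 [2, 4, 5, 7, 8, 10] = true := by
  decide +kernel

set_option maxRecDepth 100000 in
theorem part_12_11_6_10 : dfsN 6 268435456 174834448 [2, 4, 5, 7, 8, 9] = true := by
  decide +kernel

theorem part_12_11_6 : dfsN 7 16777216 7062288 [2, 4, 5, 7, 8, 9, 10] = true := by
  apply dfsN_step 6 16777216 7062288 [2, 4, 5, 7, 8, 9, 10]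
  intro v hv
  simp only [List.mem_cons, List.not_mem_nil, or_false] at hv
  rcases hv with rfl | rfl | rfl | rfl | rfl | rfl | rfl
  exacts [part_12_11_6_2, part_12_11_6_4, part_12_11_6_5, part_12_11_6_7, part_12_11_6_8, part_12_11_6_9, part_12_11_6_10]

set_option maxRecDepth 100000 in
theorem part_12_11_7_2 : dfsN 6 268435456 41665296 [4, 5, 6, 8, 9, 10] = true := by
  decide +kernel

set_option maxRecDepth 100000 in
theorem part_12_11_7_4 : dfsN 6 268435456 75219728 [2, 5, 6, 8, 9, 10] = true := by
  decide +kernel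

set_option maxRecDepth 100000 in
theorem part_12_11_7_5 : dfsN 6 268435456 91996944 [2, 4, 6, 8, 9, 10] = true := by
  decide +kernel

set_option maxRecDepth 100000 in
theorem part_12_11_7_6 : dfsN 6 268435456 108774160 [2, 4, 5, 8, 9, 10] = true := by
  decide +kernel

set_option maxRecDepth 100000 in
theorem part_12_11_7_8 : dfsN 6 268435456 142328592 [2, 4, 5, 6, 9, 10] = true := by
  decide +kernel

set_option maxRecDepth 100000 in
theorem part_12_11_7_9 : dfsN 6 268435456 159105808 [2, 4, 5, 6, 8, 10] = true := by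
  decide +kernel

set_option maxRecDepth 100000 in
theorem part_12_11_7_10 : dfsN 6 268435456 175883024 [2, 4, 5, 6, 8, 9] = true := by
  decide +kernel

theorem part_12_11_7 : dfsN 7 16777216 8110864 [2, 4, 5, 6, 8, 9, 10] = true := by
  apply dfsN_step 6 16777216 8110864 [2, 4, 5, 6, 8, 9, 10]
  intro v hv
  simp only [List.mem_cons, List.not_mem_nil, or_false] at hv
  rcases hv with rfl | rfl | rfl | rfl | rfl | rfl | rfl
  exacts [part_12_11_7_2, part_12_11_7_4, part_12_11_7_5, part_12_11_7_6, part_12_11_7_8, part_12_11_7_9, part_12_11_7_10]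

set_option maxRecDepth 100000 in
theorem part_12_11_8_2 : dfsN 6 268435456 42713872 [4, 5, 6, 7, 9, 10] = true := by
  decide +kernel

set_option maxRecDepth 100000 in
theorem part_12_11_8_4 : dfsN 6 268435456 76268304 [2, 5, 6, 7, 9, 10] = true := by
  decide +kernel

set_option maxRecDepth 100000 in
theorem part_12_11_8_5 : dfsN 6 268435456 93045520 [2, 4, 6, 7, 9, 10] = true := by
  decide +kernel

set_option maxRecDepth 100000 in
theorem part_12_11_8_6 : dfsN 6 268435456 109822736 [2, 4, 5, 7, 9, 10] = true := by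
  decide +kernel

set_option maxRecDepth 100000 in
theorem part_12_11_8_7 : dfsN 6 268435456 126599952 [2, 4, 5, 6, 9, 10] = true := by
  decide +kernel

set_option maxRecDepth 100000 in
theorem part_12_11_8_9 : dfsN 6 268435456 160154384 [2, 4, 5, 6, 7, 10] = true := by
  decide +kernel

set_option maxRecDepth 100000 in
theorem part_12_11_8_10 : dfsN 6 268435456 176931600 [2, 4, 5, 6, 7, 9] = true := by
  decide +kernel

theorem part_12_11_8 : dfsN 7 16777216 9159440 [2, 4, 5, 6, 7, 9, 10] = true := by
  apply dfsN_step 6 16777216 9159440 [2, 4, 5, 6, 7, 9, 10]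
  intro v hv
  simp only [List.mem_cons, List.not_mem_nil, or_false] at hv
  rcases hv with rfl | rfl | rfl | rfl | rfl | rfl | rfl
  exacts [part_12_11_8_2, part_12_11_8_4, part_12_11_8_5, part_12_11_8_6, part_12_11_8_7, part_12_11_8_9, part_12_11_8_10]

set_option maxRecDepth 100000 in
theorem part_12_11_9_2 : dfsN 6 268435456 43762448 [4, 5, 6, 7, 8, 10] = true := by
  decide +kernel

set_option maxRecDepth 100000 in
theorem part_12_11_9_4 : dfsN 6 268435456 77316880 [2, 5, 6, 7, 8, 10] = true := by
  decide +kernel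

set_option maxRecDepth 100000 in
theorem part_12_11_9_5 : dfsN 6 268435456 94094096 [2, 4, 6, 7, 8, 10] = true := by
  decide +kernel

set_option maxRecDepth 100000 in
theorem part_12_11_9_6 : dfsN 6 268435456 110871312 [2, 4, 5, 7, 8, 10] = true := by
  decide +kernel

set_option maxRecDepth 100000 in
theorem part_12_11_9_7 : dfsN 6 268435456 127648528 [2, 4, 5, 6, 8, 10] = true := by
  decide +kernel

set_option maxRecDepth 100000 in
theorem part_12_11_9_8 : dfsN 6 268435456 144425744 [2, 4, 5, 6, 7, 10] = true := by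
  decide +kernel

set_option maxRecDepth 100000 in
theorem part_12_11_9_10 : dfsN 6 268435456 177980176 [2, 4, 5, 6, 7, 8] = true := by
  decide +kernel

theorem part_12_11_9 : dfsN 7 16777216 10208016 [2, 4, 5, 6, 7, 8, 10] = true := by
  apply dfsN_step 6 16777216 10208016 [2, 4, 5, 6, 7, 8, 10]
  intro v hv
  simp only [List.mem_cons, List.not_mem_nil, or_false] at hv
  rcases hv with rfl | rfl | rfl | rfl | rfl | rfl | rfl
  exacts [part_12_11_9_2, part_12_11_9_4, part_12_11_9_5, part_12_11_9_6, part_12_11_9_7, part_12_11_9_8, part_12_11_9_10]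

set_option maxRecDepth 100000 in
theorem part_12_11_10_2 : dfsN 6 268435456 44811024 [4, 5, 6, 7, 8, 9] = true := by
  decide +kernel

set_option maxRecDepth 100000 in
theorem part_12_11_10_4 : dfsN 6 268435456 78365456 [2, 5, 6, 7, 8, 9] = true := by
  decide +kernel

set_option maxRecDepth 100000 in
theorem part_12_11_10_5 : dfsN 6 268435456 95142672 [2, 4, 6, 7, 8, 9] = true := by
  decide +kernel

set_option maxRecDepth 100000 in
theorem part_12_11_10_6 : dfsN 6 268435456 111919888 [2, 4, 5, 7, 8, 9] = true := by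
  decide +kernel

set_option maxRecDepth 100000 in
theorem part_12_11_10_7 : dfsN 6 268435456 128697104 [2, 4, 5, 6, 8, 9] = true := by
  decide +kernel

set_option maxRecDepth 100000 in
theorem part_12_11_10_8 : dfsN 6 268435456 145474320 [2, 4, 5, 6, 7, 9] = true := by
  decide +kernel

set_option maxRecDepth 100000 in
theorem part_12_11_10_9 : dfsN 6 268435456 162251536 [2, 4, 5, 6, 7, 8] = true := by
  decide +kernel

theorem part_12_11_10 : dfsN 7 16777216 11256592 [2, 4, 5, 6, 7, 8, 9] = true := by
  apply dfsN_step 6 16777216 11256592 [2, 4, 5, 6, 7, 8, 9]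
  intro v hv
  simp only [List.mem_cons, List.not_mem_nil, or_false] at hv
  rcases hv with rfl | rfl | rfl | rfl | rfl | rfl | rfl
  exacts [part_12_11_10_2, part_12_11_10_4, part_12_11_10_5, part_12_11_10_6, part_12_11_10_7, part_12_11_10_8, part_12_11_10_9]

theorem part_12_11 : dfsN 8 1048576 770832 [2, 4, 5, 6, 7, 8, 9, 10] = true := by
  apply dfsN_step 7 1048576 770832 [2, 4, 5, 6, 7, 8, 9, 10]
  intro v hv
  simp only [List.mem_cons, List.not_mem_nil, or_false] at hv
  rcases hv with rfl | rfl | rfl | rfl | rfl | rfl | rfl | rfl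
  exacts [part_12_11_2, part_12_11_4, part_12_11_5, part_12_11_6, part_12_11_7, part_12_11_8, part_12_11_9, part_12_11_10]

end Cfsg.Agent.Lib.H16.AG
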