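import Cfsg.Agent.Lib.H16.AG.P02x04
import Cfsg.Agent.Lib.H16.AG.P02x05
import Cfsg.Agent.Lib.H16.AG.P02x06
import Cfsg.Agent.Lib.H16.AG.P02x07
import Cfsg.Agent.Lib.H16.AG.P02x08
import Cfsg.Agent.Lib.H16.AG.P02x09
import Cfsg.Agent.Lib.H16.AG.P02x10
import Cfsg.Agent.Lib.H16.AG.P02x11
import Cfsg.Agent.Lib.H16.AG.P02x12
import Cfsg.Agent.Lib.H16.AG.P04x02
import Cfsg.Agent.Lib.H16.AG.P04x05
import Cfsg.Agent.Lib.H16.AG.P04x06
import Cfsg.Agent.Lib.H16.AG.P04x07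
import Cfsg.Agent.Lib.H16.AG.P04x08
import Cfsg.Agent.Lib.H16.AG.P04x09
import Cfsg.Agent.Lib.H16.AG.P04x10
import Cfsg.Agent.Lib.H16.AG.P04x11
import Cfsg.Agent.Lib.H16.AG.P04x12
import Cfsg.Agent.Lib.H16.AG.P05x02
import Cfsg.Agent.Lib.H16.AG.P05x04
import Cfsg.Agent.Lib.H16.AG.P05x06
import Cfsg.Agent.Lib.H16.AG.P05x07
import Cfsg.Agent.Lib.H16.AG.P05x08
import Cfsg.Agent.Lib.H16.AG.P05x09
import Cfsg.Agent.Lib.H16.AG.P05x10
import Cfsg.Agent.Lib.H16.AG.P05x11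
import Cfsg.Agent.Lib.H16.AG.P05x12
import Cfsg.Agent.Lib.H16.AG.P06x02
import Cfsg.Agent.Lib.H16.AG.P06x04
import Cfsg.Agent.Lib.H16.AG.P06x05
import Cfsg.Agent.Lib.H16.AG.P06x07
import Cfsg.Agent.Lib.H16.AG.P06x08
import Cfsg.Agent.Lib.H16.AG.P06x09
import Cfsg.Agent.Lib.H16.AG.P06x10
import Cfsg.Agent.Lib.H16.AG.P06x11
import Cfsg.Agent.Lib.H16.AG.P06x12
import Cfsg.Agent.Lib.H16.AG.P07x02
import Cfsg.Agent.Lib.H16.AG.P07x04
import Cfsg.Agent.Lib.H16.AG.P07x05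
import Cfsg.Agent.Lib.H16.AG.P07x06
import Cfsg.Agent.Lib.H16.AG.P07x08
import Cfsg.Agent.Lib.H16.AG.P07x09
import Cfsg.Agent.Lib.H16.AG.P07x10
import Cfsg.Agent.Lib.H16.AG.P07x11
import Cfsg.Agent.Lib.H16.AG.P07x12
import Cfsg.Agent.Lib.H16.AG.P08x02
import Cfsg.Agent.Lib.H16.AG.P08x04
import Cfsg.Agent.Lib.H16.AG.P08x05
import Cfsg.Agent.Lib.H16.AG.P08x06
import Cfsg.Agent.Lib.H16.AG.P08x07
import Cfsg.Agent.Lib.H16.AG.P08x09
import Cfsg.Agent.Lib.H16.AG.P08x10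
import Cfsg.Agent.Lib.H16.AG.P08x11
import Cfsg.Agent.Lib.H16.AG.P08x12
import Cfsg.Agent.Lib.H16.AG.P09x02
import Cfsg.Agent.Lib.H16.AG.P09x04
import Cfsg.Agent.Lib.H16.AG.P09x05
import Cfsg.Agent.Lib.H16.AG.P09x06
import Cfsg.Agent.Lib.H16.AG.P09x07
import Cfsg.Agent.Lib.H16.AG.P09x08
import Cfsg.Agent.Lib.H16.AG.P09x10
import Cfsg.Agent.Lib.H16.AG.P09x11
import Cfsg.Agent.Lib.H16.AG.P09x12
import Cfsg.Agent.Lib.H16.AG.P10x02
import Cfsg.Agent.Lib.H16.AG.P10x04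
import Cfsg.Agent.Lib.H16.AG.P10x05
import Cfsg.Agent.Lib.H16.AG.P10x06
import Cfsg.Agent.Lib.H16.AG.P10x07
import Cfsg.Agent.Lib.H16.AG.P10x08
import Cfsg.Agent.Lib.H16.AG.P10x09
import Cfsg.Agent.Lib.H16.AG.P10x11
import Cfsg.Agent.Lib.H16.AG.P10x12
import Cfsg.Agent.Lib.H16.AG.P11x02
import Cfsg.Agent.Lib.H16.AG.P11x04
import Cfsg.Agent.Lib.H16.AG.P11x05
import Cfsg.Agent.Lib.H16.AG.P11x06
import Cfsg.Agent.Lib.H16.AG.P11x07
import Cfsg.Agent.Lib.H16.AG.P11x08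
import Cfsg.Agent.Lib.H16.AG.P11x09
import Cfsg.Agent.Lib.H16.AG.P11x10
import Cfsg.Agent.Lib.H16.AG.P11x12
import Cfsg.Agent.Lib.H16.AG.P12x02
import Cfsg.Agent.Lib.H16.AG.P12x04
import Cfsg.Agent.Lib.H16.AG.P12x05
import Cfsg.Agent.Lib.H16.AG.P12x06
import Cfsg.Agent.Lib.H16.AG.P12x07
import Cfsg.Agent.Lib.H16.AG.P12x08
import Cfsg.Agent.Lib.H16.AG.P12x09
import Cfsg.Agent.Lib.H16.AG.P12x10
import Cfsg.Agent.Lib.H16.AG.P12x11

set_option autoImplicit false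

/-! The whole degree-13 enumeration, assembled from the 90 part files. -/

namespace Cfsg.Agent.Lib.H16.AG

theorem part_2 : dfsN 9 65536 8976 [4, 5, 6, 7, 8, 9, 10, 11, 12] = true := by
  apply dfsN_step 8 65536 8976 [4, 5, 6, 7, 8, 9, 10, 11, 12]
  intro v hv
  simp only [List.mem_cons, List.not_mem_nil, or_false] at hv
  rcases hv with rfl | rfl | rfl | rfl | rfl | rfl | rfl | rfl | rfl
  exacts [part_2_4, part_2_5, part_2_6, part_2_7, part_2_8, part_2_9, part_2_10, part_2_11, part_2_12]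

theorem part_4 : dfsN 9 65536 17168 [2, 5, 6, 7, 8, 9, 10, 11, 12] = true := by
  apply dfsN_step 8 65536 17168 [2, 5, 6, 7, 8, 9, 10, 11, 12]
  intro v hv
  simp only [List.mem_cons, List.not_mem_nil, or_false] at hv
  rcases hv with rfl | rfl | rfl | rfl | rfl | rfl | rfl | rfl | rfl
  exacts [part_4_2, part_4_5, part_4_6, part_4_7, part_4_8, part_4_9, part_4_10, part_4_11, part_4_12]

theorem part_5 : dfsN 9 65536 21264 [2, 4, 6, 7, 8, 9, 10, 11, 12] = true := by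
  apply dfsN_step 8 65536 21264 [2, 4, 6, 7, 8, 9, 10, 11, 12]
  intro v hv
  simp only [List.mem_cons, List.not_mem_nil, or_false] at hv
  rcases hv with rfl | rfl | rfl | rfl | rfl | rfl | rfl | rfl | rfl
  exacts [part_5_2, part_5_4, part_5_6, part_5_7, part_5_8, part_5_9, part_5_10, part_5_11, part_5_12]

theorem part_6 : dfsN 9 65536 25360 [2, 4, 5, 7, 8, 9, 10, 11, 12] = true := by
  apply dfsN_step 8 65536 25360 [2, 4, 5, 7, 8, 9, 10, 11, 12]
  intro v hv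
  simp only [List.mem_cons, List.not_mem_nil, or_false] at hv
  rcases hv with rfl | rfl | rfl | rfl | rfl | rfl | rfl | rfl | rfl
  exacts [part_6_2, part_6_4, part_6_5, part_6_7, part_6_8, part_6_9, part_6_10, part_6_11, part_6_12]

theorem part_7 : dfsN 9 65536 29456 [2, 4, 5, 6, 8, 9, 10, 11, 12] = true := by
  apply dfsN_step 8 65536 29456 [2, 4, 5, 6, 8, 9, 10, 11, 12]
  intro v hv
  simp only [List.mem_cons, List.not_mem_nil, or_false] at hv
  rcases hv with rfl | rfl | rfl | rfl | rfl | rfl | rfl | rfl | rfl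
  exacts [part_7_2, part_7_4, part_7_5, part_7_6, part_7_8, part_7_9, part_7_10, part_7_11, part_7_12]

theorem part_8 : dfsN 9 65536 33552 [2, 4, 5, 6, 7, 9, 10, 11, 12] = true := by
  apply dfsN_step 8 65536 33552 [2, 4, 5, 6, 7, 9, 10, 11, 12]
  intro v hv
  simp only [List.mem_cons, List.not_mem_nil, or_false] at hv
  rcases hv with rfl | rfl | rfl | rfl | rfl | rfl | rfl | rfl | rfl
  exacts [part_8_2, part_8_4, part_8_5, part_8_6, part_8_7, part_8_9, part_8_10, part_8_11, part_8_12]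

theorem part_9 : dfsN 9 65536 37648 [2, 4, 5, 6, 7, 8, 10, 11, 12] = true := by
  apply dfsN_step 8 65536 37648 [2, 4, 5, 6, 7, 8, 10, 11, 12]
  intro v hv
  simp only [List.mem_cons, List.not_mem_nil, or_false] at hv
  rcases hv with rfl | rfl | rfl | rfl | rfl | rfl | rfl | rfl | rfl
  exacts [part_9_2, part_9_4, part_9_5, part_9_6, part_9_7, part_9_8, part_9_10, part_9_11, part_9_12]

theorem part_10 : dfsN 9 65536 41744 [2, 4, 5, 6, 7, 8, 9, 11, 12] = true := by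
  apply dfsN_step 8 65536 41744 [2, 4, 5, 6, 7, 8, 9, 11, 12]
  intro v hv
  simp only [List.mem_cons, List.not_mem_nil, or_false] at hv
  rcases hv with rfl | rfl | rfl | rfl | rfl | rfl | rfl | rfl | rfl
  exacts [part_10_2, part_10_4, part_10_5, part_10_6, part_10_7, part_10_8, part_10_9, part_10_11, part_10_12]

theorem part_11 : dfsN 9 65536 45840 [2, 4, 5, 6, 7, 8, 9, 10, 12] = true := by
  apply dfsN_step 8 65536 45840 [2, 4, 5, 6, 7, 8, 9, 10, 12]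
  intro v hv
  simp only [List.mem_cons, List.not_mem_nil, or_false] at hv
  rcases hv with rfl | rfl | rfl | rfl | rfl | rfl | rfl | rfl | rfl
  exacts [part_11_2, part_11_4, part_11_5, part_11_6, part_11_7, part_11_8, part_11_9, part_11_10, part_11_12]

theorem part_12 : dfsN 9 65536 49936 [2, 4, 5, 6, 7, 8, 9, 10, 11] = true := by
  apply dfsN_step 8 65536 49936 [2, 4, 5, 6, 7, 8, 9, 10, 11]
  intro v hv
  simp only [List.mem_cons, List.not_mem_nil, or_false] at hv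
  rcases hv with rfl | rfl | rfl | rfl | rfl | rfl | rfl | rfl | rfl
  exacts [part_12_2, part_12_4, part_12_5, part_12_6, part_12_7, part_12_8, part_12_9, part_12_10, part_12_11]

theorem all_parts : dfsN 10 4096 784 [2, 4, 5, 6, 7, 8, 9, 10, 11, 12] = true := by
  apply dfsN_step 9 4096 784 [2, 4, 5, 6, 7, 8, 9, 10, 11, 12]
  intro v hv
  simp only [List.mem_cons, List.not_mem_nil, or_false] at hv
  rcases hv with rfl | rfl | rfl | rfl | rfl | rfl | rfl | rfl | rfl | rfl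
  exacts [part_2, part_4, part_5, part_6, part_7, part_8, part_9, part_10, part_11, part_12]

end Cfsg.Agent.Lib.H16.AG
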