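import Mathlib

set_option autoImplicit false

/-! Computable (kernel-friendly) definitions for the degree-13 case of S4150:
a permutation `σ` of `{0,…,12}` is the number `∑ σ(i) * 16 ^ i`. Only raw `Nat` functions on
literals are used, which the kernel evaluates with GMP. -/

namespace Cfsg.Agent.Lib.H16.AG

/-- Digit of `X` at place value `pw = 16 ^ i`. -/
def dgp (X pw : ℕ) : ℕ := Nat.mod (Nat.div X pw) (nat_lit 16)

/-- Digit of `X` at index `i`. -/
def dgi (X i : ℕ) : ℕ := dgp X (Nat.pow (nat_lit 16) i)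

/-- Digit `pw` of the composition `A ∘ B`, in place. -/
def cdg (A B pw : ℕ) : ℕ := Nat.mul (dgi A (dgp B pw)) pw

/-- Code of `A ∘ B`. -/
def compN (A B : ℕ) : ℕ :=
  Nat.add (cdg A B (nat_lit 1)) (Nat.add (cdg A B (nat_lit 16)) (Nat.add (cdg A B (nat_lit 256))
  (Nat.add (cdg A B (nat_lit 4096)) (Nat.add (cdg A B (nat_lit 65536))
  (Nat.add (cdg A B (nat_lit 1048576)) (Nat.add (cdg A B (nat_lit 16777216))
  (Nat.add (cdg A B (nat_lit 268435456)) (Nat.add (cdg A B (nat_lit 4294967296))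
  (Nat.add (cdg A B (nat_lit 68719476736)) (Nat.add (cdg A B (nat_lit 1099511627776))
  (Nat.add (cdg A B (nat_lit 17592186044416)) (cdg A B (nat_lit 281474976710656)))))))))))))

/-- Code of the identity. -/
def idN : ℕ := nat_lit 3582863703552528

/-- Code of `i ↦ i + 1`. -/
def yN : ℕ := nat_lit 223928981472033

/-- `acc * b ^ e` by repeated squaring (fuel `≥ e` is enough). -/
def powAuxN : ℕ → ℕ → ℕ → ℕ → ℕ
  | 0, _, _, acc => acc
  | f + 1, b, e, acc =>
    cond (Nat.beq e (nat_lit 0)) acc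
      (cond (Nat.beq (Nat.div e (nat_lit 2)) (nat_lit 0))
        (cond (Nat.beq (Nat.mod e (nat_lit 2)) (nat_lit 1)) (compN acc b) acc)
        (powAuxN f (compN b b) (Nat.div e (nat_lit 2))
          (cond (Nat.beq (Nat.mod e (nat_lit 2)) (nat_lit 1)) (compN acc b) acc)))

/-- Code of `X ^ k`. -/
def powN (X k : ℕ) : ℕ := powAuxN k X k idN

/-- Codes of `y ^ (a + 1)`, `a = 0, …, 11`. -/
def yTab : List ℕ :=
  [powN yN 1, powN yN 2, powN yN 3, powN yN 4, powN yN 5, powN yN 6,
   powN yN 7, powN yN 8, powN yN 9, powN yN 10, powN yN 11, powN yN 12]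

/-- `1` if the digit at `pw` differs from `i`, else `0`. -/
def mv (u pw i : ℕ) : ℕ := cond (Nat.beq (dgp u pw) i) (nat_lit 0) (nat_lit 1)

/-- Number of moved points. -/
def suppCountN (u : ℕ) : ℕ :=
  Nat.add (mv u (nat_lit 1) (nat_lit 0)) (Nat.add (mv u (nat_lit 16) (nat_lit 1))
  (Nat.add (mv u (nat_lit 256) (nat_lit 2)) (Nat.add (mv u (nat_lit 4096) (nat_lit 3))
  (Nat.add (mv u (nat_lit 65536) (nat_lit 4)) (Nat.add (mv u (nat_lit 1048576) (nat_lit 5))
  (Nat.add (mv u (nat_lit 16777216) (nat_lit 6)) (Nat.add (mv u (nat_lit 268435456) (nat_lit 7))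
  (Nat.add (mv u (nat_lit 4294967296) (nat_lit 8)) (Nat.add (mv u (nat_lit 68719476736) (nat_lit 9))
  (Nat.add (mv u (nat_lit 1099511627776) (nat_lit 10))
  (Nat.add (mv u (nat_lit 17592186044416) (nat_lit 11))
  (mv u (nat_lit 281474976710656) (nat_lit 12)))))))))))))

/-- `u` has exactly `r` moved points and `u ^ r = 1`. -/
def isRCycleN (u r : ℕ) : Bool := Nat.beq (suppCountN u) r && Nat.beq (powN u r) idN

/-- Walk along the cycle of `i` marking visited points: fuel, current, visited, length. -/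
def walkN (W i : ℕ) : ℕ → ℕ → ℕ → ℕ → ℕ × ℕ
  | 0, _, vis, len => (vis, len)
  | f + 1, cur, vis, len =>
    cond (Nat.beq (dgi W cur) i)
      (Nat.lor vis (Nat.shiftLeft (nat_lit 1) cur), Nat.add len (nat_lit 1))
      (walkN W i f (dgi W cur) (Nat.lor vis (Nat.shiftLeft (nat_lit 1) cur)) (Nat.add len (nat_lit 1)))

/-- The cycle lengths of `W` (one per cycle): fuel, start point, visited. -/
def cycsN (W : ℕ) : ℕ → ℕ → ℕ → List ℕ
  | 0, _, _ => []
  | f + 1, i, vis =>
    cond (Nat.beq (Nat.land (Nat.shiftRight vis i) (nat_lit 1)) (nat_lit 1))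
      (cycsN W f (Nat.add i (nat_lit 1)) vis)
      (match walkN W i (nat_lit 13) i vis (nat_lit 0) with
        | (vis', len) => len :: cycsN W f (Nat.add i (nat_lit 1)) vis')

/-- Try to extract an `r`-cycle as a power of `W`, guided by the cycle lengths `cl` of `W`. -/
def tryRN (W : ℕ) (cl : List ℕ) (r : ℕ) : Bool :=
  Nat.beq ((cl.filter fun l => Nat.beq (Nat.mod l r) (nat_lit 0)).foldl Nat.add (nat_lit 0)) r &&
    isRCycleN (powN W (cl.foldl
      (fun acc l => cond (Nat.beq (Nat.mod l r) (nat_lit 0)) acc (Nat.lcm acc l)) (nat_lit 1))) r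

def tryClN (W : ℕ) (cl : List ℕ) : Bool :=
  tryRN W cl (nat_lit 3) || (tryRN W cl (nat_lit 5) || tryRN W cl (nat_lit 7))

def tryWordN (W : ℕ) : Bool := tryClN W (cycsN W (nat_lit 13) (nat_lit 0) (nat_lit 0))

/-- Search over the words `x ^ (b+1) * y ^ (a+1)`. -/
def searchN (X : ℕ) : Bool :=
  (List.range 10).any fun b => yTab.any fun Y => tryWordN (compN (powN X (Nat.add b (nat_lit 1))) Y)

/-- Length of the cycle of `i` (plain walk): fuel, current, steps done. -/
def cycLenAuxN (W i : ℕ) : ℕ → ℕ → ℕ → ℕ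
  | 0, _, c => c
  | f + 1, cur, c =>
    cond (Nat.beq (dgi W cur) i) (Nat.add c (nat_lit 1))
      (cycLenAuxN W i f (dgi W cur) (Nat.add c (nat_lit 1)))

def cycLenN (W i : ℕ) : ℕ := cycLenAuxN W i (nat_lit 13) i (nat_lit 0)

/-- Leaf of the enumeration. -/
def leafN (X : ℕ) : Bool := !(Nat.beq (cycLenN X (nat_lit 2)) (nat_lit 11)) || searchN X

/-- Depth-first enumeration of the injective completions: fuel, place value, code so far,
available values. -/
def dfsN : ℕ → ℕ → ℕ → List ℕ → Bool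
  | 0, _, X, _ => leafN X
  | f + 1, pw, X, avail =>
    avail.all fun v => dfsN f (Nat.mul pw (nat_lit 16)) (Nat.add X (Nat.mul v pw)) (avail.erase v)

end Cfsg.Agent.Lib.H16.AG
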