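import Cfsg.Agent.Lib.H16.AG.Sound
import Cfsg.Agent.Lib.H16.AG.All
import Cfsg.Agent.Lib.H26.AGCERT

set_option autoImplicit false

/-! (H13) of the S4150 blueprint: an `11`-cycle and the `13`-cycle `finRotate 13`, normalised,
generate a group containing `A_13`. -/

namespace Cfsg.Agent.Lib.H16.AG

open Equiv Equiv.Perm Subgroup

/-- (H13) the 362880 normalised 11-cycles in degree 13 (kernel computation). -/
theorem normalized13 : ∀ x : Perm (Fin 13), x 0 = 0 → x 1 = 1 → x 2 = 3 → x.cycleType = {11} →
    alternatingGroup (Fin 13) ≤ closure ({x, finRotate 13} : Set (Perm (Fin 13))) := by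
  intro x h0 h1 h2 hc
  obtain ⟨w, hw, r, hr, hcard, hpow⟩ := exists_small_cycle all_parts x h0 h1 h2 hc
  have hy : (finRotate 13).cycleType = {13} := cycleType_finRotate (n := 11)
  have hyG : finRotate 13 ∈ closure ({x, finRotate 13} : Set (Perm (Fin 13))) :=
    subset_closure (Set.mem_insert_of_mem _ (Set.mem_singleton _))
  have hrp : r.Prime := by
    rcases hr with rfl | rfl | rfl <;> norm_num
  have hr3 : r + 3 ≤ 13 := by
    rcases hr with rfl | rfl | rfl <;> norm_num
  exact Cfsg.Agent.Lib.H26.AG.alt_le_of_small_cycle (by norm_num) _ (finRotate 13) hy hyG w hw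
    hrp hr3 hpow hcard

end Cfsg.Agent.Lib.H16.AG
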