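import Cfsg.Agent.Lib.H16.AG.Step

set_option autoImplicit false

/-! Degree 13, images `0, 1, 3, 2, 4` of `0, 1, 2, 3, 4` fixed: every completion that is an
`11`-cycle has a word `(x ^ b * y ^ a) ^ k` which is a `3`-, `5`- or `7`-cycle
(small kernel computations, one per pair of images of `5, 6`). -/

namespace Cfsg.Agent.Lib.H16.AG

set_option maxRecDepth 100000 in
theorem part_2_4_5_6 : dfsN 6 268435456 106177296 [7, 8, 9, 10, 11, 12] = true := by
  decide +kernel

set_option maxRecDepth 100000 in
theorem part_2_4_5_7 : dfsN 6 268435456 122954512 [6, 8, 9, 10, 11, 12] = true := by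
  decide +kernel

set_option maxRecDepth 100000 in
theorem part_2_4_5_8 : dfsN 6 268435456 139731728 [6, 7, 9, 10, 11, 12] = true := by
  decide +kernel

set_option maxRecDepth 100000 in
theorem part_2_4_5_9 : dfsN 6 268435456 156508944 [6, 7, 8, 10, 11, 12] = true := by
  decide +kernel

set_option maxRecDepth 100000 in
theorem part_2_4_5_10 : dfsN 6 268435456 173286160 [6, 7, 8, 9, 11, 12] = true := by
  decide +kernel

set_option maxRecDepth 100000 in
theorem part_2_4_5_11 : dfsN 6 268435456 190063376 [6, 7, 8, 9, 10, 12] = true := by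
  decide +kernel

set_option maxRecDepth 100000 in
theorem part_2_4_5_12 : dfsN 6 268435456 206840592 [6, 7, 8, 9, 10, 11] = true := by
  decide +kernel

theorem part_2_4_5 : dfsN 7 16777216 5514000 [6, 7, 8, 9, 10, 11, 12] = true := by
  apply dfsN_step 6 16777216 5514000 [6, 7, 8, 9, 10, 11, 12]
  intro v hv
  simp only [List.mem_cons, List.not_mem_nil, or_false] at hv
  rcases hv with rfl | rfl | rfl | rfl | rfl | rfl | rfl
  exacts [part_2_4_5_6, part_2_4_5_7, part_2_4_5_8, part_2_4_5_9, part_2_4_5_10, part_2_4_5_11, part_2_4_5_12]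

set_option maxRecDepth 100000 in
theorem part_2_4_6_5 : dfsN 6 268435456 90448656 [7, 8, 9, 10, 11, 12] = true := by
  decide +kernel

set_option maxRecDepth 100000 in
theorem part_2_4_6_7 : dfsN 6 268435456 124003088 [5, 8, 9, 10, 11, 12] = true := by
  decide +kernel

set_option maxRecDepth 100000 in
theorem part_2_4_6_8 : dfsN 6 268435456 140780304 [5, 7, 9, 10, 11, 12] = true := by
  decide +kernel

set_option maxRecDepth 100000 in
theorem part_2_4_6_9 : dfsN 6 268435456 157557520 [5, 7, 8, 10, 11, 12] = true := by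
  decide +kernel

set_option maxRecDepth 100000 in
theorem part_2_4_6_10 : dfsN 6 268435456 174334736 [5, 7, 8, 9, 11, 12] = true := by
  decide +kernel

set_option maxRecDepth 100000 in
theorem part_2_4_6_11 : dfsN 6 268435456 191111952 [5, 7, 8, 9, 10, 12] = true := by
  decide +kernel

set_option maxRecDepth 100000 in
theorem part_2_4_6_12 : dfsN 6 268435456 207889168 [5, 7, 8, 9, 10, 11] = true := by
  decide +kernel

theorem part_2_4_6 : dfsN 7 16777216 6562576 [5, 7, 8, 9, 10, 11, 12] = true := by
  apply dfsN_step 6 16777216 6562576 [5, 7, 8, 9, 10, 11, 12]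
  intro v hv
  simp only [List.mem_cons, List.not_mem_nil, or_false] at hv
  rcases hv with rfl | rfl | rfl | rfl | rfl | rfl | rfl
  exacts [part_2_4_6_5, part_2_4_6_7, part_2_4_6_8, part_2_4_6_9, part_2_4_6_10, part_2_4_6_11, part_2_4_6_12]

set_option maxRecDepth 100000 in
theorem part_2_4_7_5 : dfsN 6 268435456 91497232 [6, 8, 9, 10, 11, 12] = true := by
  decide +kernel

set_option maxRecDepth 100000 in
theorem part_2_4_7_6 : dfsN 6 268435456 108274448 [5, 8, 9, 10, 11, 12] = true := by
  decide +kernel

set_option maxRecDepth 100000 in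
theorem part_2_4_7_8 : dfsN 6 268435456 141828880 [5, 6, 9, 10, 11, 12] = true := by
  decide +kernel

set_option maxRecDepth 100000 in
theorem part_2_4_7_9 : dfsN 6 268435456 158606096 [5, 6, 8, 10, 11, 12] = true := by
  decide +kernel

set_option maxRecDepth 100000 in
theorem part_2_4_7_10 : dfsN 6 268435456 175383312 [5, 6, 8, 9, 11, 12] = true := by
  decide +kernel

set_option maxRecDepth 100000 in
theorem part_2_4_7_11 : dfsN 6 268435456 192160528 [5, 6, 8, 9, 10, 12] = true := by
  decide +kernel

set_option maxRecDepth 100000 in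
theorem part_2_4_7_12 : dfsN 6 268435456 208937744 [5, 6, 8, 9, 10, 11] = true := by
  decide +kernel

theorem part_2_4_7 : dfsN 7 16777216 7611152 [5, 6, 8, 9, 10, 11, 12] = true := by
  apply dfsN_step 6 16777216 7611152 [5, 6, 8, 9, 10, 11, 12]
  intro v hv
  simp only [List.mem_cons, List.not_mem_nil, or_false] at hv
  rcases hv with rfl | rfl | rfl | rfl | rfl | rfl | rfl
  exacts [part_2_4_7_5, part_2_4_7_6, part_2_4_7_8, part_2_4_7_9, part_2_4_7_10, part_2_4_7_11, part_2_4_7_12]

set_option maxRecDepth 100000 in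
theorem part_2_4_8_5 : dfsN 6 268435456 92545808 [6, 7, 9, 10, 11, 12] = true := by
  decide +kernel

set_option maxRecDepth 100000 in
theorem part_2_4_8_6 : dfsN 6 268435456 109323024 [5, 7, 9, 10, 11, 12] = true := by
  decide +kernel

set_option maxRecDepth 100000 in
theorem part_2_4_8_7 : dfsN 6 268435456 126100240 [5, 6, 9, 10, 11, 12] = true := by
  decide +kernel

set_option maxRecDepth 100000 in
theorem part_2_4_8_9 : dfsN 6 268435456 159654672 [5, 6, 7, 10, 11, 12] = true := by
  decide +kernel

set_option maxRecDepth 100000 in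
theorem part_2_4_8_10 : dfsN 6 268435456 176431888 [5, 6, 7, 9, 11, 12] = true := by
  decide +kernel

set_option maxRecDepth 100000 in
theorem part_2_4_8_11 : dfsN 6 268435456 193209104 [5, 6, 7, 9, 10, 12] = true := by
  decide +kernel

set_option maxRecDepth 100000 in
theorem part_2_4_8_12 : dfsN 6 268435456 209986320 [5, 6, 7, 9, 10, 11] = true := by
  decide +kernel

theorem part_2_4_8 : dfsN 7 16777216 8659728 [5, 6, 7, 9, 10, 11, 12] = true := by
  apply dfsN_step 6 16777216 8659728 [5, 6, 7, 9, 10, 11, 12]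
  intro v hv
  simp only [List.mem_cons, List.not_mem_nil, or_false] at hv
  rcases hv with rfl | rfl | rfl | rfl | rfl | rfl | rfl
  exacts [part_2_4_8_5, part_2_4_8_6, part_2_4_8_7, part_2_4_8_9, part_2_4_8_10, part_2_4_8_11, part_2_4_8_12]

set_option maxRecDepth 100000 in
theorem part_2_4_9_5 : dfsN 6 268435456 93594384 [6, 7, 8, 10, 11, 12] = true := by
  decide +kernel

set_option maxRecDepth 100000 in
theorem part_2_4_9_6 : dfsN 6 268435456 110371600 [5, 7, 8, 10, 11, 12] = true := by
  decide +kernel

set_option maxRecDepth 100000 in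
theorem part_2_4_9_7 : dfsN 6 268435456 127148816 [5, 6, 8, 10, 11, 12] = true := by
  decide +kernel

set_option maxRecDepth 100000 in
theorem part_2_4_9_8 : dfsN 6 268435456 143926032 [5, 6, 7, 10, 11, 12] = true := by
  decide +kernel

set_option maxRecDepth 100000 in
theorem part_2_4_9_10 : dfsN 6 268435456 177480464 [5, 6, 7, 8, 11, 12] = true := by
  decide +kernel

set_option maxRecDepth 100000 in
theorem part_2_4_9_11 : dfsN 6 268435456 194257680 [5, 6, 7, 8, 10, 12] = true := by
  decide +kernel

set_option maxRecDepth 100000 in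
theorem part_2_4_9_12 : dfsN 6 268435456 211034896 [5, 6, 7, 8, 10, 11] = true := by
  decide +kernel

theorem part_2_4_9 : dfsN 7 16777216 9708304 [5, 6, 7, 8, 10, 11, 12] = true := by
  apply dfsN_step 6 16777216 9708304 [5, 6, 7, 8, 10, 11, 12]
  intro v hv
  simp only [List.mem_cons, List.not_mem_nil, or_false] at hv
  rcases hv with rfl | rfl | rfl | rfl | rfl | rfl | rfl
  exacts [part_2_4_9_5, part_2_4_9_6, part_2_4_9_7, part_2_4_9_8, part_2_4_9_10, part_2_4_9_11, part_2_4_9_12]

set_option maxRecDepth 100000 in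
theorem part_2_4_10_5 : dfsN 6 268435456 94642960 [6, 7, 8, 9, 11, 12] = true := by
  decide +kernel

set_option maxRecDepth 100000 in
theorem part_2_4_10_6 : dfsN 6 268435456 111420176 [5, 7, 8, 9, 11, 12] = true := by
  decide +kernel

set_option maxRecDepth 100000 in
theorem part_2_4_10_7 : dfsN 6 268435456 128197392 [5, 6, 8, 9, 11, 12] = true := by
  decide +kernel

set_option maxRecDepth 100000 in
theorem part_2_4_10_8 : dfsN 6 268435456 144974608 [5, 6, 7, 9, 11, 12] = true := by
  decide +kernel

set_option maxRecDepth 100000 in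
theorem part_2_4_10_9 : dfsN 6 268435456 161751824 [5, 6, 7, 8, 11, 12] = true := by
  decide +kernel

set_option maxRecDepth 100000 in
theorem part_2_4_10_11 : dfsN 6 268435456 195306256 [5, 6, 7, 8, 9, 12] = true := by
  decide +kernel

set_option maxRecDepth 100000 in
theorem part_2_4_10_12 : dfsN 6 268435456 212083472 [5, 6, 7, 8, 9, 11] = true := by
  decide +kernel

theorem part_2_4_10 : dfsN 7 16777216 10756880 [5, 6, 7, 8, 9, 11, 12] = true := by
  apply dfsN_step 6 16777216 10756880 [5, 6, 7, 8, 9, 11, 12]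
  intro v hv
  simp only [List.mem_cons, List.not_mem_nil, or_false] at hv
  rcases hv with rfl | rfl | rfl | rfl | rfl | rfl | rfl
  exacts [part_2_4_10_5, part_2_4_10_6, part_2_4_10_7, part_2_4_10_8, part_2_4_10_9, part_2_4_10_11, part_2_4_10_12]

set_option maxRecDepth 100000 in
theorem part_2_4_11_5 : dfsN 6 268435456 95691536 [6, 7, 8, 9, 10, 12] = true := by
  decide +kernel

set_option maxRecDepth 100000 in
theorem part_2_4_11_6 : dfsN 6 268435456 112468752 [5, 7, 8, 9, 10, 12] = true := by
  decide +kernel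

set_option maxRecDepth 100000 in
theorem part_2_4_11_7 : dfsN 6 268435456 129245968 [5, 6, 8, 9, 10, 12] = true := by
  decide +kernel

set_option maxRecDepth 100000 in
theorem part_2_4_11_8 : dfsN 6 268435456 146023184 [5, 6, 7, 9, 10, 12] = true := by
  decide +kernel

set_option maxRecDepth 100000 in
theorem part_2_4_11_9 : dfsN 6 268435456 162800400 [5, 6, 7, 8, 10, 12] = true := by
  decide +kernel

set_option maxRecDepth 100000 in
theorem part_2_4_11_10 : dfsN 6 268435456 179577616 [5, 6, 7, 8, 9, 12] = true := by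
  decide +kernel

set_option maxRecDepth 100000 in
theorem part_2_4_11_12 : dfsN 6 268435456 213132048 [5, 6, 7, 8, 9, 10] = true := by
  decide +kernel

theorem part_2_4_11 : dfsN 7 16777216 11805456 [5, 6, 7, 8, 9, 10, 12] = true := by
  apply dfsN_step 6 16777216 11805456 [5, 6, 7, 8, 9, 10, 12]
  intro v hv
  simp only [List.mem_cons, List.not_mem_nil, or_false] at hv
  rcases hv with rfl | rfl | rfl | rfl | rfl | rfl | rfl
  exacts [part_2_4_11_5, part_2_4_11_6, part_2_4_11_7, part_2_4_11_8, part_2_4_11_9, part_2_4_11_10, part_2_4_11_12]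

set_option maxRecDepth 100000 in
theorem part_2_4_12_5 : dfsN 6 268435456 96740112 [6, 7, 8, 9, 10, 11] = true := by
  decide +kernel

set_option maxRecDepth 100000 in
theorem part_2_4_12_6 : dfsN 6 268435456 113517328 [5, 7, 8, 9, 10, 11] = true := by
  decide +kernel

set_option maxRecDepth 100000 in
theorem part_2_4_12_7 : dfsN 6 268435456 130294544 [5, 6, 8, 9, 10, 11] = true := by
  decide +kernel

set_option maxRecDepth 100000 in
theorem part_2_4_12_8 : dfsN 6 268435456 147071760 [5, 6, 7, 9, 10, 11] = true := by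
  decide +kernel

set_option maxRecDepth 100000 in
theorem part_2_4_12_9 : dfsN 6 268435456 163848976 [5, 6, 7, 8, 10, 11] = true := by
  decide +kernel

set_option maxRecDepth 100000 in
theorem part_2_4_12_10 : dfsN 6 268435456 180626192 [5, 6, 7, 8, 9, 11] = true := by
  decide +kernel

set_option maxRecDepth 100000 in
theorem part_2_4_12_11 : dfsN 6 268435456 197403408 [5, 6, 7, 8, 9, 10] = true := by
  decide +kernel

theorem part_2_4_12 : dfsN 7 16777216 12854032 [5, 6, 7, 8, 9, 10, 11] = true := by
  apply dfsN_step 6 16777216 12854032 [5, 6, 7, 8, 9, 10, 11]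
  intro v hv
  simp only [List.mem_cons, List.not_mem_nil, or_false] at hv
  rcases hv with rfl | rfl | rfl | rfl | rfl | rfl | rfl
  exacts [part_2_4_12_5, part_2_4_12_6, part_2_4_12_7, part_2_4_12_8, part_2_4_12_9, part_2_4_12_10, part_2_4_12_11]

theorem part_2_4 : dfsN 8 1048576 271120 [5, 6, 7, 8, 9, 10, 11, 12] = true := by
  apply dfsN_step 7 1048576 271120 [5, 6, 7, 8, 9, 10, 11, 12]
  intro v hv
  simp only [List.mem_cons, List.not_mem_nil, or_false] at hv
  rcases hv with rfl | rfl | rfl | rfl | rfl | rfl | rfl | rfl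
  exacts [part_2_4_5, part_2_4_6, part_2_4_7, part_2_4_8, part_2_4_9, part_2_4_10, part_2_4_11, part_2_4_12]

end Cfsg.Agent.Lib.H16.AG
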