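import Cfsg.Agent.Lib.H16.AG.Step

set_option autoImplicit false

/-! Degree 13, images `0, 1, 3, 4, 7` of `0, 1, 2, 3, 4` fixed: every completion that is an
`11`-cycle has a word `(x ^ b * y ^ a) ^ k` which is a `3`-, `5`- or `7`-cycle
(small kernel computations, one per pair of images of `5, 6`). -/

namespace Cfsg.Agent.Lib.H16.AG

set_option maxRecDepth 100000 in
theorem part_4_7_2_5 : dfsN 6 268435456 86459152 [6, 8, 9, 10, 11, 12] = true := by
  decide +kernel

set_option maxRecDepth 100000 in
theorem part_4_7_2_6 : dfsN 6 268435456 103236368 [5, 8, 9, 10, 11, 12] = true := by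
  decide +kernel

set_option maxRecDepth 100000 in
theorem part_4_7_2_8 : dfsN 6 268435456 136790800 [5, 6, 9, 10, 11, 12] = true := by
  decide +kernel

set_option maxRecDepth 100000 in
theorem part_4_7_2_9 : dfsN 6 268435456 153568016 [5, 6, 8, 10, 11, 12] = true := by
  decide +kernel

set_option maxRecDepth 100000 in
theorem part_4_7_2_10 : dfsN 6 268435456 170345232 [5, 6, 8, 9, 11, 12] = true := by
  decide +kernel

set_option maxRecDepth 100000 in
theorem part_4_7_2_11 : dfsN 6 268435456 187122448 [5, 6, 8, 9, 10, 12] = true := by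
  decide +kernel

set_option maxRecDepth 100000 in
theorem part_4_7_2_12 : dfsN 6 268435456 203899664 [5, 6, 8, 9, 10, 11] = true := by
  decide +kernel

theorem part_4_7_2 : dfsN 7 16777216 2573072 [5, 6, 8, 9, 10, 11, 12] = true := by
  apply dfsN_step 6 16777216 2573072 [5, 6, 8, 9, 10, 11, 12]
  intro v hv
  simp only [List.mem_cons, List.not_mem_nil, or_false] at hv
  rcases hv with rfl | rfl | rfl | rfl | rfl | rfl | rfl
  exacts [part_4_7_2_5, part_4_7_2_6, part_4_7_2_8, part_4_7_2_9, part_4_7_2_10, part_4_7_2_11, part_4_7_2_12]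

set_option maxRecDepth 100000 in
theorem part_4_7_5_2 : dfsN 6 268435456 39273232 [6, 8, 9, 10, 11, 12] = true := by
  decide +kernel

set_option maxRecDepth 100000 in
theorem part_4_7_5_6 : dfsN 6 268435456 106382096 [2, 8, 9, 10, 11, 12] = true := by
  decide +kernel

set_option maxRecDepth 100000 in
theorem part_4_7_5_8 : dfsN 6 268435456 139936528 [2, 6, 9, 10, 11, 12] = true := by
  decide +kernel

set_option maxRecDepth 100000 in
theorem part_4_7_5_9 : dfsN 6 268435456 156713744 [2, 6, 8, 10, 11, 12] = true := by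
  decide +kernel

set_option maxRecDepth 100000 in
theorem part_4_7_5_10 : dfsN 6 268435456 173490960 [2, 6, 8, 9, 11, 12] = true := by
  decide +kernel

set_option maxRecDepth 100000 in
theorem part_4_7_5_11 : dfsN 6 268435456 190268176 [2, 6, 8, 9, 10, 12] = true := by
  decide +kernel

set_option maxRecDepth 100000 in
theorem part_4_7_5_12 : dfsN 6 268435456 207045392 [2, 6, 8, 9, 10, 11] = true := by
  decide +kernel

theorem part_4_7_5 : dfsN 7 16777216 5718800 [2, 6, 8, 9, 10, 11, 12] = true := by
  apply dfsN_step 6 16777216 5718800 [2, 6, 8, 9, 10, 11, 12]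
  intro v hv
  simp only [List.mem_cons, List.not_mem_nil, or_false] at hv
  rcases hv with rfl | rfl | rfl | rfl | rfl | rfl | rfl
  exacts [part_4_7_5_2, part_4_7_5_6, part_4_7_5_8, part_4_7_5_9, part_4_7_5_10, part_4_7_5_11, part_4_7_5_12]

set_option maxRecDepth 100000 in
theorem part_4_7_6_2 : dfsN 6 268435456 40321808 [5, 8, 9, 10, 11, 12] = true := by
  decide +kernel

set_option maxRecDepth 100000 in
theorem part_4_7_6_5 : dfsN 6 268435456 90653456 [2, 8, 9, 10, 11, 12] = true := by
  decide +kernel

set_option maxRecDepth 100000 in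
theorem part_4_7_6_8 : dfsN 6 268435456 140985104 [2, 5, 9, 10, 11, 12] = true := by
  decide +kernel

set_option maxRecDepth 100000 in
theorem part_4_7_6_9 : dfsN 6 268435456 157762320 [2, 5, 8, 10, 11, 12] = true := by
  decide +kernel

set_option maxRecDepth 100000 in
theorem part_4_7_6_10 : dfsN 6 268435456 174539536 [2, 5, 8, 9, 11, 12] = true := by
  decide +kernel

set_option maxRecDepth 100000 in
theorem part_4_7_6_11 : dfsN 6 268435456 191316752 [2, 5, 8, 9, 10, 12] = true := by
  decide +kernel

set_option maxRecDepth 100000 in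
theorem part_4_7_6_12 : dfsN 6 268435456 208093968 [2, 5, 8, 9, 10, 11] = true := by
  decide +kernel

theorem part_4_7_6 : dfsN 7 16777216 6767376 [2, 5, 8, 9, 10, 11, 12] = true := by
  apply dfsN_step 6 16777216 6767376 [2, 5, 8, 9, 10, 11, 12]
  intro v hv
  simp only [List.mem_cons, List.not_mem_nil, or_false] at hv
  rcases hv with rfl | rfl | rfl | rfl | rfl | rfl | rfl
  exacts [part_4_7_6_2, part_4_7_6_5, part_4_7_6_8, part_4_7_6_9, part_4_7_6_10, part_4_7_6_11, part_4_7_6_12]

set_option maxRecDepth 100000 in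
theorem part_4_7_8_2 : dfsN 6 268435456 42418960 [5, 6, 9, 10, 11, 12] = true := by
  decide +kernel

set_option maxRecDepth 100000 in
theorem part_4_7_8_5 : dfsN 6 268435456 92750608 [2, 6, 9, 10, 11, 12] = true := by
  decide +kernel

set_option maxRecDepth 100000 in
theorem part_4_7_8_6 : dfsN 6 268435456 109527824 [2, 5, 9, 10, 11, 12] = true := by
  decide +kernel

set_option maxRecDepth 100000 in
theorem part_4_7_8_9 : dfsN 6 268435456 159859472 [2, 5, 6, 10, 11, 12] = true := by
  decide +kernel

set_option maxRecDepth 100000 in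
theorem part_4_7_8_10 : dfsN 6 268435456 176636688 [2, 5, 6, 9, 11, 12] = true := by
  decide +kernel

set_option maxRecDepth 100000 in
theorem part_4_7_8_11 : dfsN 6 268435456 193413904 [2, 5, 6, 9, 10, 12] = true := by
  decide +kernel

set_option maxRecDepth 100000 in
theorem part_4_7_8_12 : dfsN 6 268435456 210191120 [2, 5, 6, 9, 10, 11] = true := by
  decide +kernel

theorem part_4_7_8 : dfsN 7 16777216 8864528 [2, 5, 6, 9, 10, 11, 12] = true := by
  apply dfsN_step 6 16777216 8864528 [2, 5, 6, 9, 10, 11, 12]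
  intro v hv
  simp only [List.mem_cons, List.not_mem_nil, or_false] at hv
  rcases hv with rfl | rfl | rfl | rfl | rfl | rfl | rfl
  exacts [part_4_7_8_2, part_4_7_8_5, part_4_7_8_6, part_4_7_8_9, part_4_7_8_10, part_4_7_8_11, part_4_7_8_12]

set_option maxRecDepth 100000 in
theorem part_4_7_9_2 : dfsN 6 268435456 43467536 [5, 6, 8, 10, 11, 12] = true := by
  decide +kernel

set_option maxRecDepth 100000 in
theorem part_4_7_9_5 : dfsN 6 268435456 93799184 [2, 6, 8, 10, 11, 12] = true := by
  decide +kernel

set_option maxRecDepth 100000 in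
theorem part_4_7_9_6 : dfsN 6 268435456 110576400 [2, 5, 8, 10, 11, 12] = true := by
  decide +kernel

set_option maxRecDepth 100000 in
theorem part_4_7_9_8 : dfsN 6 268435456 144130832 [2, 5, 6, 10, 11, 12] = true := by
  decide +kernel

set_option maxRecDepth 100000 in
theorem part_4_7_9_10 : dfsN 6 268435456 177685264 [2, 5, 6, 8, 11, 12] = true := by
  decide +kernel

set_option maxRecDepth 100000 in
theorem part_4_7_9_11 : dfsN 6 268435456 194462480 [2, 5, 6, 8, 10, 12] = true := by
  decide +kernel

set_option maxRecDepth 100000 in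
theorem part_4_7_9_12 : dfsN 6 268435456 211239696 [2, 5, 6, 8, 10, 11] = true := by
  decide +kernel

theorem part_4_7_9 : dfsN 7 16777216 9913104 [2, 5, 6, 8, 10, 11, 12] = true := by
  apply dfsN_step 6 16777216 9913104 [2, 5, 6, 8, 10, 11, 12]
  intro v hv
  simp only [List.mem_cons, List.not_mem_nil, or_false] at hv
  rcases hv with rfl | rfl | rfl | rfl | rfl | rfl | rfl
  exacts [part_4_7_9_2, part_4_7_9_5, part_4_7_9_6, part_4_7_9_8, part_4_7_9_10, part_4_7_9_11, part_4_7_9_12]

set_option maxRecDepth 100000 in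
theorem part_4_7_10_2 : dfsN 6 268435456 44516112 [5, 6, 8, 9, 11, 12] = true := by
  decide +kernel

set_option maxRecDepth 100000 in
theorem part_4_7_10_5 : dfsN 6 268435456 94847760 [2, 6, 8, 9, 11, 12] = true := by
  decide +kernel

set_option maxRecDepth 100000 in
theorem part_4_7_10_6 : dfsN 6 268435456 111624976 [2, 5, 8, 9, 11, 12] = true := by
  decide +kernel

set_option maxRecDepth 100000 in
theorem part_4_7_10_8 : dfsN 6 268435456 145179408 [2, 5, 6, 9, 11, 12] = true := by
  decide +kernel

set_option maxRecDepth 100000 in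
theorem part_4_7_10_9 : dfsN 6 268435456 161956624 [2, 5, 6, 8, 11, 12] = true := by
  decide +kernel

set_option maxRecDepth 100000 in
theorem part_4_7_10_11 : dfsN 6 268435456 195511056 [2, 5, 6, 8, 9, 12] = true := by
  decide +kernel

set_option maxRecDepth 100000 in
theorem part_4_7_10_12 : dfsN 6 268435456 212288272 [2, 5, 6, 8, 9, 11] = true := by
  decide +kernel

theorem part_4_7_10 : dfsN 7 16777216 10961680 [2, 5, 6, 8, 9, 11, 12] = true := by
  apply dfsN_step 6 16777216 10961680 [2, 5, 6, 8, 9, 11, 12]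
  intro v hv
  simp only [List.mem_cons, List.not_mem_nil, or_false] at hv
  rcases hv with rfl | rfl | rfl | rfl | rfl | rfl | rfl
  exacts [part_4_7_10_2, part_4_7_10_5, part_4_7_10_6, part_4_7_10_8, part_4_7_10_9, part_4_7_10_11, part_4_7_10_12]

set_option maxRecDepth 100000 in
theorem part_4_7_11_2 : dfsN 6 268435456 45564688 [5, 6, 8, 9, 10, 12] = true := by
  decide +kernel

set_option maxRecDepth 100000 in
theorem part_4_7_11_5 : dfsN 6 268435456 95896336 [2, 6, 8, 9, 10, 12] = true := by
  decide +kernel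

set_option maxRecDepth 100000 in
theorem part_4_7_11_6 : dfsN 6 268435456 112673552 [2, 5, 8, 9, 10, 12] = true := by
  decide +kernel

set_option maxRecDepth 100000 in
theorem part_4_7_11_8 : dfsN 6 268435456 146227984 [2, 5, 6, 9, 10, 12] = true := by
  decide +kernel

set_option maxRecDepth 100000 in
theorem part_4_7_11_9 : dfsN 6 268435456 163005200 [2, 5, 6, 8, 10, 12] = true := by
  decide +kernel

set_option maxRecDepth 100000 in
theorem part_4_7_11_10 : dfsN 6 268435456 179782416 [2, 5, 6, 8, 9, 12] = true := by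
  decide +kernel

set_option maxRecDepth 100000 in
theorem part_4_7_11_12 : dfsN 6 268435456 213336848 [2, 5, 6, 8, 9, 10] = true := by
  decide +kernel

theorem part_4_7_11 : dfsN 7 16777216 12010256 [2, 5, 6, 8, 9, 10, 12] = true := by
  apply dfsN_step 6 16777216 12010256 [2, 5, 6, 8, 9, 10, 12]
  intro v hv
  simp only [List.mem_cons, List.not_mem_nil, or_false] at hv
  rcases hv with rfl | rfl | rfl | rfl | rfl | rfl | rfl
  exacts [part_4_7_11_2, part_4_7_11_5, part_4_7_11_6, part_4_7_11_8, part_4_7_11_9, part_4_7_11_10, part_4_7_11_12]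

set_option maxRecDepth 100000 in
theorem part_4_7_12_2 : dfsN 6 268435456 46613264 [5, 6, 8, 9, 10, 11] = true := by
  decide +kernel

set_option maxRecDepth 100000 in
theorem part_4_7_12_5 : dfsN 6 268435456 96944912 [2, 6, 8, 9, 10, 11] = true := by
  decide +kernel

set_option maxRecDepth 100000 in
theorem part_4_7_12_6 : dfsN 6 268435456 113722128 [2, 5, 8, 9, 10, 11] = true := by
  decide +kernel

set_option maxRecDepth 100000 in
theorem part_4_7_12_8 : dfsN 6 268435456 147276560 [2, 5, 6, 9, 10, 11] = true := by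
  decide +kernel

set_option maxRecDepth 100000 in
theorem part_4_7_12_9 : dfsN 6 268435456 164053776 [2, 5, 6, 8, 10, 11] = true := by
  decide +kernel

set_option maxRecDepth 100000 in
theorem part_4_7_12_10 : dfsN 6 268435456 180830992 [2, 5, 6, 8, 9, 11] = true := by
  decide +kernel

set_option maxRecDepth 100000 in
theorem part_4_7_12_11 : dfsN 6 268435456 197608208 [2, 5, 6, 8, 9, 10] = true := by
  decide +kernel

theorem part_4_7_12 : dfsN 7 16777216 13058832 [2, 5, 6, 8, 9, 10, 11] = true := by
  apply dfsN_step 6 16777216 13058832 [2, 5, 6, 8, 9, 10, 11]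
  intro v hv
  simp only [List.mem_cons, List.not_mem_nil, or_false] at hv
  rcases hv with rfl | rfl | rfl | rfl | rfl | rfl | rfl
  exacts [part_4_7_12_2, part_4_7_12_5, part_4_7_12_6, part_4_7_12_8, part_4_7_12_9, part_4_7_12_10, part_4_7_12_11]

theorem part_4_7 : dfsN 8 1048576 475920 [2, 5, 6, 8, 9, 10, 11, 12] = true := by
  apply dfsN_step 7 1048576 475920 [2, 5, 6, 8, 9, 10, 11, 12]
  intro v hv
  simp only [List.mem_cons, List.not_mem_nil, or_false] at hv
  rcases hv with rfl | rfl | rfl | rfl | rfl | rfl | rfl | rfl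
  exacts [part_4_7_2, part_4_7_5, part_4_7_6, part_4_7_8, part_4_7_9, part_4_7_10, part_4_7_11, part_4_7_12]

end Cfsg.Agent.Lib.H16.AG
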