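import Cfsg.Agent.Lib.H16.AG.Step

set_option autoImplicit false

/-! Degree 13, images `0, 1, 3, 5, 11` of `0, 1, 2, 3, 4` fixed: every completion that is an
`11`-cycle has a word `(x ^ b * y ^ a) ^ k` which is a `3`-, `5`- or `7`-cycle
(small kernel computations, one per pair of images of `5, 6`). -/

namespace Cfsg.Agent.Lib.H16.AG

set_option maxRecDepth 100000 in
theorem part_5_11_2_4 : dfsN 6 268435456 69948176 [6, 7, 8, 9, 10, 12] = true := by
  decide +kernel

set_option maxRecDepth 100000 in
theorem part_5_11_2_6 : dfsN 6 268435456 103502608 [4, 7, 8, 9, 10, 12] = true := by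
  decide +kernel

set_option maxRecDepth 100000 in
theorem part_5_11_2_7 : dfsN 6 268435456 120279824 [4, 6, 8, 9, 10, 12] = true := by
  decide +kernel

set_option maxRecDepth 100000 in
theorem part_5_11_2_8 : dfsN 6 268435456 137057040 [4, 6, 7, 9, 10, 12] = true := by
  decide +kernel

set_option maxRecDepth 100000 in
theorem part_5_11_2_9 : dfsN 6 268435456 153834256 [4, 6, 7, 8, 10, 12] = true := by
  decide +kernel

set_option maxRecDepth 100000 in
theorem part_5_11_2_10 : dfsN 6 268435456 170611472 [4, 6, 7, 8, 9, 12] = true := by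
  decide +kernel

set_option maxRecDepth 100000 in
theorem part_5_11_2_12 : dfsN 6 268435456 204165904 [4, 6, 7, 8, 9, 10] = true := by
  decide +kernel

theorem part_5_11_2 : dfsN 7 16777216 2839312 [4, 6, 7, 8, 9, 10, 12] = true := by
  apply dfsN_step 6 16777216 2839312 [4, 6, 7, 8, 9, 10, 12]
  intro v hv
  simp only [List.mem_cons, List.not_mem_nil, or_false] at hv
  rcases hv with rfl | rfl | rfl | rfl | rfl | rfl | rfl
  exacts [part_5_11_2_4, part_5_11_2_6, part_5_11_2_7, part_5_11_2_8, part_5_11_2_9, part_5_11_2_10, part_5_11_2_12]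

set_option maxRecDepth 100000 in
theorem part_5_11_4_2 : dfsN 6 268435456 38490896 [6, 7, 8, 9, 10, 12] = true := by
  decide +kernel

set_option maxRecDepth 100000 in
theorem part_5_11_4_6 : dfsN 6 268435456 105599760 [2, 7, 8, 9, 10, 12] = true := by
  decide +kernel

set_option maxRecDepth 100000 in
theorem part_5_11_4_7 : dfsN 6 268435456 122376976 [2, 6, 8, 9, 10, 12] = true := by
  decide +kernel

set_option maxRecDepth 100000 in
theorem part_5_11_4_8 : dfsN 6 268435456 139154192 [2, 6, 7, 9, 10, 12] = true := by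
  decide +kernel

set_option maxRecDepth 100000 in
theorem part_5_11_4_9 : dfsN 6 268435456 155931408 [2, 6, 7, 8, 10, 12] = true := by
  decide +kernel

set_option maxRecDepth 100000 in
theorem part_5_11_4_10 : dfsN 6 268435456 172708624 [2, 6, 7, 8, 9, 12] = true := by
  decide +kernel

set_option maxRecDepth 100000 in
theorem part_5_11_4_12 : dfsN 6 268435456 206263056 [2, 6, 7, 8, 9, 10] = true := by
  decide +kernel

theorem part_5_11_4 : dfsN 7 16777216 4936464 [2, 6, 7, 8, 9, 10, 12] = true := by
  apply dfsN_step 6 16777216 4936464 [2, 6, 7, 8, 9, 10, 12]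
  intro v hv
  simp only [List.mem_cons, List.not_mem_nil, or_false] at hv
  rcases hv with rfl | rfl | rfl | rfl | rfl | rfl | rfl
  exacts [part_5_11_4_2, part_5_11_4_6, part_5_11_4_7, part_5_11_4_8, part_5_11_4_9, part_5_11_4_10, part_5_11_4_12]

set_option maxRecDepth 100000 in
theorem part_5_11_6_2 : dfsN 6 268435456 40588048 [4, 7, 8, 9, 10, 12] = true := by
  decide +kernel

set_option maxRecDepth 100000 in
theorem part_5_11_6_4 : dfsN 6 268435456 74142480 [2, 7, 8, 9, 10, 12] = true := by
  decide +kernel

set_option maxRecDepth 100000 in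
theorem part_5_11_6_7 : dfsN 6 268435456 124474128 [2, 4, 8, 9, 10, 12] = true := by
  decide +kernel

set_option maxRecDepth 100000 in
theorem part_5_11_6_8 : dfsN 6 268435456 141251344 [2, 4, 7, 9, 10, 12] = true := by
  decide +kernel

set_option maxRecDepth 100000 in
theorem part_5_11_6_9 : dfsN 6 268435456 158028560 [2, 4, 7, 8, 10, 12] = true := by
  decide +kernel

set_option maxRecDepth 100000 in
theorem part_5_11_6_10 : dfsN 6 268435456 174805776 [2, 4, 7, 8, 9, 12] = true := by
  decide +kernel

set_option maxRecDepth 100000 in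
theorem part_5_11_6_12 : dfsN 6 268435456 208360208 [2, 4, 7, 8, 9, 10] = true := by
  decide +kernel

theorem part_5_11_6 : dfsN 7 16777216 7033616 [2, 4, 7, 8, 9, 10, 12] = true := by
  apply dfsN_step 6 16777216 7033616 [2, 4, 7, 8, 9, 10, 12]
  intro v hv
  simp only [List.mem_cons, List.not_mem_nil, or_false] at hv
  rcases hv with rfl | rfl | rfl | rfl | rfl | rfl | rfl
  exacts [part_5_11_6_2, part_5_11_6_4, part_5_11_6_7, part_5_11_6_8, part_5_11_6_9, part_5_11_6_10, part_5_11_6_12]

set_option maxRecDepth 100000 in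
theorem part_5_11_7_2 : dfsN 6 268435456 41636624 [4, 6, 8, 9, 10, 12] = true := by
  decide +kernel

set_option maxRecDepth 100000 in
theorem part_5_11_7_4 : dfsN 6 268435456 75191056 [2, 6, 8, 9, 10, 12] = true := by
  decide +kernel

set_option maxRecDepth 100000 in
theorem part_5_11_7_6 : dfsN 6 268435456 108745488 [2, 4, 8, 9, 10, 12] = true := by
  decide +kernel

set_option maxRecDepth 100000 in
theorem part_5_11_7_8 : dfsN 6 268435456 142299920 [2, 4, 6, 9, 10, 12] = true := by
  decide +kernel

set_option maxRecDepth 100000 in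
theorem part_5_11_7_9 : dfsN 6 268435456 159077136 [2, 4, 6, 8, 10, 12] = true := by
  decide +kernel

set_option maxRecDepth 100000 in
theorem part_5_11_7_10 : dfsN 6 268435456 175854352 [2, 4, 6, 8, 9, 12] = true := by
  decide +kernel

set_option maxRecDepth 100000 in
theorem part_5_11_7_12 : dfsN 6 268435456 209408784 [2, 4, 6, 8, 9, 10] = true := by
  decide +kernel

theorem part_5_11_7 : dfsN 7 16777216 8082192 [2, 4, 6, 8, 9, 10, 12] = true := by
  apply dfsN_step 6 16777216 8082192 [2, 4, 6, 8, 9, 10, 12]
  intro v hv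
  simp only [List.mem_cons, List.not_mem_nil, or_false] at hv
  rcases hv with rfl | rfl | rfl | rfl | rfl | rfl | rfl
  exacts [part_5_11_7_2, part_5_11_7_4, part_5_11_7_6, part_5_11_7_8, part_5_11_7_9, part_5_11_7_10, part_5_11_7_12]

set_option maxRecDepth 100000 in
theorem part_5_11_8_2 : dfsN 6 268435456 42685200 [4, 6, 7, 9, 10, 12] = true := by
  decide +kernel

set_option maxRecDepth 100000 in
theorem part_5_11_8_4 : dfsN 6 268435456 76239632 [2, 6, 7, 9, 10, 12] = true := by
  decide +kernel

set_option maxRecDepth 100000 in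
theorem part_5_11_8_6 : dfsN 6 268435456 109794064 [2, 4, 7, 9, 10, 12] = true := by
  decide +kernel

set_option maxRecDepth 100000 in
theorem part_5_11_8_7 : dfsN 6 268435456 126571280 [2, 4, 6, 9, 10, 12] = true := by
  decide +kernel

set_option maxRecDepth 100000 in
theorem part_5_11_8_9 : dfsN 6 268435456 160125712 [2, 4, 6, 7, 10, 12] = true := by
  decide +kernel

set_option maxRecDepth 100000 in
theorem part_5_11_8_10 : dfsN 6 268435456 176902928 [2, 4, 6, 7, 9, 12] = true := by
  decide +kernel

set_option maxRecDepth 100000 in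
theorem part_5_11_8_12 : dfsN 6 268435456 210457360 [2, 4, 6, 7, 9, 10] = true := by
  decide +kernel

theorem part_5_11_8 : dfsN 7 16777216 9130768 [2, 4, 6, 7, 9, 10, 12] = true := by
  apply dfsN_step 6 16777216 9130768 [2, 4, 6, 7, 9, 10, 12]
  intro v hv
  simp only [List.mem_cons, List.not_mem_nil, or_false] at hv
  rcases hv with rfl | rfl | rfl | rfl | rfl | rfl | rfl
  exacts [part_5_11_8_2, part_5_11_8_4, part_5_11_8_6, part_5_11_8_7, part_5_11_8_9, part_5_11_8_10, part_5_11_8_12]

set_option maxRecDepth 100000 in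
theorem part_5_11_9_2 : dfsN 6 268435456 43733776 [4, 6, 7, 8, 10, 12] = true := by
  decide +kernel

set_option maxRecDepth 100000 in
theorem part_5_11_9_4 : dfsN 6 268435456 77288208 [2, 6, 7, 8, 10, 12] = true := by
  decide +kernel

set_option maxRecDepth 100000 in
theorem part_5_11_9_6 : dfsN 6 268435456 110842640 [2, 4, 7, 8, 10, 12] = true := by
  decide +kernel

set_option maxRecDepth 100000 in
theorem part_5_11_9_7 : dfsN 6 268435456 127619856 [2, 4, 6, 8, 10, 12] = true := by
  decide +kernel

set_option maxRecDepth 100000 in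
theorem part_5_11_9_8 : dfsN 6 268435456 144397072 [2, 4, 6, 7, 10, 12] = true := by
  decide +kernel

set_option maxRecDepth 100000 in
theorem part_5_11_9_10 : dfsN 6 268435456 177951504 [2, 4, 6, 7, 8, 12] = true := by
  decide +kernel

set_option maxRecDepth 100000 in
theorem part_5_11_9_12 : dfsN 6 268435456 211505936 [2, 4, 6, 7, 8, 10] = true := by
  decide +kernel

theorem part_5_11_9 : dfsN 7 16777216 10179344 [2, 4, 6, 7, 8, 10, 12] = true := by
  apply dfsN_step 6 16777216 10179344 [2, 4, 6, 7, 8, 10, 12]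
  intro v hv
  simp only [List.mem_cons, List.not_mem_nil, or_false] at hv
  rcases hv with rfl | rfl | rfl | rfl | rfl | rfl | rfl
  exacts [part_5_11_9_2, part_5_11_9_4, part_5_11_9_6, part_5_11_9_7, part_5_11_9_8, part_5_11_9_10, part_5_11_9_12]

set_option maxRecDepth 100000 in
theorem part_5_11_10_2 : dfsN 6 268435456 44782352 [4, 6, 7, 8, 9, 12] = true := by
  decide +kernel

set_option maxRecDepth 100000 in
theorem part_5_11_10_4 : dfsN 6 268435456 78336784 [2, 6, 7, 8, 9, 12] = true := by
  decide +kernel

set_option maxRecDepth 100000 in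
theorem part_5_11_10_6 : dfsN 6 268435456 111891216 [2, 4, 7, 8, 9, 12] = true := by
  decide +kernel

set_option maxRecDepth 100000 in
theorem part_5_11_10_7 : dfsN 6 268435456 128668432 [2, 4, 6, 8, 9, 12] = true := by
  decide +kernel

set_option maxRecDepth 100000 in
theorem part_5_11_10_8 : dfsN 6 268435456 145445648 [2, 4, 6, 7, 9, 12] = true := by
  decide +kernel

set_option maxRecDepth 100000 in
theorem part_5_11_10_9 : dfsN 6 268435456 162222864 [2, 4, 6, 7, 8, 12] = true := by
  decide +kernel

set_option maxRecDepth 100000 in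
theorem part_5_11_10_12 : dfsN 6 268435456 212554512 [2, 4, 6, 7, 8, 9] = true := by
  decide +kernel

theorem part_5_11_10 : dfsN 7 16777216 11227920 [2, 4, 6, 7, 8, 9, 12] = true := by
  apply dfsN_step 6 16777216 11227920 [2, 4, 6, 7, 8, 9, 12]
  intro v hv
  simp only [List.mem_cons, List.not_mem_nil, or_false] at hv
  rcases hv with rfl | rfl | rfl | rfl | rfl | rfl | rfl
  exacts [part_5_11_10_2, part_5_11_10_4, part_5_11_10_6, part_5_11_10_7, part_5_11_10_8, part_5_11_10_9, part_5_11_10_12]

set_option maxRecDepth 100000 in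
theorem part_5_11_12_2 : dfsN 6 268435456 46879504 [4, 6, 7, 8, 9, 10] = true := by
  decide +kernel

set_option maxRecDepth 100000 in
theorem part_5_11_12_4 : dfsN 6 268435456 80433936 [2, 6, 7, 8, 9, 10] = true := by
  decide +kernel

set_option maxRecDepth 100000 in
theorem part_5_11_12_6 : dfsN 6 268435456 113988368 [2, 4, 7, 8, 9, 10] = true := by
  decide +kernel

set_option maxRecDepth 100000 in
theorem part_5_11_12_7 : dfsN 6 268435456 130765584 [2, 4, 6, 8, 9, 10] = true := by
  decide +kernel

set_option maxRecDepth 100000 in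
theorem part_5_11_12_8 : dfsN 6 268435456 147542800 [2, 4, 6, 7, 9, 10] = true := by
  decide +kernel

set_option maxRecDepth 100000 in
theorem part_5_11_12_9 : dfsN 6 268435456 164320016 [2, 4, 6, 7, 8, 10] = true := by
  decide +kernel

set_option maxRecDepth 100000 in
theorem part_5_11_12_10 : dfsN 6 268435456 181097232 [2, 4, 6, 7, 8, 9] = true := by
  decide +kernel

theorem part_5_11_12 : dfsN 7 16777216 13325072 [2, 4, 6, 7, 8, 9, 10] = true := by
  apply dfsN_step 6 16777216 13325072 [2, 4, 6, 7, 8, 9, 10]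
  intro v hv
  simp only [List.mem_cons, List.not_mem_nil, or_false] at hv
  rcases hv with rfl | rfl | rfl | rfl | rfl | rfl | rfl
  exacts [part_5_11_12_2, part_5_11_12_4, part_5_11_12_6, part_5_11_12_7, part_5_11_12_8, part_5_11_12_9, part_5_11_12_10]

theorem part_5_11 : dfsN 8 1048576 742160 [2, 4, 6, 7, 8, 9, 10, 12] = true := by
  apply dfsN_step 7 1048576 742160 [2, 4, 6, 7, 8, 9, 10, 12]
  intro v hv
  simp only [List.mem_cons, List.not_mem_nil, or_false] at hv
  rcases hv with rfl | rfl | rfl | rfl | rfl | rfl | rfl | rfl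
  exacts [part_5_11_2, part_5_11_4, part_5_11_6, part_5_11_7, part_5_11_8, part_5_11_9, part_5_11_10, part_5_11_12]

end Cfsg.Agent.Lib.H16.AG
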