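import Cfsg.Agent.Lib.H16.AG.Step

set_option autoImplicit false

/-! Degree 13, images `0, 1, 3, 7, 5` of `0, 1, 2, 3, 4` fixed: every completion that is an
`11`-cycle has a word `(x ^ b * y ^ a) ^ k` which is a `3`-, `5`- or `7`-cycle
(small kernel computations, one per pair of images of `5, 6`). -/

namespace Cfsg.Agent.Lib.H16.AG

set_option maxRecDepth 100000 in
theorem part_7_5_2_4 : dfsN 6 268435456 69563152 [6, 8, 9, 10, 11, 12] = true := by
  decide +kernel

set_option maxRecDepth 100000 in
theorem part_7_5_2_6 : dfsN 6 268435456 103117584 [4, 8, 9, 10, 11, 12] = true := by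
  decide +kernel

set_option maxRecDepth 100000 in
theorem part_7_5_2_8 : dfsN 6 268435456 136672016 [4, 6, 9, 10, 11, 12] = true := by
  decide +kernel

set_option maxRecDepth 100000 in
theorem part_7_5_2_9 : dfsN 6 268435456 153449232 [4, 6, 8, 10, 11, 12] = true := by
  decide +kernel

set_option maxRecDepth 100000 in
theorem part_7_5_2_10 : dfsN 6 268435456 170226448 [4, 6, 8, 9, 11, 12] = true := by
  decide +kernel

set_option maxRecDepth 100000 in
theorem part_7_5_2_11 : dfsN 6 268435456 187003664 [4, 6, 8, 9, 10, 12] = true := by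
  decide +kernel

set_option maxRecDepth 100000 in
theorem part_7_5_2_12 : dfsN 6 268435456 203780880 [4, 6, 8, 9, 10, 11] = true := by
  decide +kernel

theorem part_7_5_2 : dfsN 7 16777216 2454288 [4, 6, 8, 9, 10, 11, 12] = true := by
  apply dfsN_step 6 16777216 2454288 [4, 6, 8, 9, 10, 11, 12]
  intro v hv
  simp only [List.mem_cons, List.not_mem_nil, or_false] at hv
  rcases hv with rfl | rfl | rfl | rfl | rfl | rfl | rfl
  exacts [part_7_5_2_4, part_7_5_2_6, part_7_5_2_8, part_7_5_2_9, part_7_5_2_10, part_7_5_2_11, part_7_5_2_12]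

set_option maxRecDepth 100000 in
theorem part_7_5_4_2 : dfsN 6 268435456 38105872 [6, 8, 9, 10, 11, 12] = true := by
  decide +kernel

set_option maxRecDepth 100000 in
theorem part_7_5_4_6 : dfsN 6 268435456 105214736 [2, 8, 9, 10, 11, 12] = true := by
  decide +kernel

set_option maxRecDepth 100000 in
theorem part_7_5_4_8 : dfsN 6 268435456 138769168 [2, 6, 9, 10, 11, 12] = true := by
  decide +kernel

set_option maxRecDepth 100000 in
theorem part_7_5_4_9 : dfsN 6 268435456 155546384 [2, 6, 8, 10, 11, 12] = true := by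
  decide +kernel

set_option maxRecDepth 100000 in
theorem part_7_5_4_10 : dfsN 6 268435456 172323600 [2, 6, 8, 9, 11, 12] = true := by
  decide +kernel

set_option maxRecDepth 100000 in
theorem part_7_5_4_11 : dfsN 6 268435456 189100816 [2, 6, 8, 9, 10, 12] = true := by
  decide +kernel

set_option maxRecDepth 100000 in
theorem part_7_5_4_12 : dfsN 6 268435456 205878032 [2, 6, 8, 9, 10, 11] = true := by
  decide +kernel

theorem part_7_5_4 : dfsN 7 16777216 4551440 [2, 6, 8, 9, 10, 11, 12] = true := by
  apply dfsN_step 6 16777216 4551440 [2, 6, 8, 9, 10, 11, 12]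
  intro v hv
  simp only [List.mem_cons, List.not_mem_nil, or_false] at hv
  rcases hv with rfl | rfl | rfl | rfl | rfl | rfl | rfl
  exacts [part_7_5_4_2, part_7_5_4_6, part_7_5_4_8, part_7_5_4_9, part_7_5_4_10, part_7_5_4_11, part_7_5_4_12]

set_option maxRecDepth 100000 in
theorem part_7_5_6_2 : dfsN 6 268435456 40203024 [4, 8, 9, 10, 11, 12] = true := by
  decide +kernel

set_option maxRecDepth 100000 in
theorem part_7_5_6_4 : dfsN 6 268435456 73757456 [2, 8, 9, 10, 11, 12] = true := by
  decide +kernel

set_option maxRecDepth 100000 in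
theorem part_7_5_6_8 : dfsN 6 268435456 140866320 [2, 4, 9, 10, 11, 12] = true := by
  decide +kernel

set_option maxRecDepth 100000 in
theorem part_7_5_6_9 : dfsN 6 268435456 157643536 [2, 4, 8, 10, 11, 12] = true := by
  decide +kernel

set_option maxRecDepth 100000 in
theorem part_7_5_6_10 : dfsN 6 268435456 174420752 [2, 4, 8, 9, 11, 12] = true := by
  decide +kernel

set_option maxRecDepth 100000 in
theorem part_7_5_6_11 : dfsN 6 268435456 191197968 [2, 4, 8, 9, 10, 12] = true := by
  decide +kernel

set_option maxRecDepth 100000 in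
theorem part_7_5_6_12 : dfsN 6 268435456 207975184 [2, 4, 8, 9, 10, 11] = true := by
  decide +kernel

theorem part_7_5_6 : dfsN 7 16777216 6648592 [2, 4, 8, 9, 10, 11, 12] = true := by
  apply dfsN_step 6 16777216 6648592 [2, 4, 8, 9, 10, 11, 12]
  intro v hv
  simp only [List.mem_cons, List.not_mem_nil, or_false] at hv
  rcases hv with rfl | rfl | rfl | rfl | rfl | rfl | rfl
  exacts [part_7_5_6_2, part_7_5_6_4, part_7_5_6_8, part_7_5_6_9, part_7_5_6_10, part_7_5_6_11, part_7_5_6_12]

set_option maxRecDepth 100000 in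
theorem part_7_5_8_2 : dfsN 6 268435456 42300176 [4, 6, 9, 10, 11, 12] = true := by
  decide +kernel

set_option maxRecDepth 100000 in
theorem part_7_5_8_4 : dfsN 6 268435456 75854608 [2, 6, 9, 10, 11, 12] = true := by
  decide +kernel

set_option maxRecDepth 100000 in
theorem part_7_5_8_6 : dfsN 6 268435456 109409040 [2, 4, 9, 10, 11, 12] = true := by
  decide +kernel

set_option maxRecDepth 100000 in
theorem part_7_5_8_9 : dfsN 6 268435456 159740688 [2, 4, 6, 10, 11, 12] = true := by
  decide +kernel

set_option maxRecDepth 100000 in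
theorem part_7_5_8_10 : dfsN 6 268435456 176517904 [2, 4, 6, 9, 11, 12] = true := by
  decide +kernel

set_option maxRecDepth 100000 in
theorem part_7_5_8_11 : dfsN 6 268435456 193295120 [2, 4, 6, 9, 10, 12] = true := by
  decide +kernel

set_option maxRecDepth 100000 in
theorem part_7_5_8_12 : dfsN 6 268435456 210072336 [2, 4, 6, 9, 10, 11] = true := by
  decide +kernel

theorem part_7_5_8 : dfsN 7 16777216 8745744 [2, 4, 6, 9, 10, 11, 12] = true := by
  apply dfsN_step 6 16777216 8745744 [2, 4, 6, 9, 10, 11, 12]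
  intro v hv
  simp only [List.mem_cons, List.not_mem_nil, or_false] at hv
  rcases hv with rfl | rfl | rfl | rfl | rfl | rfl | rfl
  exacts [part_7_5_8_2, part_7_5_8_4, part_7_5_8_6, part_7_5_8_9, part_7_5_8_10, part_7_5_8_11, part_7_5_8_12]

set_option maxRecDepth 100000 in
theorem part_7_5_9_2 : dfsN 6 268435456 43348752 [4, 6, 8, 10, 11, 12] = true := by
  decide +kernel

set_option maxRecDepth 100000 in
theorem part_7_5_9_4 : dfsN 6 268435456 76903184 [2, 6, 8, 10, 11, 12] = true := by
  decide +kernel

set_option maxRecDepth 100000 in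
theorem part_7_5_9_6 : dfsN 6 268435456 110457616 [2, 4, 8, 10, 11, 12] = true := by
  decide +kernel

set_option maxRecDepth 100000 in
theorem part_7_5_9_8 : dfsN 6 268435456 144012048 [2, 4, 6, 10, 11, 12] = true := by
  decide +kernel

set_option maxRecDepth 100000 in
theorem part_7_5_9_10 : dfsN 6 268435456 177566480 [2, 4, 6, 8, 11, 12] = true := by
  decide +kernel

set_option maxRecDepth 100000 in
theorem part_7_5_9_11 : dfsN 6 268435456 194343696 [2, 4, 6, 8, 10, 12] = true := by
  decide +kernel

set_option maxRecDepth 100000 in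
theorem part_7_5_9_12 : dfsN 6 268435456 211120912 [2, 4, 6, 8, 10, 11] = true := by
  decide +kernel

theorem part_7_5_9 : dfsN 7 16777216 9794320 [2, 4, 6, 8, 10, 11, 12] = true := by
  apply dfsN_step 6 16777216 9794320 [2, 4, 6, 8, 10, 11, 12]
  intro v hv
  simp only [List.mem_cons, List.not_mem_nil, or_false] at hv
  rcases hv with rfl | rfl | rfl | rfl | rfl | rfl | rfl
  exacts [part_7_5_9_2, part_7_5_9_4, part_7_5_9_6, part_7_5_9_8, part_7_5_9_10, part_7_5_9_11, part_7_5_9_12]

set_option maxRecDepth 100000 in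
theorem part_7_5_10_2 : dfsN 6 268435456 44397328 [4, 6, 8, 9, 11, 12] = true := by
  decide +kernel

set_option maxRecDepth 100000 in
theorem part_7_5_10_4 : dfsN 6 268435456 77951760 [2, 6, 8, 9, 11, 12] = true := by
  decide +kernel

set_option maxRecDepth 100000 in
theorem part_7_5_10_6 : dfsN 6 268435456 111506192 [2, 4, 8, 9, 11, 12] = true := by
  decide +kernel

set_option maxRecDepth 100000 in
theorem part_7_5_10_8 : dfsN 6 268435456 145060624 [2, 4, 6, 9, 11, 12] = true := by
  decide +kernel

set_option maxRecDepth 100000 in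
theorem part_7_5_10_9 : dfsN 6 268435456 161837840 [2, 4, 6, 8, 11, 12] = true := by
  decide +kernel

set_option maxRecDepth 100000 in
theorem part_7_5_10_11 : dfsN 6 268435456 195392272 [2, 4, 6, 8, 9, 12] = true := by
  decide +kernel

set_option maxRecDepth 100000 in
theorem part_7_5_10_12 : dfsN 6 268435456 212169488 [2, 4, 6, 8, 9, 11] = true := by
  decide +kernel

theorem part_7_5_10 : dfsN 7 16777216 10842896 [2, 4, 6, 8, 9, 11, 12] = true := by
  apply dfsN_step 6 16777216 10842896 [2, 4, 6, 8, 9, 11, 12]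
  intro v hv
  simp only [List.mem_cons, List.not_mem_nil, or_false] at hv
  rcases hv with rfl | rfl | rfl | rfl | rfl | rfl | rfl
  exacts [part_7_5_10_2, part_7_5_10_4, part_7_5_10_6, part_7_5_10_8, part_7_5_10_9, part_7_5_10_11, part_7_5_10_12]

set_option maxRecDepth 100000 in
theorem part_7_5_11_2 : dfsN 6 268435456 45445904 [4, 6, 8, 9, 10, 12] = true := by
  decide +kernel

set_option maxRecDepth 100000 in
theorem part_7_5_11_4 : dfsN 6 268435456 79000336 [2, 6, 8, 9, 10, 12] = true := by
  decide +kernel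

set_option maxRecDepth 100000 in
theorem part_7_5_11_6 : dfsN 6 268435456 112554768 [2, 4, 8, 9, 10, 12] = true := by
  decide +kernel

set_option maxRecDepth 100000 in
theorem part_7_5_11_8 : dfsN 6 268435456 146109200 [2, 4, 6, 9, 10, 12] = true := by
  decide +kernel

set_option maxRecDepth 100000 in
theorem part_7_5_11_9 : dfsN 6 268435456 162886416 [2, 4, 6, 8, 10, 12] = true := by
  decide +kernel

set_option maxRecDepth 100000 in
theorem part_7_5_11_10 : dfsN 6 268435456 179663632 [2, 4, 6, 8, 9, 12] = true := by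
  decide +kernel

set_option maxRecDepth 100000 in
theorem part_7_5_11_12 : dfsN 6 268435456 213218064 [2, 4, 6, 8, 9, 10] = true := by
  decide +kernel

theorem part_7_5_11 : dfsN 7 16777216 11891472 [2, 4, 6, 8, 9, 10, 12] = true := by
  apply dfsN_step 6 16777216 11891472 [2, 4, 6, 8, 9, 10, 12]
  intro v hv
  simp only [List.mem_cons, List.not_mem_nil, or_false] at hv
  rcases hv with rfl | rfl | rfl | rfl | rfl | rfl | rfl
  exacts [part_7_5_11_2, part_7_5_11_4, part_7_5_11_6, part_7_5_11_8, part_7_5_11_9, part_7_5_11_10, part_7_5_11_12]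

set_option maxRecDepth 100000 in
theorem part_7_5_12_2 : dfsN 6 268435456 46494480 [4, 6, 8, 9, 10, 11] = true := by
  decide +kernel

set_option maxRecDepth 100000 in
theorem part_7_5_12_4 : dfsN 6 268435456 80048912 [2, 6, 8, 9, 10, 11] = true := by
  decide +kernel

set_option maxRecDepth 100000 in
theorem part_7_5_12_6 : dfsN 6 268435456 113603344 [2, 4, 8, 9, 10, 11] = true := by
  decide +kernel

set_option maxRecDepth 100000 in
theorem part_7_5_12_8 : dfsN 6 268435456 147157776 [2, 4, 6, 9, 10, 11] = true := by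
  decide +kernel

set_option maxRecDepth 100000 in
theorem part_7_5_12_9 : dfsN 6 268435456 163934992 [2, 4, 6, 8, 10, 11] = true := by
  decide +kernel

set_option maxRecDepth 100000 in
theorem part_7_5_12_10 : dfsN 6 268435456 180712208 [2, 4, 6, 8, 9, 11] = true := by
  decide +kernel

set_option maxRecDepth 100000 in
theorem part_7_5_12_11 : dfsN 6 268435456 197489424 [2, 4, 6, 8, 9, 10] = true := by
  decide +kernel

theorem part_7_5_12 : dfsN 7 16777216 12940048 [2, 4, 6, 8, 9, 10, 11] = true := by
  apply dfsN_step 6 16777216 12940048 [2, 4, 6, 8, 9, 10, 11]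
  intro v hv
  simp only [List.mem_cons, List.not_mem_nil, or_false] at hv
  rcases hv with rfl | rfl | rfl | rfl | rfl | rfl | rfl
  exacts [part_7_5_12_2, part_7_5_12_4, part_7_5_12_6, part_7_5_12_8, part_7_5_12_9, part_7_5_12_10, part_7_5_12_11]

theorem part_7_5 : dfsN 8 1048576 357136 [2, 4, 6, 8, 9, 10, 11, 12] = true := by
  apply dfsN_step 7 1048576 357136 [2, 4, 6, 8, 9, 10, 11, 12]
  intro v hv
  simp only [List.mem_cons, List.not_mem_nil, or_false] at hv
  rcases hv with rfl | rfl | rfl | rfl | rfl | rfl | rfl | rfl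
  exacts [part_7_5_2, part_7_5_4, part_7_5_6, part_7_5_8, part_7_5_9, part_7_5_10, part_7_5_11, part_7_5_12]

end Cfsg.Agent.Lib.H16.AG
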