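import Cfsg.Agent.Lib.H16.AG.Step

set_option autoImplicit false

/-! Degree 13, images `0, 1, 3, 8, 10` of `0, 1, 2, 3, 4` fixed: every completion that is an
`11`-cycle has a word `(x ^ b * y ^ a) ^ k` which is a `3`-, `5`- or `7`-cycle
(small kernel computations, one per pair of images of `5, 6`). -/

namespace Cfsg.Agent.Lib.H16.AG

set_option maxRecDepth 100000 in
theorem part_8_10_2_4 : dfsN 6 268435456 69894928 [5, 6, 7, 9, 11, 12] = true := by
  decide +kernel

set_option maxRecDepth 100000 in
theorem part_8_10_2_5 : dfsN 6 268435456 86672144 [4, 6, 7, 9, 11, 12] = true := by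
  decide +kernel

set_option maxRecDepth 100000 in
theorem part_8_10_2_6 : dfsN 6 268435456 103449360 [4, 5, 7, 9, 11, 12] = true := by
  decide +kernel

set_option maxRecDepth 100000 in
theorem part_8_10_2_7 : dfsN 6 268435456 120226576 [4, 5, 6, 9, 11, 12] = true := by
  decide +kernel

set_option maxRecDepth 100000 in
theorem part_8_10_2_9 : dfsN 6 268435456 153781008 [4, 5, 6, 7, 11, 12] = true := by
  decide +kernel

set_option maxRecDepth 100000 in
theorem part_8_10_2_11 : dfsN 6 268435456 187335440 [4, 5, 6, 7, 9, 12] = true := by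
  decide +kernel

set_option maxRecDepth 100000 in
theorem part_8_10_2_12 : dfsN 6 268435456 204112656 [4, 5, 6, 7, 9, 11] = true := by
  decide +kernel

theorem part_8_10_2 : dfsN 7 16777216 2786064 [4, 5, 6, 7, 9, 11, 12] = true := by
  apply dfsN_step 6 16777216 2786064 [4, 5, 6, 7, 9, 11, 12]
  intro v hv
  simp only [List.mem_cons, List.not_mem_nil, or_false] at hv
  rcases hv with rfl | rfl | rfl | rfl | rfl | rfl | rfl
  exacts [part_8_10_2_4, part_8_10_2_5, part_8_10_2_6, part_8_10_2_7, part_8_10_2_9, part_8_10_2_11, part_8_10_2_12]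

set_option maxRecDepth 100000 in
theorem part_8_10_4_2 : dfsN 6 268435456 38437648 [5, 6, 7, 9, 11, 12] = true := by
  decide +kernel

set_option maxRecDepth 100000 in
theorem part_8_10_4_5 : dfsN 6 268435456 88769296 [2, 6, 7, 9, 11, 12] = true := by
  decide +kernel

set_option maxRecDepth 100000 in
theorem part_8_10_4_6 : dfsN 6 268435456 105546512 [2, 5, 7, 9, 11, 12] = true := by
  decide +kernel

set_option maxRecDepth 100000 in
theorem part_8_10_4_7 : dfsN 6 268435456 122323728 [2, 5, 6, 9, 11, 12] = true := by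
  decide +kernel

set_option maxRecDepth 100000 in
theorem part_8_10_4_9 : dfsN 6 268435456 155878160 [2, 5, 6, 7, 11, 12] = true := by
  decide +kernel

set_option maxRecDepth 100000 in
theorem part_8_10_4_11 : dfsN 6 268435456 189432592 [2, 5, 6, 7, 9, 12] = true := by
  decide +kernel

set_option maxRecDepth 100000 in
theorem part_8_10_4_12 : dfsN 6 268435456 206209808 [2, 5, 6, 7, 9, 11] = true := by
  decide +kernel

theorem part_8_10_4 : dfsN 7 16777216 4883216 [2, 5, 6, 7, 9, 11, 12] = true := by
  apply dfsN_step 6 16777216 4883216 [2, 5, 6, 7, 9, 11, 12]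
  intro v hv
  simp only [List.mem_cons, List.not_mem_nil, or_false] at hv
  rcases hv with rfl | rfl | rfl | rfl | rfl | rfl | rfl
  exacts [part_8_10_4_2, part_8_10_4_5, part_8_10_4_6, part_8_10_4_7, part_8_10_4_9, part_8_10_4_11, part_8_10_4_12]

set_option maxRecDepth 100000 in
theorem part_8_10_5_2 : dfsN 6 268435456 39486224 [4, 6, 7, 9, 11, 12] = true := by
  decide +kernel

set_option maxRecDepth 100000 in
theorem part_8_10_5_4 : dfsN 6 268435456 73040656 [2, 6, 7, 9, 11, 12] = true := by
  decide +kernel

set_option maxRecDepth 100000 in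
theorem part_8_10_5_6 : dfsN 6 268435456 106595088 [2, 4, 7, 9, 11, 12] = true := by
  decide +kernel

set_option maxRecDepth 100000 in
theorem part_8_10_5_7 : dfsN 6 268435456 123372304 [2, 4, 6, 9, 11, 12] = true := by
  decide +kernel

set_option maxRecDepth 100000 in
theorem part_8_10_5_9 : dfsN 6 268435456 156926736 [2, 4, 6, 7, 11, 12] = true := by
  decide +kernel

set_option maxRecDepth 100000 in
theorem part_8_10_5_11 : dfsN 6 268435456 190481168 [2, 4, 6, 7, 9, 12] = true := by
  decide +kernel

set_option maxRecDepth 100000 in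
theorem part_8_10_5_12 : dfsN 6 268435456 207258384 [2, 4, 6, 7, 9, 11] = true := by
  decide +kernel

theorem part_8_10_5 : dfsN 7 16777216 5931792 [2, 4, 6, 7, 9, 11, 12] = true := by
  apply dfsN_step 6 16777216 5931792 [2, 4, 6, 7, 9, 11, 12]
  intro v hv
  simp only [List.mem_cons, List.not_mem_nil, or_false] at hv
  rcases hv with rfl | rfl | rfl | rfl | rfl | rfl | rfl
  exacts [part_8_10_5_2, part_8_10_5_4, part_8_10_5_6, part_8_10_5_7, part_8_10_5_9, part_8_10_5_11, part_8_10_5_12]

set_option maxRecDepth 100000 in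
theorem part_8_10_6_2 : dfsN 6 268435456 40534800 [4, 5, 7, 9, 11, 12] = true := by
  decide +kernel

set_option maxRecDepth 100000 in
theorem part_8_10_6_4 : dfsN 6 268435456 74089232 [2, 5, 7, 9, 11, 12] = true := by
  decide +kernel

set_option maxRecDepth 100000 in
theorem part_8_10_6_5 : dfsN 6 268435456 90866448 [2, 4, 7, 9, 11, 12] = true := by
  decide +kernel

set_option maxRecDepth 100000 in
theorem part_8_10_6_7 : dfsN 6 268435456 124420880 [2, 4, 5, 9, 11, 12] = true := by
  decide +kernel

set_option maxRecDepth 100000 in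
theorem part_8_10_6_9 : dfsN 6 268435456 157975312 [2, 4, 5, 7, 11, 12] = true := by
  decide +kernel

set_option maxRecDepth 100000 in
theorem part_8_10_6_11 : dfsN 6 268435456 191529744 [2, 4, 5, 7, 9, 12] = true := by
  decide +kernel

set_option maxRecDepth 100000 in
theorem part_8_10_6_12 : dfsN 6 268435456 208306960 [2, 4, 5, 7, 9, 11] = true := by
  decide +kernel

theorem part_8_10_6 : dfsN 7 16777216 6980368 [2, 4, 5, 7, 9, 11, 12] = true := by
  apply dfsN_step 6 16777216 6980368 [2, 4, 5, 7, 9, 11, 12]
  intro v hv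
  simp only [List.mem_cons, List.not_mem_nil, or_false] at hv
  rcases hv with rfl | rfl | rfl | rfl | rfl | rfl | rfl
  exacts [part_8_10_6_2, part_8_10_6_4, part_8_10_6_5, part_8_10_6_7, part_8_10_6_9, part_8_10_6_11, part_8_10_6_12]

set_option maxRecDepth 100000 in
theorem part_8_10_7_2 : dfsN 6 268435456 41583376 [4, 5, 6, 9, 11, 12] = true := by
  decide +kernel

set_option maxRecDepth 100000 in
theorem part_8_10_7_4 : dfsN 6 268435456 75137808 [2, 5, 6, 9, 11, 12] = true := by
  decide +kernel

set_option maxRecDepth 100000 in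
theorem part_8_10_7_5 : dfsN 6 268435456 91915024 [2, 4, 6, 9, 11, 12] = true := by
  decide +kernel

set_option maxRecDepth 100000 in
theorem part_8_10_7_6 : dfsN 6 268435456 108692240 [2, 4, 5, 9, 11, 12] = true := by
  decide +kernel

set_option maxRecDepth 100000 in
theorem part_8_10_7_9 : dfsN 6 268435456 159023888 [2, 4, 5, 6, 11, 12] = true := by
  decide +kernel

set_option maxRecDepth 100000 in
theorem part_8_10_7_11 : dfsN 6 268435456 192578320 [2, 4, 5, 6, 9, 12] = true := by
  decide +kernel

set_option maxRecDepth 100000 in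
theorem part_8_10_7_12 : dfsN 6 268435456 209355536 [2, 4, 5, 6, 9, 11] = true := by
  decide +kernel

theorem part_8_10_7 : dfsN 7 16777216 8028944 [2, 4, 5, 6, 9, 11, 12] = true := by
  apply dfsN_step 6 16777216 8028944 [2, 4, 5, 6, 9, 11, 12]
  intro v hv
  simp only [List.mem_cons, List.not_mem_nil, or_false] at hv
  rcases hv with rfl | rfl | rfl | rfl | rfl | rfl | rfl
  exacts [part_8_10_7_2, part_8_10_7_4, part_8_10_7_5, part_8_10_7_6, part_8_10_7_9, part_8_10_7_11, part_8_10_7_12]

set_option maxRecDepth 100000 in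
theorem part_8_10_9_2 : dfsN 6 268435456 43680528 [4, 5, 6, 7, 11, 12] = true := by
  decide +kernel

set_option maxRecDepth 100000 in
theorem part_8_10_9_4 : dfsN 6 268435456 77234960 [2, 5, 6, 7, 11, 12] = true := by
  decide +kernel

set_option maxRecDepth 100000 in
theorem part_8_10_9_5 : dfsN 6 268435456 94012176 [2, 4, 6, 7, 11, 12] = true := by
  decide +kernel

set_option maxRecDepth 100000 in
theorem part_8_10_9_6 : dfsN 6 268435456 110789392 [2, 4, 5, 7, 11, 12] = true := by
  decide +kernel

set_option maxRecDepth 100000 in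
theorem part_8_10_9_7 : dfsN 6 268435456 127566608 [2, 4, 5, 6, 11, 12] = true := by
  decide +kernel

set_option maxRecDepth 100000 in
theorem part_8_10_9_11 : dfsN 6 268435456 194675472 [2, 4, 5, 6, 7, 12] = true := by
  decide +kernel

set_option maxRecDepth 100000 in
theorem part_8_10_9_12 : dfsN 6 268435456 211452688 [2, 4, 5, 6, 7, 11] = true := by
  decide +kernel

theorem part_8_10_9 : dfsN 7 16777216 10126096 [2, 4, 5, 6, 7, 11, 12] = true := by
  apply dfsN_step 6 16777216 10126096 [2, 4, 5, 6, 7, 11, 12]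
  intro v hv
  simp only [List.mem_cons, List.not_mem_nil, or_false] at hv
  rcases hv with rfl | rfl | rfl | rfl | rfl | rfl | rfl
  exacts [part_8_10_9_2, part_8_10_9_4, part_8_10_9_5, part_8_10_9_6, part_8_10_9_7, part_8_10_9_11, part_8_10_9_12]

set_option maxRecDepth 100000 in
theorem part_8_10_11_2 : dfsN 6 268435456 45777680 [4, 5, 6, 7, 9, 12] = true := by
  decide +kernel

set_option maxRecDepth 100000 in
theorem part_8_10_11_4 : dfsN 6 268435456 79332112 [2, 5, 6, 7, 9, 12] = true := by
  decide +kernel

set_option maxRecDepth 100000 in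
theorem part_8_10_11_5 : dfsN 6 268435456 96109328 [2, 4, 6, 7, 9, 12] = true := by
  decide +kernel

set_option maxRecDepth 100000 in
theorem part_8_10_11_6 : dfsN 6 268435456 112886544 [2, 4, 5, 7, 9, 12] = true := by
  decide +kernel

set_option maxRecDepth 100000 in
theorem part_8_10_11_7 : dfsN 6 268435456 129663760 [2, 4, 5, 6, 9, 12] = true := by
  decide +kernel

set_option maxRecDepth 100000 in
theorem part_8_10_11_9 : dfsN 6 268435456 163218192 [2, 4, 5, 6, 7, 12] = true := by
  decide +kernel

set_option maxRecDepth 100000 in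
theorem part_8_10_11_12 : dfsN 6 268435456 213549840 [2, 4, 5, 6, 7, 9] = true := by
  decide +kernel

theorem part_8_10_11 : dfsN 7 16777216 12223248 [2, 4, 5, 6, 7, 9, 12] = true := by
  apply dfsN_step 6 16777216 12223248 [2, 4, 5, 6, 7, 9, 12]
  intro v hv
  simp only [List.mem_cons, List.not_mem_nil, or_false] at hv
  rcases hv with rfl | rfl | rfl | rfl | rfl | rfl | rfl
  exacts [part_8_10_11_2, part_8_10_11_4, part_8_10_11_5, part_8_10_11_6, part_8_10_11_7, part_8_10_11_9, part_8_10_11_12]

set_option maxRecDepth 100000 in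
theorem part_8_10_12_2 : dfsN 6 268435456 46826256 [4, 5, 6, 7, 9, 11] = true := by
  decide +kernel

set_option maxRecDepth 100000 in
theorem part_8_10_12_4 : dfsN 6 268435456 80380688 [2, 5, 6, 7, 9, 11] = true := by
  decide +kernel

set_option maxRecDepth 100000 in
theorem part_8_10_12_5 : dfsN 6 268435456 97157904 [2, 4, 6, 7, 9, 11] = true := by
  decide +kernel

set_option maxRecDepth 100000 in
theorem part_8_10_12_6 : dfsN 6 268435456 113935120 [2, 4, 5, 7, 9, 11] = true := by
  decide +kernel

set_option maxRecDepth 100000 in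
theorem part_8_10_12_7 : dfsN 6 268435456 130712336 [2, 4, 5, 6, 9, 11] = true := by
  decide +kernel

set_option maxRecDepth 100000 in
theorem part_8_10_12_9 : dfsN 6 268435456 164266768 [2, 4, 5, 6, 7, 11] = true := by
  decide +kernel

set_option maxRecDepth 100000 in
theorem part_8_10_12_11 : dfsN 6 268435456 197821200 [2, 4, 5, 6, 7, 9] = true := by
  decide +kernel

theorem part_8_10_12 : dfsN 7 16777216 13271824 [2, 4, 5, 6, 7, 9, 11] = true := by
  apply dfsN_step 6 16777216 13271824 [2, 4, 5, 6, 7, 9, 11]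
  intro v hv
  simp only [List.mem_cons, List.not_mem_nil, or_false] at hv
  rcases hv with rfl | rfl | rfl | rfl | rfl | rfl | rfl
  exacts [part_8_10_12_2, part_8_10_12_4, part_8_10_12_5, part_8_10_12_6, part_8_10_12_7, part_8_10_12_9, part_8_10_12_11]

theorem part_8_10 : dfsN 8 1048576 688912 [2, 4, 5, 6, 7, 9, 11, 12] = true := by
  apply dfsN_step 7 1048576 688912 [2, 4, 5, 6, 7, 9, 11, 12]
  intro v hv
  simp only [List.mem_cons, List.not_mem_nil, or_false] at hv
  rcases hv with rfl | rfl | rfl | rfl | rfl | rfl | rfl | rfl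
  exacts [part_8_10_2, part_8_10_4, part_8_10_5, part_8_10_6, part_8_10_7, part_8_10_9, part_8_10_11, part_8_10_12]

end Cfsg.Agent.Lib.H16.AG
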