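import Cfsg.Agent.Lib.H16.AG.Step

set_option autoImplicit false

/-! Degree 13, images `0, 1, 3, 10, 4` of `0, 1, 2, 3, 4` fixed: every completion that is an
`11`-cycle has a word `(x ^ b * y ^ a) ^ k` which is a `3`-, `5`- or `7`-cycle
(small kernel computations, one per pair of images of `5, 6`). -/

namespace Cfsg.Agent.Lib.H16.AG

set_option maxRecDepth 100000 in
theorem part_10_4_2_5 : dfsN 6 268435456 86287120 [6, 7, 8, 9, 11, 12] = true := by
  decide +kernel

set_option maxRecDepth 100000 in
theorem part_10_4_2_6 : dfsN 6 268435456 103064336 [5, 7, 8, 9, 11, 12] = true := by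
  decide +kernel

set_option maxRecDepth 100000 in
theorem part_10_4_2_7 : dfsN 6 268435456 119841552 [5, 6, 8, 9, 11, 12] = true := by
  decide +kernel

set_option maxRecDepth 100000 in
theorem part_10_4_2_8 : dfsN 6 268435456 136618768 [5, 6, 7, 9, 11, 12] = true := by
  decide +kernel

set_option maxRecDepth 100000 in
theorem part_10_4_2_9 : dfsN 6 268435456 153395984 [5, 6, 7, 8, 11, 12] = true := by
  decide +kernel

set_option maxRecDepth 100000 in
theorem part_10_4_2_11 : dfsN 6 268435456 186950416 [5, 6, 7, 8, 9, 12] = true := by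
  decide +kernel

set_option maxRecDepth 100000 in
theorem part_10_4_2_12 : dfsN 6 268435456 203727632 [5, 6, 7, 8, 9, 11] = true := by
  decide +kernel

theorem part_10_4_2 : dfsN 7 16777216 2401040 [5, 6, 7, 8, 9, 11, 12] = true := by
  apply dfsN_step 6 16777216 2401040 [5, 6, 7, 8, 9, 11, 12]
  intro v hv
  simp only [List.mem_cons, List.not_mem_nil, or_false] at hv
  rcases hv with rfl | rfl | rfl | rfl | rfl | rfl | rfl
  exacts [part_10_4_2_5, part_10_4_2_6, part_10_4_2_7, part_10_4_2_8, part_10_4_2_9, part_10_4_2_11, part_10_4_2_12]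

set_option maxRecDepth 100000 in
theorem part_10_4_5_2 : dfsN 6 268435456 39101200 [6, 7, 8, 9, 11, 12] = true := by
  decide +kernel

set_option maxRecDepth 100000 in
theorem part_10_4_5_6 : dfsN 6 268435456 106210064 [2, 7, 8, 9, 11, 12] = true := by
  decide +kernel

set_option maxRecDepth 100000 in
theorem part_10_4_5_7 : dfsN 6 268435456 122987280 [2, 6, 8, 9, 11, 12] = true := by
  decide +kernel

set_option maxRecDepth 100000 in
theorem part_10_4_5_8 : dfsN 6 268435456 139764496 [2, 6, 7, 9, 11, 12] = true := by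
  decide +kernel

set_option maxRecDepth 100000 in
theorem part_10_4_5_9 : dfsN 6 268435456 156541712 [2, 6, 7, 8, 11, 12] = true := by
  decide +kernel

set_option maxRecDepth 100000 in
theorem part_10_4_5_11 : dfsN 6 268435456 190096144 [2, 6, 7, 8, 9, 12] = true := by
  decide +kernel

set_option maxRecDepth 100000 in
theorem part_10_4_5_12 : dfsN 6 268435456 206873360 [2, 6, 7, 8, 9, 11] = true := by
  decide +kernel

theorem part_10_4_5 : dfsN 7 16777216 5546768 [2, 6, 7, 8, 9, 11, 12] = true := by
  apply dfsN_step 6 16777216 5546768 [2, 6, 7, 8, 9, 11, 12]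
  intro v hv
  simp only [List.mem_cons, List.not_mem_nil, or_false] at hv
  rcases hv with rfl | rfl | rfl | rfl | rfl | rfl | rfl
  exacts [part_10_4_5_2, part_10_4_5_6, part_10_4_5_7, part_10_4_5_8, part_10_4_5_9, part_10_4_5_11, part_10_4_5_12]

set_option maxRecDepth 100000 in
theorem part_10_4_6_2 : dfsN 6 268435456 40149776 [5, 7, 8, 9, 11, 12] = true := by
  decide +kernel

set_option maxRecDepth 100000 in
theorem part_10_4_6_5 : dfsN 6 268435456 90481424 [2, 7, 8, 9, 11, 12] = true := by
  decide +kernel

set_option maxRecDepth 100000 in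
theorem part_10_4_6_7 : dfsN 6 268435456 124035856 [2, 5, 8, 9, 11, 12] = true := by
  decide +kernel

set_option maxRecDepth 100000 in
theorem part_10_4_6_8 : dfsN 6 268435456 140813072 [2, 5, 7, 9, 11, 12] = true := by
  decide +kernel

set_option maxRecDepth 100000 in
theorem part_10_4_6_9 : dfsN 6 268435456 157590288 [2, 5, 7, 8, 11, 12] = true := by
  decide +kernel

set_option maxRecDepth 100000 in
theorem part_10_4_6_11 : dfsN 6 268435456 191144720 [2, 5, 7, 8, 9, 12] = true := by
  decide +kernel

set_option maxRecDepth 100000 in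
theorem part_10_4_6_12 : dfsN 6 268435456 207921936 [2, 5, 7, 8, 9, 11] = true := by
  decide +kernel

theorem part_10_4_6 : dfsN 7 16777216 6595344 [2, 5, 7, 8, 9, 11, 12] = true := by
  apply dfsN_step 6 16777216 6595344 [2, 5, 7, 8, 9, 11, 12]
  intro v hv
  simp only [List.mem_cons, List.not_mem_nil, or_false] at hv
  rcases hv with rfl | rfl | rfl | rfl | rfl | rfl | rfl
  exacts [part_10_4_6_2, part_10_4_6_5, part_10_4_6_7, part_10_4_6_8, part_10_4_6_9, part_10_4_6_11, part_10_4_6_12]

set_option maxRecDepth 100000 in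
theorem part_10_4_7_2 : dfsN 6 268435456 41198352 [5, 6, 8, 9, 11, 12] = true := by
  decide +kernel

set_option maxRecDepth 100000 in
theorem part_10_4_7_5 : dfsN 6 268435456 91530000 [2, 6, 8, 9, 11, 12] = true := by
  decide +kernel

set_option maxRecDepth 100000 in
theorem part_10_4_7_6 : dfsN 6 268435456 108307216 [2, 5, 8, 9, 11, 12] = true := by
  decide +kernel

set_option maxRecDepth 100000 in
theorem part_10_4_7_8 : dfsN 6 268435456 141861648 [2, 5, 6, 9, 11, 12] = true := by
  decide +kernel

set_option maxRecDepth 100000 in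
theorem part_10_4_7_9 : dfsN 6 268435456 158638864 [2, 5, 6, 8, 11, 12] = true := by
  decide +kernel

set_option maxRecDepth 100000 in
theorem part_10_4_7_11 : dfsN 6 268435456 192193296 [2, 5, 6, 8, 9, 12] = true := by
  decide +kernel

set_option maxRecDepth 100000 in
theorem part_10_4_7_12 : dfsN 6 268435456 208970512 [2, 5, 6, 8, 9, 11] = true := by
  decide +kernel

theorem part_10_4_7 : dfsN 7 16777216 7643920 [2, 5, 6, 8, 9, 11, 12] = true := by
  apply dfsN_step 6 16777216 7643920 [2, 5, 6, 8, 9, 11, 12]
  intro v hv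
  simp only [List.mem_cons, List.not_mem_nil, or_false] at hv
  rcases hv with rfl | rfl | rfl | rfl | rfl | rfl | rfl
  exacts [part_10_4_7_2, part_10_4_7_5, part_10_4_7_6, part_10_4_7_8, part_10_4_7_9, part_10_4_7_11, part_10_4_7_12]

set_option maxRecDepth 100000 in
theorem part_10_4_8_2 : dfsN 6 268435456 42246928 [5, 6, 7, 9, 11, 12] = true := by
  decide +kernel

set_option maxRecDepth 100000 in
theorem part_10_4_8_5 : dfsN 6 268435456 92578576 [2, 6, 7, 9, 11, 12] = true := by
  decide +kernel

set_option maxRecDepth 100000 in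
theorem part_10_4_8_6 : dfsN 6 268435456 109355792 [2, 5, 7, 9, 11, 12] = true := by
  decide +kernel

set_option maxRecDepth 100000 in
theorem part_10_4_8_7 : dfsN 6 268435456 126133008 [2, 5, 6, 9, 11, 12] = true := by
  decide +kernel

set_option maxRecDepth 100000 in
theorem part_10_4_8_9 : dfsN 6 268435456 159687440 [2, 5, 6, 7, 11, 12] = true := by
  decide +kernel

set_option maxRecDepth 100000 in
theorem part_10_4_8_11 : dfsN 6 268435456 193241872 [2, 5, 6, 7, 9, 12] = true := by
  decide +kernel

set_option maxRecDepth 100000 in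
theorem part_10_4_8_12 : dfsN 6 268435456 210019088 [2, 5, 6, 7, 9, 11] = true := by
  decide +kernel

theorem part_10_4_8 : dfsN 7 16777216 8692496 [2, 5, 6, 7, 9, 11, 12] = true := by
  apply dfsN_step 6 16777216 8692496 [2, 5, 6, 7, 9, 11, 12]
  intro v hv
  simp only [List.mem_cons, List.not_mem_nil, or_false] at hv
  rcases hv with rfl | rfl | rfl | rfl | rfl | rfl | rfl
  exacts [part_10_4_8_2, part_10_4_8_5, part_10_4_8_6, part_10_4_8_7, part_10_4_8_9, part_10_4_8_11, part_10_4_8_12]

set_option maxRecDepth 100000 in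
theorem part_10_4_9_2 : dfsN 6 268435456 43295504 [5, 6, 7, 8, 11, 12] = true := by
  decide +kernel

set_option maxRecDepth 100000 in
theorem part_10_4_9_5 : dfsN 6 268435456 93627152 [2, 6, 7, 8, 11, 12] = true := by
  decide +kernel

set_option maxRecDepth 100000 in
theorem part_10_4_9_6 : dfsN 6 268435456 110404368 [2, 5, 7, 8, 11, 12] = true := by
  decide +kernel

set_option maxRecDepth 100000 in
theorem part_10_4_9_7 : dfsN 6 268435456 127181584 [2, 5, 6, 8, 11, 12] = true := by
  decide +kernel

set_option maxRecDepth 100000 in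
theorem part_10_4_9_8 : dfsN 6 268435456 143958800 [2, 5, 6, 7, 11, 12] = true := by
  decide +kernel

set_option maxRecDepth 100000 in
theorem part_10_4_9_11 : dfsN 6 268435456 194290448 [2, 5, 6, 7, 8, 12] = true := by
  decide +kernel

set_option maxRecDepth 100000 in
theorem part_10_4_9_12 : dfsN 6 268435456 211067664 [2, 5, 6, 7, 8, 11] = true := by
  decide +kernel

theorem part_10_4_9 : dfsN 7 16777216 9741072 [2, 5, 6, 7, 8, 11, 12] = true := by
  apply dfsN_step 6 16777216 9741072 [2, 5, 6, 7, 8, 11, 12]
  intro v hv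
  simp only [List.mem_cons, List.not_mem_nil, or_false] at hv
  rcases hv with rfl | rfl | rfl | rfl | rfl | rfl | rfl
  exacts [part_10_4_9_2, part_10_4_9_5, part_10_4_9_6, part_10_4_9_7, part_10_4_9_8, part_10_4_9_11, part_10_4_9_12]

set_option maxRecDepth 100000 in
theorem part_10_4_11_2 : dfsN 6 268435456 45392656 [5, 6, 7, 8, 9, 12] = true := by
  decide +kernel

set_option maxRecDepth 100000 in
theorem part_10_4_11_5 : dfsN 6 268435456 95724304 [2, 6, 7, 8, 9, 12] = true := by
  decide +kernel

set_option maxRecDepth 100000 in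
theorem part_10_4_11_6 : dfsN 6 268435456 112501520 [2, 5, 7, 8, 9, 12] = true := by
  decide +kernel

set_option maxRecDepth 100000 in
theorem part_10_4_11_7 : dfsN 6 268435456 129278736 [2, 5, 6, 8, 9, 12] = true := by
  decide +kernel

set_option maxRecDepth 100000 in
theorem part_10_4_11_8 : dfsN 6 268435456 146055952 [2, 5, 6, 7, 9, 12] = true := by
  decide +kernel

set_option maxRecDepth 100000 in
theorem part_10_4_11_9 : dfsN 6 268435456 162833168 [2, 5, 6, 7, 8, 12] = true := by
  decide +kernel

set_option maxRecDepth 100000 in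
theorem part_10_4_11_12 : dfsN 6 268435456 213164816 [2, 5, 6, 7, 8, 9] = true := by
  decide +kernel

theorem part_10_4_11 : dfsN 7 16777216 11838224 [2, 5, 6, 7, 8, 9, 12] = true := by
  apply dfsN_step 6 16777216 11838224 [2, 5, 6, 7, 8, 9, 12]
  intro v hv
  simp only [List.mem_cons, List.not_mem_nil, or_false] at hv
  rcases hv with rfl | rfl | rfl | rfl | rfl | rfl | rfl
  exacts [part_10_4_11_2, part_10_4_11_5, part_10_4_11_6, part_10_4_11_7, part_10_4_11_8, part_10_4_11_9, part_10_4_11_12]

set_option maxRecDepth 100000 in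
theorem part_10_4_12_2 : dfsN 6 268435456 46441232 [5, 6, 7, 8, 9, 11] = true := by
  decide +kernel

set_option maxRecDepth 100000 in
theorem part_10_4_12_5 : dfsN 6 268435456 96772880 [2, 6, 7, 8, 9, 11] = true := by
  decide +kernel

set_option maxRecDepth 100000 in
theorem part_10_4_12_6 : dfsN 6 268435456 113550096 [2, 5, 7, 8, 9, 11] = true := by
  decide +kernel

set_option maxRecDepth 100000 in
theorem part_10_4_12_7 : dfsN 6 268435456 130327312 [2, 5, 6, 8, 9, 11] = true := by
  decide +kernel

set_option maxRecDepth 100000 in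
theorem part_10_4_12_8 : dfsN 6 268435456 147104528 [2, 5, 6, 7, 9, 11] = true := by
  decide +kernel

set_option maxRecDepth 100000 in
theorem part_10_4_12_9 : dfsN 6 268435456 163881744 [2, 5, 6, 7, 8, 11] = true := by
  decide +kernel

set_option maxRecDepth 100000 in
theorem part_10_4_12_11 : dfsN 6 268435456 197436176 [2, 5, 6, 7, 8, 9] = true := by
  decide +kernel

theorem part_10_4_12 : dfsN 7 16777216 12886800 [2, 5, 6, 7, 8, 9, 11] = true := by
  apply dfsN_step 6 16777216 12886800 [2, 5, 6, 7, 8, 9, 11]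
  intro v hv
  simp only [List.mem_cons, List.not_mem_nil, or_false] at hv
  rcases hv with rfl | rfl | rfl | rfl | rfl | rfl | rfl
  exacts [part_10_4_12_2, part_10_4_12_5, part_10_4_12_6, part_10_4_12_7, part_10_4_12_8, part_10_4_12_9, part_10_4_12_11]

theorem part_10_4 : dfsN 8 1048576 303888 [2, 5, 6, 7, 8, 9, 11, 12] = true := by
  apply dfsN_step 7 1048576 303888 [2, 5, 6, 7, 8, 9, 11, 12]
  intro v hv
  simp only [List.mem_cons, List.not_mem_nil, or_false] at hv
  rcases hv with rfl | rfl | rfl | rfl | rfl | rfl | rfl | rfl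
  exacts [part_10_4_2, part_10_4_5, part_10_4_6, part_10_4_7, part_10_4_8, part_10_4_9, part_10_4_11, part_10_4_12]

end Cfsg.Agent.Lib.H16.AG
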