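import Cfsg.Agent.Lib.H16.AG.Step

set_option autoImplicit false

/-! Degree 13, images `0, 1, 3, 11, 8` of `0, 1, 2, 3, 4` fixed: every completion that is an
`11`-cycle has a word `(x ^ b * y ^ a) ^ k` which is a `3`-, `5`- or `7`-cycle
(small kernel computations, one per pair of images of `5, 6`). -/

namespace Cfsg.Agent.Lib.H16.AG

set_option maxRecDepth 100000 in
theorem part_11_8_2_4 : dfsN 6 268435456 69776144 [5, 6, 7, 9, 10, 12] = true := by
  decide +kernel

set_option maxRecDepth 100000 in
theorem part_11_8_2_5 : dfsN 6 268435456 86553360 [4, 6, 7, 9, 10, 12] = true := by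
  decide +kernel

set_option maxRecDepth 100000 in
theorem part_11_8_2_6 : dfsN 6 268435456 103330576 [4, 5, 7, 9, 10, 12] = true := by
  decide +kernel

set_option maxRecDepth 100000 in
theorem part_11_8_2_7 : dfsN 6 268435456 120107792 [4, 5, 6, 9, 10, 12] = true := by
  decide +kernel

set_option maxRecDepth 100000 in
theorem part_11_8_2_9 : dfsN 6 268435456 153662224 [4, 5, 6, 7, 10, 12] = true := by
  decide +kernel

set_option maxRecDepth 100000 in
theorem part_11_8_2_10 : dfsN 6 268435456 170439440 [4, 5, 6, 7, 9, 12] = true := by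
  decide +kernel

set_option maxRecDepth 100000 in
theorem part_11_8_2_12 : dfsN 6 268435456 203993872 [4, 5, 6, 7, 9, 10] = true := by
  decide +kernel

theorem part_11_8_2 : dfsN 7 16777216 2667280 [4, 5, 6, 7, 9, 10, 12] = true := by
  apply dfsN_step 6 16777216 2667280 [4, 5, 6, 7, 9, 10, 12]
  intro v hv
  simp only [List.mem_cons, List.not_mem_nil, or_false] at hv
  rcases hv with rfl | rfl | rfl | rfl | rfl | rfl | rfl
  exacts [part_11_8_2_4, part_11_8_2_5, part_11_8_2_6, part_11_8_2_7, part_11_8_2_9, part_11_8_2_10, part_11_8_2_12]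

set_option maxRecDepth 100000 in
theorem part_11_8_4_2 : dfsN 6 268435456 38318864 [5, 6, 7, 9, 10, 12] = true := by
  decide +kernel

set_option maxRecDepth 100000 in
theorem part_11_8_4_5 : dfsN 6 268435456 88650512 [2, 6, 7, 9, 10, 12] = true := by
  decide +kernel

set_option maxRecDepth 100000 in
theorem part_11_8_4_6 : dfsN 6 268435456 105427728 [2, 5, 7, 9, 10, 12] = true := by
  decide +kernel

set_option maxRecDepth 100000 in
theorem part_11_8_4_7 : dfsN 6 268435456 122204944 [2, 5, 6, 9, 10, 12] = true := by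
  decide +kernel

set_option maxRecDepth 100000 in
theorem part_11_8_4_9 : dfsN 6 268435456 155759376 [2, 5, 6, 7, 10, 12] = true := by
  decide +kernel

set_option maxRecDepth 100000 in
theorem part_11_8_4_10 : dfsN 6 268435456 172536592 [2, 5, 6, 7, 9, 12] = true := by
  decide +kernel

set_option maxRecDepth 100000 in
theorem part_11_8_4_12 : dfsN 6 268435456 206091024 [2, 5, 6, 7, 9, 10] = true := by
  decide +kernel

theorem part_11_8_4 : dfsN 7 16777216 4764432 [2, 5, 6, 7, 9, 10, 12] = true := by
  apply dfsN_step 6 16777216 4764432 [2, 5, 6, 7, 9, 10, 12]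
  intro v hv
  simp only [List.mem_cons, List.not_mem_nil, or_false] at hv
  rcases hv with rfl | rfl | rfl | rfl | rfl | rfl | rfl
  exacts [part_11_8_4_2, part_11_8_4_5, part_11_8_4_6, part_11_8_4_7, part_11_8_4_9, part_11_8_4_10, part_11_8_4_12]

set_option maxRecDepth 100000 in
theorem part_11_8_5_2 : dfsN 6 268435456 39367440 [4, 6, 7, 9, 10, 12] = true := by
  decide +kernel

set_option maxRecDepth 100000 in
theorem part_11_8_5_4 : dfsN 6 268435456 72921872 [2, 6, 7, 9, 10, 12] = true := by
  decide +kernel

set_option maxRecDepth 100000 in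
theorem part_11_8_5_6 : dfsN 6 268435456 106476304 [2, 4, 7, 9, 10, 12] = true := by
  decide +kernel

set_option maxRecDepth 100000 in
theorem part_11_8_5_7 : dfsN 6 268435456 123253520 [2, 4, 6, 9, 10, 12] = true := by
  decide +kernel

set_option maxRecDepth 100000 in
theorem part_11_8_5_9 : dfsN 6 268435456 156807952 [2, 4, 6, 7, 10, 12] = true := by
  decide +kernel

set_option maxRecDepth 100000 in
theorem part_11_8_5_10 : dfsN 6 268435456 173585168 [2, 4, 6, 7, 9, 12] = true := by
  decide +kernel

set_option maxRecDepth 100000 in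
theorem part_11_8_5_12 : dfsN 6 268435456 207139600 [2, 4, 6, 7, 9, 10] = true := by
  decide +kernel

theorem part_11_8_5 : dfsN 7 16777216 5813008 [2, 4, 6, 7, 9, 10, 12] = true := by
  apply dfsN_step 6 16777216 5813008 [2, 4, 6, 7, 9, 10, 12]
  intro v hv
  simp only [List.mem_cons, List.not_mem_nil, or_false] at hv
  rcases hv with rfl | rfl | rfl | rfl | rfl | rfl | rfl
  exacts [part_11_8_5_2, part_11_8_5_4, part_11_8_5_6, part_11_8_5_7, part_11_8_5_9, part_11_8_5_10, part_11_8_5_12]

set_option maxRecDepth 100000 in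
theorem part_11_8_6_2 : dfsN 6 268435456 40416016 [4, 5, 7, 9, 10, 12] = true := by
  decide +kernel

set_option maxRecDepth 100000 in
theorem part_11_8_6_4 : dfsN 6 268435456 73970448 [2, 5, 7, 9, 10, 12] = true := by
  decide +kernel

set_option maxRecDepth 100000 in
theorem part_11_8_6_5 : dfsN 6 268435456 90747664 [2, 4, 7, 9, 10, 12] = true := by
  decide +kernel

set_option maxRecDepth 100000 in
theorem part_11_8_6_7 : dfsN 6 268435456 124302096 [2, 4, 5, 9, 10, 12] = true := by
  decide +kernel

set_option maxRecDepth 100000 in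
theorem part_11_8_6_9 : dfsN 6 268435456 157856528 [2, 4, 5, 7, 10, 12] = true := by
  decide +kernel

set_option maxRecDepth 100000 in
theorem part_11_8_6_10 : dfsN 6 268435456 174633744 [2, 4, 5, 7, 9, 12] = true := by
  decide +kernel

set_option maxRecDepth 100000 in
theorem part_11_8_6_12 : dfsN 6 268435456 208188176 [2, 4, 5, 7, 9, 10] = true := by
  decide +kernel

theorem part_11_8_6 : dfsN 7 16777216 6861584 [2, 4, 5, 7, 9, 10, 12] = true := by
  apply dfsN_step 6 16777216 6861584 [2, 4, 5, 7, 9, 10, 12]
  intro v hv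
  simp only [List.mem_cons, List.not_mem_nil, or_false] at hv
  rcases hv with rfl | rfl | rfl | rfl | rfl | rfl | rfl
  exacts [part_11_8_6_2, part_11_8_6_4, part_11_8_6_5, part_11_8_6_7, part_11_8_6_9, part_11_8_6_10, part_11_8_6_12]

set_option maxRecDepth 100000 in
theorem part_11_8_7_2 : dfsN 6 268435456 41464592 [4, 5, 6, 9, 10, 12] = true := by
  decide +kernel

set_option maxRecDepth 100000 in
theorem part_11_8_7_4 : dfsN 6 268435456 75019024 [2, 5, 6, 9, 10, 12] = true := by
  decide +kernel

set_option maxRecDepth 100000 in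
theorem part_11_8_7_5 : dfsN 6 268435456 91796240 [2, 4, 6, 9, 10, 12] = true := by
  decide +kernel

set_option maxRecDepth 100000 in
theorem part_11_8_7_6 : dfsN 6 268435456 108573456 [2, 4, 5, 9, 10, 12] = true := by
  decide +kernel

set_option maxRecDepth 100000 in
theorem part_11_8_7_9 : dfsN 6 268435456 158905104 [2, 4, 5, 6, 10, 12] = true := by
  decide +kernel

set_option maxRecDepth 100000 in
theorem part_11_8_7_10 : dfsN 6 268435456 175682320 [2, 4, 5, 6, 9, 12] = true := by
  decide +kernel

set_option maxRecDepth 100000 in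
theorem part_11_8_7_12 : dfsN 6 268435456 209236752 [2, 4, 5, 6, 9, 10] = true := by
  decide +kernel

theorem part_11_8_7 : dfsN 7 16777216 7910160 [2, 4, 5, 6, 9, 10, 12] = true := by
  apply dfsN_step 6 16777216 7910160 [2, 4, 5, 6, 9, 10, 12]
  intro v hv
  simp only [List.mem_cons, List.not_mem_nil, or_false] at hv
  rcases hv with rfl | rfl | rfl | rfl | rfl | rfl | rfl
  exacts [part_11_8_7_2, part_11_8_7_4, part_11_8_7_5, part_11_8_7_6, part_11_8_7_9, part_11_8_7_10, part_11_8_7_12]

set_option maxRecDepth 100000 in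
theorem part_11_8_9_2 : dfsN 6 268435456 43561744 [4, 5, 6, 7, 10, 12] = true := by
  decide +kernel

set_option maxRecDepth 100000 in
theorem part_11_8_9_4 : dfsN 6 268435456 77116176 [2, 5, 6, 7, 10, 12] = true := by
  decide +kernel

set_option maxRecDepth 100000 in
theorem part_11_8_9_5 : dfsN 6 268435456 93893392 [2, 4, 6, 7, 10, 12] = true := by
  decide +kernel

set_option maxRecDepth 100000 in
theorem part_11_8_9_6 : dfsN 6 268435456 110670608 [2, 4, 5, 7, 10, 12] = true := by
  decide +kernel

set_option maxRecDepth 100000 in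
theorem part_11_8_9_7 : dfsN 6 268435456 127447824 [2, 4, 5, 6, 10, 12] = true := by
  decide +kernel

set_option maxRecDepth 100000 in
theorem part_11_8_9_10 : dfsN 6 268435456 177779472 [2, 4, 5, 6, 7, 12] = true := by
  decide +kernel

set_option maxRecDepth 100000 in
theorem part_11_8_9_12 : dfsN 6 268435456 211333904 [2, 4, 5, 6, 7, 10] = true := by
  decide +kernel

theorem part_11_8_9 : dfsN 7 16777216 10007312 [2, 4, 5, 6, 7, 10, 12] = true := by
  apply dfsN_step 6 16777216 10007312 [2, 4, 5, 6, 7, 10, 12]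
  intro v hv
  simp only [List.mem_cons, List.not_mem_nil, or_false] at hv
  rcases hv with rfl | rfl | rfl | rfl | rfl | rfl | rfl
  exacts [part_11_8_9_2, part_11_8_9_4, part_11_8_9_5, part_11_8_9_6, part_11_8_9_7, part_11_8_9_10, part_11_8_9_12]

set_option maxRecDepth 100000 in
theorem part_11_8_10_2 : dfsN 6 268435456 44610320 [4, 5, 6, 7, 9, 12] = true := by
  decide +kernel

set_option maxRecDepth 100000 in
theorem part_11_8_10_4 : dfsN 6 268435456 78164752 [2, 5, 6, 7, 9, 12] = true := by
  decide +kernel

set_option maxRecDepth 100000 in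
theorem part_11_8_10_5 : dfsN 6 268435456 94941968 [2, 4, 6, 7, 9, 12] = true := by
  decide +kernel

set_option maxRecDepth 100000 in
theorem part_11_8_10_6 : dfsN 6 268435456 111719184 [2, 4, 5, 7, 9, 12] = true := by
  decide +kernel

set_option maxRecDepth 100000 in
theorem part_11_8_10_7 : dfsN 6 268435456 128496400 [2, 4, 5, 6, 9, 12] = true := by
  decide +kernel

set_option maxRecDepth 100000 in
theorem part_11_8_10_9 : dfsN 6 268435456 162050832 [2, 4, 5, 6, 7, 12] = true := by
  decide +kernel

set_option maxRecDepth 100000 in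
theorem part_11_8_10_12 : dfsN 6 268435456 212382480 [2, 4, 5, 6, 7, 9] = true := by
  decide +kernel

theorem part_11_8_10 : dfsN 7 16777216 11055888 [2, 4, 5, 6, 7, 9, 12] = true := by
  apply dfsN_step 6 16777216 11055888 [2, 4, 5, 6, 7, 9, 12]
  intro v hv
  simp only [List.mem_cons, List.not_mem_nil, or_false] at hv
  rcases hv with rfl | rfl | rfl | rfl | rfl | rfl | rfl
  exacts [part_11_8_10_2, part_11_8_10_4, part_11_8_10_5, part_11_8_10_6, part_11_8_10_7, part_11_8_10_9, part_11_8_10_12]

set_option maxRecDepth 100000 in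
theorem part_11_8_12_2 : dfsN 6 268435456 46707472 [4, 5, 6, 7, 9, 10] = true := by
  decide +kernel

set_option maxRecDepth 100000 in
theorem part_11_8_12_4 : dfsN 6 268435456 80261904 [2, 5, 6, 7, 9, 10] = true := by
  decide +kernel

set_option maxRecDepth 100000 in
theorem part_11_8_12_5 : dfsN 6 268435456 97039120 [2, 4, 6, 7, 9, 10] = true := by
  decide +kernel

set_option maxRecDepth 100000 in
theorem part_11_8_12_6 : dfsN 6 268435456 113816336 [2, 4, 5, 7, 9, 10] = true := by
  decide +kernel

set_option maxRecDepth 100000 in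
theorem part_11_8_12_7 : dfsN 6 268435456 130593552 [2, 4, 5, 6, 9, 10] = true := by
  decide +kernel

set_option maxRecDepth 100000 in
theorem part_11_8_12_9 : dfsN 6 268435456 164147984 [2, 4, 5, 6, 7, 10] = true := by
  decide +kernel

set_option maxRecDepth 100000 in
theorem part_11_8_12_10 : dfsN 6 268435456 180925200 [2, 4, 5, 6, 7, 9] = true := by
  decide +kernel

theorem part_11_8_12 : dfsN 7 16777216 13153040 [2, 4, 5, 6, 7, 9, 10] = true := by
  apply dfsN_step 6 16777216 13153040 [2, 4, 5, 6, 7, 9, 10]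
  intro v hv
  simp only [List.mem_cons, List.not_mem_nil, or_false] at hv
  rcases hv with rfl | rfl | rfl | rfl | rfl | rfl | rfl
  exacts [part_11_8_12_2, part_11_8_12_4, part_11_8_12_5, part_11_8_12_6, part_11_8_12_7, part_11_8_12_9, part_11_8_12_10]

theorem part_11_8 : dfsN 8 1048576 570128 [2, 4, 5, 6, 7, 9, 10, 12] = true := by
  apply dfsN_step 7 1048576 570128 [2, 4, 5, 6, 7, 9, 10, 12]
  intro v hv
  simp only [List.mem_cons, List.not_mem_nil, or_false] at hv
  rcases hv with rfl | rfl | rfl | rfl | rfl | rfl | rfl | rfl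
  exacts [part_11_8_2, part_11_8_4, part_11_8_5, part_11_8_6, part_11_8_7, part_11_8_9, part_11_8_10, part_11_8_12]

end Cfsg.Agent.Lib.H16.AG
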