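import Cfsg.Agent.Lib.H16.AG.Defs

set_option autoImplicit false

namespace Cfsg.Agent.Lib.H16.AG

open Equiv Equiv.Perm

/-- Code of a permutation. -/
def enc (σ : Perm (Fin 13)) : ℕ := Nat.ofDigits 16 (List.ofFn fun i : Fin 13 => (σ i : ℕ))

theorem ofFn13 {α : Type*} (f : Fin 13 → α) :
    List.ofFn f = [f 0, f 1, f 2, f 3, f 4, f 5, f 6, f 7, f 8, f 9, f 10, f 11, f 12] := by
  rw [List.ofFn_eq_map]; rfl

theorem ofDigits_div_pow_mod (L : List ℕ) (hL : ∀ d ∈ L, d < 16) (i : ℕ) :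
    Nat.ofDigits 16 L / 16 ^ i % 16 = L.getD i 0 := by
  induction L generalizing i with
  | nil => simp
  | cons a L ih =>
    have ha : a < 16 := hL a (by simp)
    have hL' : ∀ d ∈ L, d < 16 := fun d hd => hL d (by simp [hd])
    rw [Nat.ofDigits_cons]
    cases i with
    | zero => simp; omega
    | succ i =>
      rw [pow_succ', ← Nat.div_div_eq_div_mul]
      have : (a + 16 * Nat.ofDigits 16 L) / 16 = Nat.ofDigits 16 L := by omega
      rw [this, ih hL']
      simp

theorem dgp_eq (X pw : ℕ) : dgp X pw = X / pw % 16 := rfl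

theorem dgi_eq (X i : ℕ) : dgi X i = X / 16 ^ i % 16 := rfl

theorem dgi_enc (σ : Perm (Fin 13)) (i : Fin 13) : dgi (enc σ) i = (σ i : ℕ) := by
  rw [dgi_eq, enc, ofDigits_div_pow_mod]
  · rw [List.getD_eq_getElem _ _ (by simp), List.getElem_ofFn]
  · intro d hd
    rw [List.mem_ofFn] at hd
    obtain ⟨j, rfl⟩ := hd
    have := (σ j).isLt
    omega

theorem enc_injective : Function.Injective enc := by
  intro σ τ h
  ext i
  rw [← dgi_enc σ i, ← dgi_enc τ i, h]


theorem enc_eq_sum (σ : Perm (Fin 13)) :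
    enc σ = (σ 0 : ℕ) + (σ 1 : ℕ) * 16 + (σ 2 : ℕ) * 256 + (σ 3 : ℕ) * 4096 + (σ 4 : ℕ) * 65536 +
      (σ 5 : ℕ) * 1048576 + (σ 6 : ℕ) * 16777216 + (σ 7 : ℕ) * 268435456 +
      (σ 8 : ℕ) * 4294967296 + (σ 9 : ℕ) * 68719476736 + (σ 10 : ℕ) * 1099511627776 +
      (σ 11 : ℕ) * 17592186044416 + (σ 12 : ℕ) * 281474976710656 := by
  rw [enc, ofFn13]
  simp only [Nat.ofDigits_cons, Nat.ofDigits_nil]
  ring

theorem dgp_enc (σ : Perm (Fin 13)) (i : Fin 13) (pw : ℕ) (hpw : pw = 16 ^ (i : ℕ)) :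
    dgp (enc σ) pw = (σ i : ℕ) := by
  subst hpw
  exact dgi_enc σ i

theorem cdg_enc (σ τ : Perm (Fin 13)) (i : Fin 13) (pw : ℕ) (hpw : pw = 16 ^ (i : ℕ)) :
    cdg (enc σ) (enc τ) pw = ((σ * τ) i : ℕ) * pw := by
  unfold cdg
  rw [dgp_enc τ i pw hpw, dgi_enc σ (τ i)]
  rfl

theorem ndiv (a b : ℕ) : Nat.div a b = a / b := rfl
theorem nmod (a b : ℕ) : Nat.mod a b = a % b := rfl
theorem nadd (a b : ℕ) : Nat.add a b = a + b := rfl
theorem nmul (a b : ℕ) : Nat.mul a b = a * b := rfl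

theorem compN_enc (σ τ : Perm (Fin 13)) : compN (enc σ) (enc τ) = enc (σ * τ) := by
  unfold compN
  rw [cdg_enc σ τ 0 1 (by decide), cdg_enc σ τ 1 16 (by decide), cdg_enc σ τ 2 256 (by decide),
    cdg_enc σ τ 3 4096 (by decide), cdg_enc σ τ 4 65536 (by decide),
    cdg_enc σ τ 5 1048576 (by decide), cdg_enc σ τ 6 16777216 (by decide),
    cdg_enc σ τ 7 268435456 (by decide), cdg_enc σ τ 8 4294967296 (by decide),
    cdg_enc σ τ 9 68719476736 (by decide), cdg_enc σ τ 10 1099511627776 (by decide),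
    cdg_enc σ τ 11 17592186044416 (by decide), cdg_enc σ τ 12 281474976710656 (by decide),
    enc_eq_sum (σ * τ)]
  simp only [nadd]
  ring

theorem cond_beq {α : Type*} (a b : ℕ) (x y : α) :
    cond (Nat.beq a b) x y = if a = b then x else y := by
  by_cases h : a = b
  · subst h; simp
  · have : Nat.beq a b = false := by
      cases hb : Nat.beq a b with
      | false => rfl
      | true => exact absurd (Nat.eq_of_beq_eq_true hb) h
    simp [this, h]

theorem idN_eq : idN = enc 1 := by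
  rw [enc_eq_sum]
  simp only [Perm.coe_one, id_eq]
  rfl

theorem powAuxN_enc (σ : Perm (Fin 13)) :
    ∀ f e s t : ℕ, e ≤ f → powAuxN f (enc (σ ^ s)) e (enc (σ ^ t)) = enc (σ ^ (t + s * e)) := by
  intro f
  induction f with
  | zero =>
    intro e s t he
    have : e = 0 := by omega
    subst this
    simp [powAuxN]
  | succ f ih =>
    intro e s t he
    unfold powAuxN
    simp only [cond_beq, ndiv, nmod]
    by_cases h0 : e = 0
    · subst h0; simp
    · rw [if_neg h0]
      have hacc : (if e % 2 = 1 then compN (enc (σ ^ t)) (enc (σ ^ s)) else enc (σ ^ t)) =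
          enc (σ ^ (t + s * (e % 2))) := by
        by_cases h1 : e % 2 = 1
        · rw [if_pos h1, compN_enc, ← pow_add, h1, mul_one]
        · rw [if_neg h1]
          have : e % 2 = 0 := by omega
          rw [this, mul_zero, add_zero]
      rw [hacc]
      by_cases h2 : e / 2 = 0
      · rw [if_pos h2]
        have : e % 2 = e := by omega
        rw [this]
      · rw [if_neg h2, compN_enc, ← pow_add, ih (e / 2) (s + s) _ (by omega)]
        congr 2
        have := Nat.div_add_mod e 2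
        nlinarith [this]

theorem powN_enc (σ : Perm (Fin 13)) (k : ℕ) : powN (enc σ) k = enc (σ ^ k) := by
  have := powAuxN_enc σ k k 1 0 le_rfl
  rw [pow_one, pow_zero, ← idN_eq] at this
  unfold powN
  rw [this]
  congr 2
  ring


theorem yN_eq : yN = enc (finRotate 13) := by
  rw [enc_eq_sum]
  simp only [finRotate_apply]
  rfl

theorem mem_yTab {Y : ℕ} (hY : Y ∈ yTab) : ∃ j : ℕ, Y = enc (finRotate 13 ^ j) := by
  unfold yTab at hY
  simp only [List.mem_cons, List.not_mem_nil, or_false] at hY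
  rcases hY with rfl | rfl | rfl | rfl | rfl | rfl | rfl | rfl | rfl | rfl | rfl | rfl <;>
    exact ⟨_, by rw [yN_eq, powN_enc]⟩

theorem mv_enc (u : Perm (Fin 13)) (i : Fin 13) (pw n : ℕ) (hpw : pw = 16 ^ (i : ℕ))
    (hn : n = (i : ℕ)) : mv (enc u) pw n = if u i = i then 0 else 1 := by
  subst hn
  unfold mv
  rw [cond_beq, dgp_enc u i pw hpw]
  by_cases h : u i = i
  · rw [if_pos h, if_pos (by rw [h])]
  · rw [if_neg h, if_neg (fun h' => h (Fin.ext h'))]

theorem suppCountN_enc (u : Perm (Fin 13)) : suppCountN (enc u) = u.support.card := by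
  have h : u.support.card = ∑ i : Fin 13, (if u i = i then 0 else 1) := by
    rw [Perm.support, Finset.card_filter]
    apply Finset.sum_congr rfl
    intro i _
    by_cases h : u i = i <;> simp [h]
  rw [h, Fin.sum_univ_def]
  unfold suppCountN
  rw [mv_enc u 0 1 0 (by decide) rfl, mv_enc u 1 16 1 (by decide) rfl,
    mv_enc u 2 256 2 (by decide) rfl, mv_enc u 3 4096 3 (by decide) rfl,
    mv_enc u 4 65536 4 (by decide) rfl, mv_enc u 5 1048576 5 (by decide) rfl,
    mv_enc u 6 16777216 6 (by decide) rfl, mv_enc u 7 268435456 7 (by decide) rfl,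
    mv_enc u 8 4294967296 8 (by decide) rfl, mv_enc u 9 68719476736 9 (by decide) rfl,
    mv_enc u 10 1099511627776 10 (by decide) rfl, mv_enc u 11 17592186044416 11 (by decide) rfl,
    mv_enc u 12 281474976710656 12 (by decide) rfl]
  simp only [nadd]
  rw [show List.finRange 13 = [0, 1, 2, 3, 4, 5, 6, 7, 8, 9, 10, 11, 12] from rfl]
  simp only [List.map_cons, List.map_nil, List.sum_cons, List.sum_nil]
  ring

theorem isRCycleN_enc {u : Perm (Fin 13)} {r : ℕ} (h : isRCycleN (enc u) r = true) :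
    u.support.card = r ∧ u ^ r = 1 := by
  unfold isRCycleN at h
  rw [Bool.and_eq_true] at h
  obtain ⟨h1, h2⟩ := h
  have h1' := Nat.eq_of_beq_eq_true h1
  have h2' := Nat.eq_of_beq_eq_true h2
  rw [suppCountN_enc] at h1'
  rw [powN_enc, idN_eq] at h2'
  exact ⟨h1', enc_injective h2'⟩

theorem tryRN_enc {w : Perm (Fin 13)} {cl : List ℕ} {r : ℕ} (h : tryRN (enc w) cl r = true) :
    ∃ k : ℕ, (w ^ k).support.card = r ∧ (w ^ k) ^ r = 1 := by
  unfold tryRN at h
  rw [Bool.and_eq_true] at h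
  obtain ⟨_, h2⟩ := h
  rw [powN_enc] at h2
  exact ⟨_, isRCycleN_enc h2⟩

theorem tryWordN_enc {w : Perm (Fin 13)} (h : tryWordN (enc w) = true) :
    ∃ r k : ℕ, (r = 3 ∨ r = 5 ∨ r = 7) ∧ (w ^ k).support.card = r ∧ (w ^ k) ^ r = 1 := by
  unfold tryWordN tryClN at h
  rw [Bool.or_eq_true, Bool.or_eq_true] at h
  rcases h with h | h | h
  · obtain ⟨k, hk⟩ := tryRN_enc h; exact ⟨3, k, Or.inl rfl, hk⟩
  · obtain ⟨k, hk⟩ := tryRN_enc h; exact ⟨5, k, Or.inr (Or.inl rfl), hk⟩
  · obtain ⟨k, hk⟩ := tryRN_enc h; exact ⟨7, k, Or.inr (Or.inr rfl), hk⟩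

theorem searchN_aux {x : Perm (Fin 13)} {X : ℕ} (hX : enc x = X) (b : ℕ) (Y : ℕ) (hY : Y ∈ yTab)
    (h : tryWordN (compN (powN X (Nat.add b 1)) Y) = true) :
    ∃ w ∈ Subgroup.closure ({x, finRotate 13} : Set (Perm (Fin 13))), ∃ r : ℕ,
      (r = 3 ∨ r = 5 ∨ r = 7) ∧ w.support.card = r ∧ w ^ r = 1 := by
  obtain ⟨j, hj⟩ := mem_yTab hY
  rw [← hX, hj, powN_enc, compN_enc] at h
  obtain ⟨r, k, hr, hk⟩ := tryWordN_enc h
  have hx : x ∈ Subgroup.closure ({x, finRotate 13} : Set (Perm (Fin 13))) :=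
    Subgroup.subset_closure (Set.mem_insert _ _)
  have hy : finRotate 13 ∈ Subgroup.closure ({x, finRotate 13} : Set (Perm (Fin 13))) :=
    Subgroup.subset_closure (Set.mem_insert_of_mem _ (Set.mem_singleton _))
  exact ⟨(x ^ (Nat.add b 1) * finRotate 13 ^ j) ^ k,
    Subgroup.pow_mem _ (Subgroup.mul_mem _ (Subgroup.pow_mem _ hx _) (Subgroup.pow_mem _ hy _)) _,
    r, hr, hk⟩

theorem searchN_enc {x : Perm (Fin 13)} (h : searchN (enc x) = true) :
    ∃ w ∈ Subgroup.closure ({x, finRotate 13} : Set (Perm (Fin 13))), ∃ r : ℕ,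
      (r = 3 ∨ r = 5 ∨ r = 7) ∧ w.support.card = r ∧ w ^ r = 1 := by
  generalize hX : enc x = X at h
  unfold searchN at h
  rw [List.any_eq_true] at h
  obtain ⟨b, _, h⟩ := h
  rw [List.any_eq_true] at h
  obtain ⟨Y, hY, h⟩ := h
  exact searchN_aux hX b Y hY h


theorem cycLenAuxN_enc (σ : Perm (Fin 13)) (i : Fin 13) (n : ℕ) (hn : (σ ^ n) i = i)
    (hmin : ∀ j : ℕ, 0 < j → j < n → (σ ^ j) i ≠ i) :
    ∀ f c : ℕ, c < n → n ≤ c + f →
      cycLenAuxN (enc σ) (i : ℕ) f (((σ ^ c) i : Fin 13) : ℕ) c = n := by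
  intro f
  induction f with
  | zero => intro c h1 h2; omega
  | succ f ih =>
    intro c h1 h2
    unfold cycLenAuxN
    rw [cond_beq, dgi_enc σ ((σ ^ c) i)]
    have hstep : σ ((σ ^ c) i) = (σ ^ (c + 1)) i := by
      rw [pow_succ', Perm.mul_apply]
    rw [hstep]
    by_cases hc : c + 1 = n
    · rw [if_pos (by rw [hc, hn]), nadd, hc]
    · have hne : (σ ^ (c + 1)) i ≠ i := hmin (c + 1) (by omega) (by omega)
      rw [if_neg (fun h => hne (Fin.ext h)), nadd]
      exact ih (c + 1) (by omega) (by omega)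

theorem gate_enc (x : Perm (Fin 13)) (h2 : x 2 = 3) (hc : x.cycleType = {11}) :
    cycLenN (enc x) 2 = 11 := by
  have hcyc : x.IsCycle := by
    rw [← card_cycleType_eq_one, hc]; rfl
  have hord : orderOf x = 11 := by
    rw [← lcm_cycleType, hc]; rfl
  have hx2 : x 2 ≠ 2 := by rw [h2]; decide
  have h11 : (x ^ 11) 2 = 2 := by
    rw [← hord, pow_orderOf_eq_one]; rfl
  have hmin : ∀ j : ℕ, 0 < j → j < 11 → (x ^ j) 2 ≠ 2 := by
    intro j hj0 hj11 hj
    have h1 : x ^ j = 1 := (hcyc.pow_eq_one_iff' hx2).mpr hj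
    have := orderOf_dvd_of_pow_eq_one h1
    rw [hord] at this
    have := Nat.le_of_dvd hj0 this
    omega
  have := cycLenAuxN_enc x 2 11 h11 hmin 13 0 (by norm_num) (by norm_num)
  rw [pow_zero] at this
  exact this


theorem dfsN_complete : ∀ (f pw X : ℕ) (avail : List ℕ), avail.length = f →
    dfsN f pw X avail = true → ∀ l : List ℕ, l.Perm avail →
      leafN (X + pw * Nat.ofDigits 16 l) = true := by
  intro f
  induction f with
  | zero =>
    intro pw X avail hlen h l hl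
    have h1 : avail = [] := List.length_eq_zero_iff.mp hlen
    subst h1
    have h2 : l = [] := hl.eq_nil
    subst h2
    simpa [dfsN] using h
  | succ f ih =>
    intro pw X avail hlen h l hl
    cases l with
    | nil =>
      have := hl.length_eq
      simp at this
      omega
    | cons v l' =>
      have hv : v ∈ avail := hl.subset List.mem_cons_self
      rw [dfsN, List.all_eq_true] at h
      have h' := h v hv
      have hlen' : (avail.erase v).length = f := by
        rw [List.length_erase_of_mem hv, hlen]; rfl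
      have hl' : l'.Perm (avail.erase v) := by
        have := hl.erase v
        rwa [List.erase_cons_head] at this
      have := ih _ _ _ hlen' h' l' hl'
      rw [Nat.ofDigits_cons]
      rw [nadd, nmul, nmul] at this
      have e : X + pw * (v + 16 * Nat.ofDigits 16 l') =
          X + v * pw + pw * 16 * Nat.ofDigits 16 l' := by ring
      rw [e]
      exact_mod_cast this

/-- If the whole enumeration succeeds, every normalised `11`-cycle `x` has, in `⟨x, y⟩`, an
element `w ≠ 1` with `w ^ r = 1` and exactly `r` moved points, `r ∈ {3, 5, 7}`. -/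
theorem exists_small_cycle (hall : dfsN 10 4096 784 [2, 4, 5, 6, 7, 8, 9, 10, 11, 12] = true)
    (x : Perm (Fin 13)) (h0 : x 0 = 0) (h1 : x 1 = 1) (h2 : x 2 = 3) (hc : x.cycleType = {11}) :
    ∃ w ∈ Subgroup.closure ({x, finRotate 13} : Set (Perm (Fin 13))), ∃ r : ℕ,
      (r = 3 ∨ r = 5 ∨ r = 7) ∧ w.support.card = r ∧ w ^ r = 1 := by
  set l : List ℕ := [(x 3 : ℕ), (x 4 : ℕ), (x 5 : ℕ), (x 6 : ℕ), (x 7 : ℕ), (x 8 : ℕ), (x 9 : ℕ),
    (x 10 : ℕ), (x 11 : ℕ), (x 12 : ℕ)] with hl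
  have hL : List.ofFn (fun i : Fin 13 => (x i : ℕ)) = 0 :: 1 :: 3 :: l := by
    rw [ofFn13, h0, h1, h2]; rfl
  have hperm : l.Perm [2, 4, 5, 6, 7, 8, 9, 10, 11, 12] := by
    have hnd : (List.ofFn (fun i : Fin 13 => (x i : ℕ))).Nodup := by
      rw [List.nodup_ofFn]
      intro a b hab
      exact x.injective (Fin.ext hab)
    have hsub : List.ofFn (fun i : Fin 13 => (x i : ℕ)) ⊆ List.range 13 := by
      intro d hd
      rw [List.mem_ofFn] at hd
      obtain ⟨j, rfl⟩ := hd
      exact List.mem_range.mpr (x j).isLt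
    have h13 : (List.ofFn (fun i : Fin 13 => (x i : ℕ))).Perm (List.range 13) :=
      (List.subperm_of_subset hnd hsub).perm_of_length_le (by simp)
    rw [hL] at h13
    have h13' : (List.range 13).Perm (0 :: 1 :: 3 :: [2, 4, 5, 6, 7, 8, 9, 10, 11, 12]) := by
      decide
    exact ((h13.trans h13').cons_inv).cons_inv.cons_inv
  have henc : enc x = 784 + 4096 * Nat.ofDigits 16 l := by
    rw [enc, hL]
    simp only [Nat.ofDigits_cons]
    ring
  have hleaf := dfsN_complete 10 4096 784 _ rfl hall l hperm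
  rw [← henc] at hleaf
  unfold leafN at hleaf
  rw [gate_enc x h2 hc] at hleaf
  have : searchN (enc x) = true := by simpa using hleaf
  exact searchN_enc this

end Cfsg.Agent.Lib.H16.AG
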