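import Cfsg.Agent.Lib.H16.AG.Defs

set_option autoImplicit false

namespace Cfsg.Agent.Lib.H16.AG

/-- One level of the enumeration. -/
theorem dfsN_step (f pw X : ℕ) (avail : List ℕ)
    (h : ∀ v ∈ avail,
      dfsN f (Nat.mul pw 16) (Nat.add X (Nat.mul v pw)) (avail.erase v) = true) :
    dfsN (f + 1) pw X avail = true := by
  rw [dfsN, List.all_eq_true]
  exact h

end Cfsg.Agent.Lib.H16.AG
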